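import Cfsg.Statements.S0938
import Cfsg.Agent.Blocks.Covering
import Cfsg.Agent.Core.Cores
-- import your own Cfsg.Agent.* helpers here

set_option autoImplicit false
open Cfsg

namespace Cfsg.Agent.S0938

/-- Let B be a block of the finite group G relative to a maximal ideal M of the algebraic integers containing the prime p, and let χ ∈ B. Then the kernel of B (the set of g with ψ g = ψ 1 for all ψ ∈ B) is a normal subgroup of order prime to p contained in the kernel of χ, and it contains every normal subgroup of order prime to p on which χ takes the value χ(1); that is, it is O_p' of the kernel of χ. -/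
theorem result {G : Type*} [Group G] [Finite G] (p : ℕ) [Fact p.Prime] (M : Ideal Cfsg.AlgInt) (hM : Cfsg.IsPModular p M) (B : Set (Cfsg.IrrCharacter G)) (hB : Cfsg.IsPBlock M B) (χ : Cfsg.IrrCharacter G) (hχ : χ ∈ B) : ∃ K : Subgroup G, K.Normal ∧ (K : Set G) = Cfsg.blockKer B ∧ ¬ p ∣ Nat.card K ∧ (∀ g ∈ K, (χ : G → ℂ) g = (χ : G → ℂ) 1) ∧ ∀ N : Subgroup G, N.Normal → ¬ p ∣ Nat.card N → (∀ g ∈ N, (χ : G → ℂ) g = (χ : G → ℂ) 1) → N ≤ K := by
  classical
  obtain ⟨hp', hMax, hpM⟩ := hM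
  haveI := hMax
  letI := Fintype.ofFinite G
  have hp := (Fact.out : p.Prime)
  let K : Subgroup G := ⨅ ψ : B, Chars.charKer (Chars.irr_isCharacter ψ.1)
  have hmem : ∀ g, g ∈ K ↔ ∀ ψ ∈ B, (ψ : G → ℂ) g = (ψ : G → ℂ) 1 := fun g => by
    simp [K, Subgroup.mem_iInf]
  refine ⟨K, Subgroup.normal_iInf_normal fun ψ => Chars.charKer_normal _, Set.ext fun g => hmem g,
    ?_, fun g hg => (hmem g).1 hg χ hχ, fun N hN hNp hker g hg => (hmem g).2 fun ψ hψ => ?_⟩
  · intro hdvd
    obtain ⟨x, hx⟩ := exists_prime_orderOf_dvd_card' p hdvd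
    have h := Blocks.block_orth_weak (M := M) hpM hB (x := (1 : G)) (y := (x : G))
      (by rw [orderOf_one]; exact hp.not_dvd_one) (by rw [Subgroup.orderOf_coe, hx])
    have hval : ∀ ψ ∈ Finset.univ.filter (· ∈ B),
        (ψ : G → ℂ) 1 * (starRingEnd ℂ) ((ψ : G → ℂ) x) =
          ((Cfsg.charDegree (ψ : G → ℂ) ^ 2 : ℕ) : ℂ) := fun ψ hψ => by
      rw [(hmem x).1 x.2 ψ (Finset.mem_filter.1 hψ).2, (Blocks.charDegree_eq ψ.2).1,
        Complex.conj_natCast, Nat.cast_pow, sq]
    rw [Finset.sum_congr rfl hval, ← Nat.cast_sum, Nat.cast_eq_zero, Finset.sum_eq_zero_iff] at h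
    have := h χ (Finset.mem_filter.2 ⟨Finset.mem_univ _, hχ⟩)
    exact (Blocks.charDegree_eq χ.2).2.ne' (pow_eq_zero_iff two_ne_zero |>.1 this)
  · haveI := hN
    letI := Fintype.ofFinite N
    exact Blocks.trivial_of_sameBlock hpM hNp (Blocks.sameBlock_of_mem hB hχ hψ)
      (fun n => hker n n.2) ⟨g, hg⟩

end Cfsg.Agent.S0938
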