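import Cfsg.Statements.S4487
import Cfsg.Agent.Blocks.Orth
import Cfsg.Agent.Blocks.Brauer
import Cfsg.Agent.Blocks.Nilp
import Cfsg.Agent.Blocks.Graph

set_option autoImplicit false
open Cfsg

namespace Cfsg.Agent.S4487

/-- Let G be a finite group and p a prime such that G has no non-trivial normal subgroup of order prime to p and C_G(O_p(G)) ≤ O_p(G). Then G has a single p-block: any two irreducible characters lie in the same block relative to every maximal ideal M of the algebraic integers containing p. -/
theorem result {G : Type*} [Group G] [Finite G] (p : ℕ) [Fact p.Prime] (M : Ideal Cfsg.AlgInt) (hM : Cfsg.IsPModular p M) (hcore : Cfsg.pPrimeCore p G = ⊥) (hconstr : Subgroup.centralizer ((Cfsg.pCore p G) : Set G) ≤ Cfsg.pCore p G) (χ ψ : Cfsg.IrrCharacter G) : Cfsg.SameBlock M (χ : G → ℂ) (ψ : G → ℂ) := by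
  classical
  haveI := Fintype.ofFinite G
  haveI : M.IsMaximal := hM.2.1
  have hpM := hM.2.2
  by_contra hne
  set B := blockOf M (χ : G → ℂ) with hBdef
  have hB : IsPBlock M B := Blocks.isPBlock_blockOf χ
  have hψ : ψ ∉ B := hne
  set f : G → ℂ := blockCoeff B - (blockCoeff B 1) • Blocks.delta G with hf
  have hcls : IsClassFunction G f := fun x a => by
    simp only [hf, Pi.sub_apply, Pi.smul_apply]
    rw [Blocks.isClassFunction_blockCoeff B x a, Blocks.isClassFunction_delta x a]
  have hfR : Blocks.RFun M f := Blocks.rFun_sub (Blocks.rFun_blockCoeff hpM hB)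
    (Blocks.rFun_smul (Blocks.rFun_blockCoeff hpM hB 1) Blocks.rFun_delta)
  have hQ : IsPGroup p (pCore p G) := Blocks.pCore_isPGroup p G
  have hv : ∀ x ∈ Subgroup.centralizer ((pCore p G) : Set G), MemLocalIdeal M (f x) := by
    intro x hx
    by_cases hx1 : x = 1
    · subst hx1; simp [hf, Blocks.delta_one, Blocks.memI_zero]
    · have h0 : blockCoeff B x = 0 := Blocks.blockCoeff_eq_zero_of_dvd hpM hB
        (Blocks.p_dvd_orderOf hQ (hconstr hx) hx1)
      simp [hf, h0, Blocks.delta_of_ne hx1, Blocks.memI_zero]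
  have key : ∀ φ : IrrCharacter G,
      MemLocalIdeal M (Blocks.omega (φ : G → ℂ) (blockCoeff B) - blockCoeff B 1) := fun φ => by
    have := Blocks.omega_memI_of_vanish hpM (Blocks.pCore_isNormal p G) hQ φ hcls hfR hv
    rwa [hf, Blocks.omega_sub, Blocks.omega_smul,
      Blocks.omega_delta (Chars.irr_apply_one_ne_zero φ.2), mul_one] at this
  have h1 := key χ
  have h2 := key ψ
  rw [Blocks.omega_blockCoeff_mem (Blocks.mem_blockOf_self χ)] at h1
  rw [Blocks.omega_blockCoeff_not_mem hψ] at h2
  have := Blocks.memI_sub h1 h2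
  rw [sub_sub_sub_cancel_right, sub_zero] at this
  exact Blocks.not_memI_one this

end Cfsg.Agent.S4487
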