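import Cfsg.Statements.S1484
import Cfsg.Agent.OddLocal.CNStructure

set_option autoImplicit false
open Cfsg

namespace Cfsg.Agent.S1484

/-- Let G be a minimal simple group of odd order in which every non-identity element has nilpotent centralizer, and M₁, …, M_k maximal subgroups, pairwise non-conjugate, such that every maximal subgroup is conjugate to some M_i. Let H_i be the largest normal nilpotent Hall subgroup of M_i. Then the orders of the H_i are pairwise coprime, their product is the order of G, and every element of G is conjugate to an element of some H_i. -/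
theorem result {G : Type*} [Group G] [Finite G] (hG : Cfsg.IsMinSimpleOddOrder G) (hCN : Cfsg.IsCNGroup G) (k : ℕ) (Mrep : Fin k → Subgroup G) (hmax : ∀ i, IsCoatom (Mrep i))
    (hnc : ∀ i j, i ≠ j → ∀ g : G, Mrep j ≠ (Mrep i).map (MulAut.conj g).toMonoidHom) (hall : ∀ M : Subgroup G, IsCoatom M → ∃ i, ∃ g : G, M = (Mrep i).map (MulAut.conj g).toMonoidHom) :
    (∀ i j, i ≠ j → (Nat.card (Cfsg.fittingHallOf (Mrep i))).Coprime (Nat.card (Cfsg.fittingHallOf (Mrep j)))) ∧
      ∏ i, Nat.card (Cfsg.fittingHallOf (Mrep i)) = Nat.card G ∧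
      ∀ x : G, ∃ i, ∃ g : G, g * x * g⁻¹ ∈ Cfsg.fittingHallOf (Mrep i) := by
  classical
  set K : Fin k → Subgroup G := fun i => Cfsg.fittingHallOf (Mrep i) with hK
  have hrep : ∀ i, OddLocal.CN.IsMaxNilp (K i) ∧ Subgroup.normalizer (K i : Set G) = Mrep i := by
    intro i
    obtain ⟨p, hp, P, hd, hM⟩ := OddLocal.CN.exists_eq_normalizer_sylow hG hCN (hmax i)
    have h1 : K i = OddLocal.CN.kernel P := by simp only [hK, hM, OddLocal.CN.kernel]
    rw [h1, hM]
    exact ⟨OddLocal.CN.kernel_isMaxNilp hG hCN P hd, OddLocal.CN.normalizer_kernel P⟩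
  have hcover : ∀ H : Subgroup G, OddLocal.CN.IsMaxNilp H → ∃ i, ∃ g : G, H = (K i).map (MulAut.conj g).toMonoidHom := by
    intro H hH
    obtain ⟨p, hp, hpH⟩ := Nat.exists_prime_and_dvd (OddLocal.CN.isMaxNilp_ne_bot hG hH)
    haveI := Fact.mk hp
    obtain ⟨P, -, hPH⟩ := OddLocal.CN.exists_kernel_eq hG hCN hH hpH
    have hd : p ∣ Nat.card G := hpH.trans (Subgroup.card_subgroup_dvd_card H)
    obtain ⟨i, g, hg⟩ := hall _ (OddLocal.CN.isCoatom_normalizer_sylow hG hCN P hd)
    refine ⟨i, ?_⟩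
    rcases OddLocal.CN.conj_or_coprime hG hCN (hrep i).1 hH with h | hc
    · exact h
    exfalso
    obtain ⟨n, hn⟩ := IsPGroup.iff_card.mp P.isPGroup'
    have hn0 : n ≠ 0 := fun e => OddLocal.CN.sylow_ne_bot P hd (Subgroup.card_eq_one.mp (by rw [hn, e, pow_zero]))
    have h1 : ¬ p ∣ Nat.card (K i) := fun h => hp.ne_one (Nat.eq_one_of_dvd_coprimes hc h hpH)
    -- the Sylow subgroup `P` normalizes a conjugate of `K i`, so meets it or centralizes it
    have hP : (P : Subgroup G) ≤ (Mrep i).map (MulAut.conj g).toMonoidHom := hg ▸ Subgroup.le_normalizer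
    set H' := (K i).map (MulAut.conj g).toMonoidHom with hH'
    have hnH' : (P : Subgroup G) ≤ Subgroup.normalizer (H' : Set G) := by
      rw [hH', Transfer.normalizer_map_conj, (hrep i).2]; exact hP
    have hH'P : H' ≤ Subgroup.normalizer ((P : Subgroup G) : Set G) := by
      rw [hg]; exact Subgroup.map_mono (fun x hx => OddLocal.fittingHallOf_le _ hx)
    obtain ⟨y, hy, hy1⟩ := (Subgroup.bot_or_exists_ne_one (P : Subgroup G)).resolve_left (OddLocal.CN.sylow_ne_bot P hd)
    have hH'ne : H' ≠ ⊥ := fun h => OddLocal.CN.isMaxNilp_ne_bot hG (hrep i).1 (by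
      rw [← Cfsg.Agent.Coprime.card_map_conj (K i) g, ← hH', h, Subgroup.card_bot])
    obtain ⟨u, hu, hu1⟩ := (Subgroup.bot_or_exists_ne_one H').resolve_left hH'ne
    have hcop : ∀ w ∈ H', w ∈ (P : Subgroup G) → w = 1 := fun w hw hwP => by
      refine orderOf_eq_one_iff.mp (Nat.eq_one_of_dvd_coprimes
        ((hp.coprime_iff_not_dvd.mpr h1).pow_left n) (hn ▸ Subgroup.orderOf_dvd_natCard _ hwP) ?_)
      rw [← Cfsg.Agent.Coprime.card_map_conj (K i) g]
      exact Subgroup.orderOf_dvd_natCard _ hw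
    have hcomm : u * y = y * u := by
      refine mul_inv_eq_iff_eq_mul.mp (mul_inv_eq_one.mp (hcop (u * y * u⁻¹ * y⁻¹) ?_ ?_))
      · rw [show u * y * u⁻¹ * y⁻¹ = u * (y * u⁻¹ * y⁻¹) by group]
        exact H'.mul_mem hu ((Subgroup.mem_normalizer_iff.mp (hnH' hy) _).mp (H'.inv_mem hu))
      · exact (P : Subgroup G).mul_mem ((Subgroup.mem_normalizer_iff.mp (hH'P hu) y).mp hy)
          ((P : Subgroup G).inv_mem hy)
    have h2 : u ∈ OddLocal.CN.kernel P := OddLocal.CN.mem_kernel_of_commute hG hCN P hd hy hy1 hcomm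
    have hPH' : OddLocal.CN.kernel P = H := (OddLocal.CN.eq_kernel_of_le hG hCN P hd hH hPH).symm
    rw [hPH'] at h2
    exact hu1 (orderOf_eq_one_iff.mp (Nat.eq_one_of_dvd_coprimes hc
      (by rw [← Cfsg.Agent.Coprime.card_map_conj (K i) g]; exact Subgroup.orderOf_dvd_natCard _ hu)
      (Subgroup.orderOf_dvd_natCard _ h2)))
  have hpair : ∀ i j, i ≠ j → (Nat.card (K i)).Coprime (Nat.card (K j)) := by
    intro i j hij
    rcases OddLocal.CN.conj_or_coprime hG hCN (hrep i).1 (hrep j).1 with ⟨g, hg⟩ | hc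
    · exact absurd (by rw [← (hrep j).2, hg, Transfer.normalizer_map_conj, (hrep i).2]) (hnc i j hij g)
    · exact hc
  have hmem : ∀ x : G, ∃ i, ∃ g : G, g * x * g⁻¹ ∈ K i := by
    intro x
    have hnil : Group.IsNilpotent (Subgroup.zpowers x) := by
      letI := IsCyclic.commGroup (α := Subgroup.zpowers x)
      infer_instance
    obtain ⟨H, hle, hH⟩ := OddLocal.CN.exists_isMaxNilp_ge hnil
    obtain ⟨i, g, hg⟩ := hcover H hH
    obtain ⟨w, hw, hwx⟩ := hg.le (hle (Subgroup.mem_zpowers x))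
    refine ⟨i, g⁻¹, ?_⟩
    rw [← hwx]
    simpa [mul_assoc] using hw
  refine ⟨hpair, ?_, hmem⟩
  refine Nat.dvd_antisymm ?_ ?_
  · refine Fintype.prod_dvd_of_isRelPrime ?_ fun i => Subgroup.card_subgroup_dvd_card _
    intro i j hij
    exact Nat.coprime_iff_isRelPrime.mp (hpair i j hij)
  · refine (Nat.dvd_iff_prime_pow_dvd_dvd _ _).mpr fun p j hp hpj => ?_
    haveI := Fact.mk hp
    rcases Nat.eq_zero_or_pos j with rfl | hj
    · simp
    obtain ⟨P⟩ : Nonempty (Sylow p G) := inferInstance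
    have hd : p ∣ Nat.card G := (dvd_pow_self p hj.ne').trans hpj
    obtain ⟨i, g, hg⟩ := hcover _ (OddLocal.CN.kernel_isMaxNilp hG hCN P hd)
    refine Dvd.dvd.trans ?_ (Finset.dvd_prod_of_mem _ (Finset.mem_univ i))
    show p ^ j ∣ Nat.card (K i)
    rw [← Cfsg.Agent.Coprime.card_map_conj (K i) g, ← hg]
    refine Dvd.dvd.trans ?_ (Subgroup.card_dvd_of_le (OddLocal.CN.le_kernel P))
    rw [P.card_eq_multiplicity]
    exact Nat.pow_dvd_pow p ((hp.pow_dvd_iff_le_factorization Nat.card_pos.ne').mp hpj)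

end Cfsg.Agent.S1484
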