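import Cfsg.Statements.S4441
import Cfsg.Agent.Chars2.DefectOneApps

set_option autoImplicit false
open Cfsg Cfsg.Agent Cfsg.Agent.Blocks Cfsg.Agent.BlockChar Cfsg.Agent.Chars2.Cyc Function

namespace Cfsg.Agent.S4441

/-- Let p be an odd prime and G a finite group whose Sylow p-subgroup P has order p; let C = C_G(P), N = N_G(P), e the index of C in N and t = (p − 1)/e; fix a maximal ideal M of the algebraic integers containing p and let B₀ be the principal block. Then B₀ is the disjoint union of a set X of e characters and a set Y of t characters such that: each χ ∈ X has a sign ε_χ with χ(1) ≡ ε_χ (mod p) and χ(x y) = ε_χ for every non-identity x ∈ P and every p-regular y ∈ C; all members of Y agree on the p-regular elements of G; there is one sign ε with θ(1) ≡ ε e (mod p) for every θ ∈ Y; and for every θ ∈ Y and every p-regular g, ε θ(g) = Σ_{χ ∈ X} ε_χ χ(g). -/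
theorem result {G : Type*} [Group G] [Fintype G] (p : ℕ) [Fact p.Prime] (M : Ideal Cfsg.AlgInt) (hM : Cfsg.IsPModular p M) (hodd : p ≠ 2) (P : Sylow p G) (hP : Nat.card P = p) (e : ℕ) (he : (Subgroup.centralizer ((P : Subgroup G) : Set G)).relIndex (Subgroup.normalizer ((P : Subgroup G) : Set G)) = e) : ∃ X Y : Set (Cfsg.IrrCharacter G), Cfsg.principalBlock M G = X ∪ Y ∧ Disjoint X Y ∧ Nat.card X = e ∧ Nat.card Y = (p - 1) / e ∧ ∃ (εX : Cfsg.IrrCharacter G → ℤ) (ε : ℤ), (∀ χ ∈ X, (εX χ = 1 ∨ εX χ = -1) ∧ (Cfsg.charDegree (χ : G → ℂ) : ℤ) ≡ εX χ [ZMOD p] ∧ ∀ x : G, x ∈ (P : Subgroup G) → x ≠ 1 → ∀ y : G, y ∈ Subgroup.centralizer ((P : Subgroup G) : Set G) → ¬ p ∣ orderOf y → (χ : G → ℂ) (x * y) = (εX χ : ℂ)) ∧ (ε = 1 ∨ ε = -1) ∧ (∀ θ ∈ Y, (Cfsg.charDegree (θ : G → ℂ) : ℤ) ≡ ε * (e : ℤ) [ZMOD p]) ∧ (∀ θ ∈ Y, ∀ θ' ∈ Y, ∀ g : G, ¬ p ∣ orderOf g → (θ : G → ℂ) g = (θ' : G → ℂ) g) ∧ ∀ θ ∈ Y, ∀ g : G, ¬ p ∣ orderOf g → (ε : ℂ) * (θ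 : G → ℂ) g = ∑ᶠ χ ∈ X, (εX χ : ℂ) * (χ : G → ℂ) g := by
  classical
  haveI := hM.2.1
  have hpM := hM.2.2
  obtain ⟨x, hx, hPx, hdiv, hsq, hC⟩ := exists_sylow_gen p P hP
  obtain ⟨K, σ, S₀⟩ := exists_once hpM hdiv hsq hx
  have S : Once M p (Nat.card G / p) K x σ (Subgroup.centralizer ((P : Subgroup G) : Set G)) :=
    { S₀ with hH := hC }
  haveI : Fintype (Subgroup.centralizer ((P : Subgroup G) : Set G)) := Fintype.ofFinite _
  set C := Subgroup.centralizer ((P : Subgroup G) : Set G) with hCdef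
  have hB : IsPBlock M (principalBlock M G) := isPBlock_principal
  have hd : 0 < blockDefect p (principalBlock M G) := by
    rw [blockDefect_principal, S.vG]; exact one_pos
  obtain ⟨b, hb⟩ := S.exists_induced hB hd
  have hbp : ∀ b, IsInducedBlock M C b (principalBlock M G) → b = principalBlock M C := fun b hb =>
    (third_main C hpM ⟨_, hb⟩).1 hb
  obtain rfl := hbp b hb
  have hθ : oneChar C ∈ principalBlock M C := one_mem_principal
  have hθx : ((oneChar C : IrrCharacter C) : C → ℂ) ⟨x, S.mem⟩ = (oneChar C : C → ℂ) 1 := rfl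
  have hT : ∀ g : G, g ∈ Subgroup.normalizer ((Subgroup.zpowers x : Subgroup G) : Set G) ↔
      g ∈ Subgroup.normalizer ((Subgroup.zpowers x : Subgroup G) : Set G) ∧
      ∀ c c' : C, (c' : G) = g * c * g⁻¹ →
        ((oneChar C : IrrCharacter C) : C → ℂ) c' = (oneChar C : C → ℂ) c :=
    fun g => ⟨fun h => ⟨h, fun _ _ _ => rfl⟩, fun h => h.1⟩
  have hns : (blockFinset M C).filter (fun b => IsInducedBlock M C b (principalBlock M G)) =
      {principalBlock M C} := by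
    ext b
    simp only [Finset.mem_filter, Finset.mem_singleton, mem_blockFinset]
    exact ⟨fun h => hbp b h.2, fun h => h ▸ ⟨hb.1, hb⟩⟩
  have hone : charDegree ((oneChar C : IrrCharacter C) : C → ℂ) = 1 := by
    simp [coe_oneChar, charDegree]
  obtain ⟨O⟩ : Nonempty (OneShape M p x σ (principalBlock M G) (principalBlock M C) 1) := by
    have h := S.exists_shape hd hb hθ
    rwa [hns, Finset.card_singleton, hone, mul_one] at h
  have hidx := S.relIndex_inertia hb hθ hθx hT O.t_dvd O.period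
  rw [← hPx, he] at hidx
  have hp1 : 0 < p - 1 := by have := (Fact.out : p.Prime).two_le; omega
  have ht : (p - 1) / e = O.t := by rw [hidx, Nat.div_div_self O.t_dvd hp1.ne']
  obtain ⟨θ₁, hθ₁⟩ : O.Y.Nonempty := Set.nonempty_of_ncard_ne_zero (by
    rw [← Nat.card_coe_set_eq, O.card_Y]; exact O.t_pos.ne')
  refine ⟨principalBlock M G \ O.Y, O.Y, (Set.sdiff_union_of_subset O.Y_sub).symm,
    Set.disjoint_sdiff_left, by rw [O.card_X, hidx], by rw [O.card_Y, ht], O.W, -O.W θ₁,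
    fun χ hχ => ⟨O.sign χ hχ.1, ?_, ?_⟩, ?_, fun θ hθ => ?_, ?_, fun θ hθ g hg => ?_⟩
  · have h := O.degree_X χ hχ.1 hχ.2
    rwa [Nat.cast_one, one_mul] at h
  · intro y hy hy1 c hc hcp
    rw [hPx] at hy
    obtain ⟨j, -, rfl⟩ := S.exists_pow_of_mem hy hy1
    have hcp' : ¬ p ∣ orderOf (⟨c, hc⟩ : C) := by rwa [← Subgroup.orderOf_coe]
    have h1 : (χ : G → ℂ) (x ^ K ^ j * c) = (χ : G → ℂ) (x * c) := by
      have h := S.gal_value χ j (x * c)
      rw [Function.iterate_fixed (O.fixed χ hχ.1 hχ.2), show x * c = x ^ 1 * c by rw [pow_one],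
        S.mul_pow_reg (c := (⟨c, hc⟩ : C)) hcp', one_mul, pow_one] at h
      exact h.symm
    choose θf hθf1 hθf2 using fun b : {b : Set (IrrCharacter C) // IsPBlock M b} =>
      S.exists_trivial b.2
    have hv := value_section S hB hχ.1 (s := (⟨c, hc⟩ : C)) hcp'
      (fun b => if h : IsPBlock M b then θf ⟨b, h⟩ else oneChar C)
      (fun b h => by simp only [dif_pos h]; exact ⟨hθf1 ⟨b, h⟩, hθf2 ⟨b, h⟩⟩)
    rw [h1, hv, hns, Finset.sum_singleton, dif_pos hb.1, O.dB_X χ hχ.1 hχ.2,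
      (S.block_loc hb.1 hθ hθx).2.2 _ (hθf1 ⟨_, hb.1⟩) (hθf2 ⟨_, hb.1⟩)]
    exact mul_one _
  · rcases O.sign θ₁ (O.Y_sub hθ₁) with hW | hW <;> rw [hW] <;> simp
  · have h := O.degree_Y θ hθ
    rw [← hidx, O.sign_Y θ hθ θ₁ hθ₁, Nat.cast_one, mul_one] at h
    exact Eq.subst (motive := fun z : ℤ => _ ≡ z [ZMOD (p : ℤ)]) (by ring) h
  · intro θ hθ θ' hθ' g hg
    obtain ⟨r, rfl⟩ := (O.orbit θ hθ θ').2 hθ'
    exact (S.gal_reg θ r hg).symm
  · have h := O.relation g hg θ hθ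
    rw [O.sign_Y θ hθ θ₁ hθ₁] at h
    push_cast
    linear_combination -h

end Cfsg.Agent.S4441
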