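import Cfsg.Statements.S0165
import Cfsg.Agent.Chars.RegularPart

set_option autoImplicit false
set_option linter.style.haveILetI false
open Cfsg

namespace Cfsg.Agent.S0165

/-- If p ^ n is the exact power of the prime p dividing the order of a finite group and p ^ n divides the degree of an irreducible complex representation, then its character vanishes at every element of order divisible by p. -/
theorem result {G : Type*} [Group G] [Finite G] {V : Type*} [AddCommGroup V] [Module ℂ V] [FiniteDimensional ℂ V] (ρ : Representation ℂ G V) [ρ.IsIrreducible] (p n : ℕ) (hp : p.Prime) (hn : p ^ n ∣ Nat.card G) (hn' : ¬ p ^ (n + 1) ∣ Nat.card G) (hdeg : p ^ n ∣ Module.finrank ℂ V) (x : G) (hx : p ∣ orderOf x) : ρ.character x = 0 := by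
  haveI := Fintype.ofFinite G
  classical
  set d := Module.finrank ℂ V with hd
  have hd0 : 0 < d := Cfsg.Agent.Chars.finrank_pos_of_isIrreducible ρ
  have hirr := Cfsg.Agent.Chars.isIrrCharacter_of_rep ρ
  have hdn : n = d.factorization p := by
    refine le_antisymm ((hp.pow_dvd_iff_le_factorization hd0.ne').1 hdeg) ?_
    by_contra hlt
    exact hn' (((hp.pow_dvd_iff_le_factorization hd0.ne').2 (not_le.1 hlt)).trans
      (Cfsg.Agent.Chars.rep_finrank_dvd_card ρ))
  have hGn : (Nat.card G).factorization p = n := by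
    refine le_antisymm ?_ ((hp.pow_dvd_iff_le_factorization Nat.card_pos.ne').1 hn)
    by_contra hlt
    exact hn' ((hp.pow_dvd_iff_le_factorization Nat.card_pos.ne').2 (not_le.1 hlt))
  have hgen := Cfsg.Agent.Chars.isGen_regularPart_defect hp hirr (Representation.char_one ρ)
  rw [hGn, ← hd, ← hdn, Nat.sub_self, pow_zero, Nat.cast_one] at hgen
  obtain ⟨m, hm⟩ := Cfsg.Agent.Chars.exists_classInner_eq_int hgen
    (Cfsg.Agent.Chars.isGen_of_isCharacter (Cfsg.Agent.Chars.isCharacter_of_isIrr hirr))
  have h1 := Cfsg.Agent.Chars.classInner_self_irr hirr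
  rw [Cfsg.Agent.Chars.classInner_regularPart, one_mul, inv_mul_eq_iff_eq_mul₀
    Cfsg.Agent.Chars.card_ne_zero] at hm
  rw [Cfsg.classInner, inv_mul_eq_one₀ Cfsg.Agent.Chars.card_ne_zero] at h1
  simp only [Complex.mul_conj] at hm h1
  set S := Finset.univ.filter (fun g : G => ¬ p ∣ orderOf g) with hS
  have hm' : ∑ g ∈ S, Complex.normSq (ρ.character g) = (Nat.card G : ℝ) * m := by exact_mod_cast hm
  have h1' : ∑ g : G, Complex.normSq (ρ.character g) = (Nat.card G : ℝ) := by exact_mod_cast h1.symm
  have hle : ∑ g ∈ S, Complex.normSq (ρ.character g) ≤ ∑ g : G, Complex.normSq (ρ.character g) :=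
    Finset.sum_le_sum_of_subset_of_nonneg (Finset.subset_univ _) fun _ _ _ => Complex.normSq_nonneg _
  have hone : (1 : G) ∈ S := Finset.mem_filter.2 ⟨Finset.mem_univ _, by simp [hp.ne_one]⟩
  have hpos : 0 < ∑ g ∈ S, Complex.normSq (ρ.character g) := by
    refine lt_of_lt_of_le ?_ (Finset.single_le_sum (fun g _ => Complex.normSq_nonneg _) hone)
    rw [Representation.char_one, Complex.normSq_natCast]
    positivity
  have hcard : (0 : ℝ) < Nat.card G := by exact_mod_cast Nat.card_pos
  have hm1 : m = 1 := by
    have h2 : (0 : ℝ) < m := by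
      rw [hm'] at hpos
      exact (mul_pos_iff_of_pos_left hcard).1 hpos
    have h3 : (m : ℝ) ≤ 1 := by
      rw [hm', h1'] at hle
      exact le_of_mul_le_mul_left (hle.trans_eq (mul_one _).symm) hcard
    have h4 : (0 : ℤ) < m := by exact_mod_cast h2
    have h5 : m ≤ 1 := by exact_mod_cast h3
    omega
  rw [← Finset.sum_add_sum_compl S, hm', hm1, Int.cast_one, mul_one, add_eq_left,
    Finset.sum_eq_zero_iff_of_nonneg fun g _ => Complex.normSq_nonneg _] at h1'
  exact Complex.normSq_eq_zero.1 (h1' x (by simp [hS, hx]))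

end Cfsg.Agent.S0165
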