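import Cfsg.Statements.S0163
import Cfsg.Agent.Chars.Brauer
import Cfsg.Agent.Chars.Monomial

set_option autoImplicit false
set_option linter.style.haveILetI false
open Cfsg

namespace Cfsg.Agent.S0163

universe u

variable {G : Type u} [Group G] [Fintype G]

/-- Being an integral combination of characters induced from linear characters of elementary
subgroups. -/
def Rep (f : G → ℂ) : Prop :=
  ∃ l : List ((E : Subgroup G) × ((E →* ℂˣ) × ℤ)), (∀ t ∈ l, ∃ p : ℕ, p.Prime ∧
    Cfsg.IsElementary p t.1) ∧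
    f = (l.map fun t => (t.2.2 : ℂ) • Cfsg.indFun t.1 (fun e => (t.2.1 e : ℂ))).sum

theorem rep_zero : Rep (0 : G → ℂ) := ⟨[], by simp, by simp⟩

theorem rep_add {f g : G → ℂ} (hf : Rep f) (hg : Rep g) : Rep (f + g) := by
  obtain ⟨l, hl, rfl⟩ := hf
  obtain ⟨l', hl', rfl⟩ := hg
  exact ⟨l ++ l', fun t ht => (List.mem_append.1 ht).elim (hl t) (hl' t), by simp⟩

theorem rep_smul (z : ℤ) {f : G → ℂ} (hf : Rep f) : Rep ((z : ℂ) • f) := by
  obtain ⟨l, hl, rfl⟩ := hf
  refine ⟨l.map fun t => ⟨t.1, t.2.1, z * t.2.2⟩, ?_, ?_⟩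
  · intro t ht
    obtain ⟨s, hs, rfl⟩ := List.mem_map.1 ht
    exact hl s hs
  · rw [List.smul_sum, List.map_map, List.map_map]
    congr 1
    refine List.map_congr_left fun t _ => ?_
    simp [smul_smul]

theorem rep_sum {ι : Type*} (s : Finset ι) (f : ι → G → ℂ) (h : ∀ i ∈ s, Rep (f i)) :
    Rep (∑ i ∈ s, f i) := by
  classical
  induction s using Finset.induction_on with
  | empty => rw [Finset.sum_empty]; exact rep_zero
  | insert a s ha ih =>
    rw [Finset.sum_insert ha]
    exact rep_add (h a (Finset.mem_insert_self a s))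
      (ih fun i hi => h i (Finset.mem_insert_of_mem hi))

omit [Group G] [Fintype G] in
theorem isNilpotent_of_isElementary {p : ℕ} (hp : p.Prime) {E : Type u} [Group E] [Finite E]
    (hE : Cfsg.IsElementary p E) : Group.IsNilpotent E := by
  haveI := Fact.mk hp
  obtain ⟨x, hx, -, k, hk⟩ := hE
  have hle : Subgroup.zpowers x ≤ Subgroup.center E := Subgroup.zpowers_le.2 hx
  haveI : (Subgroup.zpowers x).Normal :=
    ⟨fun y hy g => by rw [(Subgroup.mem_center_iff.1 (hle hy) g), mul_inv_cancel_right]; exact hy⟩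
  have hP : IsPGroup p (E ⧸ Subgroup.zpowers x) :=
    IsPGroup.of_card (by rw [← Subgroup.index_eq_card, hk])
  haveI : Group.IsNilpotent (E ⧸ Subgroup.zpowers x) := hP.isNilpotent
  exact Subgroup.isNilpotent_of_ker_le_center (QuotientGroup.mk' (Subgroup.zpowers x))
    (by rw [QuotientGroup.ker_mk']; exact hle)

omit [Fintype G] in
theorem isElementary_subgroup {p : ℕ} (hp : p.Prime) {E : Subgroup G}
    (hE : Cfsg.IsElementary p E) (H : Subgroup G) (hHE : H ≤ E) : Cfsg.IsElementary p H := by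
  obtain ⟨x, hx, hxp, k, hk⟩ := hE
  have hle : Subgroup.zpowers x ≤ Subgroup.center E := Subgroup.zpowers_le.2 hx
  haveI : (Subgroup.zpowers x).Normal :=
    ⟨fun y hy g => by rw [(Subgroup.mem_center_iff.1 (hle hy) g), mul_inv_cancel_right]; exact hy⟩
  let i : H →* E := Subgroup.inclusion hHE
  let Z : Subgroup H := (Subgroup.zpowers x).comap i
  have hi : Function.Injective i := Subgroup.inclusion_injective hHE
  have hcyc : IsCyclic Z := isCyclic_of_injective (i.subgroupComap (Subgroup.zpowers x)) (by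
    intro a b hab
    exact Subtype.ext (hi (congrArg Subtype.val hab)))
  obtain ⟨z, hz⟩ := IsCyclic.exists_generator (α := Z)
  refine ⟨(z : H), Subgroup.mem_center_iff.2 fun h =>
    hi (by rw [map_mul, map_mul]; exact Subgroup.mem_center_iff.1 (hle z.2) (i h)), ?_, ?_⟩
  · refine hxp.coprime_dvd_left ?_
    rw [← orderOf_injective i hi, ← Nat.card_zpowers x]
    exact Subgroup.orderOf_dvd_natCard _ z.2
  · have h1 : Subgroup.zpowers (z : H) = Z := by
      refine le_antisymm (Subgroup.zpowers_le.2 z.2) fun y hy => ?_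
      obtain ⟨j, hj⟩ := hz ⟨y, hy⟩
      exact ⟨j, congrArg Subtype.val hj⟩
    have h2 : Z.index ∣ (Subgroup.zpowers x).index := by
      rw [Subgroup.index_comap]
      exact Subgroup.relIndex_dvd_index_of_normal _ _
    obtain ⟨j, -, hj⟩ := (Nat.dvd_prime_pow hp).1 (hk ▸ h2)
    exact ⟨j, by rw [h1, hj]⟩

/-- Brauer's induction Theorem: every character of a finite group is a ℤ-linear combination of functions induced from linear characters (homomorphisms to ℂˣ) of elementary subgroups. -/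
theorem result {G : Type*} [Group G] [Fintype G] (χ : G → ℂ) (hχ : Cfsg.IsCharacter G χ) : ∃ l : List ((E : Subgroup G) × ((E →* ℂˣ) × ℤ)), (∀ t ∈ l, ∃ p : ℕ, p.Prime ∧ Cfsg.IsElementary p t.1) ∧ χ = (l.map fun t => (t.2.2 : ℂ) • Cfsg.indFun t.1 (fun e => (t.2.1 e : ℂ))).sum := by
  classical
  show Rep χ
  obtain ⟨n, a, f, hf, h1⟩ := Cfsg.Agent.Chars.brauer_one (G := G)
  have hχc := Cfsg.Agent.Chars.isClassFunction_of_isCharacter hχ
  have hexp : χ = ∑ i, (a i : ℂ) • (χ * f i) := by
    funext g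
    have h := congrFun h1 g
    simp only [Finset.sum_apply, Pi.smul_apply, smul_eq_mul] at h
    simp only [Finset.sum_apply, Pi.smul_apply, smul_eq_mul, Pi.mul_apply]
    calc χ g = χ g * 1 := (mul_one _).symm
      _ = χ g * ∑ i, (a i : ℂ) * f i g := by rw [← h]
      _ = _ := by rw [Finset.mul_sum]; exact Finset.sum_congr rfl fun i _ => by ring
  rw [hexp]
  refine rep_sum _ _ fun i _ => rep_smul _ ?_
  obtain ⟨E, p, hp, hE, ψ, hψ, hfi⟩ := hf i
  rw [hfi, Cfsg.Agent.Chars.mul_indFun E ψ hχc]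
  haveI : Fintype E := Fintype.ofFinite E
  haveI := isNilpotent_of_isElementary hp hE
  have hψ' : Cfsg.IsCharacter E ((fun e : E => χ e) * ψ) :=
    Cfsg.Agent.Chars.isCharacter_mul (Cfsg.Agent.Chars.isCharacter_restrict hχ E) hψ
  obtain ⟨c, -, hc⟩ := Cfsg.Agent.Chars.exists_eq_sum_nsmul hψ'
  rw [hc, Cfsg.Agent.Chars.indFun_sum]
  refine rep_sum _ _ fun η _ => ?_
  rw [← Nat.cast_smul_eq_nsmul ℂ, Cfsg.Agent.Chars.indFun_smul,
    show ((c η : ℕ) : ℂ) = ((c η : ℤ) : ℂ) from (Int.cast_natCast _).symm]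
  refine rep_smul _ ?_
  obtain ⟨H, lam, hlam⟩ := Cfsg.Agent.Chars.monomial_of_nilpotent η.2
  let eH := H.equivMapOfInjective E.subtype E.subtype_injective
  refine ⟨[⟨H.map E.subtype, lam.comp eH.symm.toMonoidHom, 1⟩], ?_, ?_⟩
  · intro t ht
    rw [List.mem_singleton] at ht
    subst ht
    exact ⟨p, hp, isElementary_subgroup hp hE _ (Subgroup.map_subtype_le H)⟩
  · rw [List.map_singleton, List.sum_singleton, Int.cast_one, one_smul,
      ← Cfsg.Agent.Chars.indFun_trans (H.map E.subtype) E (Subgroup.map_subtype_le H), hlam]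
    congr 1
    funext t
    rw [Cfsg.Agent.Chars.indFun_apply, Cfsg.Agent.Chars.indFun_apply]
    have hsub : (H.map E.subtype).subgroupOf E = H :=
      Subgroup.comap_map_eq_self_of_injective E.subtype_injective H
    congr 1
    · rw [hsub]
    · refine Finset.sum_congr rfl fun x _ => ?_
      by_cases hx : x⁻¹ * t * x ∈ H
      · have hx' : x⁻¹ * t * x ∈ (H.map E.subtype).subgroupOf E := by rw [hsub]; exact hx
        rw [Cfsg.Agent.Chars.extendByZero_of_mem _ _ hx, Cfsg.Agent.Chars.extendByZero_of_mem _ _ hx']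
        refine congrArg (fun z : H => (lam z : ℂ)) ?_
        rw [MulEquiv.coe_toMonoidHom, eq_comm, MulEquiv.symm_apply_eq]
        exact Subtype.ext rfl
      · have hx' : x⁻¹ * t * x ∉ (H.map E.subtype).subgroupOf E := by rw [hsub]; exact hx
        rw [Cfsg.Agent.Chars.extendByZero_of_not_mem _ _ hx,
          Cfsg.Agent.Chars.extendByZero_of_not_mem _ _ hx']

end Cfsg.Agent.S0163
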