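import Cfsg.Statements.S3742
import Mathlib

set_option autoImplicit false
open Cfsg

namespace Cfsg.Agent.S3742

/-- The map with given images of the two generators. -/
def F (x y : QuaternionGroup 2) : QuaternionGroup 2 → QuaternionGroup 2
  | .a i => x ^ ZMod.val i
  | .xa i => y * x ^ ZMod.val i

/-- It is an injective endomorphism. -/
def Good (x y : QuaternionGroup 2) : Prop :=
  (∀ g h, F x y (g * h) = F x y g * F x y h) ∧ ∀ g h, F x y g = F x y h → g = h

instance (x y : QuaternionGroup 2) : Decidable (Good x y) :=
  inferInstanceAs (Decidable (_ ∧ _))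

/-- The sign triples representing the four diagonals of the cube. -/
def T : Fin 4 → List (QuaternionGroup 2)
  | 0 => [.a 1, .xa 0, .a 1 * .xa 0]
  | 1 => [.a 1, .xa 2, .a 3 * .xa 0]
  | 2 => [.a 3, .xa 0, .a 3 * .xa 0]
  | 3 => [.a 3, .xa 2, .a 1 * .xa 0]

/-- Equality of a triple, as a set, with a diagonal up to sign. -/
def onDiag (S : List (QuaternionGroup 2)) (d : Fin 4) : Bool :=
  (S.length == 3 && (T d).all fun g => S.contains g) ||
    (S.length == 3 && (T d).all fun g => S.contains (g * .a 2))

/-- The diagonal of a triple. -/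
def idx (S : List (QuaternionGroup 2)) : Fin 4 :=
  if onDiag S 0 then 0 else if onDiag S 1 then 1 else if onDiag S 2 then 2 else 3

/-- The induced map on diagonals. -/
def P (x y : QuaternionGroup 2) (d : Fin 4) : Fin 4 := idx ((T d).map (F x y))

theorem spec : ∀ x y, Good x y → ∀ d, onDiag ((T d).map (F x y)) (P x y d) = true := by
  decide +kernel

theorem inj : ∀ x y, Good x y → (∀ d, P x y d = d) →
    x = QuaternionGroup.a 1 ∧ y = QuaternionGroup.xa 0 := by decide +kernel

theorem surj : ∀ f : Fin 4 → Fin 4, Function.Injective f → ∃ x y, Good x y ∧ ∀ d, P x y d = f d := by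
  decide +kernel

theorem spec'_aux : ∀ x y, Good x y → ∀ d, ∀ u v w : QuaternionGroup 2,
    onDiag [u, v, w] d = true → idx ([u, v, w].map (F x y)) = idx ((T d).map (F x y)) := by
  decide +kernel

theorem spec' (x y : QuaternionGroup 2) (h : Good x y) (d : Fin 4) (S : List (QuaternionGroup 2))
    (hS : onDiag S d = true) : idx (S.map (F x y)) = idx ((T d).map (F x y)) := by
  rcases S with _ | ⟨u, _ | ⟨v, _ | ⟨w, _ | ⟨z, l⟩⟩⟩⟩
  · simp [onDiag] at hS
  · simp [onDiag] at hS
  · simp [onDiag] at hS
  · exact spec'_aux x y h d u v w hS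
  · simp [onDiag] at hS

/-- The automorphism group of the quaternion group of order 8 is isomorphic to the symmetric group of degree 4. -/
theorem result : Nonempty (MulAut (QuaternionGroup 2) ≃* Equiv.Perm (Fin 4)) := by
  have hAgree : ∀ α : MulAut (QuaternionGroup 2), ∀ g,
      F (α (QuaternionGroup.a 1)) (α (QuaternionGroup.xa 0)) g = α g := by
    intro α g
    cases g with
    | a i =>
      show α (QuaternionGroup.a 1) ^ (ZMod.val i) = α (QuaternionGroup.a i)
      rw [← map_pow]
      congr 1
      revert i; decide +kernel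
    | xa i =>
      show α (QuaternionGroup.xa 0) * α (QuaternionGroup.a 1) ^ (ZMod.val i) = α (QuaternionGroup.xa i)
      rw [← map_pow, ← map_mul]
      congr 1
      revert i; decide +kernel
  have hgood : ∀ α : MulAut (QuaternionGroup 2),
      Good (α (QuaternionGroup.a 1)) (α (QuaternionGroup.xa 0)) := by
    intro α
    refine ⟨fun g h => by rw [hAgree, hAgree, hAgree, map_mul], fun g h e => α.injective ?_⟩
    rwa [hAgree, hAgree] at e
  have hP : ∀ (α : MulAut (QuaternionGroup 2)) (d : Fin 4),
      P (α (QuaternionGroup.a 1)) (α (QuaternionGroup.xa 0)) d = idx ((T d).map α) := by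
    intro α d
    unfold P
    congr 1
    exact List.map_congr_left fun g _ => hAgree α g
  have hcomp : ∀ (α β : MulAut (QuaternionGroup 2)) (d : Fin 4),
      idx ((T d).map (α * β)) = idx ((T (idx ((T d).map β))).map α) := by
    intro α β d
    have h1 := spec _ _ (hgood β) d
    have h2 := spec' _ _ (hgood α) (idx ((T d).map β))
    have hb : ∀ S : List (QuaternionGroup 2),
        S.map (F (α (QuaternionGroup.a 1)) (α (QuaternionGroup.xa 0))) = S.map α :=
      fun S => List.map_congr_left fun g _ => hAgree α g
    rw [hP β d] at h1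
    simp only [show ∀ S : List (QuaternionGroup 2),
      S.map (F (β (QuaternionGroup.a 1)) (β (QuaternionGroup.xa 0))) = S.map β from
      fun S => List.map_congr_left fun g _ => hAgree β g] at h1
    simp only [hb] at h2
    rw [show (T d).map (α * β) = ((T d).map β).map α by rw [List.map_map]; rfl]
    generalize (T d).map (β : QuaternionGroup 2 → QuaternionGroup 2) = S at *
    generalize idx S = d' at *
    exact (h2 S h1)
  let Φ : MulAut (QuaternionGroup 2) → (Fin 4 → Fin 4) := fun α d => idx ((T d).map α)
  have hone : Φ 1 = id := funext fun d => by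
    show idx ((T d).map _) = d
    rw [show (T d).map ((1 : MulAut (QuaternionGroup 2)) : QuaternionGroup 2 → QuaternionGroup 2) = T d from List.map_id _]
    revert d; decide +kernel
  have hmul : ∀ α β d, Φ (α * β) d = Φ α (Φ β d) := hcomp
  let φ : MulAut (QuaternionGroup 2) →* Equiv.Perm (Fin 4) := MonoidHom.mk' (fun α =>
    { toFun := Φ α
      invFun := Φ α⁻¹
      left_inv := fun d => by rw [← hmul, inv_mul_cancel, hone]; rfl
      right_inv := fun d => by rw [← hmul, mul_inv_cancel, hone]; rfl })
    (fun α β => Equiv.ext fun d => hmul α β d)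
  refine ⟨MulEquiv.ofBijective φ ⟨?_, ?_⟩⟩
  · rw [injective_iff_map_eq_one]
    intro α h
    have h' : ∀ d, P (α (QuaternionGroup.a 1)) (α (QuaternionGroup.xa 0)) d = d := fun d => by
      rw [hP]; exact Equiv.congr_fun h d
    obtain ⟨e1, e2⟩ := inj _ _ (hgood α) h'
    apply MulEquiv.ext
    intro g
    rw [← hAgree α g, e1, e2]
    revert g; decide +kernel
  · intro σ
    obtain ⟨x, y, hg, hσ⟩ := surj σ σ.injective
    let α : MulAut (QuaternionGroup 2) := MulEquiv.ofBijective (MonoidHom.mk' (F x y) fun g h => (hg.1 g h))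
      ((Fintype.bijective_iff_injective_and_card _).mpr ⟨fun g h => hg.2 g h, rfl⟩)
    exact ⟨α, Equiv.ext fun d => hσ d⟩

end Cfsg.Agent.S3742
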