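import Cfsg.Statements.S3116
import Cfsg.Agent.TwoGroups.CyclicTwo
import Mathlib.Data.ZMod.Basic
import Mathlib.Tactic.NormNum
-- import your own Cfsg.Agent.* helpers here

set_option autoImplicit false
open Cfsg

namespace Cfsg.Agent.S3116

open TwoGroups in
/-- Automorphisms fixing the cyclic part generate a 2-group. -/
theorem key' {X : Type*} [Group X] [Finite X] {x y : X} {m : ℕ} {c : ℤ} (h : IsTwoExt x y (2 ^ m) c)
    (hm : 1 ≤ m) (hchar : ∀ φ : MulAut X, φ x ∈ Subgroup.zpowers x) : IsPGroup 2 (MulAut X) := by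
  intro φ
  refine ⟨m + 1 + m, ?_⟩
  obtain ⟨u, hu⟩ := Subgroup.mem_zpowers_iff.1 (hchar φ)
  have hpow : ∀ k : ℕ, (φ ^ k) x = x ^ (u ^ k) := by
    intro k
    induction k with
    | zero => simp
    | succ k ih => rw [pow_succ' φ, MulAut.mul_apply, ih, map_zpow, ← hu, ← zpow_mul, ← pow_succ']
  have hodd : Odd u := by
    rw [← Int.not_even_iff_odd]
    rintro ⟨w, rfl⟩
    have h1 : orderOf (φ x) = 2 ^ m := by rw [MulEquiv.orderOf_eq, h.ord]
    have h2 : (φ x) ^ 2 ^ (m - 1) = 1 := by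
      rw [← hu, ← zpow_natCast, ← zpow_mul, h.zpow_eq_one_iff]
      refine ⟨w, ?_⟩
      obtain ⟨m', rfl⟩ : ∃ m', m = m' + 1 := ⟨m - 1, by omega⟩
      push_cast [Nat.add_sub_cancel]; ring
    have h3 := orderOf_dvd_of_pow_eq_one h2
    rw [h1] at h3
    have := (Nat.pow_dvd_pow_iff_le_right (by norm_num)).1 h3
    omega
  have hu2 : ∀ j : ℕ, (2 : ℤ) ^ (j + 1) ∣ u ^ 2 ^ j - 1 := by
    intro j
    induction j with
    | zero =>
      obtain ⟨w, rfl⟩ := hodd
      exact ⟨w, by ring⟩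
    | succ j ih =>
      obtain ⟨v, hv⟩ := ih
      have e : u ^ 2 ^ j = 2 ^ (j + 1) * v + 1 := by linarith
      rw [pow_succ 2 j, pow_mul, e]
      exact ⟨(2 ^ j * v + 1) * v, by ring⟩
  set ψ := φ ^ 2 ^ (m + 1) with hψ
  have hψx : ψ x = x := by
    rw [hψ, hpow]
    conv_rhs => rw [← zpow_one x]
    rw [h.zpow_eq_iff, Int.modEq_iff_dvd]
    have := (hu2 (m + 1)).neg_right
    rw [neg_sub] at this
    exact (by push_cast; exact pow_dvd_pow 2 (by omega) : ((2 ^ m : ℕ) : ℤ) ∣ 2 ^ (m + 1 + 1)).trans this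
  obtain ⟨i, hi⟩ : ∃ i : ℤ, ψ y = x ^ i * y := by
    obtain ⟨i, hi | hi⟩ := h.exists_eq (ψ y)
    · exfalso
      have e : ψ (x ^ i) = ψ y := by rw [map_zpow, hψx, hi]
      exact h.notMem (ψ.injective e ▸ Subgroup.zpow_mem_zpowers x i)
    · exact ⟨i, hi⟩
  have hψpow : ∀ k : ℕ, (ψ ^ k) y = x ^ (i * k) * y ∧ (ψ ^ k) x = x := by
    intro k
    induction k with
    | zero => simp
    | succ k ih =>
      constructor
      · rw [pow_succ' ψ, MulAut.mul_apply, ih.1, map_mul, map_zpow, hψx, hi, ← mul_assoc, ← zpow_add]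
        congr 2
        push_cast; ring
      · rw [pow_succ' ψ, MulAut.mul_apply, ih.2, hψx]
  rw [pow_add, pow_mul, ← hψ]
  ext g
  show (ψ ^ 2 ^ m) g = g
  have hy' : (ψ ^ 2 ^ m) y = y := by
    rw [(hψpow _).1]
    have : x ^ (i * ((2 ^ m : ℕ) : ℤ)) = 1 := by rw [h.zpow_eq_one_iff]; exact dvd_mul_left _ _
    rw [this, one_mul]
  obtain ⟨j, rfl | rfl⟩ := h.exists_eq g
  · rw [map_zpow, (hψpow _).2]
  · rw [map_mul, map_zpow, (hψpow _).2, hy']

open TwoGroups in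
theorem key {X : Type*} [Group X] [Finite X] {x y : X} {m : ℕ} {c : ℤ} (h : IsTwoExt x y (2 ^ m) c)
    (hsq : ∀ i : ℤ, (x ^ i * y) ^ 2 = 1) (hm : 2 ≤ m) : IsPGroup 2 (MulAut X) := by
  refine key' h (by omega) fun φ => ?_
  obtain ⟨i, hi | hi⟩ := h.exists_eq (φ x)
  · exact hi ▸ Subgroup.zpow_mem_zpowers x i
  · exfalso
    have h1 := orderOf_dvd_of_pow_eq_one (hsq i)
    rw [← hi, MulEquiv.orderOf_eq, h.ord] at h1
    have := (Nat.pow_dvd_pow_iff_le_right (by norm_num : 1 < 2) (l := 1)).1 (by simpa using h1)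
    omega

open TwoGroups in
theorem key4 {X : Type*} [Group X] [Finite X] {x y : X} {m : ℕ} {c : ℤ} (h : IsTwoExt x y (2 ^ m) c)
    (hsq : ∀ i : ℤ, (x ^ i * y) ^ 4 = 1) (hm : 3 ≤ m) : IsPGroup 2 (MulAut X) := by
  refine key' h (by omega) fun φ => ?_
  obtain ⟨i, hi | hi⟩ := h.exists_eq (φ x)
  · exact hi ▸ Subgroup.zpow_mem_zpowers x i
  · exfalso
    have h1 := orderOf_dvd_of_pow_eq_one (hsq i)
    rw [← hi, MulEquiv.orderOf_eq, h.ord] at h1
    have := (Nat.pow_dvd_pow_iff_le_right (by norm_num : 1 < 2) (l := 2)).1 (by simpa using h1)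
    omega

/-- The automorphism group of a dihedral 2-group of order at least 8, or of a quasi-dihedral (semidihedral) 2-group of order at least 16, is a 2-group. -/
theorem result {X : Type*} [Group X] [Finite X] (h2 : IsPGroup 2 X)
    (h : (∃ n : ℕ, 4 ≤ n ∧ Nonempty (X ≃* DihedralGroup n)) ∨ Cfsg.IsQuasiDihedral X) : IsPGroup 2 (MulAut X) := by
  rcases h with ⟨n, hn, ⟨e⟩⟩ | hQ
  · have hh := TwoGroups.isTwoExt_dihedral (by omega : 0 < n) e
    obtain ⟨m, hm⟩ : ∃ m, n = 2 ^ m := by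
      haveI : Fact (Nat.Prime 2) := ⟨Nat.prime_two⟩
      obtain ⟨j, hj⟩ := IsPGroup.iff_card.1 h2
      rw [hh.card] at hj
      rcases j with _ | j
      · exfalso; rw [pow_zero] at hj; omega
      · exact ⟨j, by rw [pow_succ] at hj; omega⟩
    subst hm
    refine key hh ?_ ?_
    · intro i
      rw [pow_succ, pow_succ, pow_zero, one_mul, hh.xy_sq, show ((1 : ℤ) + -1) * i = 0 by ring, zpow_zero]
    · rcases m with _ | _ | m
      · norm_num at hn
      · norm_num at hn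
      · omega
  · obtain ⟨n, x, y, hn, -, hh⟩ := TwoGroups.isTwoExt_quasiDihedral hQ
    rcases (by omega : n = 2 ∨ 3 ≤ n) with rfl | hn'
    · omega
    refine key4 hh ?_ hn'
    intro i
    rw [show (4 : ℕ) = 2 * 2 from rfl, pow_mul, pow_two (x ^ i * y), hh.xy_sq, ← zpow_natCast, ← zpow_mul,
      hh.zpow_eq_one_iff]
    obtain ⟨k, rfl⟩ : ∃ k, n = k + 1 := ⟨n - 1, by omega⟩
    exact ⟨i, by push_cast [Nat.add_sub_cancel]; ring⟩

end Cfsg.Agent.S3116
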