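import Cfsg.Statements.S4455
import Cfsg.Agent.Chars.PResidual
import Cfsg.Agent.Chars.Glauberman

set_option autoImplicit false
set_option linter.style.haveILetI false
open Cfsg

namespace Cfsg.Agent.S4455

/-- Fix a prime p and a finite group G. Let s be the sum of χ(1)² over the irreducible characters χ of G whose degree is not divisible by p and whose determinantal order o(χ) is not divisible by p. Then the order of O^p(G), the subgroup generated by the elements of order prime to p, is congruent to s modulo p. -/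
theorem result {G : Type*} [Group G] [Finite G] (p : ℕ) (hp : p.Prime) : (Nat.card (Cfsg.pResidual p G) : ℤ) ≡ (∑ᶠ χ ∈ {χ : Cfsg.IrrCharacter G | ¬ p ∣ Cfsg.charDegree (χ : G → ℂ) ∧ ¬ p ∣ Cfsg.detOrder (χ : G → ℂ)}, (Cfsg.charDegree (χ : G → ℂ) : ℤ) ^ 2) [ZMOD p] := by
  classical
  haveI := Fact.mk hp
  haveI := Fintype.ofFinite G
  set N := Cfsg.pResidual p G
  haveI : Fintype N := Fintype.ofFinite N
  obtain ⟨P⟩ : Nonempty (Sylow p G) := inferInstance
  let φ : ↥(P : Subgroup G) →* MulAut N := MulAut.conjNormal.comp (P : Subgroup G).subtype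
  letI := Cfsg.Agent.Chars.irrAction φ
  let Fx : Finset (Cfsg.IrrCharacter N) :=
    Finset.univ.filter fun θ => Cfsg.Agent.Chars2.inertiaSub (θ : N → ℂ) = ⊤
  have hfix : ∀ θ : Cfsg.IrrCharacter N, θ ∈ Fx ↔ ∀ a : ↥(P : Subgroup G), a • θ = θ := by
    intro θ
    rw [Finset.mem_filter, and_iff_right (Finset.mem_univ _)]
    refine Iff.trans ?_ (Cfsg.Agent.Chars.irrAction_fixed_iff φ θ).symm
    constructor
    · intro h a n
      exact Cfsg.Agent.Chars2.inv_conjNormal (θ : N → ℂ)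
        (Cfsg.Agent.Chars.inv_of_inertia_top h) (a : G) n
    · intro h
      have hP : (P : Subgroup G) ≤ Cfsg.Agent.Chars2.inertiaSub (θ : N → ℂ) := fun x hx =>
        funext fun n => h ⟨x⁻¹, (P : Subgroup G).inv_mem hx⟩ n
      have hN : N ≤ Cfsg.Agent.Chars2.inertiaSub (θ : N → ℂ) := Cfsg.Agent.Chars2.le_inertiaSub
        (Cfsg.Agent.Chars.isClassFunction_of_isCharacter (Cfsg.Agent.Chars.irr_isCharacter θ))
      exact top_unique (Cfsg.Agent.Core.sylow_sup_pResidual P ▸ sup_le hP hN)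
  have hdeg : ∀ {H : Subgroup G} (θ : Cfsg.IrrCharacter H),
      (θ : H → ℂ) 1 = ((Cfsg.charDegree (θ : H → ℂ) : ℕ) : ℂ) := fun θ => by
    obtain ⟨n, -, hn⟩ := Cfsg.Agent.Chars.exists_irr_apply_one_eq θ.2
    simp [Cfsg.charDegree, hn]
  have hkey := Cfsg.Agent.Chars.congrP_sum_fixed hp P.isPGroup' Fx hfix
    (fun θ : Cfsg.IrrCharacter N => ((((Cfsg.charDegree (θ : N → ℂ)) ^ 2 : ℕ) : ℤ) : ℂ))
    (fun θ => isIntegral_algebraMap (x := (((Cfsg.charDegree (θ : N → ℂ)) ^ 2 : ℕ) : ℤ)))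
    (fun a θ => by
      have : Cfsg.charDegree ((a • θ : Cfsg.IrrCharacter N) : N → ℂ) =
          Cfsg.charDegree (θ : N → ℂ) := by
        show Cfsg.charDegree (fun n => (θ : N → ℂ) (φ a⁻¹ n)) = _
        simp [Cfsg.charDegree]
      rw [this])
  rw [← Int.cast_sum, ← Int.cast_sum, Cfsg.Agent.Chars.congrP_int hp] at hkey
  have hcard : ∑ θ : Cfsg.IrrCharacter N, (((Cfsg.charDegree (θ : N → ℂ)) ^ 2 : ℕ) : ℤ) =
      (Nat.card N : ℤ) := by
    have h := Cfsg.Agent.Chars.sum_sq_apply_one (G := N)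
    rw [Finset.sum_congr rfl fun θ _ => by rw [hdeg θ]] at h
    exact_mod_cast h
  rw [hcard] at hkey
  let T : Finset (Cfsg.IrrCharacter N) := Fx.filter fun θ => ¬ p ∣ Cfsg.charDegree (θ : N → ℂ)
  have hT : (p : ℤ) ∣ (∑ θ ∈ Fx, (((Cfsg.charDegree (θ : N → ℂ)) ^ 2 : ℕ) : ℤ)) -
      ∑ θ ∈ T, (((Cfsg.charDegree (θ : N → ℂ)) ^ 2 : ℕ) : ℤ) := by
    rw [← Finset.sum_filter_add_sum_filter_not Fx
      (fun θ => ¬ p ∣ Cfsg.charDegree (θ : N → ℂ)), add_sub_cancel_left]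
    refine Finset.dvd_sum fun θ hθ => Int.natCast_dvd_natCast.2 ?_
    exact dvd_pow (not_not.1 (Finset.mem_filter.1 hθ).2) two_ne_zero
  let S : Finset (Cfsg.IrrCharacter G) := Finset.univ.filter fun χ =>
    ¬ p ∣ Cfsg.charDegree (χ : G → ℂ) ∧ ¬ p ∣ Cfsg.detOrder (χ : G → ℂ)
  rw [finsum_mem_eq_finite_toFinset_sum _ (Set.toFinite _)]
  have hS : (Set.toFinite {χ : Cfsg.IrrCharacter G | ¬ p ∣ Cfsg.charDegree (χ : G → ℂ) ∧
      ¬ p ∣ Cfsg.detOrder (χ : G → ℂ)}).toFinset = S := by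
    ext χ; simp [S]
  rw [hS]
  have hsum : ∑ χ ∈ S, (Cfsg.charDegree (χ : G → ℂ) : ℤ) ^ 2 =
      ∑ θ ∈ T, (((Cfsg.charDegree (θ : N → ℂ)) ^ 2 : ℕ) : ℤ) := by
    refine Finset.sum_bij (fun χ hχ => ⟨fun n : N => (χ : G → ℂ) n,
      (Cfsg.Agent.Chars.restrict_pPrime χ.2 (Finset.mem_filter.1 hχ).2.1).1⟩) ?_ ?_ ?_ ?_
    · intro χ hχ
      refine Finset.mem_filter.2 ⟨Finset.mem_filter.2 ⟨Finset.mem_univ _,
        (Cfsg.Agent.Chars.restrict_pPrime χ.2 (Finset.mem_filter.1 hχ).2.1).2⟩, ?_⟩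
      simpa [Cfsg.charDegree] using (Finset.mem_filter.1 hχ).2.1
    · intro χ hχ χ' hχ' h
      have h' : (fun n : N => (χ : G → ℂ) n) = fun n : N => (χ' : G → ℂ) n :=
        congrArg Subtype.val h
      have hr := Cfsg.Agent.Chars.restrict_pPrime χ.2 (Finset.mem_filter.1 hχ).2.1
      refine Subtype.ext ((Cfsg.Agent.Chars.existsUnique_ext_pPrime hr.1 hr.2
        (by simpa [Cfsg.charDegree] using (Finset.mem_filter.1 hχ).2.1)).unique
        ⟨χ.2, fun _ => rfl, (Finset.mem_filter.1 hχ).2.2⟩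
        ⟨χ'.2, fun n => (congrFun h' n).symm, (Finset.mem_filter.1 hχ').2.2⟩)
    · intro θ hθ
      obtain ⟨hθF, hθd⟩ := Finset.mem_filter.1 hθ
      obtain ⟨χ, ⟨hχ, hr, ho⟩, -⟩ := Cfsg.Agent.Chars.existsUnique_ext_pPrime θ.2
        (Finset.mem_filter.1 hθF).2 hθd
      refine ⟨⟨χ, hχ⟩, Finset.mem_filter.2 ⟨Finset.mem_univ _, ?_, ho⟩, Subtype.ext (funext hr)⟩
      have h1 := hr 1
      simp only [Subgroup.coe_one] at h1
      simpa [Cfsg.charDegree, h1] using hθd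
    · intro χ hχ
      simp [Cfsg.charDegree]
  rw [hsum, Int.modEq_iff_dvd, ← dvd_neg, neg_sub]
  have := dvd_add hkey hT
  rwa [sub_add_sub_cancel] at this

end Cfsg.Agent.S4455
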