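import Cfsg.Statements.S4456
import Cfsg.Agent.S4455

set_option autoImplicit false
set_option linter.style.haveILetI false
open Cfsg

namespace Cfsg.Agent.S4456

/-- Let p be a prime and G a finite group such that p divides the degree of every irreducible character of G of degree greater than one. Then G has a normal p-complement: a normal subgroup of order prime to p whose index is a power of p. -/
theorem result {G : Type*} [Group G] [Finite G] (p : ℕ) (hp : p.Prime) (hdeg : ∀ χ : Cfsg.IrrCharacter G, Cfsg.charDegree (χ : G → ℂ) ≠ 1 → p ∣ Cfsg.charDegree (χ : G → ℂ)) : ∃ N : Subgroup G, N.Normal ∧ (Nat.card N).Coprime p ∧ ∃ k : ℕ, N.index = p ^ k := by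
  classical
  haveI := Fact.mk hp
  haveI := Fintype.ofFinite G
  refine ⟨Cfsg.pResidual p G, inferInstance, ?_, Cfsg.Agent.Core.index_pResidual p G⟩
  rw [Nat.coprime_comm, hp.coprime_iff_not_dvd]
  intro hdvd
  have h := Cfsg.Agent.S4455.result (G := G) p hp
  rw [finsum_mem_eq_finite_toFinset_sum _ (Set.toFinite _)] at h
  set S := (Set.toFinite {χ : Cfsg.IrrCharacter G | ¬ p ∣ Cfsg.charDegree (χ : G → ℂ) ∧
      ¬ p ∣ Cfsg.detOrder (χ : G → ℂ)}).toFinset with hSdef
  have hone : ∀ χ ∈ S, Cfsg.charDegree (χ : G → ℂ) = 1 := fun χ hχ => by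
    rw [hSdef, Set.Finite.mem_toFinset] at hχ
    by_contra h1
    exact hχ.1 (hdeg χ h1)
  rw [Finset.sum_congr rfl fun χ hχ => by rw [hone χ hχ], Finset.sum_const] at h
  haveI : Finite (G →* ℂˣ) := Finite.of_equiv _ (Cfsg.Agent.Chars.homEquivLinear (G := G)).symm
  obtain ⟨m, hmcop, hmdef⟩ : ∃ m : ℕ, m.Coprime p ∧
      m = Nat.card (G →* ℂˣ) / p ^ (Nat.card (G →* ℂˣ)).factorization p :=
    ⟨_, (Nat.coprime_ordCompl hp Nat.card_pos.ne').symm, rfl⟩
  set L : Subgroup (G →* ℂˣ) := (powMonoidHom m).ker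
  have hL : ∀ l : G →* ℂˣ, l ∈ L ↔ ¬ p ∣ orderOf l := by
    intro l
    rw [MonoidHom.mem_ker, powMonoidHom_apply, ← orderOf_dvd_iff_pow_eq_one]
    constructor
    · exact fun h1 h2 => (hp.coprime_iff_not_dvd.1 hmcop.symm) (h2.trans h1)
    · intro h1
      have h2 : orderOf l ∣ p ^ (Nat.card (G →* ℂˣ)).factorization p * m := by
        rw [hmdef, Nat.ordProj_mul_ordCompl_eq_self]
        exact orderOf_dvd_natCard l
      exact (Nat.Coprime.pow_right _ (hp.coprime_iff_not_dvd.2 h1).symm).dvd_of_dvd_mul_left h2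
  have hLp : ¬ p ∣ Nat.card L := fun hd => by
    obtain ⟨x, hx⟩ := exists_prime_orderOf_dvd_card' p hd
    exact (hL x).1 x.2 (by rw [Subgroup.orderOf_coe, hx])
  have hdet : ∀ l : G →* ℂˣ, Cfsg.detOrder (Cfsg.Agent.Chars2.linFun l) = orderOf l := by
    intro l
    obtain ⟨n, ρ, hi, hρ⟩ := Cfsg.Agent.Chars.isIrrCharacter_hom l
    haveI := hi
    have hn : n = 1 := by
      have h1 := congrFun hρ 1
      rw [Representation.char_one, Module.finrank_fin_fun] at h1
      simpa using h1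
    subst hn
    show Cfsg.detOrder (fun g => (l g : ℂ)) = _
    rw [Cfsg.Agent.Chars2.detOrder_eq ρ _ hρ]
    congr 1
    refine MonoidHom.ext fun g => Units.ext ?_
    rw [Cfsg.Agent.Chars2.detHom_apply, ← Cfsg.Agent.Chars2.trace_eq_det_one]
    exact congrFun hρ g
  have hcard : S.card = Nat.card L := by
    rw [← Nat.card_eq_finsetCard]
    symm
    refine Nat.card_eq_of_bijective (fun l : L =>
      (⟨⟨fun g => ((l : G →* ℂˣ) g : ℂ), Cfsg.Agent.Chars.isIrrCharacter_hom _⟩, ?_⟩ : S))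
      ⟨?_, ?_⟩
    · rw [hSdef, Set.Finite.mem_toFinset]
      refine ⟨?_, ?_⟩
      · show ¬ p ∣ Cfsg.charDegree (fun g => ((l : G →* ℂˣ) g : ℂ))
        simp [Cfsg.charDegree, hp.one_lt.ne']
      · show ¬ p ∣ Cfsg.detOrder (Cfsg.Agent.Chars2.linFun (l : G →* ℂˣ))
        rw [hdet]
        exact (hL _).1 l.2
    · intro a b hab
      refine Subtype.ext (Cfsg.Agent.Chars2.linFun_injective ?_)
      exact congrArg (fun χ : S => ((χ : Cfsg.IrrCharacter G) : G → ℂ)) hab
    · rintro ⟨χ, hχ⟩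
      have h1 := hone χ hχ
      rw [hSdef, Set.Finite.mem_toFinset] at hχ
      obtain ⟨n, -, hn⟩ := Cfsg.Agent.Chars.exists_irr_apply_one_eq χ.2
      have hn1 : (χ : G → ℂ) 1 = 1 := by
        have : n = 1 := by simpa [Cfsg.charDegree, hn] using h1
        simp [hn, this]
      obtain ⟨l, hl⟩ := Cfsg.Agent.Chars2.exists_linFun (χ : G → ℂ)
        ⟨Cfsg.Agent.Chars.irr_isCharacter χ, hn1⟩
      refine ⟨⟨l, (hL l).2 ?_⟩, Subtype.ext (Subtype.ext hl)⟩
      rw [← hdet, hl]
      exact hχ.2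
  rw [hcard] at h
  simp only [Nat.cast_one, one_pow, nsmul_eq_mul, mul_one] at h
  refine hLp (Int.natCast_dvd_natCast.1 ?_)
  have h2 := Int.modEq_iff_dvd.1 h
  have h3 := dvd_add h2 (Int.natCast_dvd_natCast.2 hdvd)
  simpa using h3

end Cfsg.Agent.S4456
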