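import Cfsg.Statements.S4250
import Cfsg.Agent.Transfer.Complement
-- import your own Cfsg.Agent.* helpers here

set_option autoImplicit false
open Cfsg

namespace Cfsg.Agent.S4250

open Cfsg.Agent.Transfer in
/-- fusion in `P` moves elements by members of `L` only. -/
theorem mem_of_fusion {G : Type*} [Group G] [Finite G] {p : ℕ} [Fact p.Prime] (P : Sylow p G)
    (L : Subgroup G)
    (hN : ∀ a ∈ (P : Subgroup G), ∀ n ∈ Subgroup.normalizer (P : Set G),
      a⁻¹ * (n * a * n⁻¹) ∈ L)
    (hT : ∀ B : Subgroup G, TameIn P B → ∀ a ∈ B, ∀ x ∈ Subgroup.normalizer (B : Set G),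
      (∃ k : ℕ, orderOf x = p ^ k) → a⁻¹ * (x * a * x⁻¹) ∈ L)
    {A : Subgroup G} (hA : A ≤ (P : Subgroup G)) {g : G}
    (hAg : A.map (MulAut.conj g).toMonoidHom ≤ (P : Subgroup G)) :
    ∀ a ∈ A, a⁻¹ * (g * a * g⁻¹) ∈ L := by
  induction hd : Nat.card (P : Subgroup G) - Nat.card A using Nat.strong_induction_on
    generalizing A g with
  | h d ih =>
    subst hd
    let R : Subgroup G → G → Prop := fun B h =>
      Nat.card B < Nat.card A ∨ ∀ a ∈ B, a⁻¹ * (h * a * h⁻¹) ∈ L
    have key : R A g := by
      refine alperin_induction P R ?_ ?_ ?_ ?_ hA hAg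
      · rintro B C h hBC (hc | hc)
        · exact Or.inl ((Subgroup.card_le_of_le hBC).trans_lt hc)
        · exact Or.inr fun a ha => hc a (hBC ha)
      · rintro B h k (hc | hc) h2
        · exact Or.inl hc
        · rcases h2 with h2 | h2
          · exact Or.inl (by rwa [card_map_conj] at h2)
          · refine Or.inr fun a ha => ?_
            have := L.mul_mem (hc a ha) (h2 (h * a * h⁻¹) ⟨a, ha, rfl⟩)
            convert this using 1
            group
      · rintro B h (hc | hc)
        · exact Or.inl (by rwa [card_map_conj])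
        · refine Or.inr ?_
          rintro _ ⟨a, ha, rfl⟩
          have := L.inv_mem (hc a ha)
          convert this using 1
          simp [MulAut.conj_apply]
          group
      · intro B hB m hm
        rcases lt_or_ge (Nat.card B) (Nat.card A) with hlt | hge
        · exact Or.inl hlt
        refine Or.inr ?_
        have hF := FullyNormalizedIn.of_tame hB
        rcases hF.1.lt_or_eq with hBP | rfl
        swap
        · exact fun a ha => hN a ha m hm
        set N := Subgroup.normalizer (B : Set G) with hNdef
        set K : Subgroup N := Subgroup.normalClosure {x : N | ∃ k : ℕ, orderOf x = p ^ k} with hK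
        let S : Sylow p N :=
          IsPGroup.toSylow (P := ((P : Subgroup G) ⊓ N).subgroupOf N)
            P.2.to_inf_left.comap_subtype hF.2
        have hSK : (S : Subgroup N) ≤ K := by
          intro x hx
          apply Subgroup.subset_normalClosure
          obtain ⟨k, hk⟩ := (IsPGroup.iff_orderOf.mp S.2) ⟨x, hx⟩
          exact ⟨k, by rwa [Subgroup.orderOf_mk] at hk⟩
        have hKL : ∀ y : N, y ∈ K → ∀ a ∈ B, a⁻¹ * ((y : G) * a * (y : G)⁻¹) ∈ L := by
          intro y hy
          rw [hK, Subgroup.normalClosure] at hy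
          induction hy using Subgroup.closure_induction with
          | mem z hz =>
            obtain ⟨w, ⟨k, hk⟩, hcj⟩ := Group.mem_conjugatesOfSet_iff.mp hz
            intro a ha
            refine hT B hB a ha z z.2 ⟨k, ?_⟩
            obtain ⟨c, hc⟩ := isConj_iff.mp hcj
            rw [Subgroup.orderOf_coe, ← hc, ← hk]
            exact (MulEquiv.orderOf_eq (MulAut.conj c) w)
          | one => intro a _; simp
          | mul y z _ _ hy hz =>
            intro a ha
            have h1 := (Subgroup.mem_normalizer_iff.mp z.2 a).mp ha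
            have := L.mul_mem (hz a ha) (hy _ h1)
            convert this using 1
            simp only [Subgroup.coe_mul]
            group
          | inv y _ hy =>
            intro a ha
            have h1 := (Subgroup.mem_normalizer_iff''.mp y.2 a).mp ha
            have := L.inv_mem (hy _ h1)
            convert this using 1
            simp only [Subgroup.coe_inv]
            group
        have htop := Sylow.normalizer_sup_eq_top' S hSK
        have hmem : (⟨m, hm⟩ : N) ∈ Subgroup.normalizer (S : Set N) ⊔ K := by
          rw [htop]; exact Subgroup.mem_top _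
        obtain ⟨n, hn, y, hy, e⟩ := Subgroup.mem_sup_of_normal_right.mp hmem
        have e' : m = (n : G) * (y : G) := (congrArg Subtype.val e).symm
        have hlt' := lt_inf_normalizer P.2 hBP
        rw [← hNdef] at hlt'
        have hcard : Nat.card A < Nat.card ((P : Subgroup G) ⊓ N : Subgroup G) := by
          refine hge.trans_lt ?_
          by_contra hc
          exact hlt'.ne (Subgroup.eq_of_le_of_card_ge hlt'.le (not_lt.mp hc))
        have hcP : Nat.card ((P : Subgroup G) ⊓ N : Subgroup G) ≤ Nat.card (P : Subgroup G) :=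
          Subgroup.card_le_of_le inf_le_left
        have hnS : ((P : Subgroup G) ⊓ N).map (MulAut.conj (n : G)).toMonoidHom
            ≤ (P : Subgroup G) := by
          rintro _ ⟨s, hs, rfl⟩
          have hs' : (⟨s, hs.2⟩ : N) ∈ (S : Subgroup N) := Subgroup.mem_subgroupOf.mpr hs
          exact (Subgroup.mem_subgroupOf.mp ((Subgroup.mem_normalizer_iff.mp hn _).mp hs')).1
        have hRn := ih _ (by omega) inf_le_left hnS rfl
        intro a ha
        have h1 : (y : G) * a * (y : G)⁻¹ ∈ B := (Subgroup.mem_normalizer_iff.mp y.2 a).mp ha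
        have := L.mul_mem (hKL y hy a ha) (hRn _ (hlt'.le h1))
        convert this using 1
        rw [e']
        group
    rcases key with h | h
    · exact absurd h (lt_irrefl _)
    · exact h


/-- Let P be a Sylow p-subgroup of a finite group G. Call an intersection H = P ∩ Q with a Sylow p-subgroup Q tame when N_P(H) and N_Q(H) are Sylow p-subgroups of N_G(H). Then P ∩ G′ is generated by [P, N_G(P)] together with the commutator subgroups [P ∩ Q, ⟨x⟩] for all tame intersections P ∩ Q and all p-elements x of N_G(P ∩ Q). -/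
theorem result {G : Type*} [Group G] [Finite G] (p : ℕ) [Fact p.Prime] (P : Sylow p G) :
    (P : Subgroup G) ⊓ commutator G =
      ⁅(P : Subgroup G), Subgroup.normalizer ((P : Subgroup G) : Set G)⁆ ⊔
        ⨆ (Q : Sylow p G) (_ : (¬ p ∣ ((P : Subgroup G) ⊓ Subgroup.normalizer (((P : Subgroup G) ⊓ (Q : Subgroup G) : Subgroup G) : Set G)).relIndex (Subgroup.normalizer (((P : Subgroup G) ⊓ (Q : Subgroup G) : Subgroup G) : Set G)) ∧ ¬ p ∣ ((Q : Subgroup G) ⊓ Subgroup.normalizer (((P : Subgroup G) ⊓ (Q : Subgroup G) : Subgroup G) : Set G)).relIndex (Subgroup.normalizer (((P : Subgroup G) ⊓ (Q : Subgroup G) : Subgroup G) : Set G))))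
          (x : G) (_ : x ∈ Subgroup.normalizer (((P : Subgroup G) ⊓ (Q : Subgroup G) : Subgroup G) : Set G) ∧ ∃ k : ℕ, orderOf x = p ^ k),
          ⁅(P : Subgroup G) ⊓ (Q : Subgroup G), Subgroup.zpowers x⁆ := by
  refine le_antisymm ?_ ?_
  · rw [inf_comm, Subgroup.commutator_inf_eq_focalSubgroup]
    refine Cfsg.Agent.Transfer.focalSubgroup_le_of_forall fun a ha g hga => ?_
    refine mem_of_fusion P _ ?_ ?_ (A := Subgroup.zpowers a) (Subgroup.zpowers_le.mpr ha) ?_ a
      (Subgroup.mem_zpowers a)
    · intro b hb n hn
      refine Subgroup.mem_sup_left ?_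
      have h := Subgroup.commutator_mem_commutator ((P : Subgroup G).inv_mem hb) hn
      rw [commutatorElement_def, inv_inv,
        show b⁻¹ * n * b * n⁻¹ = b⁻¹ * (n * b * n⁻¹) by group] at h
      exact h
    · rintro B ⟨Q, rfl, h1, h2⟩ b hb x hx hk
      refine Subgroup.mem_sup_right ?_
      refine Subgroup.mem_iSup_of_mem Q (Subgroup.mem_iSup_of_mem ⟨h1, h2⟩
        (Subgroup.mem_iSup_of_mem x (Subgroup.mem_iSup_of_mem ⟨hx, hk⟩ ?_)))
      have h := Subgroup.commutator_mem_commutator
        (((P : Subgroup G) ⊓ (Q : Subgroup G)).inv_mem hb) (Subgroup.mem_zpowers x)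
      rw [commutatorElement_def, inv_inv,
        show b⁻¹ * x * b * x⁻¹ = b⁻¹ * (x * b * x⁻¹) by group] at h
      exact h
    · rw [MonoidHom.map_zpowers, Subgroup.zpowers_le]
      exact hga
  · refine sup_le (le_inf ?_ ?_) (iSup₂_le fun Q _ => iSup₂_le fun x hx => le_inf ?_ ?_)
    · rw [Subgroup.commutator_le]
      intro a ha n hn
      rw [commutatorElement_def, show a * n * a⁻¹ * n⁻¹ = a * (n * a⁻¹ * n⁻¹) by group]
      exact mul_mem ha ((Subgroup.mem_normalizer_iff.mp hn _).mp (inv_mem ha))
    · exact Subgroup.commutator_mono le_top le_top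
    · rw [Subgroup.commutator_le]
      intro a ha n hn
      have hn' := Subgroup.zpowers_le.mpr hx.1 hn
      rw [commutatorElement_def, show a * n * a⁻¹ * n⁻¹ = a * (n * a⁻¹ * n⁻¹) by group]
      exact mul_mem ha.1 ((Subgroup.mem_normalizer_iff.mp hn' _).mp (inv_mem ha)).1
    · exact Subgroup.commutator_mono le_top le_top

end Cfsg.Agent.S4250
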