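import Cfsg.Statements.S1492
import Cfsg.Agent.OddChar.NormalInd
import Mathlib.Tactic.Linarith
import Mathlib.Tactic.GCongr
import Mathlib.Tactic.Ring

set_option autoImplicit false
open Cfsg

namespace Cfsg.Agent.S1492

/-- Let ψ be an irreducible character of the finite group G and B ≤ D ≤ C subgroups with B normal in C, every commutator of an element of D with an element of C lying in B (so D/B is central in C/B), and ψ constant equal to ψ 1 on B. Then ψ(1) ^ 2 * |C| * |D| ≤ |G| ^ 2. -/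
theorem result {G : Type*} [Group G] [Finite G] (ψ : G → ℂ) (hψ : Cfsg.IsIrrCharacter G ψ) (B C D : Subgroup G) (hBD : B ≤ D) (hDC : D ≤ C) (hBn : ∀ c ∈ C, ∀ b ∈ B, c * b * c⁻¹ ∈ B) (hcent : ∀ d ∈ D, ∀ c ∈ C, d * c * d⁻¹ * c⁻¹ ∈ B) (hker : ∀ b ∈ B, ψ b = ψ 1) : ‖ψ 1‖ ^ 2 * (Nat.card C : ℝ) * (Nat.card D : ℝ) ≤ (Nat.card G : ℝ) ^ 2 := by
  classical
  haveI := Fintype.ofFinite G
  haveI : Fintype C := Fintype.ofFinite _
  have hψc := Chars.isCharacter_of_isIrr hψ
  have hres := Chars.isCharacter_restrict hψc C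
  obtain ⟨η, hη⟩ : ∃ η : Cfsg.IrrCharacter C,
      Cfsg.classInner (fun c : C => ψ c) (η : C → ℂ) ≠ 0 := by
    by_contra hno
    push Not at hno
    have h1 := Chars2.apply_eq_sum (Chars.isClassFunction_of_isCharacter hres) 1
    simp [hno, Chars.irr_apply_one_ne_zero hψ] at h1
  -- `B` is in the kernel of `η`
  have hηB : ∀ b : C, (b : G) ∈ B → (η : C → ℂ) b = (η : C → ℂ) 1 := by
    intro b hb
    obtain ⟨m, hm⟩ := Chars2.exists_multiplicities hres
    have hx := Chars2.apply_eq_sum (Chars.isClassFunction_of_isCharacter hres) b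
    have h1 := Chars2.apply_eq_sum (Chars.isClassFunction_of_isCharacter hres) 1
    simp only [hm] at hx h1
    have hval : ψ (b : G) = ψ ((1 : C) : G) := (hker _ hb).trans (by simp)
    have h2 := congrArg Complex.re ((hx.symm.trans hval).trans h1)
    rw [Complex.re_sum, Complex.re_sum] at h2
    have hle : ∀ φ ∈ (Finset.univ : Finset (Cfsg.IrrCharacter C)),
        ((m φ : ℂ) * (φ : C → ℂ) b).re ≤ ((m φ : ℂ) * (φ : C → ℂ) 1).re := by
      intro φ _
      simp only [Complex.mul_re, Complex.natCast_re, Complex.natCast_im, zero_mul, sub_zero]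
      exact mul_le_mul_of_nonneg_left (le_trans (Complex.re_le_norm _)
        (Chars.norm_le_of_isCharacter (Chars.irr_isCharacter φ) _)) (Nat.cast_nonneg _)
    have h3 := (Finset.sum_eq_sum_iff_of_le hle).mp h2 η (Finset.mem_univ _)
    simp only [Complex.mul_re, Complex.natCast_re, Complex.natCast_im, zero_mul, sub_zero] at h3
    have hm0 : (m η : ℝ) ≠ 0 := by
      intro h
      apply hη
      rw [hm η]
      exact_mod_cast h
    have h4 := mul_left_cancel₀ hm0 h3
    obtain ⟨n, ρ, hρ⟩ := Chars.irr_isCharacter η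
    rw [← hρ] at h4 ⊢
    have h5 := Chars.rep_norm_char_le ρ b
    rw [Representation.char_one] at h4 ⊢
    rw [Complex.natCast_re] at h4
    have h6 : (ρ.character b).im = 0 := by
      have := pow_le_pow_left₀ (norm_nonneg _) h5 2
      rw [Complex.sq_norm, Complex.normSq_apply, ← sq, ← sq, h4] at this
      exact pow_eq_zero_iff two_ne_zero |>.mp (le_antisymm (by linarith) (sq_nonneg _))
    exact Complex.ext (by simpa using h4) (by simpa using h6)
  -- `D` acts by scalars
  obtain ⟨n, ρ, hρi, hρ⟩ := η.2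
  haveI := hρi
  have hη1 : (η : C → ℂ) 1 = n := by rw [← hρ, Representation.char_one, Module.finrank_fin_fun]
  have hscal : ∀ d : C, (d : G) ∈ D → ‖(η : C → ℂ) d‖ = n := by
    intro d hd
    obtain ⟨c, hc⟩ := Chars.scalar_of_commute ρ (ρ d) fun x => by
      have h1 := hηB (d * x * d⁻¹ * x⁻¹) (hcent _ hd _ x.2)
      rw [← hρ, Representation.char_one, Chars.rep_char_eq_finrank_iff] at h1
      have h2 : d * x = d * x * d⁻¹ * x⁻¹ * (x * d) := by group
      show ρ d * ρ x = ρ x * ρ d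
      rw [← map_mul, ← map_mul, h2, map_mul, h1, one_mul]
    rw [← hρ, (Chars.rep_norm_char_eq_iff ρ d).mpr ⟨c, hc⟩, Module.finrank_fin_fun]
  have hkey : (n : ℝ) ^ 2 * Nat.card D ≤ Nat.card C := by
    have h1 := Chars.classInner_self_irr η.2
    rw [Chars.classInner_def, inv_mul_eq_one₀ (Nat.cast_ne_zero.mpr Nat.card_pos.ne')] at h1
    have h2 : (Nat.card C : ℝ) = ∑ c : C, ‖(η : C → ℂ) c‖ ^ 2 := by
      have := congrArg Complex.re h1
      simp only [Complex.natCast_re, Complex.re_sum, Complex.mul_conj', ← Complex.ofReal_pow,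
        Complex.ofReal_re] at this
      exact this
    rw [h2]
    have h3 : (Finset.univ.filter fun c : C => (c : G) ∈ D).card = Nat.card D := by
      rw [← Fintype.card_subtype, ← Nat.card_eq_fintype_card]
      exact Nat.card_congr ⟨fun c => ⟨_, c.2⟩, fun d => ⟨⟨d, hDC d.2⟩, d.2⟩, fun _ => rfl, fun _ => rfl⟩
    refine le_trans (le_of_eq ?_) (Finset.sum_le_sum_of_subset_of_nonneg
      (Finset.filter_subset (fun c : C => (c : G) ∈ D) Finset.univ) fun _ _ _ => sq_nonneg _)
    rw [Finset.sum_congr rfl (g := fun _ => (n : ℝ) ^ 2) (fun c hc => by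
      rw [hscal c (Finset.mem_filter.mp hc).2]), Finset.sum_const, nsmul_eq_mul, h3, mul_comm]
  have hind : ‖ψ 1‖ ≤ (C.index : ℝ) * n := by
    obtain ⟨m, hm⟩ := Chars2.exists_multiplicities (Chars.isCharacter_indFun C (Chars.irr_isCharacter η))
    have h1 := Chars2.apply_eq_sum (Chars.isClassFunction_indFun C (η : C → ℂ)) (1 : G)
    simp only [hm, Chars.indFun_apply_one, hη1] at h1
    have hψm : m ⟨ψ, hψ⟩ ≠ 0 := by
      intro h0
      apply hη
      have h2 := hm ⟨ψ, hψ⟩
      rw [h0, Nat.cast_zero, Chars.classInner_indFun C _ (Chars.isClassFunction_of_isCharacter hψc)] at h2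
      rw [← Chars.classInner_conj_symm, h2, map_zero]
    choose dd _ hdd using fun φ : Cfsg.IrrCharacter G => Chars.exists_irr_apply_one_eq φ.2
    simp only [hdd] at h1
    have hN : C.index * n = ∑ φ : Cfsg.IrrCharacter G, m φ * dd φ := by exact_mod_cast h1
    have h2 : dd ⟨ψ, hψ⟩ ≤ C.index * n := hN ▸ le_trans
      (Nat.le_mul_of_pos_left _ (Nat.pos_of_ne_zero hψm))
      (Finset.single_le_sum (f := fun φ => m φ * dd φ) (fun _ _ => Nat.zero_le _) (Finset.mem_univ _))
    rw [show ψ 1 = (dd ⟨ψ, hψ⟩ : ℂ) from hdd ⟨ψ, hψ⟩, Complex.norm_natCast]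
    exact_mod_cast h2
  have hcard : (C.index : ℝ) * Nat.card C = Nat.card G := by exact_mod_cast C.index_mul_card
  calc ‖ψ 1‖ ^ 2 * (Nat.card C : ℝ) * Nat.card D
      ≤ ((C.index : ℝ) * n) ^ 2 * Nat.card C * Nat.card D := by
        gcongr
    _ = (C.index : ℝ) ^ 2 * Nat.card C * ((n : ℝ) ^ 2 * Nat.card D) := by ring
    _ ≤ (C.index : ℝ) ^ 2 * Nat.card C * Nat.card C := by gcongr
    _ = (Nat.card G : ℝ) ^ 2 := by rw [← hcard]; ring

end Cfsg.Agent.S1492
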