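import Cfsg.Statements.S1515
import Cfsg.Agent.OddChar.Coherence

set_option autoImplicit false
open Cfsg

namespace Cfsg.Agent.S1515

/-- Let (S, τ, R) be a coherence system from L to G, χ ∈ S, and ψ an integer combination of S with ⟨χ, ψ⟩ = ⟨conj χ, ψ⟩ = 0. Let τ₁ be a linear isometry on the integer combinations of χ − ψ and χ − conj χ, with virtual-character values, agreeing with τ on integer multiples of χ − conj χ. Then the sum over α ∈ R χ of the squared absolute values of ⟨τ₁(χ − ψ), α⟩ is at least ⟨χ, χ⟩; and if ⟨τ₁(χ − ψ), τ₁(χ − ψ)⟩ minus that sum is at least ⟨ψ, ψ⟩, then the sum equals ⟨χ, χ⟩ and every ⟨τ₁(χ − ψ), α⟩ with α ∈ R χ is 0 or 1. -/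
theorem result {L : Type*} [Group L] [Fintype L] {G : Type*} [Group G] [Fintype G] (S : Set (L → ℂ)) (τ : (L → ℂ) → (G → ℂ)) (R : (L → ℂ) → Finset (G → ℂ)) (hS : Cfsg.IsCoherenceSystem S τ R) (χ : L → ℂ) (hχ : χ ∈ S) (ψ : L → ℂ) (hψ : ψ ∈ Cfsg.zspan S) (h1 : Cfsg.classInner χ ψ = 0) (h2 : Cfsg.classInner (Cfsg.conjFun χ) ψ = 0) (τ₁ : (L → ℂ) → (G → ℂ)) (hτ₁ : Cfsg.IsLinearIsometryOn (Cfsg.zspan {χ - ψ, χ - Cfsg.conjFun χ}) τ₁) (hagree : ∀ n : ℤ, τ₁ (n • (χ - Cfsg.conjFun χ)) = τ (n • (χ - Cfsg.conjFun χ))) : (Cfsg.classInner χ χ).re ≤ ∑ α ∈ R χ, ‖Cfsg.classInner (τ₁ (χ - ψ)) α‖ ^ 2 ∧ ((Cfsg.classInner ψ ψ).re ≤ (Cfsg.classInner (τ₁ (χ - ψ)) (τ₁ (χ - ψ))).re - ∑ α ∈ R χ, ‖Cfsg.classInner (τ₁ (χ - ψ)) α‖ ^ 2 → (∑ α ∈ R χ, ‖Cfsg.classInner (τ₁ (χ - ψ)) α‖ ^ 2 = (Cfsg.classInner χ χ).re ∧ ∀ α ∈ R χ, Cfsg.classInner (τ₁ (χ - ψ)) α = 0 ∨ Cfsg.classInner (τ₁ (χ - ψ)) α =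 1)) := by
  classical
  set D : L → ℂ := χ - Cfsg.conjFun χ with hD
  have hD' : D ∈ Cfsg.zspan ({χ - ψ, χ - Cfsg.conjFun χ} : Set (L → ℂ)) :=
    OddChar.zspan_subset_apply (by simp [hD])
  have hP : χ - ψ ∈ Cfsg.zspan ({χ - ψ, χ - Cfsg.conjFun χ} : Set (L → ℂ)) :=
    OddChar.zspan_subset_apply (by simp)
  set β := τ₁ (χ - ψ) with hβ
  have hβg : Cfsg.IsGeneralizedCharacter G β := hτ₁.2.2.2 _ hP
  choose c hc using fun α : {α // α ∈ R χ} =>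
    OddChar.exists_classInner_eq_int hβg (hS.virtual χ hχ α.1 α.2)
  have hne : χ ≠ Cfsg.conjFun χ := (hS.conj_ne χ hχ).symm
  have hψχ : Cfsg.classInner ψ χ = 0 := by rw [← Chars.classInner_conj_symm, h1, map_zero]
  have hψχ' : Cfsg.classInner ψ (Cfsg.conjFun χ) = 0 := by
    rw [← Chars.classInner_conj_symm, h2, map_zero]
  have hsum : (∑ α : {α // α ∈ R χ}, (c α : ℂ)) = Cfsg.classInner χ χ := by
    have h3 := hagree 1
    rw [one_smul] at h3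
    have h4 : Cfsg.classInner β (τ₁ D) = Cfsg.classInner χ χ := by
      rw [hβ, hτ₁.2.2.1 _ hP _ hD', hD, Chars.classInner_sub_left, Chars.classInner_sub_right,
        Chars.classInner_sub_right, hψχ, hψχ',
        hS.orthogonal χ hχ _ (hS.conj_mem χ hχ) hne]
      ring
    rw [← h4, hD, h3, hS.sum_eq χ hχ, Chars.classInner_sum_right,
      ← Finset.sum_coe_sort (R χ) (fun α => Cfsg.classInner β α)]
    exact Finset.sum_congr rfl fun α _ => (hc α).symm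
  have hsumR : ((∑ α : {α // α ∈ R χ}, c α : ℤ) : ℝ) = (Cfsg.classInner χ χ).re := by
    rw [← hsum]; simp
  have hsq : ∑ α ∈ R χ, ‖Cfsg.classInner β α‖ ^ 2 = ((∑ α : {α // α ∈ R χ}, c α ^ 2 : ℤ) : ℝ) := by
    rw [← Finset.sum_coe_sort (R χ) (fun α => ‖Cfsg.classInner β α‖ ^ 2)]
    push_cast
    refine Finset.sum_congr rfl fun α _ => ?_
    rw [hc α, Complex.norm_intCast, sq_abs]
  have hle : ∀ α : {α // α ∈ R χ}, c α ≤ c α ^ 2 := fun α => Int.le_self_sq _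
  have hge : (Cfsg.classInner χ χ).re ≤ ∑ α ∈ R χ, ‖Cfsg.classInner β α‖ ^ 2 := by
    rw [hsq, ← hsumR]; exact_mod_cast Finset.sum_le_sum fun α _ => hle α
  refine ⟨hge, fun hψle => ?_⟩
  have hnorm : (Cfsg.classInner β β).re = (Cfsg.classInner χ χ).re + (Cfsg.classInner ψ ψ).re := by
    rw [hβ, hτ₁.2.2.1 _ hP _ hP, Chars.classInner_sub_left, Chars.classInner_sub_right,
      Chars.classInner_sub_right, h1, hψχ]
    simp
  have heq : ∑ α ∈ R χ, ‖Cfsg.classInner β α‖ ^ 2 = (Cfsg.classInner χ χ).re :=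
    le_antisymm (by linarith) hge
  refine ⟨heq, fun α hα => ?_⟩
  rw [hsq, ← hsumR] at heq
  have heq' : ∑ x : {α // α ∈ R χ}, c x ^ 2 = ∑ x : {α // α ∈ R χ}, c x := by exact_mod_cast heq
  have h0 : c ⟨α, hα⟩ ^ 2 = c ⟨α, hα⟩ :=
    ((Finset.sum_eq_sum_iff_of_le fun x _ => hle x).mp heq'.symm ⟨α, hα⟩ (Finset.mem_univ _)).symm
  have hcases : c ⟨α, hα⟩ = 0 ∨ c ⟨α, hα⟩ = 1 := by
    have h5 : c ⟨α, hα⟩ * (c ⟨α, hα⟩ - 1) = 0 := by linear_combination h0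
    rcases mul_eq_zero.mp h5 with h | h
    · exact Or.inl h
    · exact Or.inr (by linarith)
  have hcα := hc ⟨α, hα⟩
  rcases hcases with h | h <;> rw [h] at hcα <;> simp at hcα
  · exact Or.inl hcα
  · exact Or.inr hcα

end Cfsg.Agent.S1515
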