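import Cfsg.Statements.S1516
import Cfsg.Agent.OddChar.Coherence
import Cfsg.Agent.S1515

set_option autoImplicit false
open Cfsg

namespace Cfsg.Agent.S1516

/-- Let (S, τ, R) be a coherence system from L to G with degrees φ 1 = d φ and squared norms ⟨φ, φ⟩ = n φ for φ ∈ S. Let S₁ ⊆ S be a finite subset closed under complex conjugation such that (S₁, L minus 1, τ) is coherent, let χ ∈ S with χ ∉ S₁ and conj χ ∉ S₁, and let χ₁ ∈ S₁ with d χ₁ dividing d χ and 2 d χ d χ₁ < Σ_{φ ∈ S₁} (d φ)² / n φ. Then S₁ together with χ and conj χ is coherent. -/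
theorem result {L : Type*} [Group L] [Fintype L] {G : Type*} [Group G] [Fintype G] (S : Set (L → ℂ)) (τ : (L → ℂ) → (G → ℂ)) (R : (L → ℂ) → Finset (G → ℂ)) (hS : Cfsg.IsCoherenceSystem S τ R) (d n : (L → ℂ) → ℕ) (hd : ∀ φ ∈ S, φ 1 = (d φ : ℂ)) (hn : ∀ φ ∈ S, Cfsg.classInner φ φ = (n φ : ℂ)) (S₁ : Finset (L → ℂ)) (hS₁ : ↑S₁ ⊆ S) (hS₁c : ∀ φ ∈ S₁, Cfsg.conjFun φ ∈ S₁) (hcoh : Cfsg.IsCoherent (↑S₁ : Set (L → ℂ)) {1}ᶜ τ) (χ : L → ℂ) (hχ : χ ∈ S) (hχ₁ : χ ∉ S₁) (hχ₂ : Cfsg.conjFun χ ∉ S₁) (χ₁ : L → ℂ) (hχ₁S : χ₁ ∈ S₁) (hdvd : d χ₁ ∣ d χ) (hineq : (2 * d χ * d χ₁ : ℝ) < ∑ φ ∈ S₁, ((d φ : ℝ) ^ 2 / (n φ : ℝ))) : Cfsg.IsCoherent (↑S₁ ∪ {χ, Cfsg.conjFun χ} : Set (L → ℂ)) {1}ᶜ τ := by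
  classical
  obtain ⟨τ₁, hτ₁, hagree⟩ := hcoh.2
  have hO := OddChar.orthFamily_of_system hS
  have hτ := hS.isometry
  have hnpos : ∀ φ ∈ S, 0 < n φ := fun φ hφ => Nat.pos_of_ne_zero fun h =>
    OddChar.classInner_self_ne_zero (hO.ne_zero φ hφ) (by rw [hn φ hφ, h]; simp)
  have hdpos : ∀ φ ∈ S, 0 < d φ := fun φ hφ => Nat.pos_of_ne_zero fun h =>
    OddChar.char_apply_one_ne_zero (hS.isCharacter φ hφ) (hO.ne_zero φ hφ) (by rw [hd φ hφ, h]; simp)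
  have hχ₁' : χ₁ ∈ S := hS₁ hχ₁S
  have hmem : ∀ φ ∈ S₁, φ ∈ Cfsg.zspan (S₁ : Set (L → ℂ)) := fun φ h => OddChar.zspan_subset_apply h
  obtain ⟨a, ha⟩ := hdvd
  set θ : L → ℂ := (a : ℤ) • χ₁ with hθ
  have hθ1 : θ 1 = χ 1 := by
    simp [hθ, hd χ hχ, hd χ₁ hχ₁', ha, mul_comm]
  have hθS : θ ∈ Cfsg.zspan S := OddChar.zspan_zsmul_mem (OddChar.zspan_subset_apply hχ₁') _
  have hu : χ - θ ∈ Cfsg.zspanOn S {1}ᶜ := OddChar.mem_zspanOn_one.mpr
    ⟨OddChar.zspan_sub_mem (OddChar.zspan_subset_apply hχ) hθS, by simp [hθ1]⟩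
  have hD : χ - Cfsg.conjFun χ ∈ Cfsg.zspanOn S {1}ᶜ := OddChar.mem_zspanOn_one.mpr
    ⟨OddChar.zspan_sub_mem (OddChar.zspan_subset_apply hχ)
      (OddChar.zspan_subset_apply (hS.conj_mem χ hχ)),
     by simp [OddChar.conjFun_apply_one (hS.isCharacter χ hχ)]⟩
  have hne : χ ≠ χ₁ := fun h => hχ₁ (h ▸ hχ₁S)
  have hne' : Cfsg.conjFun χ ≠ χ₁ := fun h => hχ₂ (h ▸ hχ₁S)
  have oθ : Cfsg.classInner χ θ = 0 := by
    rw [hθ, OddChar.classInner_zsmul_right, hS.orthogonal χ hχ χ₁ hχ₁' hne, mul_zero]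
  have oθ' : Cfsg.classInner (Cfsg.conjFun χ) θ = 0 := by
    rw [hθ, OddChar.classInner_zsmul_right, hS.orthogonal _ (hS.conj_mem χ hχ) χ₁ hχ₁' hne', mul_zero]
  -- `τ₁ φ` lies in the span of `R φ`
  have hspan : ∀ φ ∈ S₁, τ₁ φ = OddChar.orthoProj (R φ) (τ₁ φ) := by
    intro φ hφ
    have hφS := hS₁ hφ
    have h := (S1515.result S τ R hS φ hφS 0 (OddChar.zspan_zero_mem _)
      (Chars.classInner_zero_right _) (Chars.classInner_zero_right _) τ₁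
      (OddChar.isometryOn_mono hτ₁ (Submodule.span_le.mpr (by
        rintro x (rfl | rfl)
        · rw [sub_zero]; exact hmem φ hφ
        · exact OddChar.zspan_sub_mem (hmem φ hφ) (hmem _ (hS₁c φ hφ)))))
      (fun k => hagree _ (OddChar.zspanOn_zsmul_mem (OddChar.mem_zspanOn_one.mpr
        ⟨OddChar.zspan_sub_mem (hmem φ hφ) (hmem _ (hS₁c φ hφ)),
          by simp [OddChar.conjFun_apply_one (hS.isCharacter φ hφS)]⟩) k))).1
    rw [sub_zero] at h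
    obtain ⟨p1, p2⟩ := OddChar.orthoProj_self (hS.orthonormal φ hφS) (τ₁ φ)
    rw [← sub_eq_zero]
    refine OddChar.eq_zero_of_classInner_self_re (le_antisymm ?_ (OddChar.classInner_self_re_nonneg _))
    have hp : Cfsg.classInner (OddChar.orthoProj (R φ) (τ₁ φ)) (τ₁ φ) =
        ((∑ r ∈ R φ, ‖Cfsg.classInner (τ₁ φ) r‖ ^ 2 : ℝ) : ℂ) := by
      rw [← Chars.classInner_conj_symm, p2, Complex.conj_ofReal]
    rw [Chars.classInner_sub_left, Chars.classInner_sub_right, Chars.classInner_sub_right, p1, p2, hp,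
      hτ₁.2.2.1 φ (hmem φ hφ) φ (hmem φ hφ)]
    simp only [Complex.sub_re, Complex.ofReal_re]
    linarith
  have hR : ∀ φ ∈ S₁, ∀ r ∈ R χ, Cfsg.classInner r (τ₁ φ) = 0 := by
    intro φ hφ r hr
    rw [← Chars.classInner_conj_symm, hspan φ hφ, OddChar.orthoProj_inner_eq_zero, map_zero]
    intro r' hr'
    refine hS.disjoint χ hχ φ (hS₁ hφ) ?_ ?_ r' hr' r hr
    · exact hS.orthogonal φ (hS₁ hφ) χ hχ fun h => hχ₁ (h ▸ hφ)
    · exact hS.orthogonal φ (hS₁ hφ) _ (hS.conj_mem χ hχ) fun h => hχ₂ (h ▸ hφ)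
  set β := τ (χ - θ) with hβ
  have hβg : Cfsg.IsGeneralizedCharacter G β := hτ.2.2.2 _ hu
  set X := OddChar.orthoProj (R χ) β with hX
  have hXφ : ∀ φ ∈ S₁, Cfsg.classInner X (τ₁ φ) = 0 := fun φ hφ =>
    OddChar.orthoProj_inner_eq_zero _ _ (hR φ hφ)
  choose c hc using fun (φ : {φ // φ ∈ S₁}) =>
    OddChar.exists_classInner_eq_int hβg (hτ₁.2.2.2 φ.1 (hmem φ.1 φ.2))
  set e : {φ // φ ∈ S₁} := ⟨χ₁, hχ₁S⟩ with he
  set m : ℤ := c e + a * n χ₁ with hm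
  have hcφ : ∀ φ : {φ // φ ∈ S₁},
      (d χ₁ : ℤ) * c φ = d φ.1 * m - if φ = e then (a : ℤ) * d χ₁ * n χ₁ else 0 := by
    intro φ
    have hφS := hS₁ φ.2
    have hδ₁ : (d χ₁ : ℤ) • φ.1 ∈ Cfsg.zspan (S₁ : Set (L → ℂ)) :=
      OddChar.zspan_zsmul_mem (hmem φ.1 φ.2) _
    have hδ₂ : (d φ.1 : ℤ) • χ₁ ∈ Cfsg.zspan (S₁ : Set (L → ℂ)) :=
      OddChar.zspan_zsmul_mem (hmem χ₁ hχ₁S) _
    have hδE : (d χ₁ : ℤ) • φ.1 - (d φ.1 : ℤ) • χ₁ ∈ Cfsg.zspanOn (S₁ : Set (L → ℂ)) {1}ᶜ :=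
      OddChar.mem_zspanOn_one.mpr ⟨OddChar.zspan_sub_mem hδ₁ hδ₂, by
        simp [hd φ.1 hφS, hd χ₁ hχ₁', mul_comm]⟩
    have h1 : Cfsg.classInner β (τ ((d χ₁ : ℤ) • φ.1 - (d φ.1 : ℤ) • χ₁)) =
        Cfsg.classInner (χ - θ) ((d χ₁ : ℤ) • φ.1 - (d φ.1 : ℤ) • χ₁) :=
      hτ.2.2.1 _ hu _ (OddChar.zspanOn_mono hS₁ hδE)
    rw [← hagree _ hδE, OddChar.iso_map_sub hτ₁ hδE.1 hδ₂, hτ₁.2.1 _ (hmem φ.1 φ.2),
      hτ₁.2.1 _ (hmem χ₁ hχ₁S), Chars.classInner_sub_right, OddChar.classInner_zsmul_right,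
      OddChar.classInner_zsmul_right, hc φ, show Cfsg.classInner β (τ₁ χ₁) = c e from hc e,
      Chars.classInner_sub_left, Chars.classInner_sub_right, Chars.classInner_sub_right, hθ,
      OddChar.classInner_zsmul_left, OddChar.classInner_zsmul_left, OddChar.classInner_zsmul_right,
      OddChar.classInner_zsmul_right, OddChar.classInner_zsmul_right, OddChar.classInner_zsmul_right,
      hS.orthogonal χ hχ φ.1 hφS (fun h => hχ₁ (h ▸ φ.2)), hS.orthogonal χ hχ χ₁ hχ₁' hne,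
      hn χ₁ hχ₁'] at h1
    by_cases hφe : φ = e
    · subst hφe
      rw [if_pos rfl]
      simp only [he]
      rw [hm, he]
      ring
    · rw [if_neg hφe, sub_zero]
      have hne3 : χ₁ ≠ φ.1 := fun h => hφe (Subtype.ext h.symm)
      rw [hS.orthogonal χ₁ hχ₁' φ.1 hφS hne3] at h1
      have h2 : (((d χ₁ : ℤ) * c φ : ℤ) : ℂ) = ((d φ.1 * m : ℤ) : ℂ) := by
        rw [hm]; push_cast at h1 ⊢; linear_combination h1
      exact_mod_cast h2
  have hnc : ∀ φ : {φ // φ ∈ S₁}, ((n φ.1 : ℝ)) ≠ 0 := fun φ =>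
    Nat.cast_ne_zero.mpr (hnpos φ.1 (hS₁ φ.2)).ne'
  set Q : ℝ := ∑ φ : {φ // φ ∈ S₁}, (c φ : ℝ) ^ 2 / (n φ.1 : ℝ) with hQ
  set dSum : ℝ := ∑ φ ∈ S₁, ((d φ : ℝ) ^ 2 / (n φ : ℝ)) with hSig
  have hQeq : (d χ₁ : ℝ) ^ 2 * Q =
      (m : ℝ) ^ 2 * dSum - 2 * a * (d χ₁ : ℝ) ^ 2 * m + (a : ℝ) ^ 2 * (d χ₁ : ℝ) ^ 2 * n χ₁ := by
    have hterm : ∀ φ : {φ // φ ∈ S₁}, (d χ₁ : ℝ) ^ 2 * ((c φ : ℝ) ^ 2 / (n φ.1 : ℝ)) =
        (m : ℝ) ^ 2 * ((d φ.1 : ℝ) ^ 2 / (n φ.1 : ℝ)) +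
          if φ = e then (a : ℝ) ^ 2 * (d χ₁ : ℝ) ^ 2 * n χ₁ - 2 * a * (d χ₁ : ℝ) ^ 2 * m else 0 := by
      intro φ
      have h : (d χ₁ : ℝ) * (c φ : ℝ) =
          (d φ.1 : ℝ) * m - if φ = e then (a : ℝ) * d χ₁ * n χ₁ else 0 := by
        have := congrArg (fun z : ℤ => (z : ℝ)) (hcφ φ)
        push_cast at this
        exact this
      rw [← mul_div_assoc, ← mul_pow, h]
      by_cases hφe : φ = e
      · subst hφe
        rw [if_pos rfl, if_pos rfl]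
        have := hnc e
        simp only [he] at this ⊢
        field_simp
        ring
      · rw [if_neg hφe, if_neg hφe, sub_zero, add_zero]; ring
    rw [hQ, Finset.mul_sum, Finset.sum_congr rfl fun φ _ => hterm φ, Finset.sum_add_distrib,
      ← Finset.mul_sum, Finset.sum_ite_eq' Finset.univ e, if_pos (Finset.mem_univ e), hSig,
      ← Finset.sum_coe_sort S₁]
    ring
  -- Bessel
  set P : G → ℂ := ∑ φ : {φ // φ ∈ S₁}, (((c φ : ℝ) / (n φ.1 : ℝ) : ℝ) : ℂ) • τ₁ φ.1 with hP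
  have hgram : ∀ φ ξ : {φ // φ ∈ S₁},
      Cfsg.classInner (τ₁ φ.1) (τ₁ ξ.1) = if φ = ξ then (n φ.1 : ℂ) else 0 := by
    intro φ ξ
    rw [hτ₁.2.2.1 φ.1 (hmem φ.1 φ.2) ξ.1 (hmem ξ.1 ξ.2)]
    split_ifs with h
    · rw [h, hn ξ.1 (hS₁ ξ.2)]
    · exact hS.orthogonal φ.1 (hS₁ φ.2) ξ.1 (hS₁ ξ.2) fun he => h (Subtype.ext he)
  have iXP : Cfsg.classInner X P = 0 := by
    rw [hP, Chars.classInner_sum_right]
    exact Finset.sum_eq_zero fun φ _ => by rw [Chars.classInner_smul_right, hXφ φ.1 φ.2, mul_zero]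
  have iβP : Cfsg.classInner β P = (Q : ℂ) := by
    rw [hP, Chars.classInner_sum_right, hQ, Complex.ofReal_sum]
    refine Finset.sum_congr rfl fun φ _ => ?_
    rw [Chars.classInner_smul_right, Complex.conj_ofReal, hc φ]
    push_cast; ring
  have iPP : Cfsg.classInner P P = (Q : ℂ) := by
    have h : ∀ ξ : {φ // φ ∈ S₁}, Cfsg.classInner P (τ₁ ξ.1) = (c ξ : ℂ) := by
      intro ξ
      rw [hP, Chars.classInner_sum_left, Finset.sum_eq_single ξ]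
      · rw [Chars.classInner_smul_left, hgram, if_pos rfl]
        push_cast
        rw [div_mul_cancel₀]
        exact_mod_cast (hnpos ξ.1 (hS₁ ξ.2)).ne'
      · intro φ _ hφ; rw [Chars.classInner_smul_left, hgram, if_neg hφ, mul_zero]
      · simp
    rw [← iβP]
    conv_lhs => arg 2; rw [hP]
    conv_rhs => rw [hP]
    rw [Chars.classInner_sum_right, Chars.classInner_sum_right]
    exact Finset.sum_congr rfl fun φ _ => by
      rw [Chars.classInner_smul_right, Chars.classInner_smul_right, h φ, hc φ]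
  obtain ⟨iXX, iβX⟩ := OddChar.orthoProj_self (hS.orthonormal χ hχ) β
  rw [← hX] at iXX iβX
  set ξX : ℝ := ∑ r ∈ R χ, ‖Cfsg.classInner β r‖ ^ 2 with hξX
  have iββ : Cfsg.classInner β β = (((n χ : ℝ) + (a : ℝ) ^ 2 * n χ₁ : ℝ) : ℂ) := by
    rw [hβ, hτ.2.2.1 _ hu _ hu, Chars.classInner_sub_left, Chars.classInner_sub_right,
      Chars.classInner_sub_right, oθ, show Cfsg.classInner θ χ = 0 by
        rw [← Chars.classInner_conj_symm, oθ, map_zero], hn χ hχ, hθ,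
      OddChar.classInner_zsmul_left, OddChar.classInner_zsmul_right, hn χ₁ hχ₁']
    push_cast; ring
  have iW : (Cfsg.classInner (β - X - P) (β - X - P)).re =
      (n χ : ℝ) + (a : ℝ) ^ 2 * n χ₁ - ξX - Q := by
    have e1 : Cfsg.classInner X β = (ξX : ℂ) := by
      rw [← Chars.classInner_conj_symm, iβX, Complex.conj_ofReal]
    have e2 : Cfsg.classInner P X = 0 := by rw [← Chars.classInner_conj_symm, iXP, map_zero]
    have e3 : Cfsg.classInner P β = (Q : ℂ) := by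
      rw [← Chars.classInner_conj_symm, iβP, Complex.conj_ofReal]
    simp only [Chars.classInner_sub_left, Chars.classInner_sub_right, iββ, iβX, iβP, iXX, iXP, iPP,
      e1, e2, e3, Complex.sub_re, Complex.ofReal_re, Complex.zero_re]
    ring
  have hW0 : 0 ≤ (n χ : ℝ) + (a : ℝ) ^ 2 * n χ₁ - ξX - Q := iW ▸ OddChar.classInner_self_re_nonneg _
  have hge : (n χ : ℝ) ≤ ξX := by
    have h := (S1515.result S τ R hS χ hχ θ hθS oθ oθ' τ
      (OddChar.isometryOn_mono hτ fun x hx => ⟨?_, fun y hy => ?_⟩) (fun _ => rfl)).1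
    · rwa [hn χ hχ, Complex.natCast_re] at h
    · refine Submodule.span_le.mpr ?_ hx
      rintro z (rfl | rfl)
      · exact hu.1
      · exact hD.1
    · have hy' : y = 1 := by simpa using hy
      subst hy'
      refine Submodule.span_induction (p := fun z _ => z 1 = 0) ?_ rfl (fun z w _ _ hz hw => by
        simp [hz, hw]) (fun k z _ hz => by simp [hz]) hx
      rintro z (rfl | rfl)
      · exact hu.2 1 (by simp)
      · exact hD.2 1 (by simp)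
  have hm0 : m = 0 := by
    by_contra hm0
    have hd1 : (0 : ℝ) < (d χ₁ : ℝ) := by exact_mod_cast hdpos χ₁ hχ₁'
    have hSiggt : 2 * (a : ℝ) * (d χ₁ : ℝ) ^ 2 < dSum := by
      have : (d χ : ℝ) = (d χ₁ : ℝ) * a := by exact_mod_cast ha
      rw [this] at hineq
      linarith [hineq]
    have hle : (m : ℝ) ^ 2 * dSum - 2 * a * (d χ₁ : ℝ) ^ 2 * m ≤ 0 := by
      have hQle : Q ≤ (a : ℝ) ^ 2 * n χ₁ := by linarith
      nlinarith [mul_le_mul_of_nonneg_left hQle (sq_nonneg (d χ₁ : ℝ))]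
    have h1 : (1 : ℝ) ≤ |(m : ℝ)| := by
      rw [← Int.cast_abs]; exact_mod_cast Int.one_le_abs hm0
    have h2 : |(m : ℝ)| ≤ (m : ℝ) ^ 2 := by
      rw [← sq_abs (m : ℝ)]; nlinarith [abs_nonneg (m : ℝ)]
    have h3 : 0 ≤ 2 * (a : ℝ) * (d χ₁ : ℝ) ^ 2 := by positivity
    have h4 : (m : ℝ) ≤ |(m : ℝ)| := le_abs_self _
    nlinarith [mul_lt_mul_of_pos_left hSiggt (show (0 : ℝ) < (m : ℝ) ^ 2 by positivity),
      mul_le_mul_of_nonneg_left (h4.trans h2) h3]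
  have hce : ∀ φ : {φ // φ ∈ S₁}, c φ = if φ = e then -((a : ℤ) * n χ₁) else 0 := by
    intro φ
    have h := hcφ φ
    rw [hm0, mul_zero] at h
    have hd1 : (d χ₁ : ℤ) ≠ 0 := by exact_mod_cast (hdpos χ₁ hχ₁').ne'
    refine mul_left_cancel₀ hd1 ?_
    rw [h]; split_ifs <;> ring
  have hQval : Q = (a : ℝ) ^ 2 * n χ₁ := by
    rw [hQ, Finset.sum_eq_single e (fun φ _ h => by rw [hce φ, if_neg h]; simp) (by simp),
      hce e, if_pos rfl]
    have := hnc e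
    simp only [he] at this ⊢
    push_cast; field_simp
  have hPval : P = -((a : ℤ) • τ₁ χ₁) := by
    rw [hP, Finset.sum_eq_single e (fun φ _ h => by rw [hce φ, if_neg h]; simp) (by simp),
      hce e, if_pos rfl, ← Int.cast_smul_eq_zsmul ℂ, ← neg_smul]
    congr 1
    have := hnc e
    simp only [he] at this ⊢
    push_cast
    have hC : (n χ₁ : ℂ) ≠ 0 := by exact_mod_cast this
    field_simp
  have hξ : ξX = n χ := le_antisymm (by linarith) hge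
  have hrel : τ (χ - θ) = X - (a : ℤ) • τ₁ χ₁ := by
    have hz : β - X - P = 0 := OddChar.eq_zero_of_classInner_self_re
      (le_antisymm (by rw [iW]; linarith) (OddChar.classInner_self_re_nonneg _))
    rw [hPval, sub_neg_eq_add, sub_add, sub_eq_zero] at hz
    rw [← hβ, hz]
  have hXn : Cfsg.classInner X X = Cfsg.classInner χ χ := by
    rw [iXX, hξ, hn χ hχ, Complex.ofReal_natCast]
  have hXg : Cfsg.IsGeneralizedCharacter G X := OddChar.orthoProj_virt (hS.virtual χ hχ) hβg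
  have hT : insert χ (S₁ : Set (L → ℂ)) ⊆ S := Set.insert_subset hχ hS₁
  obtain ⟨τ₂, hτ₂, hag₂, hτ₂χ, hτ₂S⟩ := OddChar.coherent_insert hτ S₁ χ hT (hO.mono hT) hχ₁ χ₁ hχ₁S a
    (by simp [hd χ hχ, hd χ₁ hχ₁', ha, mul_comm]) τ₁ hτ₁ hagree X hXg hXn hXφ hrel
  -- now the conjugate
  set D := χ - Cfsg.conjFun χ with hDdef
  have hτD : τ D = ∑ r ∈ R χ, r := hS.sum_eq χ hχ
  have iXD : Cfsg.classInner X (τ D) = (n χ : ℂ) := by
    have h1 : Cfsg.classInner β (τ D) = (n χ : ℂ) := by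
      rw [hβ, hτ.2.2.1 _ hu _ hD, hDdef, Chars.classInner_sub_left, Chars.classInner_sub_right,
        Chars.classInner_sub_right, hn χ hχ, hS.orthogonal χ hχ _ (hS.conj_mem χ hχ)
          (hS.conj_ne χ hχ).symm,
        show Cfsg.classInner θ χ = 0 by rw [← Chars.classInner_conj_symm, oθ, map_zero],
        show Cfsg.classInner θ (Cfsg.conjFun χ) = 0 by rw [← Chars.classInner_conj_symm, oθ', map_zero]]
      ring
    rw [← h1, hτD, hX, Chars.classInner_sum_right, Chars.classInner_sum_right]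
    refine Finset.sum_congr rfl fun r hr => ?_
    rw [OddChar.orthoProj, Chars.classInner_sum_left, Finset.sum_eq_single_of_mem r hr fun s hs h => by
      rw [Chars.classInner_smul_left, hS.orthonormal χ hχ s hs r hr, if_neg h, mul_zero]]
    rw [Chars.classInner_smul_left, hS.orthonormal χ hχ r hr r hr, if_pos rfl, mul_one]
  have iDX : Cfsg.classInner (τ D) X = (n χ : ℂ) := by
    rw [← Chars.classInner_conj_symm, iXD, map_natCast]
  have hD2 : Cfsg.classInner (τ D) (τ D) = 2 * (n χ : ℂ) := by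
    rw [hτ.2.2.1 _ hD _ hD, hDdef, Chars.classInner_sub_left, Chars.classInner_sub_right,
      Chars.classInner_sub_right, hn χ hχ, OddChar.classInner_conjFun_self (hS.isCharacter χ hχ),
      hn χ hχ, hS.orthogonal χ hχ _ (hS.conj_mem χ hχ) (hS.conj_ne χ hχ).symm,
      hS.orthogonal _ (hS.conj_mem χ hχ) χ hχ (hS.conj_ne χ hχ)]
    ring
  have hT' : insert (Cfsg.conjFun χ) ((insert χ S₁ : Finset (L → ℂ)) : Set (L → ℂ)) ⊆ S := by
    rw [Finset.coe_insert]; exact Set.insert_subset (hS.conj_mem χ hχ) hT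
  obtain ⟨τ₃, hτ₃, hag₃, -, -⟩ := OddChar.coherent_insert hτ (insert χ S₁) (Cfsg.conjFun χ) hT'
    (hO.mono hT') (by simp [hχ₂, hS.conj_ne χ hχ]) χ₁ (Finset.mem_insert_of_mem hχ₁S) a
    (by simp [OddChar.conjFun_apply_one (hS.isCharacter χ hχ), hd χ hχ, hd χ₁ hχ₁', ha, mul_comm]) τ₂
    (by rw [Finset.coe_insert]; exact hτ₂) (by rw [Finset.coe_insert]; exact hag₂) (X - τ D)
    (OddChar.virt_sub hXg (hτ.2.2.2 _ hD))
    (by
      rw [Chars.classInner_sub_left, Chars.classInner_sub_right, Chars.classInner_sub_right, hXn,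
        iXD, iDX, hD2, OddChar.classInner_conjFun_self (hS.isCharacter χ hχ), hn χ hχ]
      ring)
    (by
      intro φ hφ
      rcases Finset.mem_insert.mp hφ with h | h
      · rw [h, hτ₂χ, Chars.classInner_sub_left, hXn, iDX, hn χ hχ, sub_self]
      · rw [hτ₂S φ h, Chars.classInner_sub_left, hXφ φ h, hτD, Chars.classInner_sum_left,
          Finset.sum_eq_zero fun r hr => hR φ h r hr, sub_zero])
    (by
      rw [show Cfsg.conjFun χ - (a : ℤ) • χ₁ = (χ - θ) - D by rw [hDdef, hθ]; abel,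
        OddChar.iso_map_sub hτ (OddChar.zspanOn_sub_mem hu hD) hD, hrel, hτ₂S χ₁ hχ₁S]
      abel)
  have hset : insert (Cfsg.conjFun χ) ((insert χ S₁ : Finset (L → ℂ)) : Set (L → ℂ)) =
      ↑S₁ ∪ {χ, Cfsg.conjFun χ} := by
    ext x; simp; tauto
  rw [hset] at hτ₃ hag₃
  obtain ⟨α, hα, hα0⟩ := hcoh.1
  exact ⟨⟨α, OddChar.zspanOn_mono Set.subset_union_left hα, hα0⟩, τ₃, hτ₃, hag₃⟩

end Cfsg.Agent.S1516
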