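import Cfsg.Statements.S1517
import Cfsg.Agent.OddChar.Coherence
import Cfsg.Agent.S1515

set_option autoImplicit false
open Cfsg

namespace Cfsg.Agent.S1517

/-- Let (S, τ, R) be a coherence system from L to G such that φ 1 = ψ 1 for all φ, ψ ∈ S. Then (S, L minus 1, τ) is coherent. -/
theorem result {L : Type*} [Group L] [Fintype L] {G : Type*} [Group G] [Fintype G] (S : Set (L → ℂ)) (τ : (L → ℂ) → (G → ℂ)) (R : (L → ℂ) → Finset (G → ℂ)) (hS : Cfsg.IsCoherenceSystem S τ R) (hdeg : ∀ φ ∈ S, ∀ ψ ∈ S, φ 1 = ψ 1) : Cfsg.IsCoherent S {1}ᶜ τ := by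
  classical
  obtain ⟨χ, hχ⟩ := hS.nonempty
  have hO := OddChar.orthFamily_of_system hS
  have hτ := hS.isometry
  set χc := Cfsg.conjFun χ with hχc
  have hχcS : χc ∈ S := hS.conj_mem χ hχ
  have hdiff : ∀ φ ∈ S, ∀ ψ ∈ S, φ - ψ ∈ Cfsg.zspanOn S {1}ᶜ := fun φ hφ ψ hψ =>
    OddChar.mem_zspanOn_one.mpr ⟨OddChar.zspan_sub_mem (OddChar.zspan_subset_apply hφ)
      (OddChar.zspan_subset_apply hψ), by simp [hdeg φ hφ ψ hψ]⟩
  obtain ⟨k, hk⟩ := Chars.exists_classInner_eq_nat (hS.isCharacter χ hχ) (hS.isCharacter χ hχ)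
  have hconj2 : ∀ φ : L → ℂ, Cfsg.conjFun (Cfsg.conjFun φ) = φ := fun φ =>
    funext fun x => by simp [Cfsg.conjFun]
  -- inner products with `τ (χ - ψ)`
  have hin : ∀ φ ∈ S, ∀ ψ ∈ S, φ ≠ χ → ψ ≠ χ →
      Cfsg.classInner (τ (χ - φ)) (τ (χ - ψ)) = (k : ℂ) + Cfsg.classInner φ ψ := by
    intro φ hφ ψ hψ h1 h2
    rw [hτ.2.2.1 _ (hdiff χ hχ φ hφ) _ (hdiff χ hχ ψ hψ), Chars.classInner_sub_left,
      Chars.classInner_sub_right, Chars.classInner_sub_right, hk, hS.orthogonal χ hχ ψ hψ h2.symm,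
      hS.orthogonal φ hφ χ hχ h1]
    ring
  have hDsum : τ (χ - χc) = ∑ r ∈ R χ, r := hS.sum_eq χ hχ
  have hcc : χc ≠ χ := hS.conj_ne χ hχ
  -- the anchor
  obtain ⟨X, hXg, hXn, hXψ⟩ : ∃ X : G → ℂ, Cfsg.IsGeneralizedCharacter G X ∧
      Cfsg.classInner X X = (k : ℂ) ∧
      ∀ ψ ∈ S, ψ ≠ χ → Cfsg.classInner X (τ (χ - ψ)) = (k : ℂ) := by
    by_cases hex : ∃ φ ∈ S, φ ≠ χ ∧ φ ≠ χc
    · obtain ⟨φ, hφ, hφ1, hφ2⟩ := hex
      set φc := Cfsg.conjFun φ with hφc
      have hφcS : φc ∈ S := hS.conj_mem φ hφ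
      have hφc1 : φc ≠ χ := fun h => hφ2 (by rw [hχc, ← h, hφc, hconj2])
      have hφc2 : φc ≠ χc := fun h => hφ1 (by rw [← hconj2 φ, ← hφc, h, hχc, hconj2])
      set β := τ (χ - φ) with hβ
      have hβg : Cfsg.IsGeneralizedCharacter G β := hτ.2.2.2 _ (hdiff χ hχ φ hφ)
      have e1 : Cfsg.classInner φ χ = 0 := hS.orthogonal φ hφ χ hχ hφ1
      have e2 : Cfsg.classInner φ χc = 0 := hS.orthogonal φ hφ χc hχcS hφ2
      have hsub : ∀ φ ψ : L → ℂ, φ ∈ S → ψ ∈ S →
          Cfsg.zspan ({φ - ψ, φ - Cfsg.conjFun φ} : Set (L → ℂ)) ⊆ Cfsg.zspanOn S {1}ᶜ := by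
        intro φ ψ hφ hψ x hx
        refine Submodule.span_induction (p := fun z _ => z ∈ Cfsg.zspanOn S {1}ᶜ) ?_
          (OddChar.zspanOn_zero_mem S) (fun z w _ _ => OddChar.zspanOn_add_mem)
          (fun n z _ hz => OddChar.zspanOn_zsmul_mem hz n) hx
        rintro z (rfl | rfl)
        · exact hdiff φ hφ ψ hψ
        · exact hdiff φ hφ _ (hS.conj_mem φ hφ)
      set X := OddChar.orthoProj (R χ) β with hX
      set Y := OddChar.orthoProj (R φ) β with hY
      obtain ⟨iXX, iβX⟩ := OddChar.orthoProj_self (hS.orthonormal χ hχ) β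
      obtain ⟨iYY, iβY⟩ := OddChar.orthoProj_self (hS.orthonormal φ hφ) β
      rw [← hX] at iXX iβX
      rw [← hY] at iYY iβY
      set sX : ℝ := ∑ r ∈ R χ, ‖Cfsg.classInner β r‖ ^ 2 with hsX
      set sY : ℝ := ∑ r ∈ R φ, ‖Cfsg.classInner β r‖ ^ 2 with hsY
      have hgeX : (k : ℝ) ≤ sX := by
        have h := (S1515.result S τ R hS χ hχ φ (OddChar.zspan_subset_apply hφ)
          (hS.orthogonal χ hχ φ hφ hφ1.symm) (hS.orthogonal χc hχcS φ hφ hφ2.symm) τ
          (OddChar.isometryOn_mono hτ (hsub χ φ hχ hφ)) (fun _ => rfl)).1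
        rwa [hk, Complex.natCast_re] at h
      obtain ⟨l, hl⟩ := Chars.exists_classInner_eq_nat (hS.isCharacter φ hφ) (hS.isCharacter φ hφ)
      have hgeY : (l : ℝ) ≤ sY := by
        have h := (S1515.result S τ R hS φ hφ χ (OddChar.zspan_subset_apply hχ) e1
          (hS.orthogonal φc hφcS χ hχ hφc1) τ
          (OddChar.isometryOn_mono hτ (hsub φ χ hφ hχ)) (fun _ => rfl)).1
        rw [hl, Complex.natCast_re] at h
        have hneg : τ (φ - χ) = -β := by
          rw [hβ, show φ - χ = (-1 : ℤ) • (χ - φ) by simp, hτ.2.1 _ (hdiff χ hχ φ hφ), neg_one_zsmul]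
        simpa [hneg, Chars.classInner_neg_left] using h
      have hRd : ∀ r ∈ R φ, ∀ s ∈ R χ, Cfsg.classInner r s = 0 := hS.disjoint χ hχ φ hφ e1 e2
      have iYX : Cfsg.classInner Y X = 0 := by
        refine OddChar.orthoProj_inner_eq_zero _ _ fun r hr => ?_
        rw [← Chars.classInner_conj_symm, OddChar.orthoProj_inner_eq_zero, map_zero]
        intro s hs; rw [← Chars.classInner_conj_symm, hRd r hr s hs, map_zero]
      have iββ : Cfsg.classInner β β = (((k : ℝ) + l : ℝ) : ℂ) := by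
        rw [hβ, hin φ hφ φ hφ hφ1 hφ1, hl]; push_cast; ring
      have iW : (Cfsg.classInner (β - X - Y) (β - X - Y)).re = (k : ℝ) + l - sX - sY := by
        have f1 : Cfsg.classInner X β = (sX : ℂ) := by
          rw [← Chars.classInner_conj_symm, iβX, Complex.conj_ofReal]
        have f2 : Cfsg.classInner Y β = (sY : ℂ) := by
          rw [← Chars.classInner_conj_symm, iβY, Complex.conj_ofReal]
        have f3 : Cfsg.classInner X Y = 0 := by rw [← Chars.classInner_conj_symm, iYX, map_zero]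
        simp only [Chars.classInner_sub_left, Chars.classInner_sub_right, iββ, iβX, iβY, iXX, iYY,
          iYX, f1, f2, f3, Complex.sub_re, Complex.ofReal_re, Complex.zero_re]
        ring
      have hW0 := OddChar.classInner_self_re_nonneg (β - X - Y)
      rw [iW] at hW0
      have hsXk : sX = k := by linarith
      have hβXY : β - X - Y = 0 :=
        OddChar.eq_zero_of_classInner_self_re (by rw [iW]; linarith)
      have hXβ : Cfsg.classInner X β = (k : ℂ) := by
        rw [← Chars.classInner_conj_symm, iβX, Complex.conj_ofReal, hsXk, Complex.ofReal_natCast]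
      refine ⟨X, OddChar.orthoProj_virt (hS.virtual χ hχ) hβg,
        by rw [iXX, hsXk, Complex.ofReal_natCast], fun ψ hψ hψ1 => ?_⟩
      by_cases h1 : ψ = φ
      · rw [h1]; exact hXβ
      by_cases h2 : ψ = χc
      · have h : Cfsg.classInner β (τ (χ - χc)) = (k : ℂ) := by
          rw [hβ, hin φ hφ χc hχcS hφ1 hcc, e2, add_zero]
        rw [h2, ← h, hDsum, hX, Chars.classInner_sum_right, Chars.classInner_sum_right]
        refine Finset.sum_congr rfl fun r hr => ?_
        rw [OddChar.orthoProj, Chars.classInner_sum_left,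
          Finset.sum_eq_single_of_mem r hr fun s hs h => by
            rw [Chars.classInner_smul_left, hS.orthonormal χ hχ s hs r hr, if_neg h, mul_zero]]
        rw [Chars.classInner_smul_left, hS.orthonormal χ hχ r hr r hr, if_pos rfl, mul_one]
      by_cases h3 : ψ = φc
      · have hsplit : χ - ψ = (χ - φ) + (φ - φc) := by rw [h3]; abel
        rw [hsplit, hτ.1 _ (hdiff χ hχ φ hφ) _ (hdiff φ hφ φc hφcS), Chars.classInner_add_right,
          hXβ, hS.sum_eq φ hφ, hX, OddChar.orthoProj_inner_eq_zero, add_zero]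
        intro s hs
        rw [Chars.classInner_sum_right]
        exact Finset.sum_eq_zero fun r hr => by
          rw [← Chars.classInner_conj_symm, hRd r hr s hs, map_zero]
      have hY' : Cfsg.classInner Y (τ (χ - ψ)) = 0 := by
        set γ := τ (χ - ψ) with hγ
        have g1 : Cfsg.classInner ψ χ = 0 := hS.orthogonal ψ hψ χ hχ hψ1
        set X' := OddChar.orthoProj (R χ) γ with hX'
        set Y' := OddChar.orthoProj (R ψ) γ with hY'
        obtain ⟨jXX, jγX⟩ := OddChar.orthoProj_self (hS.orthonormal χ hχ) γ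
        obtain ⟨jYY, jγY⟩ := OddChar.orthoProj_self (hS.orthonormal ψ hψ) γ
        rw [← hX'] at jXX jγX
        rw [← hY'] at jYY jγY
        have hψc1 : Cfsg.conjFun ψ ≠ χ := fun h => h2 (by rw [hχc, ← h, hconj2])
        obtain ⟨l', hl'⟩ := Chars.exists_classInner_eq_nat (hS.isCharacter ψ hψ) (hS.isCharacter ψ hψ)
        have hgX : (k : ℝ) ≤ ∑ r ∈ R χ, ‖Cfsg.classInner γ r‖ ^ 2 := by
          have h := (S1515.result S τ R hS χ hχ ψ (OddChar.zspan_subset_apply hψ)
            (hS.orthogonal χ hχ ψ hψ (Ne.symm hψ1)) (hS.orthogonal χc hχcS ψ hψ (Ne.symm h2)) τ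
            (OddChar.isometryOn_mono hτ (hsub χ ψ hχ hψ)) (fun _ => rfl)).1
          rwa [hk, Complex.natCast_re] at h
        have hgY : (l' : ℝ) ≤ ∑ r ∈ R ψ, ‖Cfsg.classInner γ r‖ ^ 2 := by
          have h := (S1515.result S τ R hS ψ hψ χ (OddChar.zspan_subset_apply hχ) g1
            (hS.orthogonal _ (hS.conj_mem ψ hψ) χ hχ hψc1) τ
            (OddChar.isometryOn_mono hτ (hsub ψ χ hψ hχ)) (fun _ => rfl)).1
          rw [hl', Complex.natCast_re] at h
          have hneg : τ (ψ - χ) = -γ := by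
            rw [hγ, show ψ - χ = (-1 : ℤ) • (χ - ψ) by simp, hτ.2.1 _ (hdiff χ hχ ψ hψ), neg_one_zsmul]
          simpa [hneg, Chars.classInner_neg_left] using h
        have hRd' : ∀ r ∈ R ψ, ∀ s ∈ R χ, Cfsg.classInner r s = 0 :=
          hS.disjoint χ hχ ψ hψ g1 (hS.orthogonal ψ hψ χc hχcS h2)
        have jYX : Cfsg.classInner Y' X' = 0 := by
          refine OddChar.orthoProj_inner_eq_zero _ _ fun r hr => ?_
          rw [← Chars.classInner_conj_symm, OddChar.orthoProj_inner_eq_zero, map_zero]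
          intro s hs; rw [← Chars.classInner_conj_symm, hRd' r hr s hs, map_zero]
        have f1 : Cfsg.classInner X' γ = ((∑ r ∈ R χ, ‖Cfsg.classInner γ r‖ ^ 2 : ℝ) : ℂ) := by
          rw [← Chars.classInner_conj_symm, jγX, Complex.conj_ofReal]
        have f2 : Cfsg.classInner Y' γ = ((∑ r ∈ R ψ, ‖Cfsg.classInner γ r‖ ^ 2 : ℝ) : ℂ) := by
          rw [← Chars.classInner_conj_symm, jγY, Complex.conj_ofReal]
        have f3 : Cfsg.classInner X' Y' = 0 := by rw [← Chars.classInner_conj_symm, jYX, map_zero]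
        have jγγ : Cfsg.classInner γ γ = (((k : ℝ) + l' : ℝ) : ℂ) := by
          rw [hγ, hin ψ hψ ψ hψ hψ1 hψ1, hl']; push_cast; ring
        have jz : γ - X' - Y' = 0 := by
          refine OddChar.eq_zero_of_classInner_self_re
            (le_antisymm ?_ (OddChar.classInner_self_re_nonneg _))
          simp only [Chars.classInner_sub_left, Chars.classInner_sub_right, jγγ, jγX, jγY, jXX, jYY,
            jYX, f1, f2, f3, Complex.sub_re, Complex.ofReal_re, Complex.zero_re]
          linarith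
        rw [sub_sub, sub_eq_zero] at jz
        rw [jz, Chars.classInner_add_right, hY, OddChar.orthoProj_inner_eq_zero,
          OddChar.orthoProj_inner_eq_zero, add_zero]
        · intro r hr
          rw [← Chars.classInner_conj_symm, OddChar.orthoProj_inner_eq_zero, map_zero]
          intro s hs
          have hψφ : Cfsg.classInner φ ψ = 0 := hS.orthogonal φ hφ ψ hψ (Ne.symm h1)
          have hψφc : Cfsg.classInner φ (Cfsg.conjFun ψ) = 0 :=
            hS.orthogonal φ hφ _ (hS.conj_mem ψ hψ) fun h => h3 (by rw [hφc, h, hconj2])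
          rw [← Chars.classInner_conj_symm, hS.disjoint ψ hψ φ hφ hψφ hψφc r hr s hs, map_zero]
        · intro r hr
          rw [← Chars.classInner_conj_symm, OddChar.orthoProj_inner_eq_zero, map_zero]
          intro s hs; rw [← Chars.classInner_conj_symm, hRd r hr s hs, map_zero]
      have hXeq : X = β - Y := by rw [← sub_eq_zero, ← neg_eq_zero, ← hβXY]; abel
      rw [hXeq, Chars.classInner_sub_left, hY', sub_zero, hβ, hin φ hφ ψ hψ hφ1 hψ1,
        hS.orthogonal φ hφ ψ hψ (Ne.symm h1), add_zero]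
    · push Not at hex
      have hortho := hS.orthonormal χ hχ
      have hcard : ((R χ).card : ℂ) = (k : ℂ) + k := by
        have h1 : Cfsg.classInner (τ (χ - χc)) (τ (χ - χc)) = (k : ℂ) + k := by
          rw [hin χc hχcS χc hχcS hcc hcc, hχc,
            OddChar.classInner_conjFun_self (hS.isCharacter χ hχ), hk]
        rw [← h1, hDsum, Chars.classInner_sum_left]
        rw [show ((R χ).card : ℂ) = ∑ _r ∈ R χ, (1 : ℂ) by simp]
        refine Finset.sum_congr rfl fun r hr => ?_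
        rw [Chars.classInner_sum_right, Finset.sum_eq_single_of_mem r hr fun s hs h => by
          rw [hortho r hr s hs, if_neg h.symm]]
        rw [hortho r hr r hr, if_pos rfl]
      have hcard' : (R χ).card = k + k := by exact_mod_cast hcard
      obtain ⟨T, hT, hTc⟩ := Finset.exists_subset_card_eq (s := R χ) (n := k) (by omega)
      have hone : ∀ U ⊆ R χ, T ⊆ U →
          Cfsg.classInner (∑ r ∈ T, r) (∑ r ∈ U, r) = (k : ℂ) := by
        intro U hU hTU
        rw [Chars.classInner_sum_left, ← hTc, show ((T.card : ℕ) : ℂ) = ∑ _r ∈ T, (1 : ℂ) by simp]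
        refine Finset.sum_congr rfl fun r hr => ?_
        rw [Chars.classInner_sum_right, Finset.sum_eq_single_of_mem r (hTU hr) fun s hs h => by
          rw [hortho r (hT hr) s (hU hs), if_neg h.symm]]
        rw [hortho r (hT hr) r (hT hr), if_pos rfl]
      refine ⟨∑ r ∈ T, r, OddChar.virt_sum _ _ fun r hr => hS.virtual χ hχ r (hT hr),
        hone T hT subset_rfl, fun ψ hψ h => ?_⟩
      rw [hex ψ hψ h, hDsum]
      exact hone _ subset_rfl hT
  set F := hO.finite.toFinset with hF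
  have hmemF : ∀ φ, φ ∈ F ↔ φ ∈ S := fun φ => hO.finite.mem_toFinset
  have hFS : (F : Set (L → ℂ)) = S := hO.finite.coe_toFinset
  let v : (L → ℂ) → (G → ℂ) := fun φ => X - τ (χ - φ)
  have h0 : τ (χ - χ) = 0 := by
    rw [sub_self]; exact OddChar.iso_map_zero hτ (OddChar.zspanOn_zero_mem S)
  have hv : ∀ φ ∈ F, Cfsg.IsGeneralizedCharacter G (v φ) := fun φ hφ =>
    OddChar.virt_sub hXg (hτ.2.2.2 _ (hdiff χ hχ φ ((hmemF φ).mp hφ)))
  have hsym : ∀ ψ ∈ S, ψ ≠ χ → Cfsg.classInner (τ (χ - ψ)) X = (k : ℂ) := fun ψ hψ h => by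
    rw [← Chars.classInner_conj_symm, hXψ ψ hψ h, map_natCast]
  have hgram : ∀ φ ∈ F, ∀ ψ ∈ F, Cfsg.classInner (v φ) (v ψ) = Cfsg.classInner φ ψ := by
    intro φ hφ ψ hψ
    rw [hmemF] at hφ hψ
    simp only [v]
    by_cases h1 : φ = χ <;> by_cases h2 : ψ = χ
    · rw [h1, h2, h0, sub_zero, hXn, hk]
    · rw [h1, h0, sub_zero, Chars.classInner_sub_right, hXn, hXψ ψ hψ h2, sub_self,
        hS.orthogonal χ hχ ψ hψ (Ne.symm h2)]
    · rw [h2, h0, sub_zero, Chars.classInner_sub_left, hXn, hsym φ hφ h1, sub_self,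
        hS.orthogonal φ hφ χ hχ h1]
    · rw [Chars.classInner_sub_left, Chars.classInner_sub_right, Chars.classInner_sub_right, hXn,
        hXψ ψ hψ h2, hsym φ hφ h1, hin φ hφ ψ hψ h1 h2]
      ring
  have hO' : OddChar.OrthFamily (F : Set (L → ℂ)) := by rw [hFS]; exact hO
  have hiso := OddChar.orthExtend_isometry hO' v hv hgram
  rw [hFS] at hiso
  refine ⟨⟨χ - χc, hdiff χ hχ χc hχcS, sub_ne_zero.mpr hcc.symm⟩, OddChar.orthExtend F v, hiso, ?_⟩
  intro α hα
  obtain ⟨hαs, hα1⟩ := OddChar.mem_zspanOn_one.mp hα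
  rw [← hFS] at hαs
  obtain ⟨c, hc⟩ := OddChar.exists_int_coords hαs
  have hsum0 : ∑ φ ∈ F, c φ = 0 := by
    have h1 : χ 1 ≠ 0 := OddChar.char_apply_one_ne_zero (hS.isCharacter χ hχ) (hO.ne_zero χ hχ)
    have h2 : ((∑ φ ∈ F, c φ : ℤ) : ℂ) * χ 1 = 0 := by
      rw [← hα1, hc, Finset.sum_apply, Int.cast_sum, Finset.sum_mul]
      refine Finset.sum_congr rfl fun φ hφ => ?_
      rw [Pi.smul_apply, zsmul_eq_mul, hdeg φ ((hmemF φ).mp hφ) χ hχ]
    exact_mod_cast (mul_eq_zero.mp h2).resolve_right h1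
  have hα' : α = ∑ φ ∈ F, (-c φ) • (χ - φ) := by
    simp only [smul_sub, neg_smul, sub_neg_eq_add, Finset.sum_add_distrib, Finset.sum_neg_distrib,
      ← Finset.sum_smul, hsum0, zero_smul, neg_zero, zero_add]
    exact hc
  rw [hα', OddChar.iso_map_sum hτ (OddChar.zspanOn_zero_mem S)
    (fun x hx y hy => OddChar.zspanOn_add_mem hx hy) F _
    (fun φ hφ => OddChar.zspanOn_zsmul_mem (hdiff χ hχ φ ((hmemF φ).mp hφ)) _), map_sum]
  refine Finset.sum_congr rfl fun φ hφ => ?_
  rw [hτ.2.1 _ (hdiff χ hχ φ ((hmemF φ).mp hφ)), map_zsmul, map_sub,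
    OddChar.orthExtend_apply hO' v ((hmemF χ).mpr hχ), OddChar.orthExtend_apply hO' v hφ]
  simp only [v, h0, sub_zero, sub_sub_cancel]

end Cfsg.Agent.S1517
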