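import Cfsg.Statements.S1531
import Cfsg.Agent.OddChar.Coherence
import Cfsg.Agent.OddChar.Signed
import Mathlib.Tactic.Module

set_option autoImplicit false
open Cfsg

namespace Cfsg.Agent.S1531

/-- Let N be a subgroup of the finite group G, S a set of irreducible characters of N, and α a linear isometry on the integer combinations of S vanishing at 1 with values virtual characters of G vanishing at 1. Let X, Y ⊆ S be disjoint, each with at least two members, and σ, τ linear isometries on ℤ[X], ℤ[Y] into virtual characters agreeing with α on the members vanishing at 1. Then ⟨σ χ, τ η⟩ = 0 for χ ∈ X, η ∈ Y; and if for some χ₀ ∈ X, η₀ ∈ Y with degrees c = χ₀ 1, e = η₀ 1 one has α (c • η₀ − e • χ₀) = c • τ η₀ − e • σ χ₀, then (X ∪ Y, N minus 1, α) is coherent. -/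
theorem result {G : Type*} [Group G] [Fintype G] (N : Subgroup G) [Fintype N] (S X Y : Set (N → ℂ)) (hirr : ∀ ξ ∈ S, Cfsg.IsIrrCharacter N ξ) (hXS : X ⊆ S) (hYS : Y ⊆ S) (hXY : Disjoint X Y) (hX2 : ∃ a ∈ X, ∃ b ∈ X, a ≠ b) (hY2 : ∃ a ∈ Y, ∃ b ∈ Y, a ≠ b) (α : (N → ℂ) → (G → ℂ)) (hα : Cfsg.IsLinearIsometryOn (Cfsg.zspanOn S {1}ᶜ) α) (hα1 : ∀ θ ∈ Cfsg.zspanOn S {1}ᶜ, α θ 1 = 0) (σ τ : (N → ℂ) → (G → ℂ)) (hσ : Cfsg.IsLinearIsometryOn (Cfsg.zspan X) σ) (hσα : ∀ θ ∈ Cfsg.zspanOn X {1}ᶜ, σ θ = α θ) (hτ : Cfsg.IsLinearIsometryOn (Cfsg.zspan Y) τ) (hτα : ∀ θ ∈ Cfsg.zspanOn Y {1}ᶜ, τ θ = α θ) : (∀ χ ∈ X, ∀ η ∈ Y, Cfsg.classInner (σ χ) (τ η) = 0) ∧ ((∃ χ₀ ∈ X, ∃ η₀ ∈ Y, α (χ₀ 1 • η₀ - η₀ 1 • χ₀) = χ₀ 1 • τ η₀ - η₀ 1 • σ χ₀) → Cfsg.IsCoherent (X ∪ Y) {1}ᶜ α) := by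
  classical
  have hmX : ∀ χ ∈ X, χ ∈ Cfsg.zspan X := fun χ h => OddChar.zspan_subset_apply h
  have hmY : ∀ χ ∈ Y, χ ∈ Cfsg.zspan Y := fun χ h => OddChar.zspan_subset_apply h
  choose d hd0 hd using fun (χ : N → ℂ) (h : χ ∈ S) => Chars.exists_irr_apply_one_eq (hirr χ h)
  -- degree-zero combinations of two members
  have hmix : ∀ (Z : Set (N → ℂ)) (hZ : Z ⊆ S) (ρ : (N → ℂ) → (G → ℂ)),
      Cfsg.IsLinearIsometryOn (Cfsg.zspan Z) ρ → (∀ θ ∈ Cfsg.zspanOn Z {1}ᶜ, ρ θ = α θ) →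
      ∀ a (ha : a ∈ Z), ∀ b (hb : b ∈ Z),
        ((d b (hZ hb) : ℤ) • a - (d a (hZ ha) : ℤ) • b) ∈ Cfsg.zspanOn Z {1}ᶜ ∧
        α ((d b (hZ hb) : ℤ) • a - (d a (hZ ha) : ℤ) • b) =
          (((d b (hZ hb) : ℝ)) : ℂ) • ρ a - (((d a (hZ ha) : ℝ)) : ℂ) • ρ b := by
    intro Z hZ ρ hρ hρα a ha b hb
    have h2 : (d a (hZ ha) : ℤ) • b ∈ Cfsg.zspan Z :=
      OddChar.zspan_zsmul_mem (OddChar.zspan_subset_apply hb) _
    have hm : ((d b (hZ hb) : ℤ) • a - (d a (hZ ha) : ℤ) • b) ∈ Cfsg.zspanOn Z {1}ᶜ :=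
      OddChar.mem_zspanOn_one.mpr ⟨OddChar.zspan_sub_mem
        (OddChar.zspan_zsmul_mem (OddChar.zspan_subset_apply ha) _) h2,
        by simp [hd a (hZ ha), hd b (hZ hb), mul_comm]⟩
    refine ⟨hm, ?_⟩
    rw [← hρα _ hm, OddChar.iso_map_sub hρ hm.1 h2, hρ.2.1 a (OddChar.zspan_subset_apply ha),
      hρ.2.1 b (OddChar.zspan_subset_apply hb), ← Int.cast_smul_eq_zsmul ℂ,
      ← Int.cast_smul_eq_zsmul ℂ, Int.cast_natCast, Int.cast_natCast, Complex.ofReal_natCast,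
      Complex.ofReal_natCast]
  have horth : ∀ χ ∈ X, ∀ η ∈ Y, Cfsg.classInner (σ χ) (τ η) = 0 := by
    intro χ hχ η hη
    obtain ⟨χ', hχ', hne⟩ : ∃ b ∈ X, χ ≠ b := by
      obtain ⟨a, ha, b, hb, hab⟩ := hX2
      by_cases h : χ = a
      · exact ⟨b, hb, h ▸ hab⟩
      · exact ⟨a, ha, h⟩
    obtain ⟨η', hη', hne'⟩ : ∃ b ∈ Y, η ≠ b := by
      obtain ⟨a, ha, b, hb, hab⟩ := hY2
      by_cases h : η = a
      · exact ⟨b, hb, h ▸ hab⟩
      · exact ⟨a, ha, h⟩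
    obtain ⟨m1, e1⟩ := hmix X hXS σ hσ hσα χ hχ χ' hχ'
    obtain ⟨m2, e2⟩ := hmix Y hYS τ hτ hτα η hη η' hη'
    have z1 := hα1 _ (OddChar.zspanOn_mono hXS m1)
    have z2 := hα1 _ (OddChar.zspanOn_mono hYS m2)
    rw [e1, Pi.sub_apply, sub_eq_zero] at z1
    rw [e2, Pi.sub_apply, sub_eq_zero] at z2
    have hsig : ∀ χ ∈ X, OddChar.IsSigned (σ χ) := fun χ h => OddChar.virt_norm_one
      (hσ.2.2.2 χ (hmX χ h)) (by
        rw [hσ.2.2.1 χ (hmX χ h) χ (hmX χ h), Chars.classInner_self_irr (hirr χ (hXS h))])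
    have htau : ∀ χ ∈ Y, OddChar.IsSigned (τ χ) := fun χ h => OddChar.virt_norm_one
      (hτ.2.2.2 χ (hmY χ h)) (by
        rw [hτ.2.2.1 χ (hmY χ h) χ (hmY χ h), Chars.classInner_self_irr (hirr χ (hYS h))])
    have hxy : ∀ a ∈ X, ∀ b ∈ Y, Cfsg.classInner a b = 0 := fun a ha b hb =>
      Chars.classInner_irr_of_ne (hirr a (hXS ha)) (hirr b (hYS hb))
        fun h => Set.disjoint_left.mp hXY ha (h ▸ hb)
    refine (OddChar.signed_orth_core (hsig χ hχ) (hsig χ' hχ') (htau η hη) (htau η' hη')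
      (s := (d χ' (hXS hχ') : ℝ)) (t := (d χ (hXS hχ) : ℝ))
      (u := (d η' (hYS hη') : ℝ)) (v := (d η (hYS hη) : ℝ))
      (by exact_mod_cast (hd0 _ _).ne') (by exact_mod_cast (hd0 _ _).ne')
      (by exact_mod_cast (hd0 _ _).ne') (by exact_mod_cast (hd0 _ _).ne') ?_ ?_ ?_ z1 z2)
    · rw [hσ.2.2.1 χ (hmX χ hχ) χ' (hmX χ' hχ'),
        Chars.classInner_irr_of_ne (hirr χ (hXS hχ)) (hirr χ' (hXS hχ')) hne]
    · rw [hτ.2.2.1 η (hmY η hη) η' (hmY η' hη'),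
        Chars.classInner_irr_of_ne (hirr η (hYS hη)) (hirr η' (hYS hη')) hne']
    · rw [← e1, ← e2, hα.2.2.1 _ (OddChar.zspanOn_mono hXS m1) _ (OddChar.zspanOn_mono hYS m2)]
      simp only [Chars.classInner_sub_left, Chars.classInner_sub_right,
        OddChar.classInner_zsmul_left, OddChar.classInner_zsmul_right, hxy χ hχ η hη,
        hxy χ hχ η' hη', hxy χ' hχ' η hη, hxy χ' hχ' η' hη', mul_zero, sub_zero]
  refine ⟨horth, ?_⟩
  rintro ⟨χ₀, hχ₀, η₀, hη₀, hrel⟩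
  have hsub : X ∪ Y ⊆ S := Set.union_subset hXS hYS
  have hO : OddChar.OrthFamily (X ∪ Y) := OddChar.orthFamily_of_irr fun φ h => hirr φ (hsub h)
  set F := hO.finite.toFinset with hF
  have hFS : (F : Set (N → ℂ)) = X ∪ Y := hO.finite.coe_toFinset
  have hO' : OddChar.OrthFamily (F : Set (N → ℂ)) := by rw [hFS]; exact hO
  have hmemF : ∀ φ, φ ∈ F ↔ φ ∈ X ∪ Y := fun φ => hO.finite.mem_toFinset
  let v : (N → ℂ) → (G → ℂ) := fun φ => if φ ∈ X then σ φ else τ φ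
  have hvX : ∀ φ ∈ X, v φ = σ φ := fun φ h => if_pos h
  have hvY : ∀ φ ∈ Y, v φ = τ φ := fun φ h => if_neg fun h' => Set.disjoint_left.mp hXY h' h
  have hv : ∀ φ ∈ F, Cfsg.IsGeneralizedCharacter G (v φ) := by
    intro φ hφ
    rcases (hmemF φ).mp hφ with h | h
    · rw [hvX φ h]; exact hσ.2.2.2 φ (hmX φ h)
    · rw [hvY φ h]; exact hτ.2.2.2 φ (hmY φ h)
  have hgram : ∀ φ ∈ F, ∀ ψ ∈ F, Cfsg.classInner (v φ) (v ψ) = Cfsg.classInner φ ψ := by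
    intro φ hφ ψ hψ
    rcases (hmemF φ).mp hφ with h | h <;> rcases (hmemF ψ).mp hψ with h' | h'
    · rw [hvX φ h, hvX ψ h', hσ.2.2.1 φ (hmX φ h) ψ (hmX ψ h')]
    · rw [hvX φ h, hvY ψ h', horth φ h ψ h', Chars.classInner_irr_of_ne (hirr φ (hXS h))
        (hirr ψ (hYS h')) fun he => Set.disjoint_left.mp hXY h (he ▸ h')]
    · rw [hvY φ h, hvX ψ h', ← Chars.classInner_conj_symm, horth ψ h' φ h, map_zero,
        Chars.classInner_irr_of_ne (hirr φ (hYS h)) (hirr ψ (hXS h'))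
          fun he => Set.disjoint_left.mp hXY (he ▸ h') h]
    · rw [hvY φ h, hvY ψ h', hτ.2.2.1 φ (hmY φ h) ψ (hmY ψ h')]
  have hiso := OddChar.orthExtend_isometry hO' v hv hgram
  rw [hFS] at hiso
  set T := OddChar.orthExtend F v with hT
  have hTX : ∀ θ ∈ Cfsg.zspan X, T θ = σ θ := by
    intro θ hθ
    refine (Submodule.span_induction (p := fun z hz => T z = σ z) ?_ ?_ ?_ ?_ hθ)
    · intro z hz; rw [hT, OddChar.orthExtend_apply hO' v ((hmemF z).mpr (Or.inl hz)), hvX z hz]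
    · rw [map_zero, OddChar.iso_map_zero hσ (OddChar.zspan_zero_mem X)]
    · intro z w hz hw h1 h2; rw [map_add, hσ.1 z hz w hw, h1, h2]
    · intro n z hz h1; rw [map_zsmul, hσ.2.1 z hz n, h1]
  have hTY : ∀ θ ∈ Cfsg.zspan Y, T θ = τ θ := by
    intro θ hθ
    refine (Submodule.span_induction (p := fun z hz => T z = τ z) ?_ ?_ ?_ ?_ hθ)
    · intro z hz; rw [hT, OddChar.orthExtend_apply hO' v ((hmemF z).mpr (Or.inr hz)), hvY z hz]
    · rw [map_zero, OddChar.iso_map_zero hτ (OddChar.zspan_zero_mem Y)]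
    · intro z w hz hw h1 h2; rw [map_add, hτ.1 z hz w hw, h1, h2]
    · intro n z hz h1; rw [map_zsmul, hτ.2.1 z hz n, h1]
  obtain ⟨a, ha, b, hb, hab⟩ := hX2
  have hmne : ((d b (hXS hb) : ℤ) • a - (d a (hXS ha) : ℤ) • b) ≠ 0 := by
    intro h
    have h1 := congrArg (fun f => Cfsg.classInner f a) h
    simp only [Chars.classInner_sub_left, OddChar.classInner_zsmul_left,
      Chars.classInner_self_irr (hirr a (hXS ha)),
      Chars.classInner_irr_of_ne (hirr b (hXS hb)) (hirr a (hXS ha)) hab.symm, mul_zero, mul_one,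
      sub_zero, Chars.classInner_zero_left] at h1
    exact (hd0 b (hXS hb)).ne' (by exact_mod_cast h1)
  refine ⟨⟨_, OddChar.zspanOn_mono Set.subset_union_left (hmix X hXS σ hσ hσα a ha b hb).1, hmne⟩,
    T, hiso, fun γ hγ => ?_⟩
  obtain ⟨hγs, hγ1⟩ := OddChar.mem_zspanOn_one.mp hγ
  obtain ⟨γX, hγX, γY, hγY, rfl⟩ : ∃ p ∈ Cfsg.zspan X, ∃ q ∈ Cfsg.zspan Y, p + q = γ := by
    have h : γ ∈ Submodule.span ℤ X ⊔ Submodule.span ℤ Y := by rwa [← Submodule.span_union]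
    exact Submodule.mem_sup.mp h
  obtain ⟨x, hx⟩ := OddChar.virt_apply_one (OddChar.virt_of_mem_zspan
    (fun φ h => OddChar.virt_of_irr (hirr φ (hXS h))) hγX)
  have hy : γY 1 = -(x : ℂ) := by
    rw [Pi.add_apply, hx] at hγ1; linear_combination hγ1
  set e0 : ℤ := (d η₀ (hYS hη₀) : ℤ) with he0
  set d0 : ℤ := (d χ₀ (hXS hχ₀) : ℤ) with hd0'
  have hd1 : χ₀ 1 = (d0 : ℂ) := by rw [hd χ₀ (hXS hχ₀), hd0']; simp
  have he1 : η₀ 1 = (e0 : ℂ) := by rw [hd η₀ (hYS hη₀), he0]; simp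
  set A := d0 • γX - x • χ₀ with hA
  set B := e0 • γY + x • η₀ with hB
  set C := d0 • η₀ - e0 • χ₀ with hC
  have hAm : A ∈ Cfsg.zspanOn X {1}ᶜ := OddChar.mem_zspanOn_one.mpr
    ⟨OddChar.zspan_sub_mem (OddChar.zspan_zsmul_mem hγX _) (OddChar.zspan_zsmul_mem (hmX χ₀ hχ₀) _),
      by simp [hA, hx, hd1, mul_comm]⟩
  have hBm : B ∈ Cfsg.zspanOn Y {1}ᶜ := OddChar.mem_zspanOn_one.mpr
    ⟨OddChar.zspan_add_mem (OddChar.zspan_zsmul_mem hγY _) (OddChar.zspan_zsmul_mem (hmY η₀ hη₀) _),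
      by simp [hB, hy, he1, mul_comm]⟩
  have hCm : C ∈ Cfsg.zspanOn S {1}ᶜ := OddChar.mem_zspanOn_one.mpr
    ⟨OddChar.zspan_sub_mem (OddChar.zspan_zsmul_mem (OddChar.zspan_subset_apply (hYS hη₀)) _)
      (OddChar.zspan_zsmul_mem (OddChar.zspan_subset_apply (hXS hχ₀)) _),
      by simp [hC, hd1, he1, mul_comm]⟩
  have hTC : T C = α C := by
    have hC' : C = χ₀ 1 • η₀ - η₀ 1 • χ₀ := by
      rw [hC, hd1, he1, Int.cast_smul_eq_zsmul, Int.cast_smul_eq_zsmul]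
    rw [hC', hrel, map_sub, map_smul, map_smul, hTY η₀ (hmY η₀ hη₀), hTX χ₀ (hmX χ₀ hχ₀)]
  have hAS := OddChar.zspanOn_mono hXS hAm
  have hBS := OddChar.zspanOn_mono hYS hBm
  have hkey : (d0 * e0) • (γX + γY) = e0 • A + d0 • B + (-x) • C := by
    rw [hA, hB, hC]; module
  have hγS := OddChar.zspanOn_mono hsub hγ
  have h := congrArg α hkey
  rw [hα.2.1 _ hγS, hα.1 _ (OddChar.zspanOn_add_mem (OddChar.zspanOn_zsmul_mem hAS _)
    (OddChar.zspanOn_zsmul_mem hBS _)) _ (OddChar.zspanOn_zsmul_mem hCm _),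
    hα.1 _ (OddChar.zspanOn_zsmul_mem hAS _) _ (OddChar.zspanOn_zsmul_mem hBS _), hα.2.1 _ hAS,
    hα.2.1 _ hBS, hα.2.1 _ hCm, ← hσα A hAm, ← hτα B hBm, ← hTX A hAm.1, ← hTY B hBm.1, ← hTC,
    ← map_zsmul, ← map_zsmul, ← map_zsmul, ← map_add, ← map_add, ← hkey, map_zsmul] at h
  have hne : (d0 * e0 : ℤ) ≠ 0 := mul_ne_zero
    (by rw [hd0']; exact_mod_cast (hd0 _ _).ne') (by rw [he0]; exact_mod_cast (hd0 _ _).ne')
  exact (smul_right_injective (G → ℂ) hne h).symm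

end Cfsg.Agent.S1531
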