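import Cfsg.Statements.S1519
import Cfsg.Agent.OddChar.InducedSet

set_option autoImplicit false
open Cfsg

namespace Cfsg.Agent.S1519

/-- Let K be a solvable normal subgroup of the finite group L and (S, τ, R) a coherence system from L to G where S is the set of functions induced from non-principal irreducible characters of K; write S(A) for those induced from characters whose kernel contains A. Let A, B, C, D be normal subgroups of L with A < K, B < K, B ≤ D ≤ C ≤ K and every commutator of D with C in B. If S(A) is coherent and 4 * [L:C]^2 * [C:D] < ([K:A] − 1)^2, then S(B) is coherent. -/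
theorem result {L : Type*} [Group L] [Fintype L] {G : Type*} [Group G] [Fintype G] (K : Subgroup L) [hK : K.Normal] (hsolv : Group.IsSolvable K) (τ : (L → ℂ) → (G → ℂ)) (R : (L → ℂ) → Finset (G → ℂ)) (hS : Cfsg.IsCoherenceSystem (Cfsg.inducedIrrAbove K ⊥) τ R) (A B C D : Subgroup L) [A.Normal] [B.Normal] [C.Normal] [D.Normal] (hAK : A < K) (hBK : B < K) (hBD : B ≤ D) (hDC : D ≤ C) (hCK : C ≤ K) (hcent : ∀ x ∈ D, ∀ y ∈ C, x * y * x⁻¹ * y⁻¹ ∈ B) (hA : Cfsg.IsCoherent (Cfsg.inducedIrrAbove K A) {1}ᶜ τ) (hlt : 4 * C.index ^ 2 * D.relIndex C < (A.relIndex K - 1) ^ 2) : Cfsg.IsCoherent (Cfsg.inducedIrrAbove K B) {1}ᶜ τ := by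
  classical
  have hsys : ∀ X : Subgroup L, X < K → X.Normal →
      Cfsg.IsCoherenceSystem (Cfsg.inducedIrrAbove K X) τ R := fun X hX hXn => by
    haveI := hXn
    obtain ⟨φ, hφ, -⟩ := OddChar.exists_linear_above K hsolv X hX
    exact OddChar.system_restrict hS (OddChar.indAbove_subset_bot K X) ⟨φ, hφ⟩
      fun χ hχ => OddChar.indAbove_conj_mem K X hχ
  obtain ⟨φ₁, hφ₁, hd₁⟩ := OddChar.exists_linear_above K hsolv A hAK
  set S₁ := OddChar.indSet K (OddChar.aboveSet K A) with hS₁def
  set T := OddChar.indSet K (OddChar.aboveSet K B) with hTdef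
  have hS₁ : (↑S₁ : Set (L → ℂ)) = Cfsg.inducedIrrAbove K A := OddChar.coe_indSet_aboveSet K A
  have hT : (↑T : Set (L → ℂ)) = Cfsg.inducedIrrAbove K B := OddChar.coe_indSet_aboveSet K B
  have hw : OddChar.weight S₁ = (K.index : ℝ) * ((A.relIndex K : ℝ) - 1) :=
    OddChar.weight_indAbove K A hAK.le
  have h := OddChar.coherent_extend hS S₁ (by rw [hS₁]; exact OddChar.indAbove_subset_bot K A)
    (fun φ hφ => by
      rw [← Finset.mem_coe, hS₁] at hφ ⊢
      exact OddChar.indAbove_conj_mem K A hφ)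
    (by rw [hS₁]; exact hA) (by rw [← Finset.mem_coe, hS₁]; exact hφ₁) T
    (by rw [hT]; exact OddChar.indAbove_subset_bot K B)
    (fun φ hφ => by
      rw [← Finset.mem_coe, hT] at hφ ⊢
      exact OddChar.indAbove_conj_mem K B hφ) ?_
  · refine OddChar.coherent_subsystem (hsys B hBK inferInstance) h ?_
    rw [Finset.coe_union, hT]
    exact Set.subset_union_right
  · intro χ hχ
    right
    rw [← Finset.mem_coe, hT] at hχ
    obtain ⟨θ, hθ, -, hθB, rfl⟩ := hχ
    have hθc := Chars.isCharacter_of_isIrr hθ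
    rw [OddChar.deg_indFun K hθc, hd₁]
    refine ⟨dvd_mul_right _ _, ?_⟩
    have hb := S1492.result θ hθ (B.subgroupOf K) (C.subgroupOf K) (D.subgroupOf K)
      (fun x hx => hBD hx) (fun x hx => hDC hx)
      (fun c _ b hb => (inferInstance : B.Normal).conj_mem _ hb (c : L))
      (fun d hd c hc => hcent _ hd _ hc) (fun b hb => hθB b hb)
    rw [OddChar.deg_spec hθc, Complex.norm_natCast,
      Nat.card_congr (Subgroup.subgroupOfEquivOfLe hCK).toEquiv,
      Nat.card_congr (Subgroup.subgroupOfEquivOfLe (hDC.trans hCK)).toEquiv] at hb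
    have hL : (K.index : ℝ) * Nat.card K = Nat.card L := by exact_mod_cast K.index_mul_card
    have hC : (C.index : ℝ) * Nat.card C = Nat.card L := by exact_mod_cast C.index_mul_card
    have hD : (Nat.card D : ℝ) * D.relIndex C = Nat.card C := by
      have h0 := (D.subgroupOf C).card_mul_index
      rw [Nat.card_congr (Subgroup.subgroupOfEquivOfLe hDC).toEquiv] at h0
      exact_mod_cast h0
    have hCpos : (0 : ℝ) < Nat.card C := by exact_mod_cast Nat.card_pos
    have hDpos : (0 : ℝ) < Nat.card D := by exact_mod_cast Nat.card_pos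
    set d : ℝ := (K.index : ℝ) * (OddChar.deg θ : ℝ) with hd
    have h1 : d ^ 2 * (Nat.card C * Nat.card D) ≤
        (C.index : ℝ) ^ 2 * D.relIndex C * (Nat.card C * Nat.card D) := by
      have h2 := mul_le_mul_of_nonneg_left hb (sq_nonneg (K.index : ℝ))
      calc d ^ 2 * (Nat.card C * Nat.card D)
          = (K.index : ℝ) ^ 2 * ((OddChar.deg θ : ℝ) ^ 2 * Nat.card C * Nat.card D) := by
            rw [hd]; ring
        _ ≤ (K.index : ℝ) ^ 2 * (Nat.card K : ℝ) ^ 2 := h2
        _ = (Nat.card L : ℝ) ^ 2 := by rw [← hL]; ring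
        _ = (C.index : ℝ) ^ 2 * ((Nat.card D : ℝ) * D.relIndex C) * Nat.card C := by
            rw [← hC, hD]; ring
        _ = _ := by ring
    have h2 := le_of_mul_le_mul_right h1 (mul_pos hCpos hDpos)
    have hA1 : 1 ≤ A.relIndex K := Nat.one_le_iff_ne_zero.mpr Subgroup.index_ne_zero_of_finite
    have h3 : 4 * ((C.index : ℝ) ^ 2 * D.relIndex C) < ((A.relIndex K : ℝ) - 1) ^ 2 := by
      have := (Nat.cast_lt (α := ℝ)).mpr hlt
      push_cast [Nat.cast_sub hA1] at this
      linarith
    have h4 : 2 * d < (A.relIndex K : ℝ) - 1 := by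
      have h5 : (1 : ℝ) ≤ A.relIndex K := by exact_mod_cast hA1
      refine lt_of_pow_lt_pow_left₀ 2 (by linarith) ?_
      linarith [h2, h3]
    rw [hw]
    have he : (0 : ℝ) < K.index := by
      exact_mod_cast Nat.pos_of_ne_zero Subgroup.index_ne_zero_of_finite
    calc (2 * ((K.index * OddChar.deg θ : ℕ) : ℝ) * (K.index : ℝ))
        = (K.index : ℝ) * (2 * d) := by rw [hd]; push_cast; ring
      _ < _ := mul_lt_mul_of_pos_left h4 he

end Cfsg.Agent.S1519
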