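import Cfsg.Statements.S1520
import Cfsg.Agent.S1519

set_option autoImplicit false
open Cfsg

namespace Cfsg.Agent.S1520

/-- Let K be a solvable normal subgroup of the finite group L and (S, τ, R) a coherence system from L to G with S the functions induced from non-principal irreducible characters of K; S(A) the members of S induced from characters whose kernel contains A. Let M ≤ H₁ ≤ H ≤ K be normal subgroups of L such that every term of the lower central series of H eventually lies in M (H/M nilpotent), S(H₁) is coherent and [H:H₁] > 4 * [L:K]^2 + 1. Then S(M) is coherent. -/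
theorem result {L : Type*} [Group L] [Fintype L] {G : Type*} [Group G] [Fintype G] (K : Subgroup L) [hK : K.Normal] (hsolv : Group.IsSolvable K) (τ : (L → ℂ) → (G → ℂ)) (R : (L → ℂ) → Finset (G → ℂ)) (hS : Cfsg.IsCoherenceSystem (Cfsg.inducedIrrAbove K ⊥) τ R) (M H₁ H : Subgroup L) [M.Normal] [H₁.Normal] [H.Normal] (hMH₁ : M ≤ H₁) (hH₁H : H₁ ≤ H) (hHK : H ≤ K) [(M.subgroupOf H).Normal] (hnil : Group.IsNilpotent (↥H ⧸ M.subgroupOf H)) (hcoh : Cfsg.IsCoherent (Cfsg.inducedIrrAbove K H₁) {1}ᶜ τ) (hbig : 4 * K.index ^ 2 + 1 < H₁.relIndex H) : Cfsg.IsCoherent (Cfsg.inducedIrrAbove K M) {1}ᶜ τ := by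
  classical
  obtain ⟨n, hn⟩ : ∃ n, (H.lowerCentralSeries n) ≤ M := by
    haveI := hnil
    obtain ⟨n, hn⟩ := Subgroup.nilpotent_iff_lowerCentralSeries.mp hnil
    refine ⟨n, ?_⟩
    have h1 := Subgroup.lowerCentralSeries.map (QuotientGroup.mk' (M.subgroupOf H)) n
    rw [hn, le_bot_iff,
      Subgroup.map_eq_bot_iff, QuotientGroup.ker_mk'] at h1
    rw [← Subgroup.top_subtype_lowerCentralSeries H n]
    rintro x ⟨y, hy, rfl⟩
    exact h1 hy
  have hH₁H' : H₁ < H := lt_of_le_of_ne hH₁H fun h => by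
    rw [h, Subgroup.relIndex_self] at hbig
    omega
  obtain ⟨A, hAP⟩ := exists_minimal_of_wellFoundedLT (P := fun A : Subgroup L =>
    A.Normal ∧ M ≤ A ∧ A ≤ H₁ ∧ Cfsg.IsCoherent (Cfsg.inducedIrrAbove K A) {1}ᶜ τ)
    ⟨H₁, inferInstance, hMH₁, le_rfl, hcoh⟩
  obtain ⟨⟨hAn, hMA, hAH₁, hAc⟩, hmin⟩ := hAP
  haveI := hAn
  by_cases hAM : A = M
  · rwa [← hAM]
  obtain ⟨B, ⟨hBn, hMB, hBA⟩, hBmax⟩ := exists_maximal_of_wellFoundedGT
    (P := fun B : Subgroup L => B.Normal ∧ M ≤ B ∧ B < A)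
    ⟨M, inferInstance, le_rfl, lt_of_le_of_ne hMA (Ne.symm hAM)⟩
  haveI := hBn
  have hAH : A ≤ H := hAH₁.trans hH₁H
  have hle : ⁅A, H⁆ ⊔ B ≤ A := sup_le (Subgroup.commutator_le_left A H) hBA.le
  have hne : ⁅A, H⁆ ⊔ B ≠ A := by
    intro heq
    have hind : ∀ k, A ≤ H.lowerCentralSeries k ⊔ B := by
      intro k
      induction k with
      | zero => exact le_trans hAH le_sup_left
      | succ k ih =>
        conv_lhs => rw [← heq]
        refine sup_le ?_ le_sup_right
        rw [Subgroup.commutator_le]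
        intro x hx y hy
        obtain ⟨a, ha, b, hb, rfl⟩ := Subgroup.mem_sup_of_normal_right.mp (ih hx)
        have hr : a * y * a⁻¹ * y⁻¹ ∈ H.lowerCentralSeries (k + 1) := by
          rw [Subgroup.lowerCentralSeries_succ]
          exact Subgroup.commutator_mem_commutator ha hy
        have hb' : b * y * b⁻¹ * y⁻¹ ∈ B := Subgroup.commutator_le_left B H (Subgroup.commutator_mem_commutator hb hy)
        have he : a * b * y * (a * b)⁻¹ * y⁻¹ =
            a * (b * y * b⁻¹ * y⁻¹) * a⁻¹ * (a * y * a⁻¹ * y⁻¹) := by group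
        rw [commutatorElement_def, he]
        exact Subgroup.mul_mem _ (Subgroup.mem_sup_right (hBn.conj_mem _ hb' a))
          (Subgroup.mem_sup_left hr)
    exact hBA.not_ge ((hind n).trans (sup_le (hn.trans hMB) le_rfl))
  haveI : (⁅A, H⁆ ⊔ B).Normal := inferInstance
  have hcom : ⁅A, H⁆ ≤ B :=
    le_sup_left.trans (hBmax ⟨inferInstance, hMB.trans le_sup_right, lt_of_le_of_ne hle hne⟩ le_sup_right)
  have hAK : A < K := lt_of_le_of_lt hAH₁ (lt_of_lt_of_le hH₁H' hHK)
  refine absurd (hmin ⟨hBn, hMB, hBA.le.trans hAH₁, ?_⟩ hBA.le) hBA.not_ge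
  refine S1519.result K hsolv τ R hS A B H A hAK (hBA.trans hAK) hBA.le hAH hHK
    (fun x hx y hy => hcom (Subgroup.commutator_mem_commutator hx hy)) hAc ?_
  have e1 := Subgroup.relIndex_mul_index hHK
  have e2 := Subgroup.relIndex_mul_relIndex A H K hAH hHK
  have e3 := Subgroup.relIndex_mul_relIndex A H₁ H hAH₁ hH₁H
  have hk : 0 < H.relIndex K := Nat.pos_of_ne_zero Subgroup.index_ne_zero_of_finite
  have hm : 0 < A.relIndex H₁ := Nat.pos_of_ne_zero Subgroup.index_ne_zero_of_finite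
  have hh : 4 * K.index ^ 2 + 2 ≤ A.relIndex H := by
    rw [← e3]
    exact le_trans hbig (Nat.le_mul_of_pos_left _ hm)
  rw [← e1, ← e2]
  set k := H.relIndex K with hkdef
  set a := A.relIndex H with hadef
  set e := K.index with hedef
  obtain ⟨m, hm'⟩ : ∃ m, a * k = m + 1 :=
    ⟨a * k - 1, (Nat.succ_pred_eq_of_pos (Nat.mul_pos (by omega) hk)).symm⟩
  rw [hm', Nat.add_sub_cancel]
  nlinarith [Nat.mul_le_mul (Nat.mul_le_mul (le_refl (k * k)) (le_refl a)) hh]

end Cfsg.Agent.S1520
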