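import Cfsg.Statements.S1521
import Cfsg.Agent.S1520
import Cfsg.Agent.OddChar.FreeCount

set_option autoImplicit false
open Cfsg

namespace Cfsg.Agent.S1521

/-- Let K be a solvable normal subgroup of the finite group L of odd order and (S, τ, R) a coherence system from L to G with S the functions induced from non-principal irreducible characters of K; S(A) as before. Let M ≤ K be normal in L with K/M nilpotent, H₁ = [K, K] ⊔ M, H₁ < K < L, and suppose every element of K outside H₁ is centralised modulo H₁ only from inside K (L/H₁ is a Frobenius group with kernel K/H₁). Suppose one of the following: some normal subgroup of L lies strictly between H₁ and K; or [K:H₁] > 4[L:K]^2 + 1; or [K:M] is not a prime power; or [K,K] ≤ M; or [K:M] is a power of a prime p with [L:K] dividing p − 1. Then S(M) is coherent. -/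
theorem result {L : Type*} [Group L] [Fintype L] {G : Type*} [Group G] [Fintype G] (K : Subgroup L) [hK : K.Normal] (hsolv : Group.IsSolvable K) (τ : (L → ℂ) → (G → ℂ)) (R : (L → ℂ) → Finset (G → ℂ)) (hS : Cfsg.IsCoherenceSystem (Cfsg.inducedIrrAbove K ⊥) τ R) (hodd : Odd (Nat.card L)) (M : Subgroup L) [M.Normal] (hMK : M ≤ K) [(M.subgroupOf K).Normal] (hnil : Group.IsNilpotent (↥K ⧸ M.subgroupOf K)) (H₁ : Subgroup L) (hH₁ : H₁ = ⁅K, K⁆ ⊔ M) (hH₁K : H₁ < K) (hKL : K < ⊤) (hfrob : ∀ k ∈ K, k ∉ H₁ → ∀ x : L, x * k * x⁻¹ * k⁻¹ ∈ H₁ → x ∈ K) (hgood : (∃ N : Subgroup L, N.Normal ∧ H₁ < N ∧ N < K) ∨ 4 * K.index ^ 2 + 1 < H₁.relIndex K ∨ (¬ ∃ p m : ℕ, p.Prime ∧ M.relIndex K = p ^ m) ∨ ⁅K, K⁆ ≤ M ∨ (∃ p m : ℕ, p.Prime ∧ M.relIndex K = p ^ m ∧ K.index ∣ p - 1)) : Cfsg.IsCoherent (Cfsg.inducedIrrAbove K M) {1}ᶜ τ := by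
  classical
  haveI : H₁.Normal := by rw [hH₁]; infer_instance
  have hab : ⁅K, K⁆ ≤ H₁ := by rw [hH₁]; exact le_sup_left
  have hMH₁ : M ≤ H₁ := by rw [hH₁]; exact le_sup_right
  have hbase : Cfsg.IsCoherent (Cfsg.inducedIrrAbove K H₁) {1}ᶜ τ := by
    obtain ⟨φ, hφ, -⟩ := OddChar.exists_linear_above K hsolv H₁ hH₁K
    refine S1517.result _ τ R (OddChar.system_restrict hS (OddChar.indAbove_subset_bot K H₁)
      ⟨φ, hφ⟩ fun χ hχ => OddChar.indAbove_conj_mem K H₁ hχ) ?_
    have hd : ∀ φ ∈ Cfsg.inducedIrrAbove K H₁, φ 1 = (K.index : ℂ) := by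
      rintro φ ⟨θ, hθ, -, hθH, rfl⟩
      have h1 : OddChar.deg θ = 1 := OddChar.irr_deg_one_of_commutator_le hθ fun m hm =>
        hθH m (hab (by
          rw [← Subgroup.map_subtype_commutator]; exact Subgroup.mem_map_of_mem _ hm))
      rw [Chars.indFun_apply_one, OddChar.deg_spec (Chars.isCharacter_of_isIrr hθ), h1,
        Nat.cast_one, mul_one]
    intro φ hφ ψ hψ
    rw [hd φ hφ, hd ψ hψ]
  set e := K.index with he
  set q := H₁.relIndex K with hq
  have hbig : 4 * e ^ 2 + 1 < q → Cfsg.IsCoherent (Cfsg.inducedIrrAbove K M) {1}ᶜ τ := fun h =>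
    S1520.result K hsolv τ R hS M H₁ K hMH₁ hH₁K.le le_rfl hnil hbase h
  have hcomm : ⁅K, K⁆ ≤ M → Cfsg.IsCoherent (Cfsg.inducedIrrAbove K M) {1}ᶜ τ := fun h => by
    have : H₁ = M := by rw [hH₁, sup_eq_right.mpr h]
    rwa [← this]
  have hepos : 1 ≤ e := Nat.one_le_iff_ne_zero.mpr Subgroup.index_ne_zero_of_finite
  have heodd : Odd e := Odd.of_dvd_nat hodd K.index_dvd_card
  have grow : ∀ n, 1 < n → Odd n → e ∣ n - 1 → 2 * e + 1 ≤ n := by
    intro n hn1 hno hd
    obtain ⟨j, hj⟩ := hd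
    obtain ⟨a, ha⟩ := hno
    obtain ⟨b, hb⟩ := heodd
    obtain ⟨c, hc⟩ : Even j := by
      have : Even (e * j) := ⟨a, by omega⟩
      exact (Nat.even_mul.mp this).resolve_left (Nat.not_even_iff_odd.mpr ⟨b, hb⟩)
    have hc0 : c ≠ 0 := fun h => by subst h; subst hc; simp at hj; omega
    have : e * 2 ≤ e * j := Nat.mul_le_mul le_rfl (by omega)
    omega
  have hgap : (∃ N : Subgroup L, N.Normal ∧ H₁ < N ∧ N < K) → 4 * e ^ 2 + 1 < q := by
    rintro ⟨N, hN, h1, h2⟩
    haveI := hN
    set n := H₁.relIndex N with hn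
    set r := N.relIndex K with hr
    have hq' : n * r = q := Subgroup.relIndex_mul_relIndex H₁ N K h1.le h2.le
    have hdn : e ∣ n - 1 := OddChar.index_dvd_relIndex_sub_one H₁ N K h1.le h2.le hab
      fun k hk hk' => hfrob k (h2.le hk) hk'
    have hdq : e ∣ q - 1 := OddChar.index_dvd_relIndex_sub_one H₁ K K hH₁K.le le_rfl hab
      fun k hk hk' => hfrob k hk hk'
    have hne : ∀ A B : Subgroup L, A < B → 1 < A.relIndex B := fun A B h => by
      refine lt_of_le_of_ne (Nat.one_le_iff_ne_zero.mpr Subgroup.index_ne_zero_of_finite) ?_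
      intro h1
      exact h.not_ge (Subgroup.relIndex_eq_one.mp h1.symm)
    have hodd' : ∀ A B : Subgroup L, Odd (A.relIndex B) := fun A B =>
      Odd.of_dvd_nat hodd ((Subgroup.index_dvd_card _).trans B.card_subgroup_dvd_card)
    have hn1 := hne H₁ N h1
    have hr1 := hne N K h2
    have hdr : e ∣ r - 1 := by
      obtain ⟨j, hj⟩ := hdn
      obtain ⟨i, hi⟩ := hdq
      have : q = e * j * r + r := by rw [← hq', show n = e * j + 1 by omega]; ring
      refine ⟨i - j * r, ?_⟩
      rw [Nat.mul_sub, ← mul_assoc]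
      omega
    have g1 := grow n hn1 (hodd' _ _) hdn
    have g2 := grow r hr1 (hodd' _ _) hdr
    rw [← hq']
    calc 4 * e ^ 2 + 1 < (2 * e + 1) * (2 * e + 1) := by nlinarith
      _ ≤ n * r := Nat.mul_le_mul g1 g2
  set Q := ↥K ⧸ M.subgroupOf K
  have hQcard : Nat.card Q = M.relIndex K := rfl
  have hAbcard : Nat.card (Abelianization Q) = q := by
    show (commutator Q).index = _
    rw [← Subgroup.index_comap_of_surjective (commutator Q)
      (QuotientGroup.mk'_surjective (M.subgroupOf K))]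
    have h1 : commutator Q = (commutator K).map (QuotientGroup.mk' (M.subgroupOf K)) := by
      rw [commutator_def, commutator_def, Subgroup.map_commutator,
        Subgroup.map_top_of_surjective _ (QuotientGroup.mk'_surjective _)]
    rw [h1, Subgroup.comap_map_eq, QuotientGroup.ker_mk', hq, Subgroup.relIndex]
    congr 1
    apply Subgroup.map_injective K.subtype_injective
    rw [Subgroup.map_sup, Subgroup.map_subgroupOf_eq_of_le hMK, Subgroup.map_subtype_commutator,
      Subgroup.map_subgroupOf_eq_of_le hH₁K.le, hH₁]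
  have hq1 : 1 < q := by
    refine lt_of_le_of_ne (Nat.one_le_iff_ne_zero.mpr Subgroup.index_ne_zero_of_finite) ?_
    intro h1
    exact hH₁K.not_ge (Subgroup.relIndex_eq_one.mp h1.symm)
  rcases hgood with hN | hb | hnp | hd | ⟨p, m, hp, hpm, hpe⟩
  · exact hbig (hgap hN)
  · exact hbig hb
  · refine hbig (hgap ?_)
    set p := q.minFac with hpdef
    haveI hpf : Fact p.Prime := ⟨Nat.minFac_prime (by omega)⟩
    obtain ⟨r, hr, hrQ, hrp⟩ : ∃ r, r.Prime ∧ r ∣ Nat.card Q ∧ r ≠ p := by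
      by_contra hcon
      push Not at hcon
      refine hnp ⟨p, (Nat.card Q).primeFactorsList.length, hpf.out, ?_⟩
      rw [← hQcard]
      exact Nat.eq_prime_pow_of_unique_prime_dvd Nat.card_pos.ne' fun {d} hd hdd => hcon d hd hdd
    haveI : Fact r.Prime := ⟨hr⟩
    have hrq : r ∣ q := hAbcard ▸ OddChar.prime_dvd_card_abelianization hrQ
    set π := QuotientGroup.mk' H₁ with hπ
    have hπs : Function.Surjective π := QuotientGroup.mk'_surjective H₁
    haveI : (K.map π).Normal := Subgroup.Normal.map inferInstance _ hπs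
    have hKcard : Nat.card (K.map π) = q := by
      rw [← Subgroup.relIndex_ker, QuotientGroup.ker_mk']
    have hKcomm : ∀ a ∈ K.map π, ∀ b ∈ K.map π, Commute a b := by
      rintro _ ⟨a, ha, rfl⟩ _ ⟨b, hb, rfl⟩
      show π a * π b = π b * π a
      rw [← mul_inv_eq_one, mul_inv_rev, ← mul_assoc, ← map_inv, ← map_inv, ← map_mul, ← map_mul,
        ← map_mul]
      exact (QuotientGroup.eq_one_iff _).mpr (hab (Subgroup.commutator_mem_commutator ha hb))
    let P : Subgroup (L ⧸ H₁) :=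
      { carrier := {k | k ∈ K.map π ∧ ∃ a : ℕ, k ^ p ^ a = 1}
        one_mem' := ⟨one_mem _, 0, by simp⟩
        mul_mem' := by
          rintro x y ⟨hx, a, ha⟩ ⟨hy, b, hb⟩
          refine ⟨mul_mem hx hy, a + b, ?_⟩
          rw [(hKcomm x hx y hy).mul_pow, pow_add, pow_mul, ha, one_pow, mul_comm, pow_mul, hb,
            one_pow, one_mul]
        inv_mem' := by
          rintro x ⟨hx, a, ha⟩
          exact ⟨inv_mem hx, a, by rw [inv_pow, ha, inv_one]⟩ }
    have hPK : P ≤ K.map π := fun x hx => hx.1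
    haveI hPn : P.Normal := ⟨fun x hx g =>
      ⟨(inferInstance : (K.map π).Normal).conj_mem x hx.1 g, hx.2.choose, by
        rw [conj_pow, hx.2.choose_spec, mul_one, mul_inv_cancel]⟩⟩
    have hPbot : P ≠ ⊥ := by
      obtain ⟨x, hx⟩ := exists_prime_orderOf_dvd_card' (G := K.map π) p
        (by rw [hKcard]; exact Nat.minFac_dvd q)
      intro h
      have hmem : (x : L ⧸ H₁) ∈ P := ⟨x.2, 1, by
        rw [pow_one, ← Subgroup.orderOf_coe x] at *
        rw [← hx]; exact pow_orderOf_eq_one _⟩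
      rw [h, Subgroup.mem_bot, ← OneMemClass.coe_one (K.map π)] at hmem
      rw [Subtype.ext hmem, orderOf_one] at hx
      exact hpf.out.one_lt.ne hx
    have hPne : P ≠ K.map π := by
      intro h
      have hPp : IsPGroup p (K.map π) := fun x => by
        obtain ⟨a, ha⟩ := (show (x : L ⧸ H₁) ∈ P by rw [h]; exact x.2).2
        exact ⟨a, Subtype.ext (by simpa using ha)⟩
      obtain ⟨k, hk⟩ := IsPGroup.iff_card.mp hPp
      rw [hKcard] at hk
      rw [hk] at hrq
      exact hrp ((Nat.prime_dvd_prime_iff_eq hr hpf.out).mp (hr.dvd_of_dvd_pow hrq))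
    have hker : (⊥ : Subgroup (L ⧸ H₁)).comap π = H₁ := by
      rw [MonoidHom.comap_bot, QuotientGroup.ker_mk']
    have hKc : (K.map π).comap π = K := by
      rw [Subgroup.comap_map_eq, QuotientGroup.ker_mk', sup_eq_left.mpr hH₁K.le]
    refine ⟨P.comap π, inferInstance, ?_, ?_⟩
    · exact lt_of_eq_of_lt hker.symm
        ((Subgroup.comap_lt_comap_of_surjective hπs).mpr (Ne.bot_lt hPbot))
    · exact lt_of_lt_of_eq
        ((Subgroup.comap_lt_comap_of_surjective hπs).mpr (lt_of_le_of_ne hPK hPne)) hKc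
  · exact hcomm hd
  · haveI : Fact p.Prime := ⟨hp⟩
    have hqd : q ∣ p ^ m := by
      rw [← hpm, ← hQcard, ← hAbcard]
      exact Subgroup.card_quotient_dvd_card _
    obtain ⟨a, -, ha⟩ := (Nat.dvd_prime_pow hp).mp hqd
    by_cases ha2 : 2 ≤ a
    · refine hbig ?_
      have hqL : p ^ a ∣ Nat.card L := by
        rw [← ha]
        exact (H₁.subgroupOf K).index_dvd_card.trans K.card_subgroup_dvd_card
      have hpo : Odd p := Odd.of_dvd_nat hodd ((dvd_pow_self p (by omega)).trans hqL)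
      have g := grow p hp.one_lt hpo hpe
      rw [ha]
      calc 4 * e ^ 2 + 1 < (2 * e + 1) ^ 2 := by nlinarith
        _ ≤ p ^ 2 := Nat.pow_le_pow_left g 2
        _ ≤ p ^ a := Nat.pow_le_pow_right hp.pos ha2
    · have ha1 : a = 1 := by
        rcases Nat.eq_zero_or_pos a with h | h
        · rw [h, pow_zero] at ha; omega
        · omega
      haveI := hnil
      haveI : IsCyclic (Abelianization Q) :=
        isCyclic_of_prime_card (p := p) (by rw [hAbcard, ha, ha1, pow_one])
      have hc := OddChar.comm_of_cyclic_abelianization Q inferInstance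
      refine hcomm (Subgroup.commutator_le.mpr fun x hx y hy => ?_)
      have h1 : ((⟨x, hx⟩ * ⟨y, hy⟩ * ⟨x, hx⟩⁻¹ * ⟨y, hy⟩⁻¹ : K) : Q) = 1 := by
        rw [QuotientGroup.mk_mul, QuotientGroup.mk_mul, QuotientGroup.mk_mul, QuotientGroup.mk_inv,
          QuotientGroup.mk_inv, hc (⟨x, hx⟩ : K) (⟨y, hy⟩ : K)]
        group
      have h2 := (QuotientGroup.eq_one_iff (N := M.subgroupOf K) _).mp h1
      exact h2

end Cfsg.Agent.S1521
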