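import Cfsg.Statements.S1487
import Cfsg.Agent.OddChar.NormalInd
import Mathlib.Tactic.Linarith
import Mathlib.Tactic.GCongr
import Mathlib.Tactic.Ring

set_option autoImplicit false
open Cfsg

namespace Cfsg.Agent.S1487

/-- Let A ≤ H be normal subgroups of the finite group G and θ an irreducible character of H. Then θ takes the value θ 1 on all of A if and only if the function induced from θ to G takes its value at 1 on all of A. -/
theorem result {G : Type*} [Group G] [Fintype G] (A H : Subgroup G) [A.Normal] [H.Normal] (hAH : A ≤ H) (θ : H → ℂ) (hθ : Cfsg.IsIrrCharacter H θ) : (∀ a : H, (a : G) ∈ A → θ a = θ 1) ↔ (∀ a : G, a ∈ A → Cfsg.indFun H θ a = Cfsg.indFun H θ 1) := by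
  classical
  have hθc := Chars.isCharacter_of_isIrr hθ
  obtain ⟨d, hd⟩ := Chars.exists_apply_one_eq hθc
  constructor
  · intro h a ha
    rw [show Cfsg.indFun H θ a = Cfsg.indFun H θ ((⟨a, hAH ha⟩ : H) : G) from rfl,
      show Cfsg.indFun H θ 1 = Cfsg.indFun H θ ((1 : H) : G) from rfl, OddChar.res_indFun,
      OddChar.res_indFun]
    refine congrArg _ (Finset.sum_congr rfl fun g _ => ?_)
    simp only [OddChar.cj]
    rw [h _ ((inferInstance : A.Normal).conj_mem _ ha g)]
    congr 1
    exact Subtype.ext (by simp)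
  · intro h a ha
    have h1 := h (a : G) ha
    rw [show Cfsg.indFun H θ 1 = Cfsg.indFun H θ ((1 : H) : G) from rfl, OddChar.res_indFun,
      OddChar.res_indFun] at h1
    have h2 := mul_left_cancel₀ (inv_ne_zero (Chars.subgroup_card_ne_zero H)) h1
    have hone : ∀ g : G, OddChar.cj θ g 1 = θ 1 := fun g => by
      simp only [OddChar.cj]; congr 1; exact Subtype.ext (by simp)
    rw [Finset.sum_congr rfl fun g _ => hone g] at h2
    have h3 := congrArg Complex.re h2
    rw [Complex.re_sum, Complex.re_sum] at h3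
    have hle : ∀ g ∈ (Finset.univ : Finset G), (OddChar.cj θ g a).re ≤ (θ 1).re := fun g _ =>
      le_trans (Complex.re_le_norm _) (Chars.norm_le_of_isCharacter hθc _)
    have h4 := (Finset.sum_eq_sum_iff_of_le hle).mp h3 1 (Finset.mem_univ _)
    rw [OddChar.cj_one] at h4
    have h5 : ‖θ a‖ ≤ (θ 1).re := Chars.norm_le_of_isCharacter hθc _
    have h6 : θ a = (‖θ a‖ : ℂ) := by
      refine Complex.ext (by rw [Complex.ofReal_re]; linarith [Complex.re_le_norm (θ a)]) ?_
      simp only [Complex.ofReal_im]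
      have h7 : (θ a).re ^ 2 + (θ a).im ^ 2 ≤ (θ 1).re ^ 2 := by
        have := pow_le_pow_left₀ (norm_nonneg _) h5 2
        rwa [Complex.sq_norm, Complex.normSq_apply, ← sq, ← sq] at this
      rw [h4] at h7
      exact pow_eq_zero_iff two_ne_zero |>.mp (le_antisymm (by linarith) (sq_nonneg _))
    rw [h6, hd]
    have h8 : (θ 1).re = d := by simp [hd]
    have : ‖θ a‖ = d := le_antisymm (h8 ▸ h5) (h8 ▸ h4 ▸ Complex.re_le_norm (θ a))
    rw [this]; simp

end Cfsg.Agent.S1487
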