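import Cfsg.Statements.S1522
import Cfsg.Agent.S1521
import Cfsg.Agent.S1487
import Cfsg.Agent.OddChar.InducedSet

set_option autoImplicit false
open Cfsg

namespace Cfsg.Agent.S1522

/-- Let K be a nilpotent normal subgroup of the finite group L of odd order with [K,K] < K < L and L/[K,K] a Frobenius group with kernel K/[K,K] (elements of K outside [K,K] are centralised modulo [K,K] only from inside K); let (S, τ, R) be a coherence system from L to G with S the functions induced from non-principal irreducible characters of K. Let Z be a nontrivial normal subgroup of L contained in the centre of K, and suppose every member of S outside S(Z) is an irreducible character of L. Then S minus S(Z) is the set of irreducible characters χ of L with χ z ≠ χ 1 for some z ∈ Z, and it is coherent. -/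
theorem result {L : Type*} [Group L] [Fintype L] {G : Type*} [Group G] [Fintype G] (K : Subgroup L) [hK : K.Normal] (hsolv : Group.IsSolvable K) (τ : (L → ℂ) → (G → ℂ)) (R : (L → ℂ) → Finset (G → ℂ)) (hS : Cfsg.IsCoherenceSystem (Cfsg.inducedIrrAbove K ⊥) τ R) (hodd : Odd (Nat.card L)) (hnil : Group.IsNilpotent K) (hH₁K : ⁅K, K⁆ < K) (hKL : K < ⊤) (hfrob : ∀ k ∈ K, k ∉ ⁅K, K⁆ → ∀ x : L, x * k * x⁻¹ * k⁻¹ ∈ ⁅K, K⁆ → x ∈ K) (Z : Subgroup L) [Z.Normal] (hZ1 : Z ≠ ⊥) (hZK : Z ≤ K) (hZc : ∀ z ∈ Z, ∀ k ∈ K, z * k = k * z) (hirr : ∀ χ ∈ Cfsg.inducedIrrAbove K ⊥ \ Cfsg.inducedIrrAbove K Z, Cfsg.IsIrrCharacter L χ) : Cfsg.inducedIrrAbove K ⊥ \ Cfsg.inducedIrrAbove K Z = {χ | Cfsg.IsIrrCharacter L χ ∧ ∃ z ∈ Z, χ z ≠ χ 1} ∧ Cfsg.IsCoherent (Cfsg.inducedIrrAbove K ⊥ \ Cfsg.inducedIrrAbove K Z) {1}ᶜ τ := by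
  classical
  haveI := hnil
  set Θ₀ := OddChar.aboveSet K ⊥ with hΘ₀
  set ΘZ := OddChar.aboveSet K Z with hΘZ
  set Θ := Θ₀ \ ΘZ with hΘdef
  have hZsub : ΘZ ⊆ Θ₀ := by
    intro θ hθ
    simp only [hΘ₀, hΘZ, OddChar.aboveSet, Finset.mem_filter, Finset.mem_univ, true_and] at hθ ⊢
    exact ⟨hθ.1, fun a ha => hθ.2 a (by rw [Subgroup.mem_bot.mp ha]; exact Z.one_mem)⟩
  have hsat : OddChar.Saturated K Θ := by
    intro θ hθ θ' h
    rw [hΘdef, Finset.mem_sdiff] at hθ ⊢
    exact ⟨OddChar.aboveSet_saturated K ⊥ bot_le θ hθ.1 θ' h,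
      fun h' => hθ.2 (OddChar.aboveSet_saturated K Z hZK θ' h' θ h.symm)⟩
  set X := Cfsg.inducedIrrAbove K ⊥ \ Cfsg.inducedIrrAbove K Z with hX
  have hcoe : (↑(OddChar.indSet K Θ) : Set (L → ℂ)) = X := by
    rw [hX, ← OddChar.coe_indSet_aboveSet, ← OddChar.coe_indSet_aboveSet, ← hΘ₀, ← hΘZ]
    ext φ
    simp only [OddChar.indSet, Finset.coe_image, Set.mem_image, Finset.mem_coe, Set.mem_diff,
      hΘdef, Finset.mem_sdiff]
    constructor
    · rintro ⟨θ, ⟨h1, h2⟩, rfl⟩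
      exact ⟨⟨θ, h1, rfl⟩, fun ⟨θ', h', he⟩ =>
        h2 (OddChar.aboveSet_saturated K Z hZK θ' h' θ he.symm)⟩
    · rintro ⟨⟨θ, h1, rfl⟩, h2⟩
      exact ⟨θ, ⟨h1, fun h => h2 ⟨θ, h, rfl⟩⟩, rfl⟩
  -- sums of squared degrees
  have hsum : ∀ A : Subgroup L, A.Normal → A ≤ K →
      (∑ θ ∈ OddChar.aboveSet K A, OddChar.deg (θ : K → ℂ) ^ 2) + 1 = A.relIndex K := by
    intro A hA hAK
    haveI := hA
    have h1 := OddChar.weight_indAbove K A hAK
    rw [OddChar.weight_indSet K _ (OddChar.aboveSet_saturated K A hAK)] at h1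
    have h2 := mul_left_cancel₀ (by exact_mod_cast Subgroup.index_ne_zero_of_finite) h1
    have h3 : ((∑ θ ∈ OddChar.aboveSet K A, OddChar.deg (θ : K → ℂ) ^ 2 : ℕ) : ℝ) + 1 =
        A.relIndex K := by push_cast; linarith
    exact_mod_cast h3
  have hb0 : (⊥ : Subgroup L).relIndex K = Nat.card K := by
    rw [Subgroup.relIndex, Subgroup.bot_subgroupOf, Subgroup.index_bot]
  have hKZ : Z.relIndex K * Nat.card Z = Nat.card K := by
    have h := (Z.subgroupOf K).index_mul_card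
    rwa [Nat.card_congr (Subgroup.subgroupOfEquivOfLe hZK).toEquiv] at h
  have hZ2 : 1 < Nat.card Z := by
    haveI : Nontrivial Z := (Subgroup.nontrivial_iff_ne_bot Z).mpr hZ1
    exact Finite.one_lt_card
  have hrelpos : 0 < Z.relIndex K := Nat.pos_of_ne_zero Subgroup.index_ne_zero_of_finite
  have hΘsum : (∑ θ ∈ Θ, OddChar.deg (θ : K → ℂ) ^ 2) + Z.relIndex K = Nat.card K := by
    rw [← hsum Z inferInstance hZK, ← hb0, ← hsum ⊥ inferInstance bot_le, ← Finset.sum_sdiff hZsub,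
      ← add_assoc]
  have hΘne : Θ.Nonempty := by
    by_contra h
    rw [Finset.not_nonempty_iff_eq_empty] at h
    rw [h, Finset.sum_empty, zero_add] at hΘsum
    rw [← hΘsum] at hKZ
    have := Nat.eq_of_mul_eq_mul_left hrelpos (hKZ.trans (mul_one _).symm)
    omega
  have hsysX : Cfsg.IsCoherenceSystem X τ R := OddChar.system_restrict hS Set.diff_subset
    (by rw [← hcoe, Finset.coe_nonempty]; exact hΘne.image _)
    fun χ hχ => ⟨OddChar.indAbove_conj_mem K ⊥ hχ.1, fun h => hχ.2 (by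
      rw [← OddChar.conjFun_conjFun χ]; exact OddChar.indAbove_conj_mem K Z h)⟩
  constructor
  · -- the description of `X`
    apply Set.Subset.antisymm
    · intro φ hφ
      refine ⟨hirr φ hφ, ?_⟩
      rw [← hcoe] at hφ
      obtain ⟨θ, hθ, rfl⟩ := Finset.mem_image.mp hφ
      by_contra hall
      push Not at hall
      rw [hΘdef, Finset.mem_sdiff] at hθ
      apply hθ.2
      have h0 := hθ.1
      simp only [hΘ₀, hΘZ, OddChar.aboveSet, Finset.mem_filter, Finset.mem_univ, true_and] at h0 ⊢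
      exact ⟨h0.1, (S1487.result Z K hZK (θ : K → ℂ) θ.2).mpr hall⟩
    · rintro χ ⟨hχ, z, hz, hne⟩
      obtain ⟨θ, hθc, hθz⟩ : ∃ θ : Cfsg.IrrCharacter K,
          Cfsg.classInner (fun k : K => χ k) (θ : K → ℂ) ≠ 0 ∧
            (θ : K → ℂ) ⟨z, hZK hz⟩ ≠ (θ : K → ℂ) 1 := by
        by_contra hno
        push Not at hno
        apply hne
        have hres := Chars.isClassFunction_of_isCharacter
          (Chars.isCharacter_restrict (Chars.isCharacter_of_isIrr hχ) K)
        have e1 := Chars2.apply_eq_sum hres (⟨z, hZK hz⟩ : K)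
        have e2 := Chars2.apply_eq_sum hres (1 : K)
        refine e1.trans (Eq.trans (Finset.sum_congr rfl fun θ _ => ?_) e2.symm)
        by_cases h0 : Cfsg.classInner (fun k : K => χ k) (θ : K → ℂ) = 0
        · rw [h0, zero_mul, zero_mul]
        · rw [hno θ h0]
      have hΘmem : θ ∈ Θ := by
        simp only [hΘdef, hΘ₀, hΘZ, Finset.mem_sdiff, OddChar.aboveSet, Finset.mem_filter,
          Finset.mem_univ, true_and]
        refine ⟨⟨fun h => hθz (by rw [h]), fun a ha => ?_⟩, fun h => hθz (h.2 _ hz)⟩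
        rw [show a = 1 from Subtype.ext (Subgroup.mem_bot.mp ha)]
      have hmem : Cfsg.indFun K (θ : K → ℂ) ∈ X := by
        rw [← hcoe]; exact Finset.mem_image_of_mem _ hΘmem
      suffices χ = Cfsg.indFun K (θ : K → ℂ) by rw [this]; exact hmem
      by_contra hd
      apply hθc
      rw [← Chars.classInner_indFun_right K (θ : K → ℂ)
        (Chars.isClassFunction_of_isCharacter (Chars.isCharacter_of_isIrr hχ))]
      exact Chars.classInner_irr_of_ne hχ (hirr _ hmem) hd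
  -- coherence
  haveI : ((⊥ : Subgroup L).subgroupOf K).Normal := inferInstance
  have hnil' : Group.IsNilpotent (↥K ⧸ (⊥ : Subgroup L).subgroupOf K) := inferInstance
  by_cases hp : ∃ p m : ℕ, p.Prime ∧ (⊥ : Subgroup L).relIndex K = p ^ m
  swap
  · exact OddChar.coherent_subsystem hsysX
      (S1521.result K hsolv τ R hS hodd ⊥ bot_le hnil' ⁅K, K⁆ (sup_bot_eq _).symm hH₁K hKL hfrob
        (Or.inr (Or.inr (Or.inl hp)))) Set.diff_subset
  obtain ⟨p, m, hpp, hpm⟩ := hp
  rw [hb0] at hpm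
  haveI : Fact p.Prime := ⟨hpp⟩
  set e := K.index with he
  have hepos : 0 < e := Nat.pos_of_ne_zero Subgroup.index_ne_zero_of_finite
  have hdeg : ∀ θ : Cfsg.IrrCharacter K, ∃ i, OddChar.deg (θ : K → ℂ) = p ^ i ∧
      (p ^ i) ^ 2 ≤ Z.relIndex K := by
    intro θ
    have hθc := Chars.irr_isCharacter θ
    obtain ⟨d, -, hd, hdvd⟩ := Chars.irr_degree_dvd_card θ.2
    have hd' : OddChar.deg (θ : K → ℂ) = d := by simp [OddChar.deg, hd]
    rw [hpm] at hdvd
    obtain ⟨i, -, hi⟩ := (Nat.dvd_prime_pow hpp).mp hdvd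
    refine ⟨i, hd'.trans hi, ?_⟩
    have hb := S1492.result (θ : K → ℂ) θ.2 ⊥ ⊤ (Z.subgroupOf K) bot_le le_top
      (fun c _ b hb => by rw [Subgroup.mem_bot.mp hb]; simp)
      (fun d hd c _ => Subgroup.mem_bot.mpr (Subtype.ext (by
        have h : (d : L) * c = c * d := hZc _ hd _ c.2
        simp only [Subgroup.coe_mul, InvMemClass.coe_inv, OneMemClass.coe_one]
        rw [h]; group)))
      (fun b hb => by rw [Subgroup.mem_bot.mp hb])
    rw [OddChar.deg_spec hθc, hd', hi, Complex.norm_natCast, Subgroup.card_top,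
      Nat.card_congr (Subgroup.subgroupOfEquivOfLe hZK).toEquiv] at hb
    have h3 : (p ^ i) ^ 2 * Nat.card K * Nat.card Z ≤ Nat.card K ^ 2 := by exact_mod_cast hb
    refine Nat.le_of_mul_le_mul_right (c := Nat.card K * Nat.card Z) ?_
      (Nat.mul_pos Nat.card_pos Nat.card_pos)
    rw [← mul_assoc]
    refine h3.trans (le_of_eq ?_)
    rw [show Z.relIndex K * (Nat.card K * Nat.card Z) =
      Nat.card K * (Z.relIndex K * Nat.card Z) by ring, hKZ, sq]
  choose i hi hi2 using hdeg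
  have hpow : ∀ j, (p ^ j) ^ 2 ≤ Z.relIndex K → (p ^ j) ^ 2 ∣ Z.relIndex K := by
    intro j hj
    obtain ⟨b, -, hb⟩ := (Nat.dvd_prime_pow hpp).mp (hpm ▸ Dvd.intro _ hKZ)
    rw [hb, ← pow_mul] at hj ⊢
    exact Nat.pow_dvd_pow p ((Nat.pow_le_pow_iff_right hpp.one_lt).mp hj)
  set F := OddChar.indSet K Θ with hF
  have hFdeg : ∀ θ : Cfsg.IrrCharacter K,
      OddChar.deg (Cfsg.indFun K (θ : K → ℂ)) = e * p ^ i θ := fun θ => by
    rw [OddChar.deg_indFun K (Chars.irr_isCharacter θ), hi]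
  obtain ⟨θ₁, hθ₁, hmin⟩ := Θ.exists_min_image i hΘne
  have hχ₁ : Cfsg.indFun K (θ₁ : K → ℂ) ∈ F := Finset.mem_image_of_mem _ hθ₁
  -- coprimality of the index and `p`
  have hcop : Nat.Coprime e p := by
    haveI : (⁅K, K⁆ : Subgroup L).Normal := inferInstance
    have hd := OddChar.index_dvd_relIndex_sub_one ⁅K, K⁆ K K hH₁K.le le_rfl le_rfl
      fun k hk hk' => hfrob k hk hk'
    have hq1 : 1 < (⁅K, K⁆ : Subgroup L).relIndex K := by
      refine lt_of_le_of_ne (Nat.one_le_iff_ne_zero.mpr Subgroup.index_ne_zero_of_finite) ?_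
      intro h1
      exact hH₁K.not_ge (Subgroup.relIndex_eq_one.mp h1.symm)
    obtain ⟨a, -, ha⟩ := (Nat.dvd_prime_pow hpp).mp
      (hpm ▸ Subgroup.index_dvd_card ((⁅K, K⁆ : Subgroup L).subgroupOf K))
    change (⁅K, K⁆ : Subgroup L).relIndex K = p ^ a at ha
    have ha0 : a ≠ 0 := fun h => by rw [h, pow_zero] at ha; omega
    refine Nat.Coprime.symm ((Nat.Prime.coprime_iff_not_dvd hpp).mpr fun h => ?_)
    have h1 : p ∣ p ^ a - 1 := ha ▸ h.trans hd
    have h2 : p ∣ p ^ a := dvd_pow_self p ha0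
    have h3 := Nat.dvd_sub h2 h1
    rw [Nat.sub_sub_self (Nat.one_le_pow _ _ hpp.pos), Nat.dvd_one] at h3
    exact hpp.one_lt.ne' h3
  have hp3 : 3 ≤ p := by
    have hpodd : Odd p := by
      have hm : m ≠ 0 := fun h => by
        rw [h, pow_zero] at hpm
        rw [hpm] at hKZ
        have := Nat.le_of_dvd one_pos (Dvd.intro_left _ hKZ)
        omega
      exact Odd.of_dvd_nat hodd ((dvd_pow_self p hm).trans (hpm ▸ K.card_subgroup_dvd_card))
    obtain ⟨k, hk⟩ := hpodd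
    have := hpp.two_le
    omega
  refine OddChar.coherent_by_degree hsysX F hcoe hχ₁ ?_ ?_ ?_
  · intro φ hφ
    obtain ⟨θ, hθ, rfl⟩ := Finset.mem_image.mp hφ
    rw [hFdeg, hFdeg]
    exact Nat.mul_dvd_mul_left _ (Nat.pow_dvd_pow _ (hmin θ hθ))
  · intro φ hφ
    obtain ⟨θ, hθ, rfl⟩ := Finset.mem_image.mp hφ
    rw [hFdeg]
    exact Nat.mul_pos hepos (pow_pos hpp.pos _)
  · intro χ hχ hlt
    obtain ⟨θ, hθ, rfl⟩ := Finset.mem_image.mp hχ
    simp only [hFdeg] at hlt ⊢
    set f := p ^ i θ with hf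
    have hlt' : p ^ i θ₁ < f := Nat.lt_of_mul_lt_mul_left hlt
    set Θl := Θ.filter (fun η : Cfsg.IrrCharacter K => p ^ i η < f) with hΘl
    have hFl : F.filter (fun φ => OddChar.deg φ < e * f) = OddChar.indSet K Θl := by
      rw [hF, OddChar.indSet, OddChar.indSet, Finset.filter_image, hΘl]
      refine congrArg _ (Finset.filter_congr fun η _ => ?_)
      rw [hFdeg]
      exact Nat.mul_lt_mul_left hepos
    have hsatl : OddChar.Saturated K Θl := by
      intro η hη η' h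
      rw [hΘl, Finset.mem_filter] at hη ⊢
      refine ⟨hsat η hη.1 η' h, ?_⟩
      have := congrArg OddChar.deg h
      rw [hFdeg, hFdeg] at this
      rw [Nat.eq_of_mul_eq_mul_left hepos this]; exact hη.2
    have hw := OddChar.weight_indSet K Θl hsatl
    set s := ∑ η ∈ Θl, OddChar.deg (η : K → ℂ) ^ 2 with hs
    have hw' : OddChar.weight (OddChar.indSet K Θl) = ((e * s : ℕ) : ℝ) := by
      rw [hw, hs]; push_cast; rfl
    have hes : e ∣ s := by
      have h1 : OddChar.weight (OddChar.indSet K Θl) =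
          ((e * e * ∑ φ ∈ OddChar.indSet K Θl, (OddChar.deg φ / e) ^ 2 : ℕ) : ℝ) := by
        rw [OddChar.weight, Finset.mul_sum, Nat.cast_sum]
        refine Finset.sum_congr rfl fun φ hφ => ?_
        obtain ⟨η, hη, rfl⟩ := Finset.mem_image.mp hφ
        have hXη : Cfsg.indFun K (η : K → ℂ) ∈ X := by
          rw [← hcoe]; exact Finset.mem_image_of_mem _ (Finset.mem_filter.mp hη).1
        rw [OddChar.nrm_irr (hirr _ hXη), Nat.cast_one, div_one, hFdeg,
          Nat.mul_div_cancel_left _ hepos]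
        push_cast; ring
      rw [hw'] at h1
      have h2 : e * s = e * (e * ∑ φ ∈ OddChar.indSet K Θl, (OddChar.deg φ / e) ^ 2) := by
        rw [← mul_assoc]; exact_mod_cast h1
      exact ⟨_, Nat.eq_of_mul_eq_mul_left hepos h2⟩
    have hfs : f ^ 2 ∣ s := by
      have h1 : f ^ 2 ∣ Z.relIndex K := hpow _ (hi2 θ)
      have h2 : f ^ 2 ∣ Nat.card K := h1.trans (Dvd.intro _ hKZ)
      rw [← hΘsum] at h2
      have h3 := (Nat.dvd_add_left h1).mp h2
      rw [← Finset.sum_filter_add_sum_filter_not Θ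
        (fun η : Cfsg.IrrCharacter K => p ^ i η < f), ← hΘl] at h3
      refine (Nat.dvd_add_left (Finset.dvd_sum fun η hη => ?_)).mp h3
      have h4 := (Finset.mem_filter.mp hη).2
      rw [hi, hf]
      exact pow_dvd_pow_of_dvd (Nat.pow_dvd_pow _
        ((Nat.pow_le_pow_iff_right hpp.one_lt).mp (not_lt.mp h4))) 2
    have hspos : 0 < s := by
      refine Finset.sum_pos' (fun η _ => Nat.zero_le _) ⟨θ₁, ?_, pow_pos (OddChar.deg_pos_irr θ₁.2) 2⟩
      exact Finset.mem_filter.mpr ⟨hθ₁, hlt'⟩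
    have hsbig : e * f ^ 2 ≤ s := Nat.le_of_dvd hspos
      (Nat.Coprime.mul_dvd_of_dvd_of_dvd ((hcop.pow_right _).pow_right 2) hes hfs)
    have h3f : 3 * p ^ i θ₁ ≤ f := by
      have hlt'' : i θ₁ < i θ := (Nat.pow_lt_pow_iff_right hpp.one_lt).mp hlt'
      calc 3 * p ^ i θ₁ ≤ p * p ^ i θ₁ := Nat.mul_le_mul_right _ hp3
        _ = p ^ (i θ₁ + 1) := by rw [pow_succ, mul_comm]
        _ ≤ f := Nat.pow_le_pow_right hpp.pos hlt''
    rw [hFl, hw']
    have hkey : 2 * (e * f) * (e * p ^ i θ₁) < e * s := by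
      have hfpos : 0 < p ^ i θ₁ := pow_pos hpp.pos _
      calc 2 * (e * f) * (e * p ^ i θ₁) = (e * e * f) * (2 * p ^ i θ₁) := by ring
        _ < (e * e * f) * f := Nat.mul_lt_mul_of_pos_left (by omega)
            (Nat.mul_pos (Nat.mul_pos hepos hepos) (by omega))
        _ = e * (e * f ^ 2) := by ring
        _ ≤ e * s := Nat.mul_le_mul_left _ hsbig
    exact_mod_cast hkey

end Cfsg.Agent.S1522
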