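import Cfsg.Statements.S0097
import Cfsg.Agent.FGS3.Extraspecial
import Cfsg.Agent.Transfer.Small

set_option autoImplicit false
open Cfsg

namespace Cfsg.Agent.S0097

/-- For odd p and E extraspecial, the subgroup generated by the elements of order dividing p has exponent dividing p and index at most p. -/
theorem result {E : Type*} [Group E] [Finite E] {p : ℕ} [Fact p.Prime] (hp : p ≠ 2) (h : Cfsg.IsExtraspecial p E) : (Subgroup.closure {x : E | x ^ p = 1}).index ≤ p ∧ ∀ g ∈ Subgroup.closure {x : E | x ^ p = 1}, g ^ p = 1 := by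
  have hc : commutator E ≤ Subgroup.center E := h.1.2.2.le
  let f : E →* Subgroup.center E :=
    MonoidHom.mk' (fun x => ⟨x ^ p, Cfsg.Agent.FGS3.IsExtraspecial_pow_mem h x⟩) fun x y =>
      Subtype.ext (Cfsg.Agent.FGS3.mul_pow_of_center_odd hc x y
        ((Fact.out : p.Prime).odd_of_ne_two hp)
        (Cfsg.Agent.FGS3.IsExtraspecial_commutatorElement_pow h y x))
  have hk : Subgroup.closure {x : E | x ^ p = 1} = f.ker := by
    refine le_antisymm ((Subgroup.closure_le _).mpr fun x hx => Subtype.ext hx) fun x hx => ?_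
    exact Subgroup.subset_closure (congrArg Subtype.val hx)
  rw [hk]
  refine ⟨?_, fun g hg => congrArg Subtype.val hg⟩
  rw [Subgroup.index_ker]
  calc Nat.card f.range ≤ Nat.card (Subgroup.center E) := Subgroup.card_le_card_group _
    _ = p := h.2

end Cfsg.Agent.S0097
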