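import Cfsg.Statements.S3807
import Mathlib.GroupTheory.PGroup
import Mathlib.GroupTheory.SpecificGroups.Cyclic

set_option autoImplicit false
open scoped commutatorElement
open Cfsg

namespace Cfsg.Agent.S3807

/-- Let S be a non-abelian finite p-group with an abelian subgroup A of index p. Then [S : Z(S)] = p·#[S,S], and either [S,S] has order p, S/Z(S) is elementary abelian of order p², and S has exactly p + 1 abelian subgroups of index p; or [S,S] has order at least p² and A is the only abelian subgroup of index p in S. -/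
theorem result {S : Type*} [Group S] [Finite S] (p : ℕ) [Fact p.Prime] (hS : IsPGroup p S) (hna : ¬ IsMulCommutative S)
    (A : Subgroup S) (hA : IsMulCommutative ↥A) (hAi : A.index = p) :
    (Subgroup.center S).index = p * Nat.card (commutator S) ∧
      ((Nat.card (commutator S) = p ∧ Cfsg.IsElementaryAbelian p (⊤ : Subgroup (S ⧸ Subgroup.center S)) ∧
          Nat.card (S ⧸ Subgroup.center S) = p ^ 2 ∧
          Nat.card {B : Subgroup S // IsMulCommutative ↥B ∧ B.index = p} = p + 1) ∨
        (p ^ 2 ≤ Nat.card (commutator S) ∧ ∀ B : Subgroup S, IsMulCommutative ↥B → B.index = p → B = A)) := by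
  classical
  have hp : p.Prime := Fact.out
  set Z := Subgroup.center S with hZdef
  have hab : ∀ a ∈ A, ∀ b ∈ A, a * b = b * a := fun a ha b hb =>
    congrArg Subtype.val (mul_comm' (⟨a, ha⟩ : A) ⟨b, hb⟩)
  have hlarge : ∀ (B : Subgroup S), B.index = p → ∀ x, x ∉ B → B ⊔ Subgroup.zpowers x = ⊤ := by
    intro B hB x hx
    have h1 := Subgroup.index_dvd_of_le (le_sup_left : B ≤ B ⊔ Subgroup.zpowers x)
    rw [hB] at h1
    rcases hp.eq_one_or_self_of_dvd _ h1 with h | h
    · exact Subgroup.index_eq_one.mp h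
    · exfalso
      have h2 := Subgroup.relIndex_mul_index (le_sup_left : B ≤ B ⊔ Subgroup.zpowers x)
      rw [h, hB] at h2
      have h3 : B.relIndex (B ⊔ Subgroup.zpowers x) = 1 :=
        Nat.eq_of_mul_eq_mul_right hp.pos (h2.trans (one_mul p).symm)
      exact hx (Subgroup.relIndex_eq_one.mp h3 (Subgroup.mem_sup_right (Subgroup.mem_zpowers x)))
  have hnormal : ∀ B : Subgroup S, B.index = p → B.Normal := fun B hB => by
    refine Subgroup.normal_of_index_eq_minFac_card ?_
    obtain ⟨n, hn⟩ := IsPGroup.iff_card.mp hS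
    rw [hn, hB, hp.pow_minFac]
    rintro rfl
    rw [pow_zero] at hn
    have := B.index_mul_card
    rw [hn, hB] at this
    exact hp.ne_one (Nat.eq_one_of_mul_eq_one_right this)
  haveI hAn := hnormal A hAi
  -- abelian subgroups of index p contain the centre
  have hZB : ∀ B : Subgroup S, IsMulCommutative ↥B → B.index = p → Z ≤ B := by
    intro B hB hBi z hz
    by_contra hzB
    apply hna
    have hbab : ∀ a ∈ B, ∀ b ∈ B, a * b = b * a := fun a ha b hb =>
      congrArg Subtype.val (mul_comm' (⟨a, ha⟩ : B) ⟨b, hb⟩)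
    have hc : ∀ x ∈ B, x ∈ Z := by
      intro x hx
      have hle : B ⊔ Subgroup.zpowers z ≤ Subgroup.centralizer ({x} : Set S) := by
        refine sup_le (fun b hb => ?_) (Subgroup.zpowers_le.mpr ?_) <;>
          rw [Subgroup.mem_centralizer_iff] <;> rintro _ rfl
        · exact hbab _ hx b hb
        · exact Subgroup.mem_center_iff.mp hz _
      rw [hZdef, Subgroup.mem_center_iff]
      intro y
      rw [hlarge B hBi z hzB] at hle
      exact (Subgroup.mem_centralizer_iff.mp (hle (Subgroup.mem_top y)) x rfl).symm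
    have htop : Z = ⊤ := top_le_iff.mp ((hlarge B hBi z hzB).ge.trans
      (sup_le hc (Subgroup.zpowers_le.mpr hz)))
    exact ⟨⟨fun a b => Subgroup.mem_center_iff.mp (htop.symm ▸ Subgroup.mem_top b : b ∈ Z) a⟩⟩
  have hAtop : A ≠ ⊤ := fun e => by rw [e, Subgroup.index_top] at hAi; exact hp.ne_one hAi.symm
  obtain ⟨g, hg⟩ : ∃ g, g ∉ A := by
    by_contra hcon
    exact hAtop (eq_top_iff.mpr fun x _ => Classical.not_not.mp fun h => hcon ⟨x, h⟩)
  have hgA : A ⊔ Subgroup.zpowers g = ⊤ := hlarge A hAi g hg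
  -- the commutator homomorphism
  let φ : A →* S := MonoidHom.mk' (fun a => g * a * g⁻¹ * (a : S)⁻¹) (fun a b => by
    have h1 : g * b * g⁻¹ ∈ A := hAn.conj_mem _ b.2 g
    have h2 : g * b * g⁻¹ * (b : S)⁻¹ ∈ A := A.mul_mem h1 (A.inv_mem b.2)
    simp only [Subgroup.coe_mul, mul_inv_rev]
    calc g * ((a : S) * b) * g⁻¹ * ((b : S)⁻¹ * (a : S)⁻¹)
        = g * a * g⁻¹ * ((g * b * g⁻¹ * (b : S)⁻¹) * (a : S)⁻¹) := by group
      _ = g * a * g⁻¹ * ((a : S)⁻¹ * (g * b * g⁻¹ * (b : S)⁻¹)) := by
          rw [hab _ h2 _ (A.inv_mem a.2)]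
      _ = g * a * g⁻¹ * (a : S)⁻¹ * (g * b * g⁻¹ * (b : S)⁻¹) := by group)
  have hφA : φ.range ≤ A := by
    rintro _ ⟨a, rfl⟩
    exact A.mul_mem (hAn.conj_mem _ a.2 g) (A.inv_mem a.2)
  haveI hRn : φ.range.Normal := by
    rw [← Subgroup.normalizer_eq_top_iff, ← top_le_iff, ← hgA]
    refine sup_le (fun a ha => ?_) (Subgroup.zpowers_le.mpr ?_)
    · rw [Subgroup.mem_normalizer_iff]
      intro x
      constructor
      · intro hx
        rwa [hab a ha x (hφA hx), mul_inv_cancel_right]
      · intro hx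
        have hxA : x ∈ A := by
          have := A.mul_mem (A.mul_mem (A.inv_mem ha) (hφA hx)) ha
          simpa [mul_assoc] using this
        rwa [hab a ha x hxA, mul_inv_cancel_right] at hx
    · rw [Subgroup.mem_normalizer_iff]
      intro x
      have hmap : ∀ y, y ∈ φ.range → g * y * g⁻¹ ∈ φ.range := by
        rintro _ ⟨a, rfl⟩
        exact ⟨⟨g * a * g⁻¹, hAn.conj_mem _ a.2 g⟩, by simp [φ, mul_assoc]⟩
      refine ⟨hmap x, fun hx => ?_⟩
      have hall : ∀ k : ℕ, g ^ k * (g * x * g⁻¹) * (g ^ k)⁻¹ ∈ φ.range := by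
        intro k
        induction k with
        | zero => simpa using hx
        | succ k ih =>
          have := hmap _ ih
          rw [pow_succ']
          simpa [mul_assoc] using this
      have := hall (orderOf g - 1)
      have e : g ^ (orderOf g - 1) = g⁻¹ := by
        apply eq_inv_of_mul_eq_one_left
        rw [← pow_succ, Nat.sub_add_cancel (orderOf_pos g), pow_orderOf_eq_one]
      rw [e] at this
      simpa [mul_assoc] using this
  have hcomm : commutator S = φ.range := by
    apply le_antisymm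
    · rw [commutator_def, Subgroup.commutator_le]
      have hc : ∀ x : S, ∃ a ∈ A, ∃ k : ℤ, x = a * g ^ k := fun x => by
        obtain ⟨a, ha, b, ⟨k, rfl⟩, e⟩ := Subgroup.mem_sup_of_normal_left.mp
          (hgA.symm ▸ Subgroup.mem_top x : x ∈ A ⊔ Subgroup.zpowers g)
        exact ⟨a, ha, k, e.symm⟩
      intro x _ y _
      obtain ⟨a, ha, k, rfl⟩ := hc x
      obtain ⟨b, hb, l, rfl⟩ := hc y
      rw [← QuotientGroup.eq_one_iff]
      have hga : ∀ a ∈ A, Commute ((g : S) : S ⧸ φ.range) (a : S ⧸ φ.range) := fun a ha => by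
        have : ((g * a * g⁻¹ * a⁻¹ : S) : S ⧸ φ.range) = 1 :=
          (QuotientGroup.eq_one_iff _).mpr ⟨⟨a, ha⟩, rfl⟩
        simp only [QuotientGroup.mk_mul, QuotientGroup.mk_inv] at this
        rwa [mul_inv_eq_one, mul_inv_eq_iff_eq_mul] at this
      have hab' : Commute ((a : S) : S ⧸ φ.range) (b : S ⧸ φ.range) := by
        rw [Commute, SemiconjBy, ← QuotientGroup.mk_mul, hab a ha b hb, QuotientGroup.mk_mul]
      change QuotientGroup.mk' φ.range ⁅a * g ^ k, b * g ^ l⁆ = 1
      rw [map_commutatorElement, commutatorElement_eq_one_iff_commute, map_mul, map_mul, map_zpow, map_zpow]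
      exact ((hab'.mul_right ((hga a ha).symm.zpow_right l)).mul_left
        (((hga b hb).zpow_left k).mul_right ((Commute.refl _).zpow_zpow k l)))
    · rintro _ ⟨a, rfl⟩
      rw [commutator_def]
      exact Subgroup.commutator_mem_commutator (Subgroup.mem_top g) (Subgroup.mem_top (a : S))
  have hker : φ.ker = Z.subgroupOf A := by
    ext a
    rw [MonoidHom.mem_ker, Subgroup.mem_subgroupOf, hZdef, Subgroup.mem_center_iff]
    constructor
    · intro h y
      have h' : g * a = a * g := mul_inv_eq_iff_eq_mul.mp (mul_inv_eq_one.mp h)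
      have hle : A ⊔ Subgroup.zpowers g ≤ Subgroup.centralizer ({(a : S)} : Set S) := by
        refine sup_le (fun b hb => ?_) (Subgroup.zpowers_le.mpr ?_) <;>
          rw [Subgroup.mem_centralizer_iff] <;> rintro _ rfl
        · exact hab _ a.2 b hb
        · exact h'.symm
      exact (Subgroup.mem_centralizer_iff.mp (hle (hgA.symm ▸ Subgroup.mem_top y)) (a : S) rfl).symm
    · intro h
      show g * a * g⁻¹ * (a : S)⁻¹ = 1
      rw [h g, mul_inv_cancel_right, mul_inv_cancel]
  have hZA : Z ≤ A := hZB A hA hAi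
  have hidx : Z.index = p * Nat.card (commutator S) := by
    rw [hcomm, ← Subgroup.index_ker, hker, mul_comm]
    exact ((Subgroup.relIndex_mul_index hZA).trans rfl).symm.trans (by rw [hAi]; rfl)
  refine ⟨hidx, ?_⟩
  obtain ⟨m, hm⟩ := IsPGroup.iff_card.mp (hS.to_subgroup (commutator S))
  have hm0 : m ≠ 0 := by
    rintro rfl
    rw [pow_zero, Subgroup.card_eq_one] at hm
    exact hna ((commutator_eq_bot_iff S).mp hm)
  rcases Nat.lt_or_ge m 2 with hm2 | hm2
  · left
    have hm1 : Nat.card (commutator S) = p := by rw [hm, show m = 1 by omega, pow_one]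
    have hQ : Nat.card (S ⧸ Z) = p ^ 2 := by
      rw [← Subgroup.index_eq_card, hidx, hm1, sq]
    have hncyc : ¬ IsCyclic (S ⧸ Z) := fun h => hna ((QuotientGroup.mk' Z).isMulCommutative_of_isCyclic_of_ker_le_center
      (QuotientGroup.ker_mk' Z).le)
    have hQab := IsPGroup.commutative_of_card_eq_prime_sq hQ
    have hexp : ∀ q : S ⧸ Z, q ^ p = 1 := by
      intro q
      have h1 : orderOf q ∣ p ^ 2 := hQ ▸ orderOf_dvd_natCard q
      obtain ⟨j, hj, hje⟩ := (Nat.dvd_prime_pow hp).mp h1
      rw [← orderOf_dvd_iff_pow_eq_one, hje]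
      rcases Nat.lt_or_ge j 2 with h | h
      · conv_rhs => rw [← pow_one p]
        exact pow_dvd_pow p (by omega)
      · exact absurd (isCyclic_of_orderOf_eq_card q (by rw [hje, show j = 2 by omega, hQ])) hncyc
    refine ⟨hm1, ⟨⟨⟨fun a b => Subtype.ext (hQab a b)⟩⟩, fun a _ => hexp a⟩, hQ, ?_⟩
    -- count
    let e : {B : Subgroup S // IsMulCommutative ↥B ∧ B.index = p} ≃
        {H : Subgroup (S ⧸ Z) // H.index = p} :=
      { toFun := fun B => ⟨B.1.map (QuotientGroup.mk' Z), by
          rw [Subgroup.index_map_eq _ (QuotientGroup.mk'_surjective Z)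
            (by rw [QuotientGroup.ker_mk']; exact hZB B.1 B.2.1 B.2.2)]
          exact B.2.2⟩
        invFun := fun H => ⟨H.1.comap (QuotientGroup.mk' Z), by
          have hHc : Nat.card H.1 = p := by
            have := H.1.index_mul_card
            rw [H.2, hQ, sq] at this
            exact Nat.eq_of_mul_eq_mul_left hp.pos this
          haveI : IsCyclic H.1 := isCyclic_of_prime_card hHc
          refine ⟨((QuotientGroup.mk' Z).subgroupComap H.1).isMulCommutative_of_isCyclic_of_ker_le_center ?_,
            by rw [Subgroup.index_comap_of_surjective _ (QuotientGroup.mk'_surjective Z)]; exact H.2⟩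
          intro x hx
          have hx' : (x : S) ∈ Z := (QuotientGroup.eq_one_iff _).mp (congrArg Subtype.val hx)
          rw [Subgroup.mem_center_iff]
          exact fun y => Subtype.ext (Subgroup.mem_center_iff.mp hx' y)⟩
        left_inv := fun B => Subtype.ext (by
          simp only
          rw [Subgroup.comap_map_eq, QuotientGroup.ker_mk', sup_eq_left.mpr (hZB B.1 B.2.1 B.2.2)])
        right_inv := fun H => Subtype.ext
          (Subgroup.map_comap_eq_self_of_surjective (QuotientGroup.mk'_surjective Z) H.1) }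
    rw [Nat.card_congr e]
    have hHc : ∀ H : Subgroup (S ⧸ Z), H.index = p ↔ Nat.card H = p := fun H => by
      have := H.index_mul_card
      rw [hQ, sq] at this
      exact ⟨fun h => by rw [h] at this; exact Nat.eq_of_mul_eq_mul_left hp.pos this,
        fun h => by rw [h] at this; exact Nat.eq_of_mul_eq_mul_right hp.pos this⟩
    -- partition the nonidentity elements
    have hord : ∀ q : S ⧸ Z, q ≠ 1 → orderOf q = p := fun q hq => orderOf_eq_prime (hexp q) hq
    let f : {q : S ⧸ Z // q ≠ 1} → {H : Subgroup (S ⧸ Z) // H.index = p} := fun q =>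
      ⟨Subgroup.zpowers q.1, (hHc _).mpr (by rw [Nat.card_zpowers, hord q.1 q.2])⟩
    have hfib : ∀ H : {H : Subgroup (S ⧸ Z) // H.index = p}, Nat.card {q // f q = H} = p - 1 := by
      intro H
      let eH : {q // f q = H} ≃ {x : H.1 // x ≠ 1} :=
        { toFun := fun q => ⟨⟨q.1.1, by
              have h' : Subgroup.zpowers q.1.1 = H.1 := congrArg Subtype.val q.2
              exact h' ▸ Subgroup.mem_zpowers _⟩,
            fun h => q.1.2 (congrArg Subtype.val h)⟩
          invFun := fun x => ⟨⟨x.1.1, fun h => x.2 (Subtype.ext h)⟩, Subtype.ext (by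
            refine Subgroup.eq_of_le_of_card_ge (Subgroup.zpowers_le.mpr x.1.2) ?_
            show Nat.card H.1 ≤ Nat.card (Subgroup.zpowers (x.1 : S ⧸ Z))
            rw [(hHc _).mp H.2, Nat.card_zpowers, hord _ fun h => x.2 (Subtype.ext h)])⟩
          left_inv := fun q => rfl
          right_inv := fun x => rfl }
      haveI : Fintype H.1 := Fintype.ofFinite _
      rw [Nat.card_congr eH, Nat.card_eq_fintype_card, Fintype.card_subtype_compl,
        Fintype.card_subtype_eq, ← Nat.card_eq_fintype_card, (hHc _).mp H.2]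
    haveI : Fintype {H : Subgroup (S ⧸ Z) // H.index = p} := Fintype.ofFinite _
    haveI : Fintype (S ⧸ Z) := Fintype.ofFinite _
    have htot : p ^ 2 - 1 = Nat.card {H : Subgroup (S ⧸ Z) // H.index = p} * (p - 1) := by
      have h1 : Nat.card {q : S ⧸ Z // q ≠ 1} = p ^ 2 - 1 := by
        rw [Nat.card_eq_fintype_card, Fintype.card_subtype_compl, Fintype.card_subtype_eq,
          ← Nat.card_eq_fintype_card, hQ]
      rw [← h1, ← Nat.card_congr (Equiv.sigmaFiberEquiv f), Nat.card_sigma,
        Finset.sum_congr rfl fun H _ => hfib H, Finset.sum_const, Finset.card_univ, smul_eq_mul,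
        Nat.card_eq_fintype_card]
    have h2 : p ^ 2 - 1 = (p + 1) * (p - 1) := by
      rw [← Nat.sq_sub_sq]
    exact Nat.eq_of_mul_eq_mul_right (by have := hp.two_le; omega) (htot.symm.trans h2)
  · right
    refine ⟨hm ▸ Nat.pow_le_pow_right hp.pos hm2, fun B hB hBi => ?_⟩
    by_contra hne
    obtain ⟨x, hxB, hxA⟩ : ∃ x ∈ B, x ∉ A := by
      by_contra hcon
      push Not at hcon
      refine hne (Subgroup.eq_of_le_of_card_ge hcon ?_)
      have h1 := A.index_mul_card
      have h2 := B.index_mul_card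
      rw [hAi] at h1
      rw [hBi] at h2
      exact le_of_eq (Nat.eq_of_mul_eq_mul_left hp.pos (h1.trans h2.symm))
    have hbab : ∀ a ∈ B, ∀ b ∈ B, a * b = b * a := fun a ha b hb =>
      congrArg Subtype.val (mul_comm' (⟨a, ha⟩ : B) ⟨b, hb⟩)
    have hcen : A ⊓ B ≤ Z := by
      rintro c ⟨hcA, hcB⟩
      have hle : A ⊔ Subgroup.zpowers x ≤ Subgroup.centralizer ({c} : Set S) := by
        refine sup_le (fun b hb => ?_) (Subgroup.zpowers_le.mpr ?_) <;>
          rw [Subgroup.mem_centralizer_iff] <;> rintro _ rfl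
        · exact hab _ hcA b hb
        · exact hbab _ hcB x hxB
      rw [hlarge A hAi x hxA] at hle
      rw [hZdef, Subgroup.mem_center_iff]
      exact fun y => (Subgroup.mem_centralizer_iff.mp (hle (Subgroup.mem_top y)) c rfl).symm
    have h1 : Z.index ≤ p * p := by
      have hle : (A ⊓ B).index ≤ A.index * B.index := Subgroup.index_inf_le
      rw [hAi, hBi] at hle
      exact (Nat.le_of_dvd (Nat.pos_of_ne_zero Subgroup.index_ne_zero_of_finite)
        (Subgroup.index_dvd_of_le hcen)).trans hle
    rw [hidx] at h1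
    have h3 := Nat.le_of_mul_le_mul_left h1 hp.pos
    rw [hm] at h3
    exact absurd h3 (not_le.mpr (calc p = p ^ 1 := (pow_one p).symm
      _ < p ^ m := Nat.pow_lt_pow_right hp.one_lt hm2))

end Cfsg.Agent.S3807
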