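import Cfsg.Statements.S1399
import Cfsg.Agent.Core.BG.Uniqueness

set_option autoImplicit false
open Cfsg

namespace Cfsg.Agent.S1399

/-- Let G be a minimal simple group of odd order, L a subgroup contained in exactly one maximal subgroup of G, and K a subgroup of C_G(L) having, for some prime p, an elementary abelian subgroup of order p ^ 2. Then K is contained in exactly one maximal subgroup of G. -/
theorem result {G : Type*} [Group G] [Finite G] (hG : Cfsg.IsMinSimpleOddOrder G)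
    (L K : Subgroup G) (hL : Cfsg.InUniqueMaximal L) (hK : K ≤ Subgroup.centralizer (L : Set G)) (hKr : ¬ Cfsg.RankLE 1 K) :
    Cfsg.InUniqueMaximal K := by
  obtain ⟨M, ⟨hM, hLM⟩, huniq⟩ := hL
  have hL1 : L ≠ ⊥ := by
    rintro rfl
    refine hM.1 (top_le_iff.mp fun x _ => ?_)
    by_cases hx : Subgroup.zpowers x = ⊤
    · exfalso
      refine hG.2.2.1 ⟨⟨fun a b => ?_⟩⟩
      obtain ⟨i, rfl⟩ := Subgroup.mem_zpowers_iff.mp (hx.ge (Subgroup.mem_top a))
      obtain ⟨j, rfl⟩ := Subgroup.mem_zpowers_iff.mp (hx.ge (Subgroup.mem_top b))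
      rw [← zpow_add, ← zpow_add, add_comm]
    obtain ⟨X, hX, hle⟩ := (eq_top_or_exists_le_coatom _).resolve_left hx
    exact (huniq X ⟨hX, bot_le⟩) ▸ hle (Subgroup.mem_zpowers x)
  obtain ⟨l, hl, hl1⟩ := L.bot_or_exists_ne_one.resolve_left hL1
  have hKtop : K ≠ ⊤ := fun h => Core.BG.centralizer_singleton_ne_top hG hl1
    (top_le_iff.mp ((h ▸ hK).trans (Subgroup.centralizer_le (by simpa using hl))))
  simp only [Cfsg.RankLE, not_forall] at hKr
  obtain ⟨r, hr, hR⟩ := hKr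
  haveI := Fact.mk hr
  simp only [Cfsg.PRankLE, not_forall, not_le] at hR
  obtain ⟨B₀, hBc, hBr, hBcard⟩ := hR
  have hBe : Cfsg.IsElementaryAbelian r (B₀.map K.subtype) := by
    refine ⟨⟨⟨?_⟩⟩, ?_⟩
    · rintro ⟨_, a, ha, rfl⟩ ⟨_, b, hb, rfl⟩
      exact Subtype.ext (congrArg (fun z : B₀ => ((z : K) : G)) (hBc.is_comm.comm ⟨a, ha⟩ ⟨b, hb⟩))
    · rintro _ ⟨a, ha, rfl⟩
      rw [← map_pow, hBr a ha, map_one]
  have hBp := Components.ea_isPGroup hBe
  have hBnc : ¬ IsCyclic (B₀.map K.subtype) := fun h => by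
    haveI := h
    have h1 : Nat.card (B₀.map K.subtype) ∣ r := by
      rw [← IsCyclic.exponent_eq_card]
      exact Monoid.exponent_dvd_of_forall_pow_eq_one fun b => Subtype.ext (hBe.2 b b.2)
    rw [Core.card_map_subtype] at h1
    exact absurd (Nat.le_of_dvd hr.pos h1) (by rw [pow_one] at hBcard; omega)
  set B := B₀.map K.subtype with hB
  have hBK : B ≤ K := Subgroup.map_subtype_le _
  have hcent : ∀ b ∈ B, b ≠ 1 → Subgroup.centralizer ({b} : Set G) ≤ M := by
    intro b hb hb1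
    obtain ⟨X, hX, hle⟩ := (eq_top_or_exists_le_coatom _).resolve_left
      (Core.BG.centralizer_singleton_ne_top hG hb1)
    have hLX : L ≤ X := le_trans (fun y hy => Subgroup.mem_centralizer_singleton_iff.mpr
      (Subgroup.mem_centralizer_iff.mp (hK (hBK hb)) y hy)) hle
    exact (huniq X ⟨hX, hLX⟩) ▸ hle
  have hB1 : B ≠ ⊥ := fun h => hBnc (by rw [h]; exact isCyclic_of_subsingleton)
  obtain ⟨b, hb, hb1⟩ := B.bot_or_exists_ne_one.resolve_left hB1
  have hBM : B ≤ M := fun y hy => hcent b hb hb1 (Subgroup.mem_centralizer_singleton_iff.mpr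
    (congrArg Subtype.val (hBe.1.is_comm.comm (⟨y, hy⟩ : B) ⟨b, hb⟩)))
  have huB : ∀ X : Subgroup G, IsCoatom X → B ≤ X → X = M := fun X hX hBX =>
    Core.BG.eq_of_inv_le hG hM hBp hB1 hBM
      (fun Y hY hBY => Core.BG.le_of_forall_centralizer_le hBe hBnc hcent hY hBY) hX hBX
  obtain ⟨X, hX, hle⟩ := (eq_top_or_exists_le_coatom _).resolve_left hKtop
  exact ⟨M, ⟨hM, huB X hX (hBK.trans hle) ▸ hle⟩, fun Y hY => huB Y hY.1 (hBK.trans hY.2)⟩

end Cfsg.Agent.S1399
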