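import Cfsg.Statements.S1401
import Cfsg.Agent.Core.BG.Chain
import Cfsg.Agent.OddLocal.CNMinSimple

set_option autoImplicit false
open Cfsg

namespace Cfsg.Agent.S1401

/-- Let G be a minimal simple group of odd order, p a prime, and M a maximal subgroup whose Fitting subgroup contains an elementary abelian subgroup of order p ^ 3. Then every abelian p-subgroup of G containing an elementary abelian subgroup of order p ^ 3 lies in exactly one maximal subgroup of G. -/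
theorem result {G : Type*} [Group G] [Finite G] (hG : Cfsg.IsMinSimpleOddOrder G)
    (M : Subgroup G) (hM : IsCoatom M) (p : ℕ) [Fact p.Prime] (hF : ¬ Cfsg.PRankLE p 2 ↥(Cfsg.fittingOf M))
    (A : Subgroup G) (hAp : IsPGroup p A) (hAc : IsMulCommutative A) (hA3 : ¬ Cfsg.PRankLE p 2 ↥A) :
    Cfsg.InUniqueMaximal A := by
  haveI hAcomm := hAc
  -- an elementary abelian subgroup of rank three in `F(M)`, maximal there
  obtain ⟨E₀, hE₀, hE₀F, hE₀3⟩ := Core.BG.exists_ea_of_not_pRankLE hF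
  obtain ⟨A₀, hE₀A, ⟨hA₀F, hA₀e⟩, hmax⟩ := (Set.toFinite
    {B : Subgroup G | B ≤ Cfsg.fittingOf M ∧ Cfsg.IsElementaryAbelian p B}).exists_le_maximal (a := E₀) ⟨hE₀F, hE₀⟩
  have hA₀3 : p ^ 3 ≤ Nat.card A₀ := hE₀3.trans (Subgroup.card_le_of_le hE₀A)
  have hX : ∃ X : Subgroup G, IsMulCommutative X ∧ ¬ Cfsg.PRankLE p 2 X ∧ Cfsg.InUniqueMaximal X := by
    by_cases hFp : IsPGroup p (Cfsg.fittingOf M)
    · obtain ⟨P⟩ : Nonempty (Sylow p M) := inferInstance
      set Pg := (P : Subgroup M).map M.subtype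
      have hFne : Cfsg.fittingOf M ≠ ⊥ := fun h => by
        have h1 : Nat.card A₀ ≤ 1 := (Subgroup.card_le_of_le hA₀F).trans (by rw [h, Subgroup.card_bot])
        exact absurd (hA₀3.trans h1) (not_le.mpr (Nat.one_lt_pow (by norm_num) (Fact.out : p.Prime).one_lt))
      have hFP : Cfsg.fittingOf M ≤ Pg := Subgroup.map_mono (IsPGroup.le_sylow_of_normal
        (hFp.of_equiv ((Cfsg.fittingSubgroup M).equivMapOfInjective M.subtype M.subtype_injective).symm) P)
      have hp2 : p ≠ 2 := by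
        refine OddLocal.RankTwo.ne_two_of_dvd hG.1 ?_
        obtain ⟨n, hn⟩ := IsPGroup.iff_card.mp (Components.ea_isPGroup hA₀e)
        refine dvd_trans ?_ (Subgroup.card_subgroup_dvd_card A₀)
        rw [hn] at hA₀3 ⊢
        exact dvd_pow_self p (by have := (Nat.pow_le_pow_iff_right (Fact.out : p.Prime).one_lt).mp hA₀3; omega)
      obtain ⟨A', -, hA'n, hA'c, hA'r⟩ := OddLocal.RankTwo.exists_scn_three (R := ↥Pg) hp2 (P.isPGroup'.map _)
        (Core.BG.not_pRankLE_two_of_ea Fact.out hA₀e (hA₀F.trans hFP) hA₀3) ⊥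
        ⟨⟨⟨fun a b => Subsingleton.elim _ _⟩⟩, fun a ha => by rw [Subgroup.mem_bot.mp ha, one_pow]⟩
      have hscn : Cfsg.IsSCN Pg (A'.map Pg.subtype) := by
        refine ⟨Subgroup.map_subtype_le _, fun r hr => Coprime.mem_normalizer_of_conj_mem ?_, le_antisymm ?_ ?_⟩
        · rintro _ ⟨a, ha, rfl⟩
          exact ⟨⟨r, hr⟩ * a * ⟨r, hr⟩⁻¹, hA'n.conj_mem a ha _, rfl⟩
        · rintro x ⟨hx, hxC⟩
          refine ⟨⟨x, hx⟩, hA'c.le (Subgroup.mem_centralizer_iff.mpr fun a ha => Subtype.ext ?_), rfl⟩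
          exact Subgroup.mem_centralizer_iff.mp hxC a ⟨a, ha, rfl⟩
        · rintro _ ⟨a, ha, rfl⟩
          refine ⟨a.2, Subgroup.mem_centralizer_iff.mpr ?_⟩
          rintro _ ⟨b, hb, rfl⟩
          exact congrArg Subtype.val (Subgroup.mem_centralizer_iff.mp (hA'c.ge ha) b hb)
      have hr' : ¬ Cfsg.PRankLE p 2 ↥(A'.map Pg.subtype) := fun h => hA'r
        ((Components.pRankLE_congr (A'.equivMapOfInjective Pg.subtype Pg.subtype_injective)).mpr h)
      exact ⟨_, ⟨⟨fun a b => Subtype.ext (Subgroup.mem_centralizer_iff.mp (hscn.2.2.ge b.2).2 a a.2)⟩⟩, hr',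
        (((Core.BG.fitting_pGroup_unique hG hM hFp hFne P).2 _ hscn hr').2)⟩
    · refine ⟨A₀, hA₀e.1, Core.BG.not_pRankLE_two_of_ea Fact.out hA₀e le_rfl hA₀3, ?_⟩
      exact S1399.result hG _ A₀ (Core.BG.fitting_centralizer_unique hG hM hA₀F hA₀e hA₀3 hFp)
        (Subgroup.le_centralizer_iff.mp inf_le_right)
        (Core.BG.not_rankLE_one_of_ea hA₀e le_rfl ((Nat.pow_le_pow_right (Fact.out : p.Prime).pos (by norm_num)).trans hA₀3))
  obtain ⟨X, hXc, hX3, hXU⟩ := hX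
  obtain ⟨E, hE, hEA, hE3⟩ := Core.BG.exists_ea_of_not_pRankLE hA3
  exact Core.BG.inUniqueMaximal_of_le hG (Core.BG.ea_unique_of_unique hG hXc hX3 hXU hE hE3) hEA
    (OddLocal.CN.ne_top_of_isPGroup hG.2 hAp)

end Cfsg.Agent.S1401
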