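import Cfsg.Statements.S0580
import Cfsg.Agent.Core.SmallSolvable

set_option autoImplicit false
open Cfsg
set_option linter.style.haveILetI false

namespace Cfsg.Agent.S0580

universe u in
open Subgroup in
private theorem main : ∀ (n : ℕ) {G : Type u} [Group G] [Finite G], Nat.card G = n →
    (∀ M : Subgroup G, IsCoatom M → M.index.Prime) → Group.IsSolvable G := by
  intro n
  induction n using Nat.strong_induction_on with
  | _ n ih =>
  intro G _ _ hn h
  rcases subsingleton_or_nontrivial G with hs | hs
  · exact Group.isSolvable_of_comm fun a b => Subsingleton.elim _ _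
  have hne : (Nat.card G).primeFactors.Nonempty :=
    Nat.nonempty_primeFactors.mpr Finite.one_lt_card
  obtain ⟨p, hp, hmax⟩ : ∃ p ∈ (Nat.card G).primeFactors, ∀ r ∈ (Nat.card G).primeFactors, r ≤ p :=
    ⟨_, Finset.max'_mem _ hne, fun r hr => Finset.le_max' _ r hr⟩
  have hpp : p.Prime := Nat.prime_of_mem_primeFactors hp
  haveI := Fact.mk hpp
  obtain ⟨P⟩ := (inferInstance : Nonempty (Sylow p G))
  have hnorm : (P : Subgroup G).Normal := by
    by_contra hnn
    obtain ⟨M, hM, hle⟩ := (eq_top_or_exists_le_coatom (normalizer ((P : Subgroup G) : Set G))).resolve_left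
      (fun e => hnn (normalizer_eq_top_iff.mp e))
    have hPM : (P : Subgroup G) ≤ M := le_normalizer.trans hle
    have h1 : Nat.card (Sylow p G) = (normalizer ((P : Subgroup G) : Set G)).index :=
      P.card_eq_index_normalizer
    have h2 : Nat.card (Sylow p M) = (normalizer ((P : Subgroup G) : Set G)).relIndex M := by
      rw [(P.subtype hPM).card_eq_index_normalizer, relIndex, subgroupOf_normalizer_eq hPM]
      rfl
    rw [← relIndex_mul_index hle, ← h2] at h1
    have h3 := card_sylow_modEq_one p G
    rw [h1] at h3
    have h4 : M.index ≡ 1 [MOD p] :=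
      ((Nat.ModEq.mul_right M.index (card_sylow_modEq_one p M)).trans (by rw [one_mul])).symm.trans h3
    have hqp : M.index ≤ p := hmax _ (Nat.mem_primeFactors.mpr
      ⟨h M hM, M.index_dvd_card, Nat.card_pos.ne'⟩)
    rw [Nat.ModEq, Nat.mod_eq_of_lt hpp.one_lt] at h4
    rcases hqp.lt_or_eq with hlt | heq
    · rw [Nat.mod_eq_of_lt hlt] at h4
      exact (h M hM).ne_one h4
    · rw [heq, Nat.mod_self] at h4
      omega
  haveI := hnorm
  haveI : Group.IsSolvable (P : Subgroup G) := by
    haveI := P.2.isNilpotent
    infer_instance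
  refine (Group.isSolvable_iff_subgroup_quotient (P : Subgroup G)).mpr ⟨inferInstance, ?_⟩
  refine ih _ ?_ rfl fun M hM => ?_
  · rw [← hn, card_eq_card_quotient_mul_card_subgroup (P : Subgroup G)]
    refine lt_mul_of_one_lt_right Nat.card_pos (Finite.one_lt_card_iff_nontrivial.mpr
      ((nontrivial_iff_ne_bot _).2 fun e => P.not_dvd_index ?_))
    rw [e, index_bot]
    exact Nat.dvd_of_mem_primeFactors hp
  · have := h _ (isCoatom_comap_of_surjective (QuotientGroup.mk'_surjective _) hM)
    rwa [index_comap_of_surjective _ (QuotientGroup.mk'_surjective _)] at this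

/-- If every maximal subgroup of a finite group has prime index, then the group is solvable. -/
theorem result {G : Type*} [Group G] [Finite G] (h : ∀ M : Subgroup G, IsCoatom M → M.index.Prime) : Group.IsSolvable G := by
  exact main _ rfl h

end Cfsg.Agent.S0580
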