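import Cfsg.Statements.S0494
import Cfsg.Agent.SmallOrder.Basic
import Mathlib.GroupTheory.SpecificGroups.Alternating
-- import your own Cfsg.Agent.* helpers here

set_option autoImplicit false
open Cfsg

namespace Cfsg.Agent.S0494

/-- A subgroup of index six of the alternating group of degree six is alternating of degree five. -/
theorem alt_six_index_six {G : Type*} [Group G] [Finite G] (f : G →* alternatingGroup (Fin 6))
    (hf : Function.Injective f) (h : Nat.card G = 60) : Nonempty (G ≃* alternatingGroup (Fin 5)) := by
  classical
  set L := f.range with hL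
  have hcardL : Nat.card L = 60 := h ▸ (Nat.card_congr (MonoidHom.ofInjective hf).toEquiv).symm
  have h360 : Nat.card (alternatingGroup (Fin 6)) = 360 := by
    have : Nontrivial (Fin 6) := Fin.nontrivial_iff_two_le.mpr (by norm_num)
    have := two_mul_card_alternatingGroup (α := Fin 6)
    rw [Fintype.card_perm, Fintype.card_fin, show Nat.factorial 6 = 720 from rfl] at this
    rw [Nat.card_eq_fintype_card]; omega
  have hidx : L.index = 6 := by
    have := L.card_mul_index
    rw [hcardL, h360] at this
    omega
  have hsimple : IsSimpleGroup (alternatingGroup (Fin 6)) := alternatingGroup.isSimpleGroup (by simp)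
  have hLne : L ≠ ⊤ := fun e => by rw [e, Subgroup.index_top] at hidx; omega
  let X := {q : alternatingGroup (Fin 6) ⧸ L // q ≠ QuotientGroup.mk 1}
  have hfix : ∀ (l : L) (q : alternatingGroup (Fin 6) ⧸ L),
      (l : alternatingGroup (Fin 6)) • q = QuotientGroup.mk 1 ↔ q = QuotientGroup.mk 1 := by
    intro l q
    have h1 : (l : alternatingGroup (Fin 6)) • (QuotientGroup.mk 1 : alternatingGroup (Fin 6) ⧸ L) =
        QuotientGroup.mk 1 := by
      rw [MulAction.Quotient.smul_mk, QuotientGroup.eq]
      simp
    constructor
    · intro e; rw [← h1] at e; exact smul_left_cancel _ e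
    · rintro rfl; exact h1
  let φ : L →* Equiv.Perm X :=
    { toFun := fun l => (MulAction.toPerm (l : alternatingGroup (Fin 6))).subtypePerm
        (fun q => by simp only [MulAction.toPerm_apply, ne_eq, hfix l q])
      map_one' := by ext q; simp
      map_mul' := fun l m => by
        ext q
        simp [mul_smul] }
  have hφ : Function.Injective φ := by
    intro l m hlm
    apply Subtype.ext
    apply SmallOrder.toPermHom_injective hLne
    ext q
    simp only [MulAction.toPermHom_apply, MulAction.toPerm_apply]
    by_cases hq : q = QuotientGroup.mk 1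
    · subst hq
      rw [(hfix l _).2 rfl, (hfix m _).2 rfl]
    · exact congrArg Subtype.val (Equiv.congr_fun hlm ⟨q, hq⟩)
  have hX : Nat.card X = 5 := by
    have : Fintype (alternatingGroup (Fin 6) ⧸ L) := Fintype.ofFinite _
    rw [Nat.card_eq_fintype_card, Fintype.card_subtype_compl, Fintype.card_subtype_eq,
      ← Nat.card_eq_fintype_card, ← Subgroup.index_eq_card, hidx]
  let e : X ≃ Fin 5 := (Finite.equivFin X).trans (finCongr hX)
  let ψ : G →* Equiv.Perm (Fin 5) :=
    e.permCongrHom.toMonoidHom.comp (φ.comp (MonoidHom.ofInjective hf).toMonoidHom)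
  have hψ : Function.Injective ψ :=
    e.permCongrHom.injective.comp (hφ.comp (MonoidHom.ofInjective hf).injective)
  have hA : ψ.range = alternatingGroup (Fin 5) := by
    apply Equiv.Perm.eq_alternatingGroup_of_index_eq_two
    have h' := ψ.range.card_mul_index
    rw [← Nat.card_congr (MonoidHom.ofInjective hψ).toEquiv, h, Nat.card_perm, Nat.card_fin] at h'
    norm_num [Nat.factorial] at h'
    omega
  exact ⟨(MonoidHom.ofInjective hψ).trans (MulEquiv.subgroupCongr hA)⟩

/-- A simple group of order 60 is isomorphic to the alternating group of degree 5. -/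
theorem result {G : Type*} [Group G] [Finite G] [IsSimpleGroup G]
    (h : Nat.card G = 60) : Nonempty (G ≃* alternatingGroup (Fin 5)) := by
  classical
  haveI : Fact (Nat.Prime 5) := ⟨by norm_num⟩
  have hG : ¬ IsMulCommutative G := SmallOrder.not_comm_of_not_prime (by rw [h]; norm_num)
  obtain ⟨P⟩ : Nonempty (Sylow 5 G) := inferInstance
  -- six Sylow subgroups
  have hd : 5 ∣ Nat.card G := by rw [h]; norm_num
  have h1 : Nat.card (Sylow 5 G) ≠ 1 := SmallOrder.card_sylow_ne_one hG hd
  have hmod : Nat.card (Sylow 5 G) ≡ 1 [MOD 5] := card_sylow_modEq_one 5 G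
  have hdvd : Nat.card (Sylow 5 G) ∣ 12 := by
    have h5 : Nat.card (P : Subgroup G) = 5 := by
      rw [Sylow.card_eq_multiplicity, h]
      rw [show 60 = 5 ^ 1 * 12 by norm_num, Nat.factorization_mul (by norm_num) (by norm_num),
        Finsupp.add_apply, Nat.Prime.factorization_pow (by norm_num),
        Nat.factorization_eq_zero_of_not_dvd (by norm_num : ¬ 5 ∣ 12)]
      simp
    have hidx : (P : Subgroup G).index = 12 := by
      have := (P : Subgroup G).card_mul_index
      rw [h5, h] at this
      omega
    exact hidx ▸ P.card_dvd_index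
  have h6 : Nat.card (Sylow 5 G) = 6 := by
    have hle := Nat.le_of_dvd (by norm_num) hdvd
    unfold Nat.ModEq at hmod
    interval_cases hc : Nat.card (Sylow 5 G) <;> omega
  set H := Subgroup.normalizer ((P : Subgroup G) : Set G) with hH
  have hidx : H.index = 6 := (Sylow.card_eq_index_normalizer P).symm.trans h6
  obtain ⟨f, hf⟩ := SmallOrder.embeds_alternating hG H (fun e => by
    rw [e, Subgroup.index_top] at hidx; omega)
  revert f hf
  rw [hidx]
  intro f hf
  exact alt_six_index_six f hf h

end Cfsg.Agent.S0494
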