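import Cfsg.Statements.S2908
import Cfsg.Agent.LocalEven.Commutator
import Cfsg.Agent.Coprime.PxQ


set_option autoImplicit false
open Cfsg
open scoped commutatorElement

namespace Cfsg.Agent.S2908

/-- Let P be a p-subgroup of a finite group, normalized by a p-subgroup A and by a subgroup B of order prime to p that commutes elementwise with A. If [P, B] ≤ [P, A], then B centralizes P. -/
theorem result {G : Type*} [Group G] [Finite G] {p : ℕ} [Fact p.Prime] (P A B : Subgroup G) (hP : IsPGroup p ↥P) (hA : IsPGroup p ↥A) (hB : ¬ p ∣ Nat.card ↥B) (hnA : A ≤ Subgroup.normalizer (P : Set G)) (hnB : B ≤ Subgroup.normalizer (P : Set G)) (hAB : ⁅A, B⁆ = ⊥) (hcomm : ⁅P, B⁆ ≤ ⁅P, A⁆) : ⁅P, B⁆ = ⊥ := by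
  rw [Subgroup.commutator_eq_bot_iff_le_centralizer]
  suffices h : ∀ g ∈ B, ⁅P, Subgroup.zpowers g⁆ = ⊥ by
    intro x hx
    rw [Subgroup.mem_centralizer_iff]
    intro g hg
    exact Subgroup.mem_centralizer_iff.mp
      (Subgroup.commutator_eq_bot_iff_le_centralizer.mp (h g hg) hx) g (Subgroup.mem_zpowers g)
  intro g hg
  set Z := Subgroup.zpowers g
  have hZB : Z ≤ B := Subgroup.zpowers_le.mpr hg
  have hPZA : ⁅P, Z⁆ ≤ ⁅P, A⁆ := (Subgroup.commutator_mono le_rfl hZB).trans hcomm
  have hcop : (Nat.card Z).Coprime (Nat.card P) := by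
    obtain ⟨k, hk⟩ := IsPGroup.iff_card.mp hP
    rw [hk]
    refine Nat.Coprime.pow_right k ?_
    rw [Nat.coprime_comm, (Fact.out : p.Prime).coprime_iff_not_dvd]
    exact fun h => hB (h.trans (Subgroup.card_dvd_of_le hZB))
  set X := P ⊔ A
  have hPX : P ≤ X := le_sup_left
  have hXP : X ≤ Subgroup.normalizer (P : Set G) := sup_le Subgroup.le_normalizer hnA
  have hXp : IsPGroup p X := hP.to_sup_of_normal_left' hA hnA
  have hZP : Z ≤ Subgroup.normalizer (P : Set G) := hZB.trans hnB
  have hZA : ⁅A, Z⁆ = ⊥ := le_bot_iff.mp ((Subgroup.commutator_mono le_rfl hZB).trans hAB.le)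
  have hXZ : ⁅X, Z⁆ ≤ ⁅P, Z⁆ := by
    refine LocalEven.comm_sup_le (Subgroup.normalizer_commutator_ge_left P Z) ?_ le_rfl
      (hZA.le.trans bot_le)
    refine LocalEven.le_normalizer_comm hnA (le_trans ?_ (Subgroup.centralizer_le_normalizer _))
    exact Subgroup.commutator_eq_bot_iff_le_centralizer.mp hZA
  let D : ℕ → Subgroup G := Cfsg.iterCommutator P X
  have hDP : ∀ n, D n ≤ P ∧ X ≤ Subgroup.normalizer (D n : Set G) ∧
      Z ≤ Subgroup.normalizer (D n : Set G) := by
    intro n
    induction n with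
    | zero => exact ⟨le_rfl, hXP, hZP⟩
    | succ n ih =>
      refine ⟨(Subgroup.le_normalizer_iff_commutator_le_left.mp ih.2.1).trans ih.1,
        LocalEven.le_normalizer_comm ih.2.1 Subgroup.le_normalizer, ?_⟩
      refine LocalEven.le_normalizer_comm ih.2.2 ?_
      refine Subgroup.le_normalizer_iff_commutator_le_left.mpr (hXZ.trans ?_)
      exact (Subgroup.le_normalizer_iff_commutator_le_left.mp hZP).trans hPX
  have h12 : ∀ n, ⁅D 1, D n⁆ ≤ D (n + 2) := by
    intro n
    have hn := (hDP (n + 2)).2.1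
    refine LocalEven.three_le (hPX.trans hn) hn (((hDP n).1.trans hPX).trans hn) ?_ ?_
    · show ⁅⁅X, D n⁆, P⁆ ≤ ⁅D (n + 1), X⁆
      rw [Subgroup.commutator_comm X]
      exact Subgroup.commutator_mono le_rfl hPX
    · show ⁅⁅D n, P⁆, X⁆ ≤ ⁅D (n + 1), X⁆
      exact Subgroup.commutator_mono (Subgroup.commutator_mono le_rfl hPX) le_rfl
  have hcomm1 : ⁅P, Z⁆ ≤ D 1 := hPZA.trans (Subgroup.commutator_mono le_rfl le_sup_right)
  have key : ∀ n, ⁅D n, Z⁆ ≤ D (n + 1) := by
    intro n
    induction n with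
    | zero => exact hcomm1
    | succ n ih =>
      have hn := (hDP (n + 2)).2.1
      refine LocalEven.three_le (((hDP n).1.trans hPX).trans hn) hn (hDP (n + 2)).2.2 ?_ ?_
      · exact (Subgroup.commutator_mono (hXZ.trans hcomm1) le_rfl).trans (h12 n)
      · rw [Subgroup.commutator_comm Z]
        exact Subgroup.commutator_mono ih le_rfl
  have hle : ∀ n, ⁅P, Z⁆ ≤ D (n + 1) := by
    intro n
    induction n with
    | zero => exact hcomm1
    | succ n ih =>
      rw [← Coprime.commutator_commutator_eq hZP hcop]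
      exact (Subgroup.commutator_mono ih le_rfl).trans (key (n + 1))
  by_contra hne
  have hcard : ∀ n, Nat.card ↥(D (n + 1)) + n ≤ Nat.card P := by
    intro n
    induction n with
    | zero => simpa using Subgroup.card_le_of_le (hDP 1).1
    | succ n ih =>
      have hne' : D (n + 1) ≠ ⊥ := fun e => hne (le_bot_iff.mp (e ▸ hle n))
      have hlt : D (n + 2) < D (n + 1) := Coprime.commutator_lt_of_isPGroup
        (hP.to_le (hDP _).1) hXp (hDP _).2.1 hne'
      have : Nat.card ↥(D (n + 2)) < Nat.card ↥(D (n + 1)) := by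
        refine lt_of_le_of_ne (Subgroup.card_le_of_le hlt.le) fun e => hlt.ne ?_
        exact Subgroup.eq_of_le_of_card_ge hlt.le e.ge
      show Nat.card ↥(D (n + 2)) + (n + 1) ≤ _
      omega
  have h0 := hcard (Nat.card P)
  have hpos : 0 < Nat.card ↥(D (Nat.card P + 1)) := Nat.card_pos
  omega

end Cfsg.Agent.S2908
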