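import Cfsg.Statements.S4776
import Cfsg.Agent.DegreeGraph.RelativeTwoComponents
-- import your own Cfsg.Agent.* helpers here

set_option autoImplicit false
open Cfsg Cfsg.Agent Cfsg.Agent.DegreeGraph.RelTwo

namespace Cfsg.Agent.S4776

/-- Let N be a normal subgroup of the finite group G that is not perfect and is contained in the derived subgroup of G. Consider the common-divisor graph on the relative degree set cd(G|N) (the degrees of the irreducible complex characters of G whose kernel does not contain N; two distinct degrees adjacent when they have a common divisor greater than one). Then this graph has at most two connected components; and if a, b ∈ cd(G|N) lie in different components, then one of a, b is coprime to the index m of the derived subgroup of N in N while the other is divisible by every prime divisor of m. -/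
theorem result {G : Type*} [Group G] [Finite G] (N : Subgroup G) [N.Normal] (hN : ⁅N, N⁆ < N) (hNG : N ≤ commutator G) : Nat.card (Cfsg.commonDivisorGraph.induce (Cfsg.relCharDegrees N)).ConnectedComponent ≤ 2 ∧ ∀ (a b : ℕ) (ha : a ∈ Cfsg.relCharDegrees N) (hb : b ∈ Cfsg.relCharDegrees N), ¬ (Cfsg.commonDivisorGraph.induce (Cfsg.relCharDegrees N)).Reachable ⟨a, ha⟩ ⟨b, hb⟩ → (Nat.Coprime a (⁅N, N⁆.relIndex N) ∧ ∀ r : ℕ, r.Prime → r ∣ ⁅N, N⁆.relIndex N → r ∣ b) ∨ (Nat.Coprime b (⁅N, N⁆.relIndex N) ∧ ∀ r : ℕ, r.Prime → r ∣ ⁅N, N⁆.relIndex N → r ∣ a) := by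
  classical
  haveI := Fintype.ofFinite G
  set m := ⁅N, N⁆.relIndex N with hmdef
  have key : ∀ (a b : ℕ) (ha : a ∈ Cfsg.relCharDegrees N) (hb : b ∈ Cfsg.relCharDegrees N),
      ¬ (Cfsg.commonDivisorGraph.induce (Cfsg.relCharDegrees N)).Reachable ⟨a, ha⟩ ⟨b, hb⟩ →
      (Nat.Coprime a m ∧ ∀ r : ℕ, r.Prime → r ∣ m → r ∣ b) ∨
        (Nat.Coprime b m ∧ ∀ r : ℕ, r.Prime → r ∣ m → r ∣ a) := by
    intro a b ha hb hnr
    have ha0 : a ≠ 0 := by
      obtain ⟨χ, -, h⟩ := ha
      exact h ▸ degree_ne_zero χ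
    have hboth : ∀ r : ℕ, r.Prime → r ∣ a → r ∣ b → False := fun r hr h1 h2 =>
      hnr (reach_of_gcd ha hb hr.ne_one h1 h2 ha0).2.2
    have hone : ∀ r : ℕ, r.Prime → r ∣ m → ¬ r ∣ a → r ∣ b := fun r hr hrm h1 => by
      by_contra h2
      exact hnr (reach_of_not_dvd hNG ha hb hr hr hrm hrm h1 h2).2.2
    by_cases hall : ∀ r : ℕ, r.Prime → r ∣ m → r ∣ a
    · refine Or.inr ⟨Nat.coprime_of_dvd fun r hr h1 h2 => hboth r hr (hall r hr h2) h1, hall⟩
    · push Not at hall
      obtain ⟨r, hr, hrm, hra⟩ := hall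
      have hb' : ∀ s : ℕ, s.Prime → s ∣ m → s ∣ b := fun s hs hsm => by
        by_contra hsb
        exact hnr (reach_of_not_dvd hNG ha hb hr hs hrm hsm hra hsb).2.2
      exact Or.inl ⟨Nat.coprime_of_dvd fun s hs h1 h2 => hboth s hs h1 (hb' s hs h2), hb'⟩
  refine ⟨?_, key⟩
  obtain ⟨r, hr, hrm⟩ := Nat.exists_prime_and_dvd (n := m)
    (fun h => hN.not_ge (Subgroup.relIndex_eq_one.1 h))
  haveI : Finite (Cfsg.IrrCharacter G) := Chars.irr_finite
  haveI : Finite ↥(Cfsg.relCharDegrees N) :=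
    ((Set.finite_range fun χ : Cfsg.IrrCharacter G => Cfsg.charDegree (χ : G → ℂ)).subset
      (by rintro d ⟨χ, -, h⟩; exact ⟨χ, h⟩)).to_subtype
  by_contra hlt
  push Not at hlt
  haveI : Fintype (Cfsg.commonDivisorGraph.induce (Cfsg.relCharDegrees N)).ConnectedComponent :=
    Fintype.ofFinite _
  rw [Nat.card_eq_fintype_card] at hlt
  obtain ⟨x, y, z, hxy, hxz, hyz⟩ := Fintype.two_lt_card_iff.1 hlt
  induction x using SimpleGraph.ConnectedComponent.ind with | _ a => ?_
  induction y using SimpleGraph.ConnectedComponent.ind with | _ b => ?_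
  induction z using SimpleGraph.ConnectedComponent.ind with | _ c => ?_
  rw [Ne, SimpleGraph.ConnectedComponent.eq] at hxy hxz hyz
  have two : ∀ u v : ↥(Cfsg.relCharDegrees N),
      ¬ (Cfsg.commonDivisorGraph.induce (Cfsg.relCharDegrees N)).Reachable u v →
      r ∣ (u : ℕ) ∨ r ∣ (v : ℕ) := fun u v h => by
    rcases key u v u.2 v.2 h with ⟨-, h1⟩ | ⟨-, h1⟩
    · exact Or.inr (h1 r hr hrm)
    · exact Or.inl (h1 r hr hrm)
  have adj : ∀ u v : ↥(Cfsg.relCharDegrees N), r ∣ (u : ℕ) → r ∣ (v : ℕ) →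
      (Cfsg.commonDivisorGraph.induce (Cfsg.relCharDegrees N)).Reachable u v := fun u v h1 h2 =>
    (reach_of_gcd u.2 v.2 hr.ne_one h1 h2 (by
      obtain ⟨χ, -, h⟩ := u.2
      exact h ▸ degree_ne_zero χ)).2.2
  rcases two a b hxy with h | h <;> rcases two a c hxz with h' | h' <;>
    rcases two b c hyz with h'' | h'' <;>
    first
      | exact hxy (adj a b (by assumption) (by assumption))
      | exact hxz (adj a c (by assumption) (by assumption))
      | exact hyz (adj b c (by assumption) (by assumption))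

end Cfsg.Agent.S4776
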