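import Cfsg.Statements.S4018
import Cfsg.Agent.FGS2.KleinTI
import Mathlib.GroupTheory.Transfer
-- import your own Cfsg.Agent.* helpers here

set_option autoImplicit false
open Cfsg

namespace Cfsg.Agent.S4018

theorem four {G : Type*} [Group G] {K : Subgroup G} (hK : Nat.card K = 4) (hexp : ∀ x ∈ K, x * x = 1)
    {a b : G} (ha : a ∈ K) (hb : b ∈ K) (ha1 : a ≠ 1) (hb1 : b ≠ 1) (hab : a ≠ b) :
    ∀ x ∈ K, x = 1 ∨ x = a ∨ x = b ∨ x = a * b := by
  classical
  have hab1 : a * b ≠ 1 := fun e => hab (by rw [← inv_eq_of_mul_eq_one_right (hexp a ha)]; exact inv_eq_of_mul_eq_one_right e)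
  intro x hx
  by_contra hc
  push Not at hc
  obtain ⟨h1, h2, h3, h4⟩ := hc
  have : Finite K := Nat.finite_of_card_ne_zero (by omega)
  have := Fintype.ofFinite K
  let e : Fin 5 → K := ![1, ⟨a, ha⟩, ⟨b, hb⟩, ⟨a * b, K.mul_mem ha hb⟩, ⟨x, hx⟩]
  have he : Function.Injective e := by
    intro i j hij
    have h5 : a * b ≠ a := fun e => hb1 (mul_eq_left.1 e)
    have h6 : a * b ≠ b := fun e => ha1 (mul_eq_right.1 e)
    fin_cases i <;> fin_cases j <;>
      simp [e, Subtype.ext_iff, ha1, Ne.symm ha1, hb1, Ne.symm hb1, hab, Ne.symm hab, hab1, Ne.symm hab1,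
        h1, Ne.symm h1, h2, Ne.symm h2, h3, Ne.symm h3, h4, Ne.symm h4, h5, Ne.symm h5, h6, Ne.symm h6] at hij ⊢
  have := Nat.card_le_card_of_injective e he
  rw [Nat.card_fin, hK] at this
  omega

/-- Let G be a finite group with an abelian Sylow 3-subgroup P such that the normalizer of P has order 4·#P, the centralizer C of P has order 2·#P, C meets each of its conjugates by elements outside its normalizer trivially, and every proper subgroup of G of even order has order dividing 4·#P. Then G is not simple. -/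
theorem result {G : Type*} [Group G] [Finite G]
    (P : Sylow 3 G) (hab : IsMulCommutative P)
    (hN : Nat.card (Subgroup.normalizer ((P : Subgroup G) : Set G)) = 4 * Nat.card P)
    (hC : Nat.card (Subgroup.centralizer (P : Set G)) = 2 * Nat.card P)
    (hTI : Cfsg.IsTISubset (Subgroup.centralizer (P : Set G) : Set G))
    (heven : ∀ H : Subgroup G, H ≠ ⊤ → 2 ∣ Nat.card H → Nat.card H ∣ 4 * Nat.card P) :
    ¬ IsSimpleGroup G := by
  classical
  intro hs
  have := hs
  have := Fintype.ofFinite G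
  set N := Subgroup.normalizer ((P : Subgroup G) : Set G) with hNdef
  set C := Subgroup.centralizer (P : Set G) with hCdef
  set q := Nat.card P with hqdef
  obtain ⟨n, hn⟩ := IsPGroup.iff_card.mp P.isPGroup'
  have hqn : q = 3 ^ n := hn
  have hqodd : Odd q := hqn ▸ Odd.pow (by decide)
  have hqG : q ∣ Nat.card G := Subgroup.card_subgroup_dvd_card _
  have hq3 : 3 ≤ q := by
    rcases Nat.eq_zero_or_pos n with h0 | h0
    · exfalso
      have hP : (P : Subgroup G) = ⊥ := Subgroup.card_eq_one.1 (by rw [hn, h0, pow_zero])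
      have hCt : C = ⊤ := eq_top_iff.2 fun g _ => Subgroup.mem_centralizer_iff.2 fun h hh => by
        replace hh : h ∈ (P : Subgroup G) := hh
        rw [hP] at hh
        rw [Subgroup.mem_bot.1 hh]; simp
      have hNt : N = ⊤ := eq_top_iff.2 (hCt ▸ Subgroup.centralizer_le_normalizer _)
      rw [hCt, Subgroup.card_top] at hC
      rw [hNt, Subgroup.card_top] at hN
      have := Nat.card_pos (α := (P : Subgroup G))
      change Nat.card G = 2 * q at hC
      change Nat.card G = 4 * q at hN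
      change 0 < q at this
      omega
    · rw [hqn]; calc 3 = 3 ^ 1 := by norm_num
        _ ≤ 3 ^ n := Nat.pow_le_pow_right (by norm_num) h0
  have hcard_gt : ∀ k, Nat.card G ≠ 2 ^ k := by
    intro k e
    have h1 : q ∣ 2 ^ k := e ▸ hqG
    have h2 : q.Coprime (2 ^ k) := Nat.Coprime.pow_right k (Nat.coprime_two_right.mpr hqodd)
    have := h2.eq_one_of_dvd h1
    omega
  have hPab : ∀ a ∈ (P : Subgroup G), ∀ b ∈ (P : Subgroup G), a * b = b * a := fun a ha b hb =>
    congrArg Subtype.val (hab.is_comm.comm ⟨a, ha⟩ ⟨b, hb⟩)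
  have hPC : (P : Subgroup G) ≤ C := fun a ha => Subgroup.mem_centralizer_iff.2 fun b hb => hPab b hb a ha
  have hCN : C ≤ N := Subgroup.centralizer_le_normalizer _
  have h3P : ∀ (y : G) (k : ℕ), y ∈ N → orderOf y = 3 ^ k → y ∈ (P : Subgroup G) := by
    intro y k hy hk
    have hY : IsPGroup 3 (Subgroup.zpowers y) := IsPGroup.of_card (n := k) (by rw [Nat.card_zpowers, hk])
    have hJ : IsPGroup 3 ((P : Subgroup G) ⊔ Subgroup.zpowers y : Subgroup G) := by
      rw [sup_comm]
      exact IsPGroup.to_sup_of_normal_right' hY P.isPGroup' (Subgroup.zpowers_le.2 hy)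
    exact (le_sup_right.trans (P.is_maximal' hJ le_sup_left).le) (Subgroup.mem_zpowers y)
  have hPord : ∀ y ∈ (P : Subgroup G), ∃ k, orderOf y = 3 ^ k := fun y hy => by
    obtain ⟨k, hk⟩ := IsPGroup.iff_orderOf.mp P.isPGroup' ⟨y, hy⟩
    exact ⟨k, by rwa [Subgroup.orderOf_mk] at hk⟩
  obtain ⟨t', ht'⟩ := exists_prime_orderOf_dvd_card' (G := C) 2 (hC ▸ dvd_mul_right 2 _)
  obtain ⟨t, htC⟩ := t'
  rw [Subgroup.orderOf_mk] at ht'
  have htt : t * t = 1 := by rw [← sq, ← ht']; exact pow_orderOf_eq_one t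
  have ht1 : t ≠ 1 := fun e => by simp [e] at ht'
  have hsup : (P : Subgroup G) ⊔ Subgroup.zpowers t = C := by
    have hle : (P : Subgroup G) ⊔ Subgroup.zpowers t ≤ C := sup_le hPC (Subgroup.zpowers_le.2 htC)
    refine Subgroup.eq_of_le_of_card_ge hle ?_
    rw [hC]
    refine Nat.le_of_dvd Nat.card_pos ((Nat.coprime_two_left.mpr hqodd).mul_dvd_of_dvd_of_dvd ?_
      (Subgroup.card_dvd_of_le le_sup_left))
    rw [← ht', ← Nat.card_zpowers]
    exact Subgroup.card_dvd_of_le le_sup_right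
  have hCcomm : ∀ a ∈ C, ∀ b ∈ C, a * b = b * a := by
    have hCt : ∀ c ∈ C, c * t = t * c := by
      have : C ≤ Subgroup.centralizer ({t} : Set G) := by
        rw [← hsup]
        refine sup_le (fun p hp => Subgroup.mem_centralizer_singleton_iff.2 ?_) (Subgroup.zpowers_le.2 ?_)
        · exact Subgroup.mem_centralizer_iff.1 htC p hp
        · exact Subgroup.mem_centralizer_singleton_iff.2 rfl
      exact fun c hc => Subgroup.mem_centralizer_singleton_iff.1 (this hc)
    have : C ≤ Subgroup.centralizer (C : Set G) := by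
      conv_lhs => rw [← hsup]
      refine sup_le (fun p hp => Subgroup.mem_centralizer_iff.2 fun c hc => ?_) (Subgroup.zpowers_le.2 ?_)
      · exact (Subgroup.mem_centralizer_iff.1 hc p hp).symm
      · exact Subgroup.mem_centralizer_iff.2 fun c hc => hCt c hc
    exact fun a ha b hb => Subgroup.mem_centralizer_iff.1 (this hb) a ha
  have hNC : Subgroup.normalizer (C : Set G) ≤ N := by
    intro g hg
    have h1 : ∀ (g : G), g ∈ Subgroup.normalizer (C : Set G) → ∀ y ∈ (P : Subgroup G), g * y * g⁻¹ ∈ (P : Subgroup G) := by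
      intro g hg y hy
      obtain ⟨k, hk⟩ := hPord y hy
      exact h3P _ k (hCN ((Subgroup.mem_normalizer_iff.1 hg y).1 (hPC hy)))
        ((MulEquiv.orderOf_eq (MulAut.conj g) y).trans hk)
    rw [hNdef, Subgroup.mem_normalizer_iff]
    refine fun y => ⟨h1 g hg y, fun hy => ?_⟩
    have := h1 g⁻¹ (inv_mem hg) _ hy
    simpa [mul_assoc] using this
  have hTI' : ∀ x ∈ C, x ≠ 1 → ∀ g : G, g * x * g⁻¹ ∈ C → g ∈ N := by
    intro x hx hx1 g hg
    refine hNC ?_
    by_contra hgn
    exact hx1 (hTI g hgn x hx hg)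
  -- the centraliser of `t`
  obtain ⟨S, hS⟩ : ∃ S : Sylow 2 G, t ∈ (S : Subgroup G) := by
    obtain ⟨S, hS⟩ := (IsPGroup.of_card (n := 1) (show Nat.card (Subgroup.zpowers t) = 2 ^ 1 by
      rw [Nat.card_zpowers, ht', pow_one])).exists_le_sylow
    exact ⟨S, hS (Subgroup.mem_zpowers t)⟩
  have h4G : 4 ∣ Nat.card G := (hN ▸ dvd_mul_right 4 _).trans (Subgroup.card_subgroup_dvd_card N)
  have hScard : Nat.card S = 4 := by
    rw [S.card_eq_multiplicity]
    have h2 : 2 ≤ (Nat.card G).factorization 2 :=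
      (Nat.prime_two.pow_dvd_iff_le_factorization Nat.card_pos.ne').1 h4G
    have h3 : ¬ 3 ≤ (Nat.card G).factorization 2 := by
      intro h3
      obtain ⟨K, hK⟩ := Sylow.exists_subgroup_card_pow_prime 2
        ((Nat.prime_two.pow_dvd_iff_le_factorization Nat.card_pos.ne').2 h3)
      have hKt : K ≠ ⊤ := fun e => hcard_gt 3 (by rw [← hK, e, Subgroup.card_top])
      have := heven K hKt (by rw [hK]; norm_num)
      rw [hK] at this
      obtain ⟨w, hw⟩ := hqodd
      omega
    rw [show (Nat.card G).factorization 2 = 2 by omega]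
    norm_num
  have hScomm : ∀ a ∈ (S : Subgroup G), ∀ b ∈ (S : Subgroup G), a * b = b * a := by
    have := IsPGroup.commutative_of_card_eq_prime_sq (p := 2) (G := (S : Subgroup G)) (hScard.trans (by norm_num))
    exact fun a ha b hb => congrArg Subtype.val (this ⟨a, ha⟩ ⟨b, hb⟩)
  set CT := Subgroup.centralizer ({t} : Set G) with hCTdef
  have hCTne : CT ≠ ⊤ := by
    intro e
    have hn' : (Subgroup.zpowers t).Normal := ⟨fun x hx g => by
      have hgt : g * t = t * g := Subgroup.mem_centralizer_singleton_iff.1 (e ▸ Subgroup.mem_top g : g ∈ CT)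
      obtain ⟨k, rfl⟩ := Subgroup.mem_zpowers_iff.1 hx
      rwa [((show Commute g t from hgt).zpow_right k).eq, mul_inv_cancel_right]⟩
    rcases hn'.eq_bot_or_eq_top with h0 | h0
    · exact ht1 (Subgroup.zpowers_eq_bot.1 h0)
    · exact hcard_gt 1 (by rw [← Subgroup.card_top (G := G), ← h0, Nat.card_zpowers, ht', pow_one])
  have hCCT : C ≤ CT := fun c hc => Subgroup.mem_centralizer_singleton_iff.2 (hCcomm c hc t htC)
  have hSCT : (S : Subgroup G) ≤ CT := fun c hc => Subgroup.mem_centralizer_singleton_iff.2 (hScomm c hc t hS)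
  have hCTcard : Nat.card CT = 4 * q := by
    have h4 : 4 ∣ Nat.card CT := hScard ▸ Subgroup.card_dvd_of_le hSCT
    have hd : Nat.card CT ∣ 4 * q := heven CT hCTne ((show 2 ∣ 4 by norm_num).trans h4)
    refine Nat.dvd_antisymm hd ((Nat.Coprime.pow_left 2 (Nat.coprime_two_left.mpr hqodd)).mul_dvd_of_dvd_of_dvd h4
      ((hC ▸ dvd_mul_left q 2).trans (Subgroup.card_dvd_of_le hCCT)))
  have hindex : ∀ K : Subgroup G, C ≤ K → Nat.card K = 4 * q → (C.subgroupOf K).index = 2 := by
    intro K hle hK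
    have h1 := (C.subgroupOf K).card_mul_index
    rw [Nat.card_congr (Subgroup.subgroupOfEquivOfLe hle).toEquiv, hC, hK,
      show 4 * q = 2 * q * 2 by ring] at h1
    exact Nat.eq_of_mul_eq_mul_left (by omega) h1
  have hCTN : CT = N := by
    refine Subgroup.eq_of_le_of_card_ge (le_trans ?_ hNC) (by rw [hN, hCTcard])
    have := Subgroup.normal_of_index_eq_two (hindex CT hCCT hCTcard)
    exact (Subgroup.normal_subgroupOf_iff_le_normalizer hCCT).1 this
  -- the Sylow 2-subgroup is a four group, not centralised by its normaliser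
  have hker : ∀ hle : Subgroup.normalizer ((S : Subgroup G) : Set G) ≤ Subgroup.centralizer (S : Set G), False := by
    intro hle
    have hc := MonoidHom.ker_transferSylow_isComplement' S hle
    have h1 := hc.card_mul
    rcases (inferInstance : (MonoidHom.transferSylow S hle).ker.Normal).eq_bot_or_eq_top with e | e
    · rw [e, Subgroup.card_bot, one_mul, hScard] at h1
      exact hcard_gt 2 h1.symm
    · rw [e, Subgroup.card_top, hScard] at h1
      have := Nat.card_pos (α := G)
      omega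
  have hexp : ∀ x ∈ (S : Subgroup G), x * x = 1 := by
    intro x hx
    by_contra hx2
    have hord : orderOf (⟨x, hx⟩ : (S : Subgroup G)) = 4 := by
      have hd : orderOf (⟨x, hx⟩ : (S : Subgroup G)) ∣ 2 ^ 2 := (orderOf_dvd_natCard _).trans (hScard.trans (by norm_num)).dvd
      obtain ⟨i, hi, he⟩ := (Nat.dvd_prime_pow Nat.prime_two).1 hd
      rw [he]
      have : ¬ i ≤ 1 := fun hi1 => hx2 (by
        have h := pow_orderOf_eq_one (⟨x, hx⟩ : (S : Subgroup G))
        rw [he] at h
        have h' := congrArg Subtype.val h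
        rcases (by omega : i = 0 ∨ i = 1) with rfl | rfl
        · simp at h'; simp [h']
        · simpa [sq] using h')
      rw [show i = 2 by omega]; norm_num
    have hcyc : IsCyclic S := isCyclic_of_orderOf_eq_card _ (hord.trans hScard.symm)
    exact hker (IsCyclic.normalizer_le_centralizer ((Nat.minFac_eq_two_iff _).2 ((show 2 ∣ 4 by norm_num).trans h4G)) hcyc)
  obtain ⟨w, hw, hwc⟩ := SetLike.not_le_iff_exists.1 hker
  have hφmem : ∀ s ∈ (S : Subgroup G), w * s * w⁻¹ ∈ (S : Subgroup G) := fun s hs' =>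
    (Subgroup.mem_normalizer_iff.1 hw s).1 hs'
  -- an odd power of the conjugation is trivial
  obtain ⟨m, hm, hmfix⟩ : ∃ m, Odd m ∧ ∀ s ∈ (S : Subgroup G), w ^ m * s * (w ^ m)⁻¹ = s := by
    refine ⟨orderOf w / 2 ^ (orderOf w).factorization 2, ?_, fun s hs' => ?_⟩
    · rw [Nat.odd_iff, ← Nat.two_dvd_ne_zero]
      exact Nat.not_dvd_ordCompl Nat.prime_two (orderOf_pos w).ne'
    · set m := orderOf w / 2 ^ (orderOf w).factorization 2
      have hd : m ∣ orderOf w := Nat.ordCompl_dvd _ _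
      have hY : IsPGroup 2 (Subgroup.zpowers (w ^ m)) := IsPGroup.of_card (n := (orderOf w).factorization 2) (by
        rw [Nat.card_zpowers, orderOf_pow_of_dvd (Nat.ordCompl_pos 2 (orderOf_pos w).ne').ne' hd]
        exact Nat.div_eq_of_eq_mul_left (Nat.ordCompl_pos 2 (orderOf_pos w).ne')
          (Nat.ordProj_mul_ordCompl_eq_self _ _).symm)
      have hJ : IsPGroup 2 ((S : Subgroup G) ⊔ Subgroup.zpowers (w ^ m) : Subgroup G) := by
        rw [sup_comm]
        exact IsPGroup.to_sup_of_normal_right' hY S.isPGroup' (Subgroup.zpowers_le.2 (pow_mem hw m))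
      have : w ^ m ∈ (S : Subgroup G) :=
        (le_sup_right.trans (S.is_maximal' hJ le_sup_left).le) (Subgroup.mem_zpowers _)
      rw [hScomm _ this s hs', mul_inv_cancel_right]
  have hper : ∀ s : G, w * (w * s * w⁻¹) * w⁻¹ = s → ∀ k, w ^ (2 * k + 1) * s * (w ^ (2 * k + 1))⁻¹ = w * s * w⁻¹ := by
    intro s hs2 k
    induction k with
    | zero => simp
    | succ k ih =>
      rw [show 2 * (k + 1) + 1 = 2 + (2 * k + 1) by ring, pow_add]
      calc w ^ 2 * w ^ (2 * k + 1) * s * (w ^ 2 * w ^ (2 * k + 1))⁻¹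
          = w * (w * (w ^ (2 * k + 1) * s * (w ^ (2 * k + 1))⁻¹) * w⁻¹) * w⁻¹ := by rw [sq]; group
        _ = w * (w * (w * s * w⁻¹) * w⁻¹) * w⁻¹ := by rw [ih]
        _ = w * s * w⁻¹ := by rw [hs2]
  have hfix2 : ∀ s ∈ (S : Subgroup G), w * (w * s * w⁻¹) * w⁻¹ = s → w * s * w⁻¹ = s := by
    intro s hs' h2
    obtain ⟨k, rfl⟩ := hm
    exact (hper s h2 k).symm.trans (hmfix s hs')
  set b := w * t * w⁻¹ with hb
  have hbt : b ≠ t := by
    intro hbt
    apply hwc
    rw [Subgroup.mem_centralizer_iff]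
    intro s hs'
    have key : w * s * w⁻¹ = s := by
      by_cases hs1 : s = 1
      · subst hs1; group
      by_cases hst : s = t
      · subst hst; exact hbt
      refine hfix2 s hs' ?_
      rcases four hScard hexp hS hs' ht1 hs1 (Ne.symm hst) _ (hφmem s hs') with e | e | e | e
      · exact absurd (conj_eq_one_iff.1 e) hs1
      · exact absurd (mul_left_cancel (mul_right_cancel (e.trans hbt.symm))) hst
      · rw [e, e]
      · rw [e, show w * (t * s) * w⁻¹ = b * (w * s * w⁻¹) by rw [hb]; group, e, hbt, ← mul_assoc, htt, one_mul]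
    have := congrArg (fun z => z * w) key
    simpa [mul_assoc] using this.symm
  have hconjS : ∀ s ∈ (S : Subgroup G), s ≠ 1 → IsConj t s := by
    intro s hs' hs1
    have hb1 : b ≠ 1 := fun e => ht1 (conj_eq_one_iff.1 e)
    have hcb : IsConj t b := isConj_iff.2 ⟨w, rfl⟩
    have h2b : w * b * w⁻¹ ≠ b := fun e => hbt (mul_left_cancel (mul_right_cancel e))
    have h2t : w * b * w⁻¹ ≠ t := fun e => hbt (hfix2 t hS e)
    rcases four hScard hexp hS (hφmem t hS) ht1 hb1 hbt.symm s hs' with e | e | e | e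
    · exact absurd e hs1
    · rw [e]
    · rw [e]; exact hcb
    · rcases four hScard hexp hS (hφmem t hS) ht1 hb1 hbt.symm _ (hφmem b (hφmem t hS)) with e' | e' | e' | e'
      · exact absurd (conj_eq_one_iff.1 e') hb1
      · exact absurd e' h2t
      · exact absurd e' h2b
      · rw [e]
        change w * b * w⁻¹ = t * b at e'
        rw [← e']
        exact hcb.trans (isConj_iff.2 ⟨w, rfl⟩)
  have hintoS : ∀ (x : G) (k : ℕ), orderOf x = 2 ^ k → ∃ s ∈ (S : Subgroup G), IsConj x s := by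
    intro x k hk
    obtain ⟨Q, hQ⟩ := (IsPGroup.of_card (n := k) (show Nat.card (Subgroup.zpowers x) = 2 ^ k by
      rw [Nat.card_zpowers, hk])).exists_le_sylow
    obtain ⟨g, hg⟩ := MulAction.exists_smul_eq G Q S
    refine ⟨g * x * g⁻¹, ?_, isConj_iff.2 ⟨g, rfl⟩⟩
    rw [← hg]
    exact Subgroup.smul_mem_pointwise_smul x (MulAut.conj g) _ (hQ (Subgroup.mem_zpowers x))
  have hinvol : ∀ i : G, orderOf i = 2 → IsConj t i := by
    intro i hi
    obtain ⟨s, hs', hc⟩ := hintoS i 1 (by rw [hi, pow_one])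
    refine (hconjS s hs' fun e => ?_).trans hc.symm
    rw [e, isConj_one_left] at hc
    rw [hc, orderOf_one] at hi
    omega
  -- an involution outside `C`
  obtain ⟨u, huS, huC⟩ : ∃ u ∈ (S : Subgroup G), u ∉ C := by
    by_contra hh
    push Not at hh
    have h1 := Subgroup.card_dvd_of_le (show (S : Subgroup G) ≤ C from hh)
    rw [hScard, hC] at h1
    obtain ⟨z, hz⟩ := hqodd
    omega
  have huu : u * u = 1 := hexp u huS
  have huN : u ∈ N := hCTN ▸ hSCT huS
  have hut : u ≠ t := fun e => huC (e ▸ htC)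
  have hu1 : u ≠ 1 := fun e => huC (e ▸ one_mem C)
  obtain ⟨h, hh⟩ := isConj_iff.1 (hconjS u huS hu1)
  have hfree : ∀ y ∈ (P : Subgroup G), u * y = y * u → y = 1 := by
    intro y hy huy
    by_contra hy1
    obtain ⟨k, hk⟩ := hPord y hy
    have h1 : h⁻¹ * y * h ∈ CT := by
      rw [Subgroup.mem_centralizer_singleton_iff, show t = h⁻¹ * u * h by rw [← hh]; group]
      calc h⁻¹ * y * h * (h⁻¹ * u * h) = h⁻¹ * (y * u) * h := by group
        _ = _ := by rw [← huy]; group
    have h2 : h⁻¹ * y * h ∈ (P : Subgroup G) := h3P _ k (hCTN ▸ h1) (by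
      rw [← hk]
      have := MulEquiv.orderOf_eq (MulAut.conj h⁻¹) y
      simpa using this)
    have h3 : h⁻¹ ∈ CT := hCTN ▸ hTI' y (hPC hy) hy1 h⁻¹ (by simpa using hPC h2)
    have h4 : h * t = t * h := Subgroup.mem_centralizer_singleton_iff.1 (by simpa using CT.inv_mem h3)
    exact hut (by rw [← hh, h4, mul_inv_cancel_right])
  have huinvP : ∀ y ∈ (P : Subgroup G), u * y * u⁻¹ = y⁻¹ := by
    intro y hy
    have hy' : u * y * u⁻¹ ∈ (P : Subgroup G) := (Subgroup.mem_normalizer_iff.1 huN y).1 hy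
    refine eq_inv_of_mul_eq_one_right (hfree _ (mul_mem hy hy') ?_)
    have huinv : u⁻¹ = u := inv_eq_of_mul_eq_one_right huu
    rw [hPab y hy _ hy', huinv]
    calc u * (u * y * u * y) = (u * u) * y * (u * y) := by group
      _ = y * (u * y * u) * u := by rw [huu, one_mul]; simp [mul_assoc, huu]
      _ = (u * y * u) * y * u := by
        have := hPab y hy _ hy'; rw [huinv] at this; rw [this]
  let E : Subgroup G :=
    { carrier := {x | x ∈ C ∧ u * x * u⁻¹ = x⁻¹}
      one_mem' := ⟨one_mem C, by simp⟩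
      mul_mem' := by
        rintro a b ⟨ha, ha'⟩ ⟨hb, hb'⟩
        refine ⟨mul_mem ha hb, ?_⟩
        rw [show u * (a * b) * u⁻¹ = (u * a * u⁻¹) * (u * b * u⁻¹) by group, ha', hb', ← mul_inv_rev,
          hCcomm a ha b hb]
      inv_mem' := by
        rintro a ⟨ha, ha'⟩
        exact ⟨inv_mem ha, by rw [← conj_inv, ha']⟩ }
  have huinv : ∀ x ∈ C, u * x * u⁻¹ = x⁻¹ := by
    have hE : C ≤ E := by
      rw [← hsup]
      refine sup_le (fun y hy => ⟨hPC hy, huinvP y hy⟩) (Subgroup.zpowers_le.2 ⟨htC, ?_⟩)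
      rw [inv_eq_of_mul_eq_one_right htt, hScomm u huS t hS, mul_inv_cancel_right]
    exact fun x hx => (hE hx).2
  have hsplit : ∀ g ∈ N, g ∈ C ∨ g * u⁻¹ ∈ C := by
    intro g hg
    by_cases hgC : g ∈ C
    · exact Or.inl hgC
    right
    have h2 := Subgroup.mul_mem_iff_of_index_two (hindex N hCN hN) (a := (⟨g, hg⟩ : N))
      (b := ⟨u⁻¹, inv_mem huN⟩)
    simp only [Subgroup.mem_subgroupOf] at h2
    exact h2.2 (iff_of_false hgC fun h' => huC (by simpa using inv_mem h'))
  have hreal : ∀ i j : G, orderOf i = 2 → orderOf j = 2 → i ≠ j → ∃ g : G, g * (i * j) * g⁻¹ ∈ C := by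
    intro i j hi hj hij
    set x := i * j with hx
    have hii : i * i = 1 := by rw [← sq, ← hi]; exact pow_orderOf_eq_one i
    have hjj : j * j = 1 := by rw [← sq, ← hj]; exact pow_orderOf_eq_one j
    set NX := Subgroup.normalizer ((Subgroup.zpowers x : Subgroup G) : Set G)
    have hiNX : i ∈ NX := by
      rw [Subgroup.mem_normalizer_iff_map_conj_eq, MonoidHom.map_zpowers]
      have : MulAut.conj i x = x⁻¹ := by
        show i * x * i⁻¹ = x⁻¹
        rw [hx, ← mul_assoc, hii, one_mul, mul_inv_rev, inv_eq_of_mul_eq_one_right hjj]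
      simp [this]
    have hx1 : x ≠ 1 := fun e => hij ((eq_inv_of_mul_eq_one_left e).trans (inv_eq_of_mul_eq_one_right hjj))
    have hNX : NX ≠ ⊤ := by
      intro e
      rcases (Subgroup.normalizer_eq_top_iff.1 e).eq_bot_or_eq_top with h0 | h0
      · exact hx1 (Subgroup.zpowers_eq_bot.1 h0)
      · apply hCTne
        rw [eq_top_iff]
        intro g _
        have hcyc : ∀ z : G, z ∈ Subgroup.zpowers x := fun z => h0 ▸ Subgroup.mem_top z
        obtain ⟨a, ha⟩ := Subgroup.mem_zpowers_iff.1 (hcyc g)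
        obtain ⟨b, hb⟩ := Subgroup.mem_zpowers_iff.1 (hcyc t)
        rw [Subgroup.mem_centralizer_singleton_iff, ← ha, ← hb]
        exact (Commute.zpow_zpow_self x a b).eq
    have h4q : orderOf x ∣ 4 * q := (Subgroup.orderOf_dvd_natCard NX
        (Subgroup.le_normalizer (Subgroup.mem_zpowers x))).trans
      (heven NX hNX (hi ▸ Subgroup.orderOf_dvd_natCard NX hiNX))
    have hy : orderOf (x ^ 4) ∣ q := orderOf_dvd_of_pow_eq_one (by
      rw [← pow_mul]; exact orderOf_dvd_iff_pow_eq_one.1 h4q)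
    by_cases hy1 : x ^ 4 = 1
    · obtain ⟨k, -, hk⟩ := (Nat.dvd_prime_pow Nat.prime_two).1
        (show orderOf x ∣ 2 ^ 2 from orderOf_dvd_of_pow_eq_one hy1)
      obtain ⟨s, hs', hc⟩ := hintoS x k hk
      have hs1 : s ≠ 1 := fun e => hx1 (by rw [e, isConj_one_left] at hc; exact hc)
      obtain ⟨g, hg⟩ := isConj_iff.1 (hc.trans (hconjS s hs' hs1).symm)
      exact ⟨g, by rw [hg]; exact htC⟩
    obtain ⟨k, -, hk⟩ := (Nat.dvd_prime_pow (show Nat.Prime 3 by norm_num)).1 (hqn ▸ hy)
    obtain ⟨Q, hQ⟩ := (IsPGroup.of_card (n := k) (show Nat.card (Subgroup.zpowers (x ^ 4)) = 3 ^ k by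
      rw [Nat.card_zpowers, hk])).exists_le_sylow
    obtain ⟨g, hg⟩ := MulAction.exists_smul_eq G Q P
    have hgy : g * x ^ 4 * g⁻¹ ∈ (P : Subgroup G) := by
      rw [← hg]
      exact Subgroup.smul_mem_pointwise_smul (x ^ 4) (MulAut.conj g) _ (hQ (Subgroup.mem_zpowers _))
    refine ⟨g, ?_⟩
    have hne : g * x ^ 4 * g⁻¹ ≠ 1 := fun e => hy1 (conj_eq_one_iff.1 e)
    have hcomm : (g * x * g⁻¹) * (g * x ^ 4 * g⁻¹) * (g * x * g⁻¹)⁻¹ = g * x ^ 4 * g⁻¹ := by group
    rcases hsplit _ (hTI' _ (hPC hgy) hne (g * x * g⁻¹) (by rw [hcomm]; exact hPC hgy)) with h' | h'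
    · exact h'
    exfalso
    obtain ⟨a, ha, hgx⟩ : ∃ a ∈ C, g * x * g⁻¹ = a * u := ⟨_, h', by group⟩
    rw [hgx, show a * u * (g * x ^ 4 * g⁻¹) * (a * u)⁻¹ = a * (u * (g * x ^ 4 * g⁻¹) * u⁻¹) * a⁻¹ by group,
      huinv _ (hPC hgy), hCcomm a ha _ (inv_mem (hPC hgy)), mul_inv_cancel_right, inv_eq_iff_mul_eq_one] at hcomm
    have h2 := orderOf_dvd_of_pow_eq_one ((sq _).trans hcomm)
    rw [show orderOf (g * x ^ 4 * g⁻¹) = orderOf (x ^ 4) from MulEquiv.orderOf_eq (MulAut.conj g) _, hk] at h2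
    have h3 := Nat.le_of_dvd (by norm_num) h2
    rcases Nat.eq_zero_or_pos k with rfl | hk0
    · exact hy1 (orderOf_eq_one_iff.1 (by rw [hk, pow_zero]))
    · have : 3 ^ 1 ≤ 3 ^ k := Nat.pow_le_pow_right (by norm_num) hk0
      omega
  exact FGS2.KleinTI.false_of_config (C := C) (q := q) (t := t) (u := u)
    { comm := hCcomm, card := hC, odd := hqodd, three_le := hq3, t_mem := htC, t_ord := ht'
      u_not := huC, u_sq := huu, u_inv := huinv
      ti := fun x hx hx1 g hg => hsplit g (hTI' x hx hx1 g hg)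
      invol := hinvol, real := hreal }

end Cfsg.Agent.S4018
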