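import Cfsg.Statements.S0944
import Cfsg.Agent.Blocks.Orth
-- import your own Cfsg.Agent.* helpers here

set_option autoImplicit false
open Cfsg

namespace Cfsg.Agent.S0944

/-- Let χ be an irreducible character of the finite group G and u an involution. Then χ u is a rational integer n with n ≡ χ 1 (mod 2). -/
theorem result {G : Type*} [Group G] [Finite G] (χ : Cfsg.IrrCharacter G) (u : G) (hu : orderOf u = 2) : ∃ n : ℤ, (χ : G → ℂ) u = (n : ℂ) ∧ (2 : ℤ) ∣ (Cfsg.charDegree (χ : G → ℂ) : ℤ) - n := by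
  classical
  haveI := Fintype.ofFinite G
  obtain ⟨hdeg, -⟩ := Cfsg.Agent.Blocks.charDegree_eq χ.2
  obtain ⟨n, ρ, -, hρ⟩ := χ.2
  obtain ⟨z, hz, hc, -, -⟩ := Cfsg.Agent.Chars.exists_eigenvalues ρ u
  have hz' : ∀ i, z i = 1 ∨ z i = -1 := fun i => by
    have := hz i; rw [hu] at this; exact sq_eq_one_iff.1 this
  let w : Fin (Module.finrank ℂ (Fin n → ℂ)) → ℤ := fun i => if z i = 1 then 1 else -1
  have hw : ∀ i, (w i : ℂ) = z i := fun i => by
    rcases hz' i with h | h
    · simp [w, h]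
    · simp [w, h, show (-1 : ℂ) ≠ 1 by norm_num]
  refine ⟨∑ i, w i, ?_, ?_⟩
  · have h1 := hc 1
    simp only [pow_one] at h1
    rw [← congrFun hρ u, h1, Int.cast_sum]
    exact Finset.sum_congr rfl fun i _ => (hw i).symm
  · have hd : Cfsg.charDegree (χ : G → ℂ) = Module.finrank ℂ (Fin n → ℂ) := by
      rw [← congrFun hρ 1, Representation.char_one] at hdeg
      exact_mod_cast hdeg.symm
    have : ((Cfsg.charDegree (χ : G → ℂ) : ℤ)) = ∑ i : Fin (Module.finrank ℂ (Fin n → ℂ)), (1 : ℤ) := by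
      rw [hd]; simp
    rw [this, ← Finset.sum_sub_distrib]
    refine Finset.dvd_sum fun i _ => ?_
    simp only [w]
    split_ifs <;> simp

end Cfsg.Agent.S0944
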