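import Cfsg.Statements.S0618
import Cfsg.Agent.PLocal.OffenderQuotient

set_option autoImplicit false
open Cfsg
open scoped commutatorElement

namespace Cfsg.Agent.S0618

/-- A p-separable group with trivial p'-core in which the Thompson factorization fails has p = 2 or 3, and J(G) induces on the normal closure of Ω₁(Z(S)) a group containing a normal SL(2, p). -/
theorem result {G : Type*} [Group G] [Finite G] {p : ℕ} [Fact p.Prime] (hsep : Cfsg.IsPSolvable p G) (hO : Cfsg.pPrimeCore p G = ⊥) (hnf : ¬ Cfsg.IsThompsonFactorizable p G) : (p = 2 ∨ p = 3) ∧ ∃ E : Subgroup G, Subgroup.centralizer ((⨆ S : Sylow p G, Cfsg.omegaOne p ((S : Subgroup G) ⊓ Subgroup.centralizer ((S : Subgroup G) : Set G))) : Set G) ≤ E ∧ E ≤ Cfsg.thompsonSubgroup p G ⊔ Subgroup.centralizer ((⨆ S : Sylow p G, Cfsg.omegaOne p ((S : Subgroup G) ⊓ Subgroup.centralizer ((S : Subgroup G) : Set G))) : Set G) ∧ Cfsg.thompsonSubgroup p G ⊔ Subgroup.centralizer ((⨆ S : Sylow p G, Cfsg.omegaOne p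 ((S : Subgroup G) ⊓ Subgroup.centralizer ((S : Subgroup G) : Set G))) : Set G) ≤ Subgroup.normalizer (E : Set G) ∧ ∃ hn : ((Subgroup.centralizer ((⨆ S : Sylow p G, Cfsg.omegaOne p ((S : Subgroup G) ⊓ Subgroup.centralizer ((S : Subgroup G) : Set G))) : Set G)).subgroupOf E).Normal, Nonempty ((↥E ⧸ (Subgroup.centralizer ((⨆ S : Sylow p G, Cfsg.omegaOne p ((S : Subgroup G) ⊓ Subgroup.centralizer ((S : Subgroup G) : Set G))) : Set G)).subgroupOf E) ≃* Matrix.SpecialLinearGroup (Fin 2) (ZMod p)) := by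
  haveI := PLocal.omegaGen_normal (p := p) (G := G)
  have hV := PLocal.omegaGen_isEA (Core.centralizer_pCore_le hsep hO)
  have hbot : Cfsg.pCore p (G ⧸ Subgroup.centralizer (PLocal.omegaGen p G : Set G)) = ⊥ := by
    refine PLocal.pCore_quotient_centralizer_eq_bot _ fun W hW => iSup_le fun S => le_trans ?_ (hW S)
    exact le_inf (le_iSup (fun T : Sylow p G => PLocal.omegaZ p (T : Subgroup G)) S)
      ((PLocal.omegaZ_le _).trans inf_le_right)
  have hJ : ¬ Cfsg.thompsonSubgroup p G ≤ Subgroup.centralizer (PLocal.omegaGen p G : Set G) :=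
    fun h => hnf ((PLocal.thompsonFactorizable_iff hO).mpr h)
  have heq : Subgroup.centralizer (⨆ S : Sylow p G, (PLocal.omegaZ p (S : Subgroup G) : Set G)) =
      Subgroup.centralizer (PLocal.omegaGen p G : Set G) := by
    refine le_antisymm ?_ (Subgroup.centralizer_le (iSup_le fun S => SetLike.coe_subset_coe.mpr
      (le_iSup (fun T : Sylow p G => PLocal.omegaZ p (T : Subgroup G)) S)))
    exact Subgroup.le_centralizer_iff.mp (iSup_le fun S => Subgroup.le_centralizer_iff.mp
      (Subgroup.centralizer_le (le_iSup (fun T : Sylow p G => (PLocal.omegaZ p (T : Subgroup G) : Set G)) S)))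
  obtain ⟨h1, E, h2, h3, h4, h5, h6⟩ := PLocal.exists_normal_sl2 _ hsep hV hbot hJ
  have key : ∀ C : Subgroup G, C = Subgroup.centralizer (PLocal.omegaGen p G : Set G) →
      C ≤ E ∧ E ≤ Cfsg.thompsonSubgroup p G ⊔ C ∧ Cfsg.thompsonSubgroup p G ⊔ C ≤ Subgroup.normalizer (E : Set G) ∧
        ∃ hn : (C.subgroupOf E).Normal, Nonempty ((E ⧸ C.subgroupOf E) ≃* Matrix.SpecialLinearGroup (Fin 2) (ZMod p)) := by
    rintro C rfl
    exact ⟨h2, h3, h4, h5, h6⟩
  exact ⟨h1, E, key _ heq⟩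

end Cfsg.Agent.S0618
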