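import Cfsg.Statements.S0414
import Cfsg.Agent.Golay.SteinerAut

set_option autoImplicit false
open Cfsg

namespace Cfsg.Agent.S0414

/-- Aut of an S(3, 6, 22) has order 887040, is 3-transitive, and contains a simple subgroup of index 2. -/
theorem result {α : Type*} [Fintype α] [DecidableEq α] (hα : Fintype.card α = 22) {B : Set (Finset α)} (hB : Cfsg.IsSteinerSystem 3 6 B) : Nat.card (Cfsg.setSystemAut B) = 887040 ∧ MulAction.IsMultiplyPretransitive (Cfsg.setSystemAut B) α 3 ∧ ∃ H : Subgroup (Cfsg.setSystemAut B), H.index = 2 ∧ Cfsg.IsM22 H := by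
  obtain ⟨f, hf, hX, hfB⟩ := Cfsg.Agent.Golay.model22 hα hB
  let ψ := Cfsg.Agent.Golay.autEquiv hf hX hfB
  let H : Subgroup (Cfsg.setSystemAut B) :=
    (Cfsg.M24.subgroupOf (Cfsg.Agent.Golay.modelGroup {Cfsg.Agent.Golay.ptA, Cfsg.Agent.Golay.ptB})).comap ψ.toMonoidHom
  have hidx : H.index = 2 := by
    show (Subgroup.comap ψ.toMonoidHom _).index = 2
    rw [Subgroup.index_comap_of_surjective (f := ψ.toMonoidHom) _ ψ.surjective]
    exact Cfsg.Agent.Golay.M22_index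
  let e0 : H ≃* Cfsg.M24.subgroupOf (Cfsg.Agent.Golay.modelGroup {Cfsg.Agent.Golay.ptA, Cfsg.Agent.Golay.ptB}) :=
    { toFun := fun x => ⟨ψ x.1, x.2⟩
      invFun := fun y => ⟨ψ.symm y.1, by
        refine Subgroup.mem_comap.2 ?_
        show ψ (ψ.symm y.1) ∈ Cfsg.M24.subgroupOf (Cfsg.Agent.Golay.modelGroup {Cfsg.Agent.Golay.ptA, Cfsg.Agent.Golay.ptB})
        rw [MulEquiv.apply_symm_apply]; exact y.2⟩
      left_inv := fun x => Subtype.ext (ψ.symm_apply_apply x.1)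
      right_inv := fun y => Subtype.ext (ψ.apply_symm_apply y.1)
      map_mul' := fun x y => Subtype.ext (map_mul ψ x.1 y.1) }
  let e : H ≃* ↥(Cfsg.M24 ⊓ MulAction.stabilizer (Equiv.Perm Cfsg.GolayPt) Cfsg.Agent.Golay.ptA ⊓
      MulAction.stabilizer (Equiv.Perm Cfsg.GolayPt) Cfsg.Agent.Golay.ptB) :=
    e0.trans ({ toFun := fun x => ⟨x.1.1, x.1.2, x.2⟩
                invFun := fun y => ⟨⟨y.1, y.2.1⟩, y.2.2⟩
                left_inv := fun _ => rfl
                right_inv := fun _ => rfl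
                map_mul' := fun _ _ => rfl } : _ ≃* ↥(Cfsg.Agent.Golay.modelGroup {Cfsg.Agent.Golay.ptA, Cfsg.Agent.Golay.ptB} ⊓ Cfsg.M24)) |>.trans
      (MulEquiv.subgroupCongr Cfsg.Agent.Golay.M22_eq_inf)
  have hH : Nat.card H = 443520 := by
    rw [Nat.card_congr e.toEquiv, Cfsg.Agent.Golay.M24_stab2_card Cfsg.Agent.Golay.ptA_ne_ptB]
  haveI := Cfsg.Agent.Golay.M22_simple Cfsg.Agent.Golay.ptA_ne_ptB
  refine ⟨?_, Cfsg.Agent.Golay.model_trans hf hX hfB (by simp [Cfsg.Agent.Golay.ptA_ne_ptB]), H, hidx,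
    MulEquiv.isSimpleGroup e, hH⟩
  rw [← H.index_mul_card, hidx, hH]

end Cfsg.Agent.S0414
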