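import Cfsg.Statements.S2037
import Cfsg.Agent.FGS4.SchurSylow.TwoM23
import Cfsg.Agent.Golay.Mathieu

set_option autoImplicit false
open Cfsg

namespace Cfsg.Agent.S2037
open Cfsg.Agent.Golay

set_option maxHeartbeats 2000000

/-- A permutation code. -/
def c0 : ℕ := 984574537506417163112261518983470176
/-- A permutation code. -/
def c1 : ℕ := 971797883355989335647205403628217600
/-- A permutation code. -/
def c2 : ℕ := 961036959603111402640105067478368288
/-- A permutation code. -/
def c3 : ℕ := 971573502535564247891880895701956640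
/-- A permutation code. -/
def c4 : ℕ := 958191205210014188301951160125872160
/-- A permutation code. -/
def c5 : ℕ := 984554568221901594793627773764150368
/-- A permutation code. -/
def c6 : ℕ := 969843205344968676316842558955299872
/-- A permutation code. -/
def cG : ℕ := 962730561900633736211051782852355398
/-- A permutation code. -/
def ca : ℕ := 984769902586367543974814854303385632
/-- A permutation code. -/
def cb : ℕ := 984237731893710085185596503053402177
/-- A permutation code. -/
def cs : ℕ := 970522743141644479449838263908443331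
/-- A permutation code. -/
def h0 : ℕ := 976247484899604005031194211525530892
/-- A permutation code. -/
def h1 : ℕ := 958737271509173427246164124343915729
/-- A permutation code. -/
def h2 : ℕ := 979201130829647935459958251358339265
/-- A permutation code. -/
def h3 : ℕ := 978844744383799630046194283361439754
/-- A permutation code. -/
def h4 : ℕ := 982049639872794176113383039248128326
/-- A permutation code. -/
def h5 : ℕ := 968421764575889293538867618608959691
/-- A permutation code. -/
def h6 : ℕ := 973725025079559053429611728611674152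
/-- A permutation code. -/
def h7 : ℕ := 975358319807511965756518528461396136
/-- A permutation code. -/
def h8 : ℕ := 971627095365117146137302701825181344
/-- A permutation code. -/
def h9 : ℕ := 973931645045258074203012838963925004
/-- A permutation code. -/
def h10 : ℕ := 982092180488830305182600569171840384
/-- A permutation code. -/
def h11 : ℕ := 969958919365529152982834371483709890
/-- A permutation code. -/
def h12 : ℕ := 962495035167500528774599649701080073
/-- A permutation code. -/
def h13 : ℕ := 978085194938901158998126783005891616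
/-- A permutation code. -/
def h14 : ℕ := 984794871107937475964074157205926088
/-- A permutation code. -/
def h15 : ℕ := 977029719928053821201343777045841933
/-- A permutation code. -/
def h16 : ℕ := 971353216649446114709415918243748960
/-- A permutation code. -/
def h17 : ℕ := 979094508752543748151931160955457197
/-- A permutation code. -/
def h18 : ℕ := 958567265255772084348511916018225153
/-- A permutation code. -/
def h19 : ℕ := 958472505087047361217336494354809101
/-- A permutation code. -/
def h20 : ℕ := 981995176923986722346356217656591424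
/-- A permutation code. -/
def h21 : ℕ := 981615599367566122168564287033315913
/-- A permutation code. -/
def h22 : ℕ := 971423853009632221473406635239049549

/-- The conjugacy certificates: a word and an element carrying `c6` to it. -/
def certs : List (List ℕ × ℕ) := [([c0], h0), ([c1], h1), ([c2], h2), ([c3], h3), ([c4], h4), ([c5], h5), ([c6], h6), ([c0,c2], h7), ([c0,c3], h8), ([c0,c5], h9), ([c1,c3], h10), ([c1,c5], h11), ([c1,c6], h12), ([c2,c3], h13), ([c2,c4], h14), ([c2,c6], h15), ([c3,c4], h16), ([c3,c5], h17), ([c3,c6], h18), ([c4,c6], h19), ([c5,c6], h20), ([c0,c2,c5,c6], h21), ([c2,c3,c4], h22)]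

/-- The word relations. -/
def rels : List (List ℕ × List ℕ) :=
  [([c0, c1, c0], [c1, c5]), 
    ([c0, c4, c0], [c2, c3, c4]), 
    ([c0, c6, c0], [c3, c6]), 
    ([c1, c2, c1], [c2, c6]), 
    ([c1, c4, c1], [c3, c4, c6]), 
    ([c2, c5, c2], [c3, c5]), 
    ([c4, c5, c4], [c5, c6]), 
    (cG :: [c3, c4, c5, c6], [c1, c2, c3, c5, c6, cG]), 
    (cG :: [c1, c2, c4, c5, c6], [c2, c3, c4, c5, c6, cG]), 
    ([ca, ca, ca], []), 
    ([cb, cb, cb], []), 
    ([ca, cb], [cb, ca]), 
    ([cs, ca], [cb, cs]), 
    ([cs, cb], [ca, cs]),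
    ([c5, c6, c5], [c6]),
    ([c4, c5, c4], [c5, c6]),
    ([c4, c6, c4], [c6]),
    ([c3, c4, c3], [c4]),
    ([c3, c5, c3], [c5]),
    ([c3, c6, c3], [c6]),
    ([c2, c3, c2], [c3]),
    ([c2, c4, c2], [c4]),
    ([c2, c5, c2], [c3, c5]),
    ([c2, c6, c2], [c6]),
    ([c1, c2, c1], [c2, c6]),
    ([c1, c3, c1], [c3]),
    ([c1, c4, c1], [c3, c4, c6]),
    ([c1, c5, c1], [c5]),
    ([c1, c6, c1], [c6]),
    ([c0, c1, c0], [c1, c5]),
    ([c0, c2, c0], [c2]),
    ([c0, c3, c0], [c3]),
    ([c0, c4, c0], [c2, c3, c4]),
    ([c0, c5, c0], [c5]),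
    ([c0, c6, c0], [c3, c6]),
    ([c0, c0], []),
    ([c1, c1], []),
    ([c2, c2], []),
    ([c3, c3], []),
    ([c4, c4], []),
    ([c5, c5], []),
    ([c6, c6], [])]

/-- All codes in use. -/
def allCodes : List ℕ :=
  [c0, c1, c2, c3, c4, c5, c6, cG, ca, cb, cs] ++ certs.map Prod.snd

/-- Image of an index under a word. -/
def evalW (ws : List ℕ) (i : ℕ) : ℕ := ws.foldr app i

/-- The word attached to a bit pattern. -/
def bitWord (n : ℕ) : List ℕ :=
  ((([c0, c1, c2, c3, c4, c5, c6] : List ℕ).zipIdx).filter fun q => n.testBit q.2).map Prod.fst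

/-- A fingerprint of a word. -/
def wordKey (ws : List ℕ) : ℕ := (List.range 24).foldr (fun i acc => evalW ws i + 32 * acc) 0

theorem codes_ok : (allCodes.all fun c => isAut c && app c 23 == 23) = true := by decide +kernel

theorem rels_ok : (rels.all fun r => (List.range 24).all fun i => evalW r.1 i == evalW r.2 i) = true := by
  decide +kernel

theorem certs_ok : (certs.all fun r => (List.range 24).all fun i =>
    evalW [r.2, c6] i == evalW (r.1 ++ [r.2]) i) = true := by
  decide +kernel

theorem keys_nodup : ((List.range 128).map fun n => wordKey (bitWord n)).Nodup := by decide +kernel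

theorem ab_points : app ca 3 ≠ 3 ∧ app ca 0 = 0 ∧ app cb 0 ≠ 0 := by decide +kernel

theorem code_mem {c : ℕ} (h : c ∈ allCodes) : permOK c = true ∧ permOf c ∈ Cfsg.Spor.M23 := by
  have h' := List.all_eq_true.1 codes_ok c h
  simp only [Bool.and_eq_true, beq_iff_eq] at h'
  have hok := permOK_of_isAut h'.1
  exact ⟨hok, permOf_mem_M24 h'.1, idx_injective (by rw [Equiv.Perm.smul_def, idx_permOf hok,
    show idx none = 23 from rfl, h'.2])⟩

/-- The element of `M₂₃` of a listed code. -/
noncomputable def el (c : ℕ) (h : c ∈ allCodes := by simp [allCodes]) : Cfsg.Spor.M23 :=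
  ⟨permOf c, (code_mem h).2⟩

theorem idx_prod : ∀ {ws : List ℕ}, (∀ c ∈ ws, c ∈ allCodes) → ∀ p,
    idx ((ws.map permOf).prod p) = evalW ws (idx p)
  | [], _, p => rfl
  | c :: ws, h, p => by
    rw [List.map_cons, List.prod_cons, Equiv.Perm.mul_apply, idx_permOf (code_mem (h c (by simp))).1,
      idx_prod (fun d hd => h d (by simp [hd]))]
    rfl

theorem prod_eq {a b : List ℕ} (ha : ∀ c ∈ a, c ∈ allCodes) (hb : ∀ c ∈ b, c ∈ allCodes)
    (h : ((List.range 24).all fun i => evalW a i == evalW b i) = true) :
    (a.map permOf).prod = (b.map permOf).prod := by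
  ext1 p
  apply idx_injective
  rw [idx_prod ha, idx_prod hb]
  exact beq_iff_eq.1 (List.all_eq_true.1 h _ (List.mem_range.2 (idx_lt p)))

theorem rel_eq {a b : List ℕ} (h : (a, b) ∈ rels) (ha : ∀ c ∈ a, c ∈ allCodes)
    (hb : ∀ c ∈ b, c ∈ allCodes) : (a.map permOf).prod = (b.map permOf).prod :=
  prod_eq ha hb (List.all_eq_true.1 rels_ok _ h)

/-- Products of listed codes. -/
noncomputable def elW (ws : List ℕ) (h : ∀ c ∈ ws, c ∈ allCodes) : Cfsg.Spor.M23 :=
  ⟨(ws.map permOf).prod, Subgroup.list_prod_mem _ fun x hx => by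
    obtain ⟨c, hc, rfl⟩ := List.mem_map.1 hx
    exact (code_mem (h c hc)).2⟩

theorem bitWord_sub (n : ℕ) : ∀ c ∈ bitWord n, c ∈ ([c0, c1, c2, c3, c4, c5, c6] : List ℕ) := by
  intro c hc
  simp only [bitWord, List.mem_map, List.mem_filter] at hc
  obtain ⟨q, ⟨hq, -⟩, rfl⟩ := hc
  exact (List.mem_zipIdx' hq).2 ▸ List.getElem_mem _

theorem gens_card :
    128 ≤ Nat.card (Subgroup.closure
      ({el c0, el c1, el c2, el c3, el c4, el c5, el c6} : Set Cfsg.Spor.M23)) := by
  set K := Subgroup.closure ({el c0, el c1, el c2, el c3, el c4, el c5, el c6} : Set Cfsg.Spor.M23)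
  have hmem : ∀ c ∈ ([c0, c1, c2, c3, c4, c5, c6] : List ℕ), permOf c ∈ K.map Cfsg.Spor.M23.subtype := by
    intro c hc
    simp only [List.mem_cons, List.not_mem_nil, or_false] at hc
    rcases hc with rfl | rfl | rfl | rfl | rfl | rfl | rfl
    · exact ⟨el c0, Subgroup.subset_closure (by simp), rfl⟩
    · exact ⟨el c1, Subgroup.subset_closure (by simp), rfl⟩
    · exact ⟨el c2, Subgroup.subset_closure (by simp), rfl⟩
    · exact ⟨el c3, Subgroup.subset_closure (by simp), rfl⟩
    · exact ⟨el c4, Subgroup.subset_closure (by simp), rfl⟩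
    · exact ⟨el c5, Subgroup.subset_closure (by simp), rfl⟩
    · exact ⟨el c6, Subgroup.subset_closure (by simp), rfl⟩
  have hw : ∀ n, ((bitWord n).map permOf).prod ∈ K.map Cfsg.Spor.M23.subtype := fun n =>
    Subgroup.list_prod_mem _ fun x hx => by
      obtain ⟨c, hc, rfl⟩ := List.mem_map.1 hx
      exact hmem c (bitWord_sub n c hc)
  rw [← Subgroup.card_map_of_injective Cfsg.Spor.M23.subtype_injective (K := K)]
  refine le_trans (le_of_eq (Nat.card_fin 128).symm)
    (Nat.card_le_card_of_injective (fun n : Fin 128 => ⟨_, hw n.1⟩) fun a b hab => ?_)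
  have hab' := congrArg Subtype.val hab
  have hk : wordKey (bitWord a) = wordKey (bitWord b) := by
    unfold wordKey
    refine List.foldr_ext _ _ _ fun i hi acc => ?_
    have hs : ∀ n, ∀ c ∈ bitWord n, c ∈ allCodes := fun n c hc => by
      simp only [allCodes, List.mem_append, List.mem_cons] at *
      have := bitWord_sub n c hc
      simp only [List.mem_cons, List.not_mem_nil, or_false] at this
      tauto
    have e := congrArg (fun σ : Equiv.Perm GolayPt => idx (σ (pt i))) hab'
    simp only [idx_prod (hs a.1), idx_prod (hs b.1), idx_pt (List.mem_range.1 hi)] at e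
    rw [e]
  apply Fin.ext
  exact List.inj_on_of_nodup_map keys_nodup (List.mem_range.2 a.2) (List.mem_range.2 b.2) hk

/-- The Sylow data of `M₂₃`. -/
noncomputable def data (h128 : Nat.card (Subgroup.closure
    ({el c0, el c1, el c2, el c3, el c4, el c5, el c6} : Set Cfsg.Spor.M23)) = 128) :
    Cfsg.Agent.FGS4.SchurSylow.SylowData Cfsg.Spor.M23 where
  e0 := el c0
  e1 := el c1
  e2 := el c2
  e3 := el c3
  e4 := el c4
  e5 := el c5
  e6 := el c6
  g := el cG
  card := h128
  r01 := Subtype.ext (by
    have := rel_eq (a := [c0, c1, c0]) (b := [c1, c5]) (List.mem_of_getElem? (i := 29) rfl) (by simp [allCodes]) (by simp [allCodes])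
    simpa [el, mul_assoc] using this)
  r04 := Subtype.ext (by
    have := rel_eq (a := [c0, c4, c0]) (b := [c2, c3, c4]) (List.mem_of_getElem? (i := 32) rfl) (by simp [allCodes]) (by simp [allCodes])
    simpa [el, mul_assoc] using this)
  r06 := Subtype.ext (by
    have := rel_eq (a := [c0, c6, c0]) (b := [c3, c6]) (List.mem_of_getElem? (i := 34) rfl) (by simp [allCodes]) (by simp [allCodes])
    simpa [el, mul_assoc] using this)
  r12 := Subtype.ext (by
    have := rel_eq (a := [c1, c2, c1]) (b := [c2, c6]) (List.mem_of_getElem? (i := 24) rfl) (by simp [allCodes]) (by simp [allCodes])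
    simpa [el, mul_assoc] using this)
  r14 := Subtype.ext (by
    have := rel_eq (a := [c1, c4, c1]) (b := [c3, c4, c6]) (List.mem_of_getElem? (i := 26) rfl) (by simp [allCodes]) (by simp [allCodes])
    simpa [el, mul_assoc] using this)
  r25 := Subtype.ext (by
    have := rel_eq (a := [c2, c5, c2]) (b := [c3, c5]) (List.mem_of_getElem? (i := 22) rfl) (by simp [allCodes]) (by simp [allCodes])
    simpa [el, mul_assoc] using this)
  r45 := Subtype.ext (by
    have := rel_eq (a := [c4, c5, c4]) (b := [c5, c6]) (List.mem_of_getElem? (i := 15) rfl) (by simp [allCodes]) (by simp [allCodes])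
    simpa [el, mul_assoc] using this)
  hg1 := Subtype.ext (by
    have := rel_eq (a := [cG, c3, c4, c5, c6]) (b := [c1, c2, c3, c5, c6, cG]) (List.mem_of_getElem? (i := 7) rfl) (by simp [allCodes]) (by simp [allCodes])
    simpa [el, mul_assoc] using this)
  hg2 := Subtype.ext (by
    have := rel_eq (a := [cG, c1, c2, c4, c5, c6]) (b := [c2, c3, c4, c5, c6, cG]) (List.mem_of_getElem? (i := 8) rfl) (by simp [allCodes]) (by simp [allCodes])
    simpa [el, mul_assoc] using this)

theorem c6_ne : el c6 ≠ 1 := by
  intro h
  have h0 : wordKey (bitWord 64) ≠ wordKey (bitWord 0) := fun e =>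
    absurd (List.inj_on_of_nodup_map keys_nodup (List.mem_range.2 (by norm_num : 64 < 128))
      (List.mem_range.2 (by norm_num : 0 < 128)) e) (by norm_num)
  apply h0
  unfold wordKey
  refine List.foldr_ext _ _ _ fun i hi acc => ?_
  have hp : permOf c6 = 1 := congrArg Subtype.val h
  have e1 := idx_prod (ws := bitWord 64) (by decide +kernel) (pt i)
  have e0 := idx_prod (ws := bitWord 0) (by decide +kernel) (pt i)
  rw [show bitWord 64 = [c6] by decide +kernel] at e1 ⊢
  rw [show bitWord 0 = [] by decide +kernel] at e0 ⊢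
  rw [idx_pt (List.mem_range.1 hi)] at e0 e1
  simp [hp] at e1 e0
  rw [← e1, ← e0]

theorem conj_cert {q : Cfsg.Spor.M23} {ws : List ℕ} {h : ℕ} (hmem : (ws, h) ∈ certs)
    (hws : ∀ c ∈ ws, c ∈ allCodes) (hq : (q : Equiv.Perm GolayPt) = (ws.map permOf).prod) :
    ∃ k : Cfsg.Spor.M23, k * el c6 * k⁻¹ = q := by
  have hh : h ∈ allCodes := by
    rw [allCodes, List.mem_append]
    exact Or.inr (List.mem_map.2 ⟨(ws, h), hmem, rfl⟩)
  refine ⟨el h hh, mul_inv_eq_iff_eq_mul.2 (Subtype.ext ?_)⟩
  have e := prod_eq (a := [h, c6]) (b := ws ++ [h])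
    (by intro c hc; simp at hc; rcases hc with rfl | rfl <;> [exact hh; simp [allCodes]])
    (by intro c hc; simp at hc; rcases hc with hc | rfl; exacts [hws c hc, hh])
    (List.all_eq_true.1 certs_ok _ hmem)
  simpa [el, hq, List.map_append, List.prod_append] using e

theorem sylow_card {p k : ℕ} (hp : p.Prime) (h1 : p ^ k ∣ 10200960) (h2 : ¬ p ^ (k + 1) ∣ 10200960)
    (S : Sylow p Cfsg.Spor.M23) : Nat.card S = p ^ k := by
  haveI := Fact.mk hp
  obtain ⟨m, hm⟩ := (IsPGroup.iff_card).1 S.isPGroup'
  rw [hm]
  congr 1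
  have hd : Nat.card (S : Subgroup Cfsg.Spor.M23) ∣ 10200960 :=
    spor_M23_card ▸ Subgroup.card_subgroup_dvd_card _
  rw [hm] at hd
  refine le_antisymm ?_ ?_
  · by_contra h
    exact h2 ((pow_dvd_pow p (by omega)).trans hd)
  · refine (Nat.pow_dvd_pow_iff_le_right hp.one_lt).1 ?_
    rw [← hm]
    exact S.pow_dvd_card_of_pow_dvd_card (spor_M23_card.symm ▸ h1)

theorem no_kernel_three {Γ : Type} [Group Γ] [Finite Γ] (σ : Γ →* Cfsg.Spor.M23)
    (hσ : Cfsg.IsStemExtension σ) {z : Γ} (hz : z ∈ σ.ker) (hzo : orderOf z = 3) : False := by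
  haveI : Fact (Nat.Prime 3) := ⟨Nat.prime_three⟩
  have ha : el ca ^ 3 = 1 := Subtype.ext (by
    have := rel_eq (a := [ca, ca, ca]) (b := []) (List.mem_of_getElem? (i := 9) rfl) (by simp [allCodes]) (by simp)
    simpa [el, pow_succ, mul_assoc] using this)
  have hb : el cb ^ 3 = 1 := Subtype.ext (by
    have := rel_eq (a := [cb, cb, cb]) (b := []) (List.mem_of_getElem? (i := 10) rfl) (by simp [allCodes]) (by simp)
    simpa [el, pow_succ, mul_assoc] using this)
  have hab : el ca * el cb = el cb * el ca := Subtype.ext (by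
    have := rel_eq (a := [ca, cb]) (b := [cb, ca]) (List.mem_of_getElem? (i := 11) rfl) (by simp [allCodes]) (by simp [allCodes])
    simpa [el] using this)
  have hg1 : el cs * el ca = el cb * el cs := Subtype.ext (by
    have := rel_eq (a := [cs, ca]) (b := [cb, cs]) (List.mem_of_getElem? (i := 12) rfl) (by simp [allCodes]) (by simp [allCodes])
    simpa [el] using this)
  have hg2 : el cs * el cb = el ca * el cs := Subtype.ext (by
    have := rel_eq (a := [cs, cb]) (b := [ca, cs]) (List.mem_of_getElem? (i := 13) rfl) (by simp [allCodes]) (by simp [allCodes])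
    simpa [el] using this)
  obtain ⟨p1, p2, p3⟩ := ab_points
  have ok : ∀ {c : ℕ}, c ∈ allCodes → permOK c = true := fun hc => (code_mem hc).1
  have hfix : ∀ {c i : ℕ}, permOK c = true → i < 24 → (app c i = i ↔ permOf c (pt i) = pt i) := by
    intro c i hc hi
    have := idx_permOf hc (pt i)
    rw [idx_pt hi] at this
    exact ⟨fun h => idx_injective (by rw [this, h, idx_pt hi]), fun h => by rw [← this, h, idx_pt hi]⟩
  have ha1 : el ca ≠ 1 := fun h => p1 (by
    have e : permOf ca = 1 := congrArg Subtype.val h
    rw [hfix (ok (by simp [allCodes])) (by norm_num), e]; rfl)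
  have hba : el cb ∉ Subgroup.zpowers (el ca) := by
    intro h
    obtain ⟨i, hi⟩ := Subgroup.mem_zpowers_iff.1 h
    apply p3
    rw [hfix (ok (by simp [allCodes])) (by norm_num)]
    have hb' : permOf cb = permOf ca ^ i := by
      have := congrArg Subtype.val hi
      simpa [el] using this.symm
    rw [hb']
    exact Equiv.Perm.zpow_apply_eq_self_of_apply_eq_self
      ((hfix (ok (by simp [allCodes])) (by norm_num)).1 p2) i
  set T := Subgroup.closure ({el ca, el cb} : Set Cfsg.Spor.M23) with hT
  have hpT : IsPGroup 3 T := by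
    rintro ⟨w, hw⟩
    refine ⟨1, Subtype.ext ?_⟩
    show w ^ (3 ^ 1) = 1
    rw [pow_one]
    have hc := Subgroup.isMulCommutative_closure (k := ({el ca, el cb} : Set Cfsg.Spor.M23)) (by
      rintro u (rfl | rfl) v (rfl | rfl) <;> first | rfl | exact hab | exact hab.symm)
    induction hw using Subgroup.closure_induction with
    | mem u hu => rcases hu with rfl | rfl <;> assumption
    | one => exact one_pow 3
    | mul u v hu hv ihu ihv =>
      have huv : Commute u v := congrArg Subtype.val (hc.is_comm.comm ⟨u, hu⟩ ⟨v, hv⟩)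
      rw [huv.mul_pow, ihu, ihv, one_mul]
    | inv u hu ihu => rw [inv_pow, ihu, inv_one]
  obtain ⟨S, hS⟩ := hpT.exists_le_sylow
  refine Cfsg.Agent.FGS4.SchurSylow.stem_false_swap hσ (by norm_num) S (u := el ca) (v := el cb)
    (g := el cs) ?_ ha hab hg1 hg2 hz hzo
  refine (Subgroup.eq_of_le_of_card_ge hS ?_).symm
  rw [sylow_card Nat.prime_three (k := 2) (by norm_num) (by norm_num) S]
  obtain ⟨n, hn⟩ := (IsPGroup.iff_card).1 hpT
  by_contra hlt
  have hle : Subgroup.zpowers (el ca) ≤ T := by
    rw [Subgroup.zpowers_le]; exact Subgroup.subset_closure (by simp)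
  have h3' : 3 < Nat.card T := by
    rw [← orderOf_eq_prime ha ha1, ← Nat.card_zpowers]
    refine lt_of_le_of_ne (Subgroup.card_le_of_le hle) fun h => hba ?_
    rw [Subgroup.eq_of_le_of_card_ge hle h.ge]
    exact Subgroup.subset_closure (by simp)
  rw [hn] at h3' hlt
  have : n ≤ 1 := by
    by_contra hh
    exact hlt (Nat.pow_le_pow_right (by norm_num) (by omega))
  have := Nat.pow_le_pow_right (n := 3) (by norm_num) this
  omega

theorem card_gens :
    Nat.card (Subgroup.closure
      ({el c0, el c1, el c2, el c3, el c4, el c5, el c6} : Set Cfsg.Spor.M23)) = 128 := by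
  refine le_antisymm ?_ gens_card
  have hsq : ∀ c, (h : c ∈ ([c0, c1, c2, c3, c4, c5, c6] : List ℕ)) →
      el c (by simp only [allCodes, List.mem_append, List.mem_cons] at *; tauto) *
      el c (by simp only [allCodes, List.mem_append, List.mem_cons] at *; tauto) = 1 := by
    intro c hc
    simp only [List.mem_cons, List.not_mem_nil, or_false] at hc
    rcases hc with rfl | rfl | rfl | rfl | rfl | rfl | rfl
    · exact Subtype.ext (by
        have := rel_eq (a := [c0, c0]) (b := []) (List.mem_of_getElem? (i := 35) rfl) (by simp [allCodes]) (by simp)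
        simpa [el] using this)
    · exact Subtype.ext (by
        have := rel_eq (a := [c1, c1]) (b := []) (List.mem_of_getElem? (i := 36) rfl) (by simp [allCodes]) (by simp)
        simpa [el] using this)
    · exact Subtype.ext (by
        have := rel_eq (a := [c2, c2]) (b := []) (List.mem_of_getElem? (i := 37) rfl) (by simp [allCodes]) (by simp)
        simpa [el] using this)
    · exact Subtype.ext (by
        have := rel_eq (a := [c3, c3]) (b := []) (List.mem_of_getElem? (i := 38) rfl) (by simp [allCodes]) (by simp)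
        simpa [el] using this)
    · exact Subtype.ext (by
        have := rel_eq (a := [c4, c4]) (b := []) (List.mem_of_getElem? (i := 39) rfl) (by simp [allCodes]) (by simp)
        simpa [el] using this)
    · exact Subtype.ext (by
        have := rel_eq (a := [c5, c5]) (b := []) (List.mem_of_getElem? (i := 40) rfl) (by simp [allCodes]) (by simp)
        simpa [el] using this)
    · exact Subtype.ext (by
        have := rel_eq (a := [c6, c6]) (b := []) (List.mem_of_getElem? (i := 41) rfl) (by simp [allCodes]) (by simp)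
        simpa [el] using this)
  have b6 : Nat.card (Subgroup.closure ({el c6} : Set Cfsg.Spor.M23)) ≤ 2 := by
    have := Cfsg.Agent.FGS4.SchurSylow.card_closure_insert_le (s := (∅ : Set Cfsg.Spor.M23))
      (hsq c6 (by simp)) (fun x hx => hx.elim)
    rwa [insert_empty_eq, Subgroup.closure_empty, Subgroup.card_bot, mul_one] at this
  have b5 := Cfsg.Agent.FGS4.SchurSylow.card_closure_insert_le (s := ({el c6} : Set Cfsg.Spor.M23))
    (hsq c5 (by simp)) (fun x hx => by
      simp only [Set.mem_insert_iff, Set.mem_singleton_iff] at hx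
      rcases hx with rfl
      · have e : el c5 * el c6 * el c5 = el c6 := Subtype.ext (by
          have := rel_eq (a := [c5, c6, c5]) (b := [c6]) (List.mem_of_getElem? (i := 14) rfl) (by simp [allCodes]) (by simp [allCodes])
          simpa [el, mul_assoc] using this)
        rw [e]; exact (Subgroup.subset_closure (by simp)))
  have b4 := Cfsg.Agent.FGS4.SchurSylow.card_closure_insert_le (s := ({el c5, el c6} : Set Cfsg.Spor.M23))
    (hsq c4 (by simp)) (fun x hx => by
      simp only [Set.mem_insert_iff, Set.mem_singleton_iff] at hx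
      rcases hx with rfl | rfl
      · have e : el c4 * el c5 * el c4 = el c5 * el c6 := Subtype.ext (by
          have := rel_eq (a := [c4, c5, c4]) (b := [c5, c6]) (List.mem_of_getElem? (i := 15) rfl) (by simp [allCodes]) (by simp [allCodes])
          simpa [el, mul_assoc] using this)
        rw [e]; exact (mul_mem (Subgroup.subset_closure (by simp)) (Subgroup.subset_closure (by simp)))
      · have e : el c4 * el c6 * el c4 = el c6 := Subtype.ext (by
          have := rel_eq (a := [c4, c6, c4]) (b := [c6]) (List.mem_of_getElem? (i := 16) rfl) (by simp [allCodes]) (by simp [allCodes])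
          simpa [el, mul_assoc] using this)
        rw [e]; exact (Subgroup.subset_closure (by simp)))
  have b3 := Cfsg.Agent.FGS4.SchurSylow.card_closure_insert_le (s := ({el c4, el c5, el c6} : Set Cfsg.Spor.M23))
    (hsq c3 (by simp)) (fun x hx => by
      simp only [Set.mem_insert_iff, Set.mem_singleton_iff] at hx
      rcases hx with rfl | rfl | rfl
      · have e : el c3 * el c4 * el c3 = el c4 := Subtype.ext (by
          have := rel_eq (a := [c3, c4, c3]) (b := [c4]) (List.mem_of_getElem? (i := 17) rfl) (by simp [allCodes]) (by simp [allCodes])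
          simpa [el, mul_assoc] using this)
        rw [e]; exact (Subgroup.subset_closure (by simp))
      · have e : el c3 * el c5 * el c3 = el c5 := Subtype.ext (by
          have := rel_eq (a := [c3, c5, c3]) (b := [c5]) (List.mem_of_getElem? (i := 18) rfl) (by simp [allCodes]) (by simp [allCodes])
          simpa [el, mul_assoc] using this)
        rw [e]; exact (Subgroup.subset_closure (by simp))
      · have e : el c3 * el c6 * el c3 = el c6 := Subtype.ext (by
          have := rel_eq (a := [c3, c6, c3]) (b := [c6]) (List.mem_of_getElem? (i := 19) rfl) (by simp [allCodes]) (by simp [allCodes])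
          simpa [el, mul_assoc] using this)
        rw [e]; exact (Subgroup.subset_closure (by simp)))
  have b2 := Cfsg.Agent.FGS4.SchurSylow.card_closure_insert_le (s := ({el c3, el c4, el c5, el c6} : Set Cfsg.Spor.M23))
    (hsq c2 (by simp)) (fun x hx => by
      simp only [Set.mem_insert_iff, Set.mem_singleton_iff] at hx
      rcases hx with rfl | rfl | rfl | rfl
      · have e : el c2 * el c3 * el c2 = el c3 := Subtype.ext (by
          have := rel_eq (a := [c2, c3, c2]) (b := [c3]) (List.mem_of_getElem? (i := 20) rfl) (by simp [allCodes]) (by simp [allCodes])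
          simpa [el, mul_assoc] using this)
        rw [e]; exact (Subgroup.subset_closure (by simp))
      · have e : el c2 * el c4 * el c2 = el c4 := Subtype.ext (by
          have := rel_eq (a := [c2, c4, c2]) (b := [c4]) (List.mem_of_getElem? (i := 21) rfl) (by simp [allCodes]) (by simp [allCodes])
          simpa [el, mul_assoc] using this)
        rw [e]; exact (Subgroup.subset_closure (by simp))
      · have e : el c2 * el c5 * el c2 = el c3 * el c5 := Subtype.ext (by
          have := rel_eq (a := [c2, c5, c2]) (b := [c3, c5]) (List.mem_of_getElem? (i := 22) rfl) (by simp [allCodes]) (by simp [allCodes])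
          simpa [el, mul_assoc] using this)
        rw [e]; exact (mul_mem (Subgroup.subset_closure (by simp)) (Subgroup.subset_closure (by simp)))
      · have e : el c2 * el c6 * el c2 = el c6 := Subtype.ext (by
          have := rel_eq (a := [c2, c6, c2]) (b := [c6]) (List.mem_of_getElem? (i := 23) rfl) (by simp [allCodes]) (by simp [allCodes])
          simpa [el, mul_assoc] using this)
        rw [e]; exact (Subgroup.subset_closure (by simp)))
  have b1 := Cfsg.Agent.FGS4.SchurSylow.card_closure_insert_le (s := ({el c2, el c3, el c4, el c5, el c6} : Set Cfsg.Spor.M23))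
    (hsq c1 (by simp)) (fun x hx => by
      simp only [Set.mem_insert_iff, Set.mem_singleton_iff] at hx
      rcases hx with rfl | rfl | rfl | rfl | rfl
      · have e : el c1 * el c2 * el c1 = el c2 * el c6 := Subtype.ext (by
          have := rel_eq (a := [c1, c2, c1]) (b := [c2, c6]) (List.mem_of_getElem? (i := 24) rfl) (by simp [allCodes]) (by simp [allCodes])
          simpa [el, mul_assoc] using this)
        rw [e]; exact (mul_mem (Subgroup.subset_closure (by simp)) (Subgroup.subset_closure (by simp)))
      · have e : el c1 * el c3 * el c1 = el c3 := Subtype.ext (by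
          have := rel_eq (a := [c1, c3, c1]) (b := [c3]) (List.mem_of_getElem? (i := 25) rfl) (by simp [allCodes]) (by simp [allCodes])
          simpa [el, mul_assoc] using this)
        rw [e]; exact (Subgroup.subset_closure (by simp))
      · have e : el c1 * el c4 * el c1 = el c3 * el c4 * el c6 := Subtype.ext (by
          have := rel_eq (a := [c1, c4, c1]) (b := [c3, c4, c6]) (List.mem_of_getElem? (i := 26) rfl) (by simp [allCodes]) (by simp [allCodes])
          simpa [el, mul_assoc] using this)
        rw [e]; exact (mul_mem (mul_mem (Subgroup.subset_closure (by simp)) (Subgroup.subset_closure (by simp))) (Subgroup.subset_closure (by simp)))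
      · have e : el c1 * el c5 * el c1 = el c5 := Subtype.ext (by
          have := rel_eq (a := [c1, c5, c1]) (b := [c5]) (List.mem_of_getElem? (i := 27) rfl) (by simp [allCodes]) (by simp [allCodes])
          simpa [el, mul_assoc] using this)
        rw [e]; exact (Subgroup.subset_closure (by simp))
      · have e : el c1 * el c6 * el c1 = el c6 := Subtype.ext (by
          have := rel_eq (a := [c1, c6, c1]) (b := [c6]) (List.mem_of_getElem? (i := 28) rfl) (by simp [allCodes]) (by simp [allCodes])
          simpa [el, mul_assoc] using this)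
        rw [e]; exact (Subgroup.subset_closure (by simp)))
  have b0 := Cfsg.Agent.FGS4.SchurSylow.card_closure_insert_le (s := ({el c1, el c2, el c3, el c4, el c5, el c6} : Set Cfsg.Spor.M23))
    (hsq c0 (by simp)) (fun x hx => by
      simp only [Set.mem_insert_iff, Set.mem_singleton_iff] at hx
      rcases hx with rfl | rfl | rfl | rfl | rfl | rfl
      · have e : el c0 * el c1 * el c0 = el c1 * el c5 := Subtype.ext (by
          have := rel_eq (a := [c0, c1, c0]) (b := [c1, c5]) (List.mem_of_getElem? (i := 29) rfl) (by simp [allCodes]) (by simp [allCodes])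
          simpa [el, mul_assoc] using this)
        rw [e]; exact (mul_mem (Subgroup.subset_closure (by simp)) (Subgroup.subset_closure (by simp)))
      · have e : el c0 * el c2 * el c0 = el c2 := Subtype.ext (by
          have := rel_eq (a := [c0, c2, c0]) (b := [c2]) (List.mem_of_getElem? (i := 30) rfl) (by simp [allCodes]) (by simp [allCodes])
          simpa [el, mul_assoc] using this)
        rw [e]; exact (Subgroup.subset_closure (by simp))
      · have e : el c0 * el c3 * el c0 = el c3 := Subtype.ext (by
          have := rel_eq (a := [c0, c3, c0]) (b := [c3]) (List.mem_of_getElem? (i := 31) rfl) (by simp [allCodes]) (by simp [allCodes])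
          simpa [el, mul_assoc] using this)
        rw [e]; exact (Subgroup.subset_closure (by simp))
      · have e : el c0 * el c4 * el c0 = el c2 * el c3 * el c4 := Subtype.ext (by
          have := rel_eq (a := [c0, c4, c0]) (b := [c2, c3, c4]) (List.mem_of_getElem? (i := 32) rfl) (by simp [allCodes]) (by simp [allCodes])
          simpa [el, mul_assoc] using this)
        rw [e]; exact (mul_mem (mul_mem (Subgroup.subset_closure (by simp)) (Subgroup.subset_closure (by simp))) (Subgroup.subset_closure (by simp)))
      · have e : el c0 * el c5 * el c0 = el c5 := Subtype.ext (by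
          have := rel_eq (a := [c0, c5, c0]) (b := [c5]) (List.mem_of_getElem? (i := 33) rfl) (by simp [allCodes]) (by simp [allCodes])
          simpa [el, mul_assoc] using this)
        rw [e]; exact (Subgroup.subset_closure (by simp))
      · have e : el c0 * el c6 * el c0 = el c3 * el c6 := Subtype.ext (by
          have := rel_eq (a := [c0, c6, c0]) (b := [c3, c6]) (List.mem_of_getElem? (i := 34) rfl) (by simp [allCodes]) (by simp [allCodes])
          simpa [el, mul_assoc] using this)
        rw [e]; exact (mul_mem (Subgroup.subset_closure (by simp)) (Subgroup.subset_closure (by simp))))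
  omega

theorem no_kernel_two {Γ : Type} [Group Γ] [Finite Γ] (σ : Γ →* Cfsg.Spor.M23)
    (hσ : Cfsg.IsStemExtension σ) {z : Γ} (hz : z ∈ σ.ker) (hzo : orderOf z = 2)
    (hker : ∀ w ∈ σ.ker, w * w = 1) : False := by
  haveI : Fact (Nat.Prime 2) := ⟨Nat.prime_two⟩
  set D := data card_gens with hD
  have hconj : ∀ q ∈ D.invols, ∃ k : Cfsg.Spor.M23, k * el c6 * k⁻¹ = q := by
    intro q hq
    simp only [Cfsg.Agent.FGS4.SchurSylow.SylowData.invols, hD, data, List.mem_cons, List.not_mem_nil,
      or_false] at hq
    rcases hq with rfl | rfl | rfl | rfl | rfl | rfl | rfl | rfl | rfl | rfl | rfl | rfl | rfl | rfl | rfl | rfl | rfl | rfl | rfl | rfl | rfl | rfl | rfl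
    · exact conj_cert (ws := [c0]) (h := h0) (List.mem_of_getElem? (i := 0) rfl) (by simp [allCodes]) (by simp [el, mul_assoc])
    · exact conj_cert (ws := [c1]) (h := h1) (List.mem_of_getElem? (i := 1) rfl) (by simp [allCodes]) (by simp [el, mul_assoc])
    · exact conj_cert (ws := [c2]) (h := h2) (List.mem_of_getElem? (i := 2) rfl) (by simp [allCodes]) (by simp [el, mul_assoc])
    · exact conj_cert (ws := [c3]) (h := h3) (List.mem_of_getElem? (i := 3) rfl) (by simp [allCodes]) (by simp [el, mul_assoc])
    · exact conj_cert (ws := [c4]) (h := h4) (List.mem_of_getElem? (i := 4) rfl) (by simp [allCodes]) (by simp [el, mul_assoc])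
    · exact conj_cert (ws := [c5]) (h := h5) (List.mem_of_getElem? (i := 5) rfl) (by simp [allCodes]) (by simp [el, mul_assoc])
    · exact conj_cert (ws := [c6]) (h := h6) (List.mem_of_getElem? (i := 6) rfl) (by simp [allCodes]) (by simp [el, mul_assoc])
    · exact conj_cert (ws := [c0, c2]) (h := h7) (List.mem_of_getElem? (i := 7) rfl) (by simp [allCodes]) (by simp [el, mul_assoc])
    · exact conj_cert (ws := [c0, c3]) (h := h8) (List.mem_of_getElem? (i := 8) rfl) (by simp [allCodes]) (by simp [el, mul_assoc])
    · exact conj_cert (ws := [c0, c5]) (h := h9) (List.mem_of_getElem? (i := 9) rfl) (by simp [allCodes]) (by simp [el, mul_assoc])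
    · exact conj_cert (ws := [c1, c3]) (h := h10) (List.mem_of_getElem? (i := 10) rfl) (by simp [allCodes]) (by simp [el, mul_assoc])
    · exact conj_cert (ws := [c1, c5]) (h := h11) (List.mem_of_getElem? (i := 11) rfl) (by simp [allCodes]) (by simp [el, mul_assoc])
    · exact conj_cert (ws := [c1, c6]) (h := h12) (List.mem_of_getElem? (i := 12) rfl) (by simp [allCodes]) (by simp [el, mul_assoc])
    · exact conj_cert (ws := [c2, c3]) (h := h13) (List.mem_of_getElem? (i := 13) rfl) (by simp [allCodes]) (by simp [el, mul_assoc])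
    · exact conj_cert (ws := [c2, c4]) (h := h14) (List.mem_of_getElem? (i := 14) rfl) (by simp [allCodes]) (by simp [el, mul_assoc])
    · exact conj_cert (ws := [c2, c6]) (h := h15) (List.mem_of_getElem? (i := 15) rfl) (by simp [allCodes]) (by simp [el, mul_assoc])
    · exact conj_cert (ws := [c3, c4]) (h := h16) (List.mem_of_getElem? (i := 16) rfl) (by simp [allCodes]) (by simp [el, mul_assoc])
    · exact conj_cert (ws := [c3, c5]) (h := h17) (List.mem_of_getElem? (i := 17) rfl) (by simp [allCodes]) (by simp [el, mul_assoc])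
    · exact conj_cert (ws := [c3, c6]) (h := h18) (List.mem_of_getElem? (i := 18) rfl) (by simp [allCodes]) (by simp [el, mul_assoc])
    · exact conj_cert (ws := [c4, c6]) (h := h19) (List.mem_of_getElem? (i := 19) rfl) (by simp [allCodes]) (by simp [el, mul_assoc])
    · exact conj_cert (ws := [c5, c6]) (h := h20) (List.mem_of_getElem? (i := 20) rfl) (by simp [allCodes]) (by simp [el, mul_assoc])
    · exact conj_cert (ws := [c0, c2, c5, c6]) (h := h21) (List.mem_of_getElem? (i := 21) rfl) (by simp [allCodes]) (by simp [el, mul_assoc])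
    · exact conj_cert (ws := [c2, c3, c4]) (h := h22) (List.mem_of_getElem? (i := 22) rfl) (by simp [allCodes]) (by simp [el, mul_assoc])
  obtain ⟨U, hU⟩ := hσ.1 (el c6)
  have hc : ∀ w ∈ σ.ker, ∀ y : Γ, y * w = w * y := fun w hw => Subgroup.mem_center_iff.1 (hσ.2.1 hw)
  have hsame : ∀ X : Γ, σ X ∈ D.invols → X * X = U * U := by
    intro X hX
    obtain ⟨k, hk⟩ := hconj _ hX
    obtain ⟨K, rfl⟩ := hσ.1 k
    obtain ⟨w, hw, rfl⟩ : ∃ w ∈ σ.ker, X = K * U * K⁻¹ * w := ⟨(K * U * K⁻¹)⁻¹ * X, by
      rw [MonoidHom.mem_ker, map_mul, map_inv, map_mul, map_mul, map_inv, hU, hk, inv_mul_cancel],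
      (mul_inv_cancel_left _ _).symm⟩
    have hUU : U * U ∈ σ.ker := by
      rw [MonoidHom.mem_ker, map_mul, hU]
      exact Subtype.ext (by
        have := rel_eq (a := [c6, c6]) (b := []) (List.mem_of_getElem? (i := 41) rfl) (by simp [allCodes]) (by simp)
        simpa [el] using this)
    calc K * U * K⁻¹ * w * (K * U * K⁻¹ * w) = K * U * K⁻¹ * (w * (K * U * K⁻¹)) * w := by group
      _ = K * (U * U) * K⁻¹ * (w * w) := by rw [← hc w hw]; group
      _ = U * U := by rw [hker w hw, mul_one, hc _ hUU K, mul_inv_cancel_right]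
  have hU1 : U * U = 1 := by
    obtain ⟨A, hA⟩ := hσ.1 D.e2
    obtain ⟨B, hB⟩ := hσ.1 D.e3
    obtain ⟨C, hC⟩ := hσ.1 D.e4
    have m : ∀ {X : Γ} {q}, σ X = q → q ∈ D.invols → X * X = U * U := fun h1 h2 => hsame _ (h1 ▸ h2)
    have hA2 := m hA (by simp [Cfsg.Agent.FGS4.SchurSylow.SylowData.invols])
    have hw : U * U ∈ σ.ker := by
      rw [MonoidHom.mem_ker, ← hA2, map_mul, hA]
      exact Subtype.ext (by
        have := rel_eq (a := [c2, c2]) (b := []) (List.mem_of_getElem? (i := 37) rfl) (by simp [allCodes]) (by simp)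
        simpa [hD, data, el] using this)
    have anti : ∀ {X Y : Γ}, X * X = U * U → Y * Y = U * U → X * Y * (X * Y) = U * U →
        Y * X = X * Y * (U * U) := by
      intro X Y hX hY hXY
      have hwX := hc _ hw X
      calc Y * X = X⁻¹ * (X * Y * (X * Y)) * Y⁻¹ := by group
        _ = X⁻¹ * (U * U) * Y⁻¹ := by rw [hXY]
        _ = X * Y⁻¹ := by rw [← hX]; group
        _ = X * (Y * (U * U)) := by
          congr 1
          rw [inv_eq_iff_mul_eq_one, ← mul_assoc, hY, hker _ hw]
        _ = X * Y * (U * U) := (mul_assoc _ _ _).symm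
    have hB2 := m hB (by simp [Cfsg.Agent.FGS4.SchurSylow.SylowData.invols])
    have hC2 := m hC (by simp [Cfsg.Agent.FGS4.SchurSylow.SylowData.invols])
    have pAC := anti hA2 hC2 (m (by rw [map_mul, hA, hC]) (by simp [Cfsg.Agent.FGS4.SchurSylow.SylowData.invols]))
    have pBC := anti hB2 hC2 (m (by rw [map_mul, hB, hC]) (by simp [Cfsg.Agent.FGS4.SchurSylow.SylowData.invols]))
    have pABC := anti (m (X := A * B) (by rw [map_mul, hA, hB]) (by simp [Cfsg.Agent.FGS4.SchurSylow.SylowData.invols]))
      hC2 (m (by rw [map_mul, map_mul, hA, hB, hC]) (by simp [Cfsg.Agent.FGS4.SchurSylow.SylowData.invols]))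
    have key : C * (A * B) = A * B * C := by
      calc C * (A * B) = (C * A) * B := (mul_assoc _ _ _).symm
        _ = A * C * (U * U) * B := by rw [pAC]
        _ = A * (C * B) * (U * U) := by rw [mul_assoc (A * C), ← hc _ hw B]; simp [mul_assoc]
        _ = A * B * C * (U * U * (U * U)) := by rw [pBC]; simp [mul_assoc]
        _ = A * B * C := by rw [hker _ hw, mul_one]
    rw [key] at pABC
    exact mul_eq_left.1 pABC.symm
  have hpT : IsPGroup 2 (Subgroup.closure
      ({el c0, el c1, el c2, el c3, el c4, el c5, el c6} : Set Cfsg.Spor.M23)) :=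
    IsPGroup.of_card (n := 7) (by rw [card_gens]; norm_num)
  obtain ⟨S, hS⟩ := hpT.exists_le_sylow
  refine Cfsg.Agent.FGS4.SchurSylow.stem_false_m23 hσ D S ?_ hz hzo hker fun X hX => by rw [hsame X hX, hU1]
  refine (Subgroup.eq_of_le_of_card_ge hS ?_).symm
  rw [card_gens, sylow_card Nat.prime_two (k := 7) (by norm_num) (by norm_num) S]
  norm_num

theorem two_not_dvd_ker {Γ : Type} [Group Γ] [Finite Γ] (σ : Γ →* Cfsg.Spor.M23)
    (hσ : Cfsg.IsStemExtension σ) : ¬ 2 ∣ Nat.card σ.ker := by
  intro h2
  obtain ⟨⟨z, hz⟩, hzo⟩ := exists_prime_orderOf_dvd_card' (p := 2) (G := σ.ker) h2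
  have hc : ∀ w ∈ σ.ker, ∀ y : Γ, y * w = w * y := fun w hw => Subgroup.mem_center_iff.1 (hσ.2.1 hw)
  let sqr : σ.ker →* σ.ker :=
    { toFun := fun x => x * x
      map_one' := one_mul 1
      map_mul' := fun x y => by
        have hxy : y * x = x * y := Subtype.ext (hc _ x.2 y)
        calc x * y * (x * y) = x * (y * x) * y := by simp [mul_assoc]
          _ = x * x * (y * y) := by rw [hxy]; simp [mul_assoc] }
  set M : Subgroup Γ := sqr.range.map σ.ker.subtype with hM
  have hMk : M ≤ σ.ker := Subgroup.map_subtype_le _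
  haveI : M.Normal := ⟨fun n hn g => by rwa [hc n (hMk hn) g, mul_inv_cancel_right]⟩
  obtain ⟨u, hu⟩ : ∃ u : σ.ker, u ∉ sqr.range := by
    by_contra hall
    push Not at hall
    have hinj := (Finite.injective_iff_surjective (f := sqr)).2 fun x => hall x
    have h1 : (⟨z, hz⟩ : σ.ker) = 1 := hinj (by
      show (⟨z, hz⟩ : σ.ker) * ⟨z, hz⟩ = 1 * 1
      rw [one_mul, ← pow_two, ← hzo, pow_orderOf_eq_one])
    rw [h1, orderOf_one] at hzo
    exact absurd hzo (by norm_num)
  let τ := QuotientGroup.lift M σ hMk
  have hτk : ∀ q ∈ τ.ker, ∃ x ∈ σ.ker, QuotientGroup.mk' M x = q := by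
    intro q hq
    obtain ⟨x, rfl⟩ := QuotientGroup.mk'_surjective M q
    exact ⟨x, hq, rfl⟩
  have hτ : Cfsg.IsStemExtension τ := by
    refine ⟨fun q => ?_, ?_, ?_⟩
    · obtain ⟨x, hx⟩ := hσ.1 q
      exact ⟨QuotientGroup.mk' M x, hx⟩
    · intro q hq
      obtain ⟨x, hx, rfl⟩ := hτk q hq
      refine Subgroup.mem_center_iff.2 fun y => ?_
      obtain ⟨y, rfl⟩ := QuotientGroup.mk'_surjective M y
      rw [← map_mul, ← map_mul, hc x hx y]
    · intro q hq
      obtain ⟨x, hx, rfl⟩ := hτk q hq
      have := Subgroup.mem_map_of_mem (QuotientGroup.mk' M) (hσ.2.2 hx)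
      rw [commutator_def, Subgroup.map_commutator,
        Subgroup.map_top_of_surjective _ (QuotientGroup.mk'_surjective M), ← commutator_def] at this
      exact this
  have hsq : ∀ q ∈ τ.ker, q * q = 1 := by
    intro q hq
    obtain ⟨x, hx, rfl⟩ := hτk q hq
    rw [← map_mul, QuotientGroup.mk'_apply, QuotientGroup.eq_one_iff]
    exact ⟨sqr ⟨x, hx⟩, ⟨_, rfl⟩, rfl⟩
  have hu' : QuotientGroup.mk' M u ≠ 1 := by
    intro h
    rw [QuotientGroup.mk'_apply, QuotientGroup.eq_one_iff] at h
    obtain ⟨v, hv, hvu⟩ := h
    exact hu (Subtype.ext hvu ▸ hv)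
  exact no_kernel_two τ hτ (z := QuotientGroup.mk' M u) u.2
    (orderOf_eq_prime (by rw [pow_two]; exact hsq _ u.2) hu') hsq

/-- The Schur multiplier of the Mathieu group M₂₃ (the stabiliser of a point in the automorphism group of the length-24 binary code) is trivial; here the Schur multiplier is described through stem extensions, as in the definitions: surjective homomorphisms onto the group from a finite group, whose kernel is central in that finite group and contained in that finite group's commutator subgroup. -/
theorem result : Cfsg.HasCyclicSchurMultiplier ↥Cfsg.Spor.M23 1 := by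
  apply Cfsg.Agent.FGS2.hasCyclic_one_of_stem_ker_eq_bot
  intro Γ _ _ σ hσ
  by_contra hne
  obtain ⟨q, hq, hqd⟩ := Nat.exists_prime_and_dvd (mt Subgroup.card_eq_one.1 hne)
  haveI := Fact.mk hq
  by_cases h2 : q = 2
  · subst h2; exact two_not_dvd_ker σ hσ hqd
  obtain ⟨⟨z, hz⟩, hzo⟩ := exists_prime_orderOf_dvd_card' q hqd
  rw [← Subgroup.orderOf_coe] at hzo
  by_cases h3 : q = 3
  · subst h3; exact no_kernel_three σ hσ hz hzo
  obtain ⟨S⟩ := Sylow.nonempty (p := q) (G := Cfsg.Spor.M23)
  refine Cfsg.Agent.FGS4.SchurSylow.stem_false_cyclic hσ S ?_ hz hzo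
  by_cases hqd' : q ∣ 10200960
  · have hmem : q = 5 ∨ q = 7 ∨ q = 11 ∨ q = 23 := by
      rw [show (10200960 : ℕ) = 2 ^ 7 * 3 ^ 2 * 5 * 7 * 11 * 23 by norm_num] at hqd'
      have hd : ∀ {r : ℕ}, r.Prime → q ∣ r → q = r := fun hr h => (Nat.prime_dvd_prime_iff_eq hq hr).1 h
      rcases (Nat.Prime.dvd_mul hq).1 hqd' with h | h
      rotate_left
      · exact Or.inr (Or.inr (Or.inr (hd (by norm_num) h)))
      rcases (Nat.Prime.dvd_mul hq).1 h with h | h
      rotate_left
      · exact Or.inr (Or.inr (Or.inl (hd (by norm_num) h)))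
      rcases (Nat.Prime.dvd_mul hq).1 h with h | h
      rotate_left
      · exact Or.inr (Or.inl (hd (by norm_num) h))
      rcases (Nat.Prime.dvd_mul hq).1 h with h | h
      rotate_left
      · exact Or.inl (hd (by norm_num) h)
      rcases (Nat.Prime.dvd_mul hq).1 h with h | h
      · exact absurd (hd Nat.prime_two (hq.dvd_of_dvd_pow h)) h2
      · exact absurd (hd Nat.prime_three (hq.dvd_of_dvd_pow h)) h3
    have hnd : ¬ q ^ (1 + 1) ∣ 10200960 := by rcases hmem with rfl | rfl | rfl | rfl <;> norm_num
    exact isCyclic_of_prime_card (p := q) (by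
      rw [sylow_card hq (k := 1) (by rwa [pow_one]) hnd S, pow_one])
  · have h0 := sylow_card hq (k := 0) (by simp) (by rwa [pow_one]) S
    rw [pow_zero] at h0
    haveI : Subsingleton (S : Subgroup Cfsg.Spor.M23) := (Nat.card_eq_one_iff_unique.1 h0).1
    infer_instance

end Cfsg.Agent.S2037
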