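import Cfsg.Statements.S2428
import Cfsg.Agent.KnownA.GL2.TorusNorm
-- import your own Cfsg.Agent.* helpers here

set_option autoImplicit false
open Cfsg

namespace Cfsg.Agent.S2428

/-- Let F be a finite field with q elements, q odd, and let d be a diagonal element of SL₂ over F whose diagonal entry a has a² ≠ 1 (such d exist exactly when q > 3). Then the centraliser of d is precisely the diagonal subgroup T; the normaliser of T has order 2(q − 1) and exactly (q + 5)/2 conjugacy classes; and every element of that normaliser outside T has square equal to −1. -/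
theorem result {F : Type*} [Field F] [Fintype F] (hodd : Odd (Fintype.card F))
    (d : Matrix.SpecialLinearGroup (Fin 2) F) (hd01 : (d : Matrix (Fin 2) (Fin 2) F) 0 1 = 0) (hd10 : (d : Matrix (Fin 2) (Fin 2) F) 1 0 = 0) (hda : (d : Matrix (Fin 2) (Fin 2) F) 0 0 ^ 2 ≠ 1) :
    (∀ g : Matrix.SpecialLinearGroup (Fin 2) F, g ∈ Subgroup.centralizer ({d} : Set (Matrix.SpecialLinearGroup (Fin 2) F)) ↔ ((g : Matrix (Fin 2) (Fin 2) F) 0 1 = 0 ∧ (g : Matrix (Fin 2) (Fin 2) F) 1 0 = 0)) ∧
    Nat.card (Subgroup.normalizer ((Subgroup.centralizer ({d} : Set (Matrix.SpecialLinearGroup (Fin 2) F))) : Set (Matrix.SpecialLinearGroup (Fin 2) F))) = 2 * (Fintype.card F - 1) ∧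
    Nat.card (ConjClasses (Subgroup.normalizer ((Subgroup.centralizer ({d} : Set (Matrix.SpecialLinearGroup (Fin 2) F))) : Set (Matrix.SpecialLinearGroup (Fin 2) F)))) = (Fintype.card F + 5) / 2 ∧
    ∀ g : Matrix.SpecialLinearGroup (Fin 2) F, g ∈ Subgroup.normalizer ((Subgroup.centralizer ({d} : Set (Matrix.SpecialLinearGroup (Fin 2) F))) : Set (Matrix.SpecialLinearGroup (Fin 2) F)) →
      g ∉ Subgroup.centralizer ({d} : Set (Matrix.SpecialLinearGroup (Fin 2) F)) → ((g * g) : Matrix (Fin 2) (Fin 2) F) = -1 := by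
  classical
  set T := (Cfsg.Agent.Linear.splitTorus (F := F)).range
  have hT : Cfsg.Agent.KnownA.GL2.IsTor T := Cfsg.Agent.KnownA.GL2.isTor_split
  have hdT : d ∈ T := (Cfsg.Agent.KnownA.GL2.mem_splitTorus d).2 ⟨hd01, hd10⟩
  have hns : ¬ Cfsg.Agent.KnownA.GL2.IsScalar (d : Matrix.SpecialLinearGroup (Fin 2) F).1 := fun hs => by
    apply hda
    rcases (Cfsg.Agent.KnownA.GL2.scalar_iff d).1 hs with e | e <;> rw [e] <;> simp
  rw [hT.cent d hdT hns]
  refine ⟨fun g => Cfsg.Agent.KnownA.GL2.mem_splitTorus g, ?_, ?_, fun g hg hgT => ?_⟩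
  · rw [hT.card_normalizer hodd ⟨d, hdT, hns⟩, Cfsg.Agent.KnownA.GL2.card_splitTorus]
  · have h := hT.card_classes hodd ⟨d, hdT, hns⟩
    rw [Cfsg.Agent.KnownA.GL2.card_splitTorus] at h
    have := Nat.odd_iff.1 hodd
    omega
  · have h := hT.sq_eq_neg_one hodd ⟨d, hdT, hns⟩ hg hgT
    exact (congrArg Subtype.val h).trans (by simp)

end Cfsg.Agent.S2428
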