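import Cfsg.Statements.S2429
import Cfsg.Agent.KnownA.GL2.TorusNorm
-- import your own Cfsg.Agent.* helpers here

set_option autoImplicit false
open Cfsg

namespace Cfsg.Agent.S2429

/-- Let F be a finite field with q elements, q odd. Then SL₂ over F contains a cyclic subgroup T′ of order q + 1 (a non-split torus) with the following properties: T′ is its own centraliser, and indeed the centraliser of each element of T′ other than 1 and −1 is exactly T′; every element of SL₂ having no eigenvector in F² is conjugate to an element of T′; the normaliser of T′ has order 2(q + 1) and exactly (q + 7)/2 conjugacy classes; and every element of that normaliser outside T′ has square −1. -/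
theorem result {F : Type*} [Field F] [Fintype F] (hodd : Odd (Fintype.card F)) :
    ∃ T' : Subgroup (Matrix.SpecialLinearGroup (Fin 2) F), IsCyclic T' ∧ Nat.card T' = Fintype.card F + 1 ∧
      Subgroup.centralizer ((T' : Set (Matrix.SpecialLinearGroup (Fin 2) F))) = T' ∧
      (∀ g : Matrix.SpecialLinearGroup (Fin 2) F, g ∈ T' → (g : Matrix (Fin 2) (Fin 2) F) ≠ 1 → (g : Matrix (Fin 2) (Fin 2) F) ≠ -1 → Subgroup.centralizer ({g} : Set (Matrix.SpecialLinearGroup (Fin 2) F)) = T') ∧
      (∀ g : Matrix.SpecialLinearGroup (Fin 2) F, (∀ (c : F) (v : Fin 2 → F), v ≠ 0 → (g : Matrix (Fin 2) (Fin 2) F).mulVec v ≠ c • v) → ∃ h : Matrix.SpecialLinearGroup (Fin 2) F, h * g * h⁻¹ ∈ T') ∧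
      Nat.card (Subgroup.normalizer (T' : Set (Matrix.SpecialLinearGroup (Fin 2) F))) = 2 * (Fintype.card F + 1) ∧
      Nat.card (ConjClasses (Subgroup.normalizer (T' : Set (Matrix.SpecialLinearGroup (Fin 2) F)))) = (Fintype.card F + 7) / 2 ∧
      ∀ g : Matrix.SpecialLinearGroup (Fin 2) F, g ∈ Subgroup.normalizer (T' : Set (Matrix.SpecialLinearGroup (Fin 2) F)) → g ∉ T' → ((g * g) : Matrix (Fin 2) (Fin 2) F) = -1 := by
  classical
  obtain ⟨C, hC, hcard⟩ := Cfsg.Agent.Linear.exists_cyclic_SL2 (F := F) true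
  simp only [if_true] at hcard
  have hT := Cfsg.Agent.KnownA.GL2.isTor_nonsplit hodd hC hcard
  have hq : 1 < Fintype.card F := Fintype.one_lt_card
  have h4 := Cfsg.Agent.KnownA.GL2.exists_nonscalar (T := C) (by omega)
  refine ⟨C, hC, hcard, hT.cent_set h4, fun g hg h1 h2 => hT.cent g hg fun hs => ?_, fun g hg => ?_,
    ?_, ?_, fun g hg hgT => ?_⟩
  · rcases (Cfsg.Agent.KnownA.GL2.scalar_iff g).1 hs with e | e
    · exact h1 (by rw [e]; simp)
    · exact h2 (by rw [e]; simp)
  · haveI : IsMulCommutative C := ⟨⟨fun a b => Subtype.ext (hT.comm a.2 b.2)⟩⟩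
    obtain ⟨c, hc, -, hconj⟩ := Cfsg.Agent.KnownA.GL2.exists_conj_mem hodd hcard hg
    obtain ⟨h, hh⟩ := isConj_iff.1 hconj
    exact ⟨h, hh ▸ hc⟩
  · rw [hT.card_normalizer hodd h4, hcard]
  · have h := hT.card_classes hodd h4
    have := Nat.odd_iff.1 hodd
    omega
  · exact (congrArg Subtype.val (hT.sq_eq_neg_one hodd h4 hg hgT)).trans (by simp)

end Cfsg.Agent.S2429
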