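import Cfsg.Statements.S0106
import Cfsg.Agent.Transfer.QuaternionSection
import Cfsg.Agent.Transfer.Complement

set_option autoImplicit false
open Cfsg

namespace Cfsg.Agent.S0106

/-- A finite group with generalized quaternion Sylow 2-subgroups either has a normal 2-complement or has a section isomorphic to SL(2,3). -/
theorem result {G : Type*} [Group G] [Finite G] (T : Sylow 2 G) (n : ℕ) (hn : 1 ≤ n) (hT : Nonempty ((T : Subgroup G) ≃* QuaternionGroup (2 ^ n))) : Cfsg.HasNormalPComplement 2 G ∨ ∃ (H K : Subgroup G) (hK : (K.subgroupOf H).Normal), Nonempty ((H ⧸ K.subgroupOf H) ≃* Matrix.SpecialLinearGroup (Fin 2) (ZMod 3)) := by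
  classical
  obtain ⟨e⟩ := hT
  haveI : Fact (Nat.Prime 2) := ⟨Nat.prime_two⟩
  by_cases h : ∀ Q : Subgroup G, Q ≤ (T : Subgroup G) → Cfsg.Agent.Transfer.TameIn T Q →
      ∀ g ∈ Subgroup.normalizer (Q : Set G), (orderOf g).Coprime 2 →
      g ∈ Subgroup.centralizer (Q : Set G)
  · exact Or.inl (Cfsg.Agent.Transfer.hasNormalPComplement_of_frobenius T h)
  right
  push Not at h
  obtain ⟨Q, hQT, -, g, hgN, hg2, hgC⟩ := h
  have hodd : Odd (orderOf g) := Nat.coprime_two_right.mp hg2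
  obtain ⟨ι, hι, hr⟩ := Cfsg.Agent.Transfer.QSec.exists_q8 e hQT hgN hodd hgC
  -- a 3-part of `g`
  set o := orderOf g with ho
  set j := o.factorization 3 with hj
  have ho0 : o ≠ 0 := (orderOf_pos g).ne'
  have hord : orderOf (g ^ (o / 3 ^ j)) = 3 ^ j := by
    have hd : 3 ^ j ∣ o := Nat.ordProj_dvd o 3
    rw [orderOf_pow' g (Nat.div_pos (Nat.le_of_dvd (Nat.pos_of_ne_zero ho0) hd) (by positivity)).ne',
      ← ho, Nat.gcd_eq_right (Nat.div_dvd_of_dvd hd), Nat.div_div_self hd ho0]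
  have hgC' : g ^ (o / 3 ^ j) ∉ Subgroup.centralizer (Q : Set G) := by
    intro hc
    -- `g ^ 3` centralizes `Q`
    have h3 : g ^ 3 ∈ Subgroup.centralizer (Q : Set G) := by
      let e' : QuaternionGroup 2 ≃* Q := (MonoidHom.ofInjective hι).trans (MulEquiv.subgroupCongr hr)
      let φ : Subgroup.normalizer (Q : Set G) →* MulAut (QuaternionGroup 2) :=
        (MulAut.congr e'.symm).toMonoidHom.comp Q.normalizerMonoidHom
      have h1 : orderOf (φ ⟨g, hgN⟩) ∣ o := by
        rw [ho, ← Subgroup.orderOf_mk g hgN]; exact orderOf_map_dvd φ _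
      have h2 := Cfsg.Agent.Transfer.QSec.aut_cube _ (hodd.of_dvd_nat h1)
      rw [← map_pow] at h2
      have h2' : (⟨g, hgN⟩ : Subgroup.normalizer (Q : Set G)) ^ 3 ∈ Q.normalizerMonoidHom.ker := by
        rw [MonoidHom.mem_ker]
        exact (MulAut.congr e'.symm).injective (h2.trans (map_one _).symm)
      rw [Subgroup.normalizerMonoidHom_ker, Subgroup.mem_subgroupOf] at h2'
      exact h2'
    apply hgC
    have hcop : Nat.Coprime 3 (o / 3 ^ j) := by
      rw [Nat.prime_three.coprime_iff_not_dvd]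
      exact Nat.not_dvd_ordCompl Nat.prime_three ho0
    obtain ⟨u, v, huv⟩ := (Nat.isCoprime_iff_coprime.mpr hcop)
    have : g = (g ^ 3) ^ u * (g ^ (o / 3 ^ j)) ^ v := by
      rw [← zpow_natCast, ← zpow_natCast g (o / 3 ^ j), ← zpow_mul, ← zpow_mul, ← zpow_add,
        mul_comm ((3 : ℕ) : ℤ), mul_comm ((o / 3 ^ j : ℕ) : ℤ)]
      push_cast at huv ⊢
      rw [huv, zpow_one]
    rw [this]
    exact Subgroup.mul_mem _ (Subgroup.zpow_mem _ h3 u) (Subgroup.zpow_mem _ hc v)
  exact Cfsg.Agent.Transfer.QSec.exists_section ι hι hord (hr ▸ Subgroup.pow_mem _ hgN _) (hr ▸ hgC')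

end Cfsg.Agent.S0106
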