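import Cfsg.Statements.S4398
import Cfsg.Agent.Screen.CyclicIndexTwo
import Cfsg.Agent.Components.Signalizer
import Cfsg.Agent.FGS3.PGroupFrattini
import Mathlib.GroupTheory.SpecificGroups.Quaternion
import Mathlib.GroupTheory.SpecificGroups.Dihedral
import Mathlib.Tactic.Group
import Mathlib.Tactic.Ring
-- import your own Cfsg.Agent.* helpers here

set_option autoImplicit false
open Cfsg
open scoped commutatorElement
universe u

namespace Cfsg.Agent.S4398


theorem no_E8 {X : Type*} [Group X] [Finite X] (hr : Cfsg.SectionalPRankLE 2 2 X) {i b x z : X}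
    (hz : orderOf z = 2) (hiz : i * z = z * i) (hbz : b * z = z * b) (hxz : x * z = z * x)
    (hi2 : i * i ∈ Subgroup.zpowers z) (hb2 : b * b ∈ Subgroup.zpowers z) (hx2 : x * x ∈ Subgroup.zpowers z)
    (hib : i * b * i⁻¹ * b⁻¹ ∈ Subgroup.zpowers z) (hix : i * x = x * i) (hbx : b * x = x * b)
    (hi : i ∉ Subgroup.zpowers z) {A M : Subgroup X} (hAM : A ≤ M) (hiA : i ∈ A) (hzA : z ∈ A)
    (hbA : b ∉ A) (hbM : b ∈ M) (hxM : x ∉ M) : False := by
  haveI : Fact (Nat.Prime 2) := ⟨Nat.prime_two⟩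
  set H := Subgroup.centralizer ({z} : Set X) with hH
  have hmem : ∀ {y : X}, y * z = z * y → y ∈ H := fun h => Subgroup.mem_centralizer_singleton_iff.2 h
  set N := (Subgroup.zpowers z).subgroupOf H with hN
  haveI : N.Normal := ⟨fun n hn g => by
    rw [hN, Subgroup.mem_subgroupOf] at hn ⊢
    obtain ⟨j, hj⟩ := Subgroup.mem_zpowers_iff.1 hn
    have hg : Commute (g : X) (n : X) := hj ▸ (show Commute (g : X) z from Subgroup.mem_centralizer_singleton_iff.1 g.2).zpow_right j
    have : (g : X) * n * (g : X)⁻¹ = n := by rw [hg.eq, mul_inv_cancel_right]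
    rw [Subgroup.coe_mul, Subgroup.coe_mul, Subgroup.coe_inv, this]
    exact hn⟩
  set π := QuotientGroup.mk' N with hπ
  have h1 : ∀ {y : H}, π y = 1 ↔ (y : X) ∈ Subgroup.zpowers z := fun {y} => by
    rw [hπ, QuotientGroup.mk'_apply, QuotientGroup.eq_one_iff, hN, Subgroup.mem_subgroupOf]
  set I := π ⟨i, hmem hiz⟩ with hI
  set B := π ⟨b, hmem hbz⟩ with hB
  set Y := π ⟨x, hmem hxz⟩ with hY
  have hI2 : I ^ 2 = 1 := by rw [hI, ← map_pow, h1, Subgroup.coe_pow, pow_two]; exact hi2
  have hB2 : B ^ 2 = 1 := by rw [hB, ← map_pow, h1, Subgroup.coe_pow, pow_two]; exact hb2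
  have hY2 : Y ^ 2 = 1 := by rw [hY, ← map_pow, h1, Subgroup.coe_pow, pow_two]; exact hx2
  have hIB : Commute I B := by
    rw [← commutatorElement_eq_one_iff_commute, hI, hB, ← map_commutatorElement, h1]
    simpa [commutatorElement_def] using hib
  have hIY : Commute I Y := by
    show I * Y = Y * I
    rw [hI, hY, ← map_mul, ← map_mul]
    exact congrArg π (Subtype.ext hix)
  have hBY : Commute B Y := by
    show B * Y = Y * B
    rw [hB, hY, ← map_mul, ← map_mul]
    exact congrArg π (Subtype.ext hbx)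
  have hzA' : Subgroup.zpowers z ≤ A := Subgroup.zpowers_le.2 hzA
  have hI1 : I ≠ 1 := fun h => hi (h1.1 h)
  set P1 := Subgroup.zpowers I with hP1
  have hP1A : P1 ≤ (A.subgroupOf H).map π := Subgroup.zpowers_le.2 ⟨_, hiA, rfl⟩
  have hlift : ∀ {y : H} {K : Subgroup X}, Subgroup.zpowers z ≤ K → π y ∈ (K.subgroupOf H).map π → (y : X) ∈ K := by
    rintro y K hzK ⟨y', hy', he⟩
    have h : ((y'⁻¹ * y : H) : X) ∈ Subgroup.zpowers z := h1.1 (by rw [map_mul, map_inv, he, inv_mul_cancel])
    have := K.mul_mem hy' (hzK h)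
    simpa [← mul_assoc] using this
  have hB1 : B ∉ P1 := fun h => hbA (hlift hzA' (hP1A h))
  have e1 : Cfsg.IsElementaryAbelian 2 (P1 ⊔ Subgroup.zpowers B) := by
    refine PLocal.isEA_sup (PLocal.isEA_zpowers hI2) (PLocal.isEA_zpowers hB2) ?_
    rintro _ ⟨j, rfl⟩
    rw [Subgroup.mem_centralizer_iff]
    rintro _ ⟨l, rfl⟩
    exact (hIB.zpow_zpow j l).eq.symm
  have hY1 : Y ∉ P1 ⊔ Subgroup.zpowers B := fun h => hxM (hlift (hzA'.trans hAM)
    ((sup_le (hP1A.trans (Subgroup.map_mono (Subgroup.comap_mono hAM)))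
      (Subgroup.zpowers_le.2 ⟨_, hbM, rfl⟩)) h))
  have e2 : Cfsg.IsElementaryAbelian 2 (P1 ⊔ Subgroup.zpowers B ⊔ Subgroup.zpowers Y) := by
    refine PLocal.isEA_sup e1 (PLocal.isEA_zpowers hY2) ?_
    refine sup_le (Subgroup.zpowers_le.2 ?_) (Subgroup.zpowers_le.2 ?_)
    · rw [Subgroup.mem_centralizer_iff]
      rintro _ ⟨l, rfl⟩
      exact (hIY.zpow_right l).eq.symm
    · rw [Subgroup.mem_centralizer_iff]
      rintro _ ⟨l, rfl⟩
      exact (hBY.zpow_right l).eq.symm
  have h := hr H N _ e2.1 e2.2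
  rw [Components.ea_card_sup_zpowers e2 le_sup_left (Subgroup.mem_sup_right (Subgroup.mem_zpowers Y)) hY1,
    Components.ea_card_sup_zpowers e1 le_sup_left (Subgroup.mem_sup_right (Subgroup.mem_zpowers B)) hB1,
    hP1, Nat.card_zpowers, orderOf_eq_prime hI2 hI1] at h
  norm_num at h

theorem sectional_sub {X : Type*} [Group X] (hr : Cfsg.SectionalPRankLE 2 2 X) (M : Subgroup X) :
    Cfsg.SectionalPRankLE 2 2 M := by
  intro H N hN A hA hA2
  haveI := hN
  let e : H ≃* H.map M.subtype := H.equivMapOfInjective M.subtype M.subtype_injective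
  haveI : (N.map e.toMonoidHom).Normal := hN.map e.toMonoidHom e.surjective
  let f : (H ⧸ N) ≃* (H.map M.subtype ⧸ N.map e.toMonoidHom) := QuotientGroup.congr N _ e rfl
  haveI : IsMulCommutative A := hA
  have h := hr (H.map M.subtype) (N.map e.toMonoidHom) (A.map f.toMonoidHom)
    (PLocal.isEA_map ⟨hA, hA2⟩ f.toMonoidHom).1 (PLocal.isEA_map ⟨hA, hA2⟩ f.toMonoidHom).2
  rwa [Subgroup.card_map_of_injective (f := f.toMonoidHom) f.injective] at h

/-- The derived subgroup has index at most four. -/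
theorem index_le_four : ∀ (m : ℕ), ∀ {X : Type u} [Group X] [Finite X], Nat.card X = m → IsPGroup 2 X →
    Cfsg.SectionalPRankLE 2 2 X → ∀ D : Subgroup X, Nat.card D = 8 → (∃ p ∈ D, ∃ q ∈ D, p * q ≠ q * p) →
      (commutator X).index ≤ 4 := by
  intro m
  induction m using Nat.strong_induction_on with
  | _ m ih =>
    intro X _ _ hm hP hr D hD hna
    haveI : Fact (Nat.Prime 2) := ⟨Nat.prime_two⟩
    haveI := hP.isNilpotent
    obtain ⟨p, hp, q, hq, hpq⟩ := hna
    by_cases hDtop : D = ⊤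
    · subst hDtop
      rw [Subgroup.card_top] at hD
      have hne : commutator X ≠ ⊥ := fun h =>
        hpq (((_root_.commutator_eq_bot_iff X).1 h).is_comm.comm p q)
      have h2 : 1 < Nat.card (commutator X) := (Subgroup.one_lt_card_iff_ne_bot _).2 hne
      have := (commutator X).card_mul_index
      rw [hD] at this
      nlinarith
    obtain ⟨M, hM, hDM⟩ := (eq_top_or_exists_le_coatom D).resolve_left hDtop
    have hMi : M.index = 2 := FGS3.index_of_coatom hP hM
    have hMc : Nat.card M * 2 = Nat.card X := by rw [← hMi]; exact M.card_mul_index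
    have hMpos : 0 < Nat.card M := Nat.card_pos
    have hsub : Nat.card (D.subgroupOf M) = 8 :=
      (Nat.card_congr (Subgroup.subgroupOfEquivOfLe hDM).toEquiv).trans hD
    have hIH := ih (Nat.card M) (by omega) (X := M) rfl (hP.to_subgroup M) (sectional_sub hr M)
      (D.subgroupOf M) hsub
      ⟨⟨p, hDM hp⟩, hp, ⟨q, hDM hq⟩, hq, fun h => hpq (congrArg Subtype.val h)⟩
    have h8 : 8 ≤ Nat.card M := hD ▸ Subgroup.card_le_of_le hDM
    obtain ⟨k, a', b', hcard, ha', hb', hcase⟩ :=
      Screen.CyclicIndexTwo.cases_of_index_le_four (hP.to_subgroup M) hIH (by omega)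
    set a : X := (a' : X) with hadef
    set b : X := (b' : X) with hbdef
    have ha : orderOf a = 2 ^ (k + 2) := by rw [hadef, Subgroup.orderOf_coe, ha']
    set A := Subgroup.zpowers a with hAdef
    have hAM : A ≤ M := Subgroup.zpowers_le.2 a'.2
    have hbA : b ∉ A := by
      rintro ⟨j, hj⟩
      exact hb' ⟨j, Subtype.ext (by rw [Subgroup.coe_zpow]; exact hj)⟩
    -- the action of b on a
    obtain ⟨u, c, hu, hc, hu4, hbsq⟩ : ∃ u c : ℤ, b * a * b⁻¹ = a ^ u ∧ a ^ ((1 - u) * c) = a ^ (2 : ℤ) ∧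
        (4 : ℤ) ∣ u + 1 ∧ b * b ∈ Subgroup.zpowers (a ^ 2 ^ (k + 1)) := by
      rcases hcase with ⟨hb2, hcj⟩ | ⟨hb2, hcj⟩ | ⟨hk, hb2, hcj⟩
      · refine ⟨-1, 1, ?_, by norm_num, by norm_num, ?_⟩
        · rw [zpow_neg_one]; exact congrArg Subtype.val hcj
        · rw [← pow_two, show b ^ 2 = 1 from congrArg Subtype.val hb2]; exact one_mem _
      · refine ⟨-1, 1, ?_, by norm_num, by norm_num, ?_⟩
        · rw [zpow_neg_one]; exact congrArg Subtype.val hcj
        · rw [← pow_two, show b ^ 2 = a ^ 2 ^ (k + 1) from congrArg Subtype.val hb2]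
          exact Subgroup.mem_zpowers _
      · obtain ⟨l, rfl⟩ : ∃ l, k = l + 1 := ⟨k - 1, by omega⟩
        refine ⟨2 ^ (l + 1 + 1) - 1, -(2 ^ (l + 1) - 1), ?_, ?_, ⟨2 ^ l, by ring⟩, ?_⟩
        · have : ((2 ^ (l + 1 + 1) - 1 : ℕ) : ℤ) = 2 ^ (l + 1 + 1) - 1 := by
            rw [Nat.cast_sub Nat.one_le_two_pow]; push_cast; rfl
          rw [← this, zpow_natCast]
          exact congrArg Subtype.val hcj
        · rw [zpow_eq_zpow_iff_modEq, Int.modEq_iff_dvd, ha]
          push_cast
          exact ⟨1 - 2 ^ l, by ring⟩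
        · rw [← pow_two, show b ^ 2 = 1 from congrArg Subtype.val hb2]; exact one_mem _
    -- the derived subgroup contains the squares of A
    have hS2 : Subgroup.zpowers (a ^ (2 : ℤ)) ≤ commutator X := by
      rw [Subgroup.zpowers_le, ← hc, zpow_mul]
      refine Subgroup.zpow_mem _ ?_ c
      have : a ^ (1 - u) = ⁅a, b⁆ := by
        rw [commutatorElement_def, zpow_sub, zpow_one, ← hu]; group
      rw [this]
      exact Subgroup.commutator_mem_commutator (Subgroup.mem_top _) (Subgroup.mem_top _)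
    have hA2c : Nat.card (Subgroup.zpowers (a ^ (2 : ℤ))) = 2 ^ (k + 1) := by
      rw [Nat.card_zpowers, zpow_ofNat, orderOf_pow' _ (by norm_num), ha,
        Nat.gcd_eq_right (dvd_pow_self 2 (by omega)), pow_succ 2 (k + 1), Nat.mul_div_cancel _ two_pos]
    by_contra hbig
    push Not at hbig
    have heq : Subgroup.zpowers (a ^ (2 : ℤ)) = commutator X := by
      refine Subgroup.eq_of_le_of_card_ge hS2 ?_
      rw [hA2c]
      have h1 := (commutator X).card_mul_index
      rw [← hMc, hcard] at h1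
      obtain ⟨e, he⟩ := IsPGroup.iff_card.1 (hP.to_subgroup (commutator X))
      obtain ⟨d, -, hd⟩ := (Nat.dvd_prime_pow Nat.prime_two).1
        (show (commutator X).index ∣ 2 ^ (k + 4) from ⟨Nat.card (commutator X), by rw [mul_comm, h1, pow_succ 2 (k+3)]⟩)
      rw [he, hd, ← pow_add, ← pow_succ] at h1
      have := Nat.pow_right_injective le_rfl h1
      have hd3 : 3 ≤ d := by
        by_contra hlt
        rw [hd] at hbig
        have := Nat.pow_le_pow_right two_pos (show d ≤ 2 by omega)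
        omega
      rw [he]
      exact Nat.pow_le_pow_right two_pos (by omega)
    have hcomm : ∀ g h : X, ∃ j : ℤ, g * h * g⁻¹ = a ^ (2 * j) * h := by
      intro g h
      obtain ⟨j, hj⟩ := Subgroup.mem_zpowers_iff.1 (heq.ge
        (Subgroup.commutator_mem_commutator (Subgroup.mem_top g) (Subgroup.mem_top h) : ⁅g, h⁆ ∈ commutator X))
      refine ⟨j, ?_⟩
      rw [zpow_mul, hj, commutatorElement_def]
      group
    obtain ⟨s, hs⟩ : ∃ s, s ∉ M := by
      by_contra h
      push Not at h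
      exact hM.1 (eq_top_iff.2 fun y _ => h y)
    obtain ⟨j, hj⟩ := hcomm s b
    set s' := a ^ (-(j * c)) * s with hs'def
    have hs' : s' ∉ M := fun h => hs (by
      have := M.mul_mem (M.inv_mem (hAM (Subgroup.zpow_mem _ (Subgroup.mem_zpowers a) (-(j * c))))) h
      rwa [hs'def, inv_mul_cancel_left] at this)
    have hs'b : s' * b = b * s' := by
      have hconj : ∀ l : ℤ, b * a ^ l = a ^ (u * l) * b := fun l => by
        rw [zpow_mul, ← hu, conj_zpow, inv_mul_cancel_right]
      calc s' * b = a ^ (-(j * c)) * (s * b * s⁻¹) * s := by rw [hs'def]; group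
        _ = a ^ (-(j * c)) * (a ^ (2 * j) * b) * s := by rw [hj]
        _ = a ^ (u * -(j * c)) * b * s := by
            rw [← mul_assoc, zpow_mul a 2 j, ← hc, ← zpow_mul, ← zpow_add]
            congr 2
            congr 1
            ring
        _ = b * a ^ (-(j * c)) * s := by rw [hconj]
        _ = b * s' := by rw [hs'def, mul_assoc]
    set i := a ^ 2 ^ k with hidef
    set z := a ^ 2 ^ (k + 1) with hzdef
    have hzi : z = i * i := by
      rw [hzdef, hidef, ← pow_add]; congr 1; rw [pow_succ]; omega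
    have hz : orderOf z = 2 := by
      rw [hzdef, orderOf_pow' _ (by positivity), ha, Nat.gcd_eq_right (pow_dvd_pow 2 (Nat.le_succ _)),
        pow_succ 2 (k + 1), Nat.mul_div_cancel_left _ (by positivity)]
    have hi4 : i ^ (4 : ℤ) = 1 := by
      rw [zpow_ofNat, hidef, ← pow_mul, show 2 ^ k * 4 = 2 ^ (k + 2) by ring, ← ha, pow_orderOf_eq_one]
    have hiA : i ∈ A := A.pow_mem (Subgroup.mem_zpowers a) _
    have hbi : b * i * b⁻¹ = i⁻¹ := by
      have h1 : b * i * b⁻¹ = i ^ u := by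
        rw [hidef, ← zpow_natCast a, ← conj_zpow, hu, ← zpow_mul, ← zpow_mul, mul_comm]
      obtain ⟨w, hw⟩ := hu4
      rw [h1, show u = -1 + 4 * w by omega, zpow_add, zpow_mul, hi4, one_zpow, mul_one, zpow_neg_one]
    obtain ⟨m', hm'⟩ := hcomm s' a
    have hs'i : s' * i * s'⁻¹ = i ∨ s' * i * s'⁻¹ = i⁻¹ := by
      have h1 : s' * i * s'⁻¹ = i ^ (2 * m' + 1) := by
        rw [hidef, ← zpow_natCast a, ← conj_zpow, hm', ← zpow_mul,
          show a ^ (2 * m') * a = a ^ (2 * m' + 1) from (zpow_add_one a _).symm, ← zpow_mul, mul_comm]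
      rcases Int.even_or_odd m' with ⟨t, rfl⟩ | ⟨t, rfl⟩
      · left
        rw [h1, show 2 * (t + t) + 1 = 4 * t + 1 by ring, zpow_add, zpow_mul, hi4, one_zpow, one_mul, zpow_one]
      · right
        rw [h1, show 2 * (2 * t + 1) + 1 = 4 * (t + 1) + -1 by ring, zpow_add, zpow_mul, hi4, one_zpow,
          one_mul, zpow_neg_one]
    obtain ⟨x, hxM, hxb, hxi⟩ : ∃ x, x ∉ M ∧ x * b = b * x ∧ x * i = i * x := by
      rcases hs'i with h | h
      · exact ⟨s', hs', hs'b, mul_inv_eq_iff_eq_mul.1 h⟩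
      · refine ⟨s' * b, fun hm => hs' ((mul_mem_cancel_right b'.2).1 hm), by rw [hs'b, mul_assoc, hs'b], ?_⟩
        calc s' * b * i = s' * (b * i * b⁻¹) * b := by group
          _ = s' * i⁻¹ * b := by rw [hbi]
          _ = (s' * i * s'⁻¹)⁻¹ * s' * b := by group
          _ = i * (s' * b) := by rw [h, inv_inv, mul_assoc]
    have hx2 : x * x ∈ Subgroup.zpowers z := by
      have hyM : x * x ∈ M := Subgroup.mul_self_mem_of_index_two hMi x
      have hyb : x * x * b = b * (x * x) := ((Commute.mul_left hxb hxb : Commute (x * x) b)).eq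
      have hyi : x * x * i = i * (x * x) := ((Commute.mul_left hxi hxi : Commute (x * x) i)).eq
      have hAi : (Subgroup.zpowers a').index = 2 := by
        have := (Subgroup.zpowers a').card_mul_index
        rw [Nat.card_zpowers, ha', hcard, pow_succ 2 (k + 2)] at this
        exact Nat.eq_of_mul_eq_mul_left (by positivity) this
      have hyA : (⟨x * x, hyM⟩ : M) ∈ Subgroup.zpowers a' := by
        by_contra hy
        obtain ⟨l, hl⟩ := Subgroup.mem_zpowers_iff.1
          ((Subgroup.mul_mem_iff_of_index_two hAi).2 (iff_of_false hy hb') : (⟨x * x, hyM⟩ : M) * b' ∈ _)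
        have hl' : a ^ l = x * x * b := by
          have := congrArg Subtype.val hl
          rwa [Subgroup.coe_zpow] at this
        have h1 : a ^ l * i = i * a ^ l :=
          (((Commute.refl a).zpow_left l).pow_right _).eq
        have hbi' : b * i = i * b := mul_left_cancel (a := x * x) (by
          calc x * x * (b * i) = a ^ l * i := by rw [hl']; group
            _ = i * (x * x * b) := by rw [h1, hl']
            _ = i * (x * x) * b := by rw [← mul_assoc]
            _ = x * x * i * b := by rw [hyi]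
            _ = x * x * (i * b) := by rw [mul_assoc])
        rw [hbi', mul_inv_cancel_right, eq_inv_iff_mul_eq_one, ← hzi] at hbi
        rw [hbi, orderOf_one] at hz
        omega
      obtain ⟨l, hl⟩ := Subgroup.mem_zpowers_iff.1 hyA
      have hl' : a ^ l = x * x := by
        have := congrArg Subtype.val hl
        rwa [Subgroup.coe_zpow] at this
      have h1 : a ^ ((1 - u) * l) = 1 := by
        have h2 : b * a ^ l * b⁻¹ = a ^ l := by rw [hl', ← hyb, mul_inv_cancel_right]
        rw [← conj_zpow, hu, ← zpow_mul] at h2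
        rw [sub_mul, one_mul, zpow_sub, h2, mul_inv_cancel]
      have h3 : a ^ (2 * l) = 1 := by
        rw [zpow_mul, ← hc, ← zpow_mul, show (1 - u) * c * l = (1 - u) * l * c by ring, zpow_mul, h1, one_zpow]
      have h4 := orderOf_dvd_iff_zpow_eq_one.2 h3
      rw [ha, Nat.cast_pow, Nat.cast_ofNat, pow_succ' (2 : ℤ) (k + 1)] at h4
      obtain ⟨e, he⟩ := Int.dvd_of_mul_dvd_mul_left two_ne_zero h4
      refine ⟨e, ?_⟩
      show z ^ e = x * x
      rw [← hl', he, zpow_mul, hzdef]
      norm_cast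
    have hiz : i * z = z * i := by rw [hzi, mul_assoc]
    have hbz : b * z = z * b := by
      have h := congrArg (fun v => v * v) hbi
      rw [show b * i * b⁻¹ * (b * i * b⁻¹) = b * (i * i) * b⁻¹ by group, ← hzi, ← mul_inv_rev, ← hzi,
        inv_eq_of_mul_eq_one_right (by rw [← pow_two, ← hz, pow_orderOf_eq_one] : z * z = 1)] at h
      exact mul_inv_eq_iff_eq_mul.1 h
    refine no_E8 hr hz hiz hbz ((Commute.mul_right hxi hxi : Commute x (i * i)).eq.trans rfl |> fun h => hzi ▸ h)
      (hzi ▸ Subgroup.mem_zpowers z) hbsq hx2 ?_ hxi.symm hxb.symm ?_ hAM hiA (hzi ▸ A.mul_mem hiA hiA) hbA b'.2 hxM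
    · have : i * b * i⁻¹ * b⁻¹ = i * i := by
        calc i * b * i⁻¹ * b⁻¹ = i * (b * i * b⁻¹)⁻¹ := by group
          _ = i * i := by rw [hbi, inv_inv]
      rw [this, ← hzi]
      exact Subgroup.mem_zpowers z
    · rintro ⟨e, he⟩
      have he' : z ^ e = i := he
      have : z = 1 := by
        rw [hzi, ← he', ← zpow_add, ← two_mul, zpow_mul, zpow_ofNat, ← hz, pow_orderOf_eq_one, one_zpow]
      rw [this, orderOf_one] at hz
      omega

/-- Let S be a finite 2-group of sectional 2-rank at most 2 that contains a subgroup isomorphic to the dihedral group of order 8 or to the quaternion group of order 8. Then S is dihedral of order at least 8, semidihedral of order at least 16 (order 2^(k+4) with an element a of order 2^(k+3) and an involution b with b a b⁻¹ = a^(2^(k+2)−1)), or generalized quaternion of order at least 8. -/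
theorem result {S : Type*} [Group S] [Finite S] (h2 : IsPGroup 2 S) (hr : Cfsg.SectionalPRankLE 2 2 S)
    (hsub : ∃ H : Subgroup S, Nonempty (↥H ≃* DihedralGroup 4) ∨ Nonempty (↥H ≃* QuaternionGroup 2)) :
    ((∃ k : ℕ, Nonempty (S ≃* DihedralGroup (2 ^ (k + 2)))) ∨
      (∃ k : ℕ, Nat.card S = 2 ^ (k + 4) ∧ ∃ a b : S, orderOf a = 2 ^ (k + 3) ∧ orderOf b = 2 ∧ b * a * b⁻¹ = a ^ (2 ^ (k + 2) - 1)) ∨
      (∃ k : ℕ, Nonempty (S ≃* QuaternionGroup (2 ^ (k + 1))))) := by
  haveI : Fact (Nat.Prime 2) := ⟨Nat.prime_two⟩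
  obtain ⟨H, hH⟩ := hsub
  obtain ⟨hH8, p, q, hpq⟩ : Nat.card H = 8 ∧ ∃ p q : H, p * q ≠ q * p := by
    rcases hH with ⟨⟨e⟩⟩ | ⟨⟨e⟩⟩
    · refine ⟨(Nat.card_congr e.toEquiv).trans DihedralGroup.nat_card, e.symm (DihedralGroup.r 1), e.symm (DihedralGroup.sr 0), ?_⟩
      rw [← map_mul, ← map_mul, Ne, e.symm.injective.eq_iff]
      decide
    · haveI : NeZero 2 := ⟨two_ne_zero⟩
      refine ⟨(Nat.card_congr e.toEquiv).trans (by rw [Nat.card_eq_fintype_card, QuaternionGroup.card]),
        e.symm (QuaternionGroup.a 1), e.symm (QuaternionGroup.xa 0), ?_⟩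
      rw [← map_mul, ← map_mul, Ne, e.symm.injective.eq_iff]
      decide
  have hi := index_le_four (Nat.card S) rfl h2 hr H hH8
    ⟨p, p.2, q, q.2, fun h => hpq (Subtype.ext h)⟩
  have hgt : 4 < Nat.card S := lt_of_lt_of_le (by omega : 4 < Nat.card H) (Subgroup.card_le_card_group H)
  obtain ⟨k, a, b, hcard, ha, hb, h⟩ := Screen.CyclicIndexTwo.cases_of_index_le_four h2 hi hgt
  rcases h with ⟨hb2, hc⟩ | ⟨hb2, hc⟩ | ⟨hk, hb2, hc⟩
  · refine Or.inl ⟨k, ?_⟩
    refine TwoGroups.IsTwoExt.dihedral (x := a) (y := b) ⟨ha, by rw [hcard, pow_succ'], by positivity, hb, by rw [← pow_two, hb2], ?_⟩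
    rw [hc, zpow_neg_one]
  · refine Or.inr (Or.inr ⟨k, ?_⟩)
    refine TwoGroups.exists_quaternion_equiv (u := a) (v := b) (by positivity) ?_ ?_ hb ?_ hc
    · rw [ha, pow_succ' 2 (k + 1)]
    · rw [hcard, pow_succ' 2 (k + 2), pow_succ' 2 (k + 1)]; ring
    · rw [← pow_two, hb2]
  · refine Or.inr (Or.inl ?_)
    obtain ⟨l, rfl⟩ : ∃ l, k = l + 1 := ⟨k - 1, by omega⟩
    refine ⟨l, hcard, a, b, ha, ?_, hc⟩
    exact orderOf_eq_prime hb2 fun e => hb (e ▸ one_mem _)

end Cfsg.Agent.S4398
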