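import Cfsg.Statements.S0065
import Cfsg.Agent.OddLocal.NilBasics
-- import your own Cfsg.Agent.* helpers here

set_option autoImplicit false
open Cfsg

namespace Cfsg.Agent.S0065

/-- A nontrivial normal subgroup of a nilpotent group intersects the centre nontrivially. -/
theorem result {G : Type*} [Group G] [Finite G] [Group.IsNilpotent G]
    (N : Subgroup G) [N.Normal] (hN : N ≠ ⊥) : N ⊓ Subgroup.center G ≠ ⊥ := by
  obtain ⟨x, hxN, hx1, hxc⟩ := Cfsg.Agent.OddLocal.exists_ne_one_mem_center_of_normal N hN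
  intro h
  have hx : x ∈ N ⊓ Subgroup.center G := ⟨hxN, hxc⟩
  rw [h, Subgroup.mem_bot] at hx
  exact hx1 hx

end Cfsg.Agent.S0065
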