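import Cfsg.Statements.S2795
import Cfsg.Agent.FusionZJ.QdStable

set_option autoImplicit false
set_option linter.style.haveILetI false
open Cfsg

namespace Cfsg.Agent.S2795

open Cfsg.Agent Cfsg.Agent.FusionZJ Matrix Subgroup
open scoped commutatorElement

variable {p : ℕ} [Fact p.Prime]

/-- The transvection block. -/
def qdA (k : ZMod p) : ↥(Cfsg.qd p) :=
  ⟨⟨!![1, k, 0; 0, 1, 0; 0, 0, 1], by simp [Matrix.det_fin_three]⟩,
    Subgroup.subset_closure ⟨rfl, rfl, rfl⟩⟩

/-- The rotation block. -/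
def qdC (p : ℕ) : ↥(Cfsg.qd p) :=
  ⟨⟨!![0, -1, 0; 1, 0, 0; 0, 0, 1], by simp [Matrix.det_fin_three]⟩,
    Subgroup.subset_closure ⟨rfl, rfl, rfl⟩⟩

theorem qdA_mul (k l : ZMod p) : qdA k * qdA l = qdA (k + l) := by
  refine Subtype.ext (Subtype.ext ?_)
  rw [qd_coe_mul]
  ext i j
  fin_cases i <;> fin_cases j <;> simp [qdA, Matrix.mul_apply, Fin.sum_univ_three]
  all_goals ring

theorem qdA_zero : qdA (0 : ZMod p) = 1 := by
  refine Subtype.ext (Subtype.ext ?_)
  ext i j
  fin_cases i <;> fin_cases j <;> simp [qdA, Matrix.one_apply]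

theorem qdA_inv (k : ZMod p) : (qdA k)⁻¹ = qdA (-k) :=
  inv_eq_of_mul_eq_one_right (by rw [qdA_mul, add_neg_cancel, qdA_zero])

theorem qdA_zpowers {x : ↥(Cfsg.qd p)} (hx : x ∈ zpowers (qdA (1 : ZMod p))) : ∃ k, x = qdA k := by
  obtain ⟨n, rfl⟩ := mem_powers_iff_mem_zpowers.mpr hx
  refine ⟨n, ?_⟩
  show qdA 1 ^ n = _
  clear hx
  induction n with
  | zero => simp [qdA_zero]
  | succ n ih => rw [pow_succ, ih, qdA_mul, Nat.cast_succ]

theorem quad : ⁅⁅qdV p, zpowers (qdA (1 : ZMod p))⁆, zpowers (qdA (1 : ZMod p))⁆ = ⊥ := by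
  have hab : ∀ u ∈ qdV p, ∀ v ∈ qdV p, u * v = v * u := by
    intro u hu v hv
    obtain ⟨a, b, c, d⟩ := mem_qdV_iff.mp hu
    obtain ⟨a', b', c', d'⟩ := mem_qdV_iff.mp hv
    have r := S3835.qd_row u.2
    have r' := S3835.qd_row v.2
    refine Subtype.ext (Subtype.ext ?_)
    rw [qd_coe_mul, qd_coe_mul]
    ext i j
    fin_cases i <;> fin_cases j <;>
      simp [Matrix.mul_apply, Fin.sum_univ_three, a, b, c, d, a', b', c', d', r, r', add_comm]
  set W := qdV p ⊓ centralizer ({qdA (1 : ZMod p)} : Set ↥(Cfsg.qd p)) with hW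
  rw [commutator_eq_bot_iff_le_centralizer]
  refine le_trans (le_trans ?_ (inf_le_right : W ≤ _))
    (le_of_eq (by rw [zpowers_eq_closure, centralizer_closure]))
  rw [commutator_le]
  intro v hv x hx
  obtain ⟨k, rfl⟩ := qdA_zpowers hx
  have hu : v * qdA k * v⁻¹ * (qdA k)⁻¹ ∈ qdV p := by
    rw [show v * qdA k * v⁻¹ * (qdA k)⁻¹ = v * (qdA k * v⁻¹ * (qdA k)⁻¹) by group]
    exact mul_mem hv ((inferInstance : (qdV p).Normal).conj_mem _ (inv_mem hv) _)
  refine mem_inf.mpr ⟨by rw [commutatorElement_def]; exact hu, ?_⟩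
  rw [mem_centralizer_singleton_iff, commutatorElement_def]
  set a := qdA (1 : ZMod p) with ha
  set w := qdA k * v * (qdA k)⁻¹ with hw
  have hwV : w ∈ qdV p := (inferInstance : (qdV p).Normal).conj_mem _ hv _
  have hav : a * v * a⁻¹ ∈ qdV p := (inferInstance : (qdV p).Normal).conj_mem _ hv _
  have key : a * v * a⁻¹ * w = a * w * a⁻¹ * v := by
    obtain ⟨e1, e2, e3, e4⟩ := mem_qdV_iff.mp hv
    have r := S3835.qd_row v.2
    rw [hw, ha, qdA_inv, qdA_inv]
    refine Subtype.ext (Subtype.ext ?_)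
    simp only [qd_coe_mul]
    have hvM : (v.1 : Matrix (Fin 3) (Fin 3) (ZMod p)) =
        !![1, 0, (v.1 : Matrix (Fin 3) (Fin 3) (ZMod p)) 0 2;
          0, 1, (v.1 : Matrix (Fin 3) (Fin 3) (ZMod p)) 1 2; 0, 0, 1] := by
      ext i j
      fin_cases i <;> fin_cases j <;> simp [e1, e2, e3, e4, r]
    rw [hvM]
    simp only [qdA]
    ext i j
    fin_cases i <;> fin_cases j <;> simp [Matrix.mul_apply, Fin.sum_univ_three]
    all_goals ring
  have e : a * (v * w⁻¹) * a⁻¹ = v * w⁻¹ := by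
    have h1 : a * (v * w⁻¹) * a⁻¹ = (a * v * a⁻¹) * (a * w * a⁻¹)⁻¹ := by group
    have h2 : (a * w * a⁻¹) ∈ qdV p := (inferInstance : (qdV p).Normal).conj_mem _ hwV _
    rw [h1]
    exact mul_inv_eq_iff_eq_mul.mpr (by
      rw [mul_assoc v, hab _ (inv_mem hwV) _ h2, ← mul_assoc, hab _ hv _ h2, ← key, mul_inv_cancel_right])
  rw [show v * qdA k * v⁻¹ * (qdA k)⁻¹ = v * w⁻¹ by rw [hw]; group]
  exact (mul_inv_eq_iff_eq_mul.mp e).symm

theorem not_stable (hp : p ≠ 2) {X : Type*} [Group X] [Finite X] (e : X ≃* ↥(Cfsg.qd p)) :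
    ¬ IsNormalizerPStable p X := by
  intro h
  set P := (qdV p).map e.symm.toMonoidHom with hPdef
  haveI : P.Normal := Subgroup.Normal.map inferInstance _ e.symm.surjective
  have hP : IsPGroup p P := qdFrame.pgroup.map _
  have hN : ∀ x : X, x ∈ normalizer (P : Set X) := fun x => by
    rw [Subgroup.normalizer_eq_top P]; trivial
  have hq : ⁅⁅P, zpowers (e.symm (qdA 1))⁆, zpowers (e.symm (qdA 1))⁆ = ⊥ := by
    rw [show zpowers (e.symm (qdA (1 : ZMod p))) = (zpowers (qdA 1)).map e.symm.toMonoidHom from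
      (MonoidHom.map_zpowers e.symm.toMonoidHom _).symm, ← map_commutator, ← map_commutator, quad, Subgroup.map_bot]
  have h1 := h P hP _ (hN _) hq
  set φ : ↥(Cfsg.qd p) →* _ :=
    (QuotientGroup.mk' ((centralizer (P : Set X)).subgroupOf (normalizer (P : Set X)))).comp
      (e.symm.toMonoidHom.codRestrict (normalizer (P : Set X)) (fun x => hN _)) with hφ
  set K := pCore p (↥(normalizer (P : Set X)) ⧸
    (centralizer (P : Set X)).subgroupOf (normalizer (P : Set X))) with hK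
  haveI : K.Normal := by rw [hK]; infer_instance
  have ha : φ (qdA 1) ∈ K := h1
  have hid : qdA (1 : ZMod p) * (qdC p * qdA 1 * (qdC p)⁻¹) * qdA 1 = (qdC p)⁻¹ := by
    rw [eq_inv_iff_mul_eq_one]
    have hC : (qdC p)⁻¹ = qdC p * qdC p * qdC p := by
      refine inv_eq_of_mul_eq_one_right (Subtype.ext (Subtype.ext ?_))
      simp only [qd_coe_mul]
      ext i j
      fin_cases i <;> fin_cases j <;> simp [qdC, Matrix.mul_apply, Fin.sum_univ_three]
    rw [hC]
    refine Subtype.ext (Subtype.ext ?_)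
    simp only [qd_coe_mul]
    ext i j
    fin_cases i <;> fin_cases j <;> simp [qdC, qdA, Matrix.mul_apply, Fin.sum_univ_three]
  have ht : qdT p = (qdC p)⁻¹ * (qdC p)⁻¹ := by
    rw [eq_mul_inv_iff_mul_eq, eq_inv_iff_mul_eq_one]
    refine Subtype.ext (Subtype.ext ?_)
    simp only [qd_coe_mul]
    ext i j
    fin_cases i <;> fin_cases j <;> simp [qdC, qdT_coe, Matrix.mul_apply, Fin.sum_univ_three]
  have hc : φ (qdC p)⁻¹ ∈ K := by
    rw [← hid, map_mul, map_mul, map_mul, map_mul, map_inv]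
    exact mul_mem (mul_mem ha ((inferInstance : K.Normal).conj_mem _ ha _)) ha
  have htK : φ (qdT p) ∈ K := by rw [ht, map_mul]; exact mul_mem hc hc
  have ht1 : φ (qdT p) = 1 := eq_one_of_sq (Core.isPGroup_pCore p _) hp htK (k := 1) (by
    rw [pow_one, sq, ← map_mul, qdFrame.sq, map_one])
  have hmem : e.symm (qdT p) ∈ centralizer (P : Set X) :=
    mem_subgroupOf.mp ((QuotientGroup.eq_one_iff _).mp ht1)
  let v : ↥(Cfsg.qd p) := ⟨⟨!![1, 0, 1; 0, 1, 0; 0, 0, 1], by simp [Matrix.det_fin_three]⟩,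
    Subgroup.subset_closure ⟨rfl, rfl, rfl⟩⟩
  have hv : v ∈ qdV p := mem_qdV_iff.mpr ⟨rfl, rfl, rfl, rfl⟩
  have h2 : v * qdT p = qdT p * v :=
    e.symm.injective (by rw [map_mul, map_mul]; exact mem_centralizer_iff.mp hmem _ ⟨v, hv, rfl⟩)
  have h3 := congrArg (fun x : ↥(Cfsg.qd p) => (x.1 : Matrix (Fin 3) (Fin 3) (ZMod p)) 0 2) h2
  simp only [qd_coe_mul] at h3
  simp [qdT_coe, v, Matrix.mul_apply, Fin.sum_univ_three] at h3
  exact Dickson.two_ne_zero' (F := ZMod p) hp (by linear_combination h3)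

/-- For an odd prime p and a finite group G, the group Qd(p) is not involved in G if and only if every section of G is p-stable in the normalizer form (for every p-subgroup P of the section and every g in its normalizer acting quadratically on P, the image of g in N(P)/C(P) lies in O_p(N(P)/C(P))). -/
theorem result {G : Type*} [Group G] [Finite G] {p : ℕ} [Fact p.Prime] (hp : p ≠ 2) : ¬ Cfsg.Involves ↥(Cfsg.qd p) G ↔ ∀ (K R : Subgroup G) [hR : (R.subgroupOf K).Normal], Cfsg.IsNormalizerPStable p (K ⧸ R.subgroupOf K) := by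
  constructor
  · intro hno K R hR P hP g hg hq
    have hno' : ¬ Involves ↥(Cfsg.qd p) (K ⧸ R.subgroupOf K) := fun h => hno
      (involves_of_injective K.subtype K.subtype_injective
        (involves_of_surjective _ (QuotientGroup.mk'_surjective _) h))
    refine isNormalizerPStable_of_qd_free hp hno' P (normalizer (P : Set (K ⧸ R.subgroupOf K))) hP le_rfl
      (QuotientGroup.mk' ((centralizer (P : Set (K ⧸ R.subgroupOf K))).subgroupOf
        (normalizer (P : Set (K ⧸ R.subgroupOf K)))))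
      (QuotientGroup.mk'_surjective _) ?_ (g := ⟨g, hg⟩) hq
    intro h
    exact (QuotientGroup.eq_one_iff h).trans mem_subgroupOf
  · rintro h ⟨K, R, hn, ⟨e⟩⟩
    haveI := hn
    exact not_stable hp e (h K R)

end Cfsg.Agent.S2795
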