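import Cfsg.Statements.S0739
import Cfsg.Agent.OddLocal.FPF
import Cfsg.Agent.PermGroups.FrobeniusKernel
import Mathlib.GroupTheory.GroupAction.MultipleTransitivity
import Mathlib.GroupTheory.Transfer

set_option autoImplicit false
open Cfsg

namespace Cfsg.Agent.S0739

/-- In a finite Zassenhaus group whose two-point stabiliser `H = G_{a,b}` has odd order `d`, and which has no normal `q`-complement for any prime `q ∣ d`, `H` is cyclic, `C_G(H) = H`, and every element swapping `a` and `b` inverts each element of `H`. -/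
theorem result {G Ω : Type*} [Group G] [Finite G] [MulAction G Ω] [Fintype Ω] (hZ : Cfsg.IsZassenhausGroup G Ω) {a b : Ω} (hab : a ≠ b) (hodd : Odd (Nat.card ↥(MulAction.stabilizer G a ⊓ MulAction.stabilizer G b))) (hnil : ∀ q : ℕ, q.Prime → q ∣ Nat.card ↥(MulAction.stabilizer G a ⊓ MulAction.stabilizer G b) → ¬ ∃ N : Subgroup G, N.Normal ∧ N.index = q ^ (Nat.card G).factorization q) : IsCyclic ↥(MulAction.stabilizer G a ⊓ MulAction.stabilizer G b) ∧ Subgroup.centralizer ((MulAction.stabilizer G a ⊓ MulAction.stabilizer G b : Subgroup G) : Set G) = MulAction.stabilizer G a ⊓ MulAction.stabilizer G b ∧ ∀ s : G, s • a = b → s • b = a → ∀ h ∈ MulAction.stabilizer G a ⊓ MulAction.stabilizer G b, s * h * s⁻¹ = h⁻¹ := by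
  classical
  obtain ⟨hfaith, h2, hthree, ⟨g₀, hg₀, x₀, y₀, hxy₀, hgx₀, hgy₀⟩, -⟩ := hZ
  set H := MulAction.stabilizer G a ⊓ MulAction.stabilizer G b with hH
  have hfa : ∀ {h : G}, h ∈ H → h • a = a := fun hh => MulAction.mem_stabilizer_iff.1 hh.1
  have hfb : ∀ {h : G}, h ∈ H → h • b = b := fun hh => MulAction.mem_stabilizer_iff.1 hh.2
  obtain ⟨h₁, h₁H, h₁1⟩ : ∃ h ∈ H, h ≠ 1 := by
    obtain ⟨g, hga, hgb⟩ := MulAction.is_two_pretransitive_iff.1 h2 hxy₀ hab
    refine ⟨g * g₀ * g⁻¹, ⟨MulAction.mem_stabilizer_iff.2 ?_, MulAction.mem_stabilizer_iff.2 ?_⟩,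
      fun h => hg₀ (conj_eq_one_iff.1 h)⟩
    · rw [← hga, mul_smul, mul_smul, inv_smul_smul, hgx₀]
    · rw [← hgb, mul_smul, mul_smul, inv_smul_smul, hgy₀]
  have honly : ∀ h ∈ H, h ≠ 1 → ∀ z, h • z = z → z = a ∨ z = b := by
    intro h hh h1 z hz
    by_contra hcon
    push Not at hcon
    exact h1 (hthree h a b z hab hcon.2.symm hcon.1.symm (hfa hh) (hfb hh) hz)
  -- the point stabiliser is a Frobenius group
  set A := MulAction.stabilizer G a with hA
  have hHA : H ≤ A := inf_le_left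
  set H₀ : Subgroup A := H.subgroupOf A with hH₀
  haveI := h2
  haveI htrA : MulAction.IsPretransitive G Ω := MulAction.isPretransitive_of_is_two_pretransitive
  have hrest : ∀ z, z ≠ a → ∃ g : A, (g : G) • b = z := fun z hz => by
    obtain ⟨g, hga, hgb⟩ := MulAction.is_two_pretransitive_iff.1 h2 hab hz.symm
    exact ⟨⟨g, MulAction.mem_stabilizer_iff.2 hga⟩, hgb⟩
  have hmem₀ : ∀ {g : A}, g ∈ H₀ ↔ (g : G) • b = b := fun {g} =>
    ⟨fun h => hfb (Subgroup.mem_subgroupOf.1 h),
      fun h => Subgroup.mem_subgroupOf.2 ⟨g.2, MulAction.mem_stabilizer_iff.2 h⟩⟩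
  obtain ⟨c, hca, hcb⟩ : ∃ z, z ≠ a ∧ z ≠ b := by
    by_contra hcon
    push Not at hcon
    refine h₁1 (hfaith.eq_of_smul_eq_smul fun z => ?_)
    rw [one_smul]
    by_cases hz : z = a
    · rw [hz]; exact hfa h₁H
    · rw [hcon z hz]; exact hfb h₁H
  have hFr : Cfsg.IsFrobeniusComplement H₀ := by
    refine ⟨?_, ?_, fun g hg => ?_⟩
    · intro h
      have : (⟨h₁, hHA h₁H⟩ : A) ∈ H₀ := Subgroup.mem_subgroupOf.2 h₁H
      rw [h, Subgroup.mem_bot] at this
      exact h₁1 (congrArg Subtype.val this)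
    · intro h
      obtain ⟨g, hg⟩ := hrest c hca
      have : g ∈ H₀ := h ▸ Subgroup.mem_top g
      exact hcb (hg.symm.trans (hmem₀.1 this))
    · rw [Subgroup.eq_bot_iff_forall]
      rintro x ⟨hx, hx'⟩
      have hx'' : g⁻¹ * x * g ∈ H₀ := PermGroups.mem_conj_smul.1 hx'
      by_contra hx1
      have hgb : ((g : G)) • b ≠ b := fun e => hg (hmem₀.2 e)
      have hfix : (x : G) • ((g : G) • b) = (g : G) • b := by
        have := hmem₀.1 hx''
        simp only [Subgroup.coe_mul, Subgroup.coe_inv, mul_smul, inv_smul_eq_iff] at this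
        exact this
      rcases honly _ (Subgroup.mem_subgroupOf.1 hx) (fun e => hx1 (Subtype.ext e)) _ hfix with e | e
      · exact hab.symm (smul_left_cancel (g : G) (e.trans (MulAction.mem_stabilizer_iff.1 g.2).symm))
      · exact hgb e
  obtain ⟨N, -, hNn, hcompl⟩ := PermGroups.Frobenius.exists_kernel hFr
  haveI := hNn
  have hfpf : OddLocal.FPF N H₀ := by
    intro h hh h1 k hk hcomm
    by_contra hk1
    have hkb : (k : G) • b ≠ b := fun e => hk1 (Subgroup.mem_bot.1 (hcompl.disjoint.le_bot ⟨hk, hmem₀.2 e⟩))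
    have hfix : (h : G) • ((k : G) • b) = (k : G) • b := by
      rw [← mul_smul, ← Subgroup.coe_mul, hcomm, Subgroup.coe_mul, mul_smul, hmem₀.1 hh]
    rcases honly _ (Subgroup.mem_subgroupOf.1 hh) (fun e => h1 (Subtype.ext e)) _ hfix with e | e
    · exact hab.symm (smul_left_cancel (k : G) (e.trans (MulAction.mem_stabilizer_iff.1 k.2).symm))
    · exact hkb e
  have hN0 : N ≠ ⊥ := fun h => hFr.2.1 (Subgroup.isComplement'_bot_left.1 (h ▸ hcompl))
  have hodd₀ : Odd (Nat.card H₀) := by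
    rw [Nat.card_congr (Subgroup.subgroupOfEquivOfLe hHA).toEquiv]; exact hodd
  haveI : IsZGroup H₀ := by
    refine ⟨fun p hp P => ?_⟩
    haveI := Fact.mk hp
    rcases eq_or_ne p 2 with rfl | hp2
    · have h1 : Nat.card (P : Subgroup H₀) = 1 := by
        obtain ⟨k, hk⟩ := IsPGroup.iff_card.1 P.isPGroup'
        rcases k with _ | k
        · rw [hk, pow_zero]
        · have h2 := Subgroup.card_subgroup_dvd_card (P : Subgroup H₀)
          rw [hk] at h2
          exact absurd (dvd_trans (dvd_pow_self 2 (by omega)) h2) hodd₀.not_two_dvd_nat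
      haveI : Subsingleton (P : Subgroup H₀) := (Nat.card_eq_one_iff_unique.1 h1).1
      infer_instance
    · have := hfpf.sylow_cyclic_of_odd hN0 (by rw [Subgroup.normalizer_eq_top]; exact le_top) hp2
        ((P : Subgroup H₀).map H₀.subtype) (Subgroup.map_subtype_le _) (P.isPGroup'.map _)
      exact isCyclic_of_injective ((P : Subgroup H₀).equivMapOfInjective H₀.subtype H₀.subtype_injective).toMonoidHom
        (MulEquiv.injective _)
  haveI : IsZGroup H := IsZGroup.of_injective (f := (Subgroup.subgroupOfEquivOfLe hHA).symm.toMonoidHom)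
    (MulEquiv.injective _)
  -- arithmetic of the indices
  have hidx : H.index = H₀.index * Fintype.card Ω := by
    rw [← Subgroup.relIndex_mul_index hHA, show A.index = Fintype.card Ω from
      (MulAction.index_stabilizer_of_transitive G a).trans Nat.card_eq_fintype_card]
    rfl
  have hidx0 : H₀.index + 1 = Fintype.card Ω := by
    have e : MulAction.stabilizer A b = H₀ := by
      ext g
      rw [hmem₀]
      exact Iff.rfl
    rw [← e, MulAction.index_stabilizer,
      show MulAction.orbit A b = ({a} : Set Ω)ᶜ from Set.ext fun z => ⟨fun ⟨g, hg⟩ hz => by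
          simp only [Set.mem_singleton_iff] at hz
          have : (g : G) • b = a := hg.trans hz
          exact hab.symm (smul_left_cancel (g : G) (this.trans (MulAction.mem_stabilizer_iff.1 g.2).symm)),
        fun hz => let ⟨g, hg⟩ := hrest z (by simpa using hz); ⟨g, hg⟩⟩,
      Set.ncard_compl, Set.ncard_singleton, Nat.card_eq_fintype_card]
    have : 0 < Fintype.card Ω := Fintype.card_pos_iff.2 ⟨a⟩
    omega
  have hcop : ∀ q : ℕ, q.Prime → q ∣ Nat.card H → ¬ q ∣ H.index := by
    intro q hq hqd hqi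
    haveI := Fact.mk hq
    have hd1 : q ∣ H₀.index - 1 := by
      refine dvd_trans ?_ (PermGroups.Frobenius.card_dvd_index_sub_one hFr)
      rw [Nat.card_congr (Subgroup.subgroupOfEquivOfLe hHA).toEquiv]; exact hqd
    have h0 : 1 ≤ H₀.index := Nat.one_le_iff_ne_zero.2 Subgroup.index_ne_zero_of_finite
    rw [hidx] at hqi
    rcases hq.dvd_mul.1 hqi with h | h
    · have := Nat.dvd_sub h hd1
      rw [show H₀.index - (H₀.index - 1) = 1 by omega] at this
      exact hq.ne_one (Nat.eq_one_of_dvd_one this)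
    · rw [← hidx0] at h
      have := Nat.dvd_sub h hd1
      rw [show H₀.index + 1 - (H₀.index - 1) = 2 by omega] at this
      rw [(Nat.prime_dvd_prime_iff_eq hq Nat.prime_two).1 this] at hqd
      exact hodd.not_two_dvd_nat hqd
  -- conjugation by an element exchanging the two points
  have hswap : ∀ {s : G}, s • a = b → s • b = a → ∀ h ∈ H, s * h * s⁻¹ ∈ H := by
    intro s hsa hsb h hh
    refine ⟨MulAction.mem_stabilizer_iff.2 ?_, MulAction.mem_stabilizer_iff.2 ?_⟩ <;> rw [mul_smul, mul_smul]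
    · rw [inv_smul_eq_iff.2 hsb.symm, hfb hh, hsb]
    · rw [inv_smul_eq_iff.2 hsa.symm, hfa hh, hsa]
  have hstep : ∀ {s : G} (hsa : s • a = b) (hsb : s • b = a) (h : H),
      Abelianization.of (⟨s * h * s⁻¹, hswap hsa hsb h h.2⟩ : H) * Abelianization.of h = 1 := by
    intro s hsa hsb
    let σ : H →* H := MonoidHom.mk' (fun h => ⟨s * h * s⁻¹, hswap hsa hsb h h.2⟩) fun x y => Subtype.ext (by
      show s * (x * y : G) * s⁻¹ = s * x * s⁻¹ * (s * y * s⁻¹)
      group)
    let ψ : H →* Abelianization H := Abelianization.of.comp σ * Abelianization.of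
    suffices hker : ψ.ker = ⊤ by
      intro h
      exact MonoidHom.mem_ker.1 (hker ▸ Subgroup.mem_top h : h ∈ ψ.ker)
    by_contra hne
    obtain ⟨q, hq, hqi⟩ := Nat.exists_prime_and_dvd (n := ψ.ker.index) (fun h => hne (Subgroup.index_eq_one.1 h))
    haveI := Fact.mk hq
    have hqi' : q ∣ (commutator H).index := hqi.trans (Subgroup.index_dvd_of_le (Abelianization.commutator_subset_ker ψ))
    have hqd : q ∣ Nat.card H := hqi.trans (Subgroup.index_dvd_card _)
    have hq2 : q ≠ 2 := by rintro rfl; exact hodd.not_two_dvd_nat hqd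
    have hqC : ¬ q ∣ Nat.card (commutator H) := fun h =>
      hq.ne_one (Nat.eq_one_of_dvd_coprimes (IsZGroup.coprime_commutator_index H) h hqi')
    let Q : Sylow q H := default
    refine Q.not_dvd_index (hqi.trans (Subgroup.index_dvd_of_le fun x hx => ?_))
    -- the Sylow subgroup in the whole group
    set Q' : Subgroup G := (Q : Subgroup H).map H.subtype with hQ'
    have hQ'H : Q' ≤ H := Subgroup.map_subtype_le _
    have hQ'i : ¬ q ∣ Q'.index := by
      rw [hQ', Subgroup.index_map_subtype]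
      exact fun h => (hq.dvd_mul.1 h).elim Q.not_dvd_index (hcop q hq hqd)
    let S : Sylow q G := (Q.isPGroup'.map H.subtype).toSylow hQ'i
    haveI : IsCyclic Q' := isCyclic_of_surjective
      ((Q : Subgroup H).equivMapOfInjective H.subtype H.subtype_injective).toMonoidHom (MulEquiv.surjective _)
    -- some element normalises without centralising
    obtain ⟨n, hnN, hnC⟩ : ∃ n ∈ Subgroup.normalizer (Q' : Set G), n ∉ Subgroup.centralizer (Q' : Set G) := by
      by_contra hcon
      push Not at hcon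
      refine hnil q hq hqd ⟨(MonoidHom.transferSylow S hcon).ker, inferInstance, ?_⟩
      rw [(MonoidHom.ker_transferSylow_isComplement' S hcon).symm.index_eq_card]
      exact S.card_eq_multiplicity
    have hmemQ : ∀ {z}, z ∈ Q' → n * z * n⁻¹ ∈ Q' := fun hz => (Subgroup.mem_normalizer_iff.1 hnN _).1 hz
    -- elements of the two-point stabiliser centralise
    have hcentH : ∀ g ∈ H, (∀ z ∈ Q', g * z * g⁻¹ ∈ Q') → ∀ z ∈ Q', g * z * g⁻¹ = z := by
      intro g hg hgQ z hz
      obtain ⟨z₀, hz₀, rfl⟩ := hz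
      obtain ⟨w, hw, hwe⟩ := hgQ _ ⟨z₀, hz₀, rfl⟩
      have hwe' : w = (⟨g, hg⟩ : H) * z₀ * (⟨g, hg⟩ : H)⁻¹ := Subtype.ext hwe
      have hd : w * z₀⁻¹ ∈ commutator H := by
        rw [← Abelianization.ker_of, MonoidHom.mem_ker, hwe', map_mul, map_mul, map_mul, map_inv, map_inv,
          mul_comm (Abelianization.of (⟨g, hg⟩ : H)) (Abelianization.of z₀), mul_inv_cancel_right, mul_inv_cancel]
      have hco : Nat.Coprime (Nat.card (Q : Subgroup H)) (Nat.card (commutator H)) := by
        obtain ⟨k, hk⟩ := IsPGroup.iff_card.1 Q.isPGroup'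
        rw [hk]
        exact (hq.coprime_iff_not_dvd.2 hqC).pow_left k
      have h1 := Subgroup.mem_bot.1 ((Subgroup.disjoint_of_coprime_natCard hco).le_bot ⟨mul_mem (show w ∈ (Q : Subgroup H) from hw) ((Q : Subgroup H).inv_mem hz₀), hd⟩)
      rw [← hwe, mul_inv_eq_one.1 h1]
    obtain ⟨z₁, hz₁, hnz₁⟩ : ∃ z ∈ Q', n * z * n⁻¹ ≠ z := by
      by_contra hcon
      push Not at hcon
      exact hnC (Subgroup.mem_centralizer_iff.2 fun z hz => (mul_inv_eq_iff_eq_mul.1 (hcon z hz)).symm)
    have hz11 : z₁ ≠ 1 := fun e => hnz₁ (by rw [e]; group)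
    have hmove : ∀ y, (y = a ∨ y = b) → n⁻¹ • y = a ∨ n⁻¹ • y = b := by
      intro y hy
      refine honly z₁ (hQ'H hz₁) hz11 _ ?_
      rw [eq_inv_smul_iff, ← mul_smul, ← mul_smul]
      rcases hy with rfl | rfl
      · exact hfa (hQ'H (hmemQ hz₁))
      · exact hfb (hQ'H (hmemQ hz₁))
    have hn : n • a = b ∧ n • b = a := by
      rcases hmove a (Or.inl rfl) with e1 | e1
      · exfalso
        rcases hmove b (Or.inr rfl) with e2 | e2
        · exact hab (smul_left_cancel _ (e1.trans e2.symm))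
        · refine hnz₁ (hcentH n ⟨MulAction.mem_stabilizer_iff.2 ?_, MulAction.mem_stabilizer_iff.2 ?_⟩
            (fun z hz => hmemQ hz) z₁ hz₁)
          · exact (inv_smul_eq_iff.1 e1).symm
          · exact (inv_smul_eq_iff.1 e2).symm
      · rcases hmove b (Or.inr rfl) with e2 | e2
        · exact ⟨(inv_smul_eq_iff.1 e2).symm, (inv_smul_eq_iff.1 e1).symm⟩
        · exact absurd (smul_left_cancel _ (e1.trans e2.symm)) hab
    obtain ⟨⟨g, hg⟩, hgen⟩ := IsCyclic.exists_generator (α := Q')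
    have hgen' : ∀ z ∈ Q', ∃ j : ℤ, g ^ j = z := fun z hz => by
      obtain ⟨j, hj⟩ := Subgroup.mem_zpowers_iff.1 (hgen ⟨z, hz⟩)
      exact ⟨j, by simpa using congrArg Subtype.val hj⟩
    obtain ⟨m, hm⟩ := hgen' _ (hmemQ hg)
    have hconjm : ∀ z ∈ Q', n * z * n⁻¹ = z ^ m := fun z hz => by
      obtain ⟨j, rfl⟩ := hgen' z hz
      rw [← MulAut.conj_apply, map_zpow, MulAut.conj_apply, ← hm, ← zpow_mul, ← zpow_mul, mul_comm]
    have hmm : g ^ (m * m - 1) = 1 := by
      have h1 := hcentH (n * n) ⟨MulAction.mem_stabilizer_iff.2 (by rw [mul_smul, hn.1, hn.2]),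
        MulAction.mem_stabilizer_iff.2 (by rw [mul_smul, hn.2, hn.1])⟩ (fun z hz => by
          rw [show n * n * z * (n * n)⁻¹ = n * (n * z * n⁻¹) * n⁻¹ by group]; exact hmemQ (hmemQ hz)) g hg
      rw [show n * n * g * (n * n)⁻¹ = n * (n * g * n⁻¹) * n⁻¹ by group, hconjm g hg,
        hconjm _ (zpow_mem hg m), ← zpow_mul] at h1
      rw [zpow_sub, h1, zpow_one, mul_inv_cancel]
    obtain ⟨k, hk⟩ : ∃ k, orderOf g = q ^ k := by
      have hP := Q.isPGroup'.map H.subtype
      obtain ⟨j, hj⟩ := hP ⟨g, hg⟩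
      obtain ⟨k, -, hk⟩ := (Nat.dvd_prime_pow hq).1 (orderOf_dvd_of_pow_eq_one (congrArg Subtype.val hj))
      exact ⟨k, hk⟩
    have hdvd : ((q : ℤ)) ^ k ∣ (m - 1) * (m + 1) := by
      have := orderOf_dvd_iff_zpow_eq_one.2 hmm
      rw [hk, Nat.cast_pow] at this
      rwa [show (m - 1) * (m + 1) = m * m - 1 by ring]
    have hinv : ∀ z ∈ Q', n * z * n⁻¹ = z⁻¹ := by
      by_cases hm1 : (q : ℤ) ∣ m - 1
      · exfalso
        have hm2 : ¬ (q : ℤ) ∣ m + 1 := fun h => by
          have h' : (q : ℤ) ∣ ((2 : ℕ) : ℤ) := by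
            rw [show (((2 : ℕ) : ℤ)) = (m + 1) - (m - 1) by push_cast; ring]; exact dvd_sub h hm1
          exact hq2 ((Nat.prime_dvd_prime_iff_eq hq Nat.prime_two).1 (Int.natCast_dvd_natCast.1 h'))
        have h1 := (Nat.prime_iff_prime_int.1 hq).pow_dvd_of_dvd_mul_right k hm2 hdvd
        have h2 : g ^ (m - 1) = 1 := orderOf_dvd_iff_zpow_eq_one.1 (by rw [hk, Nat.cast_pow]; exact h1)
        obtain ⟨j, rfl⟩ := hgen' z₁ hz₁
        refine hnz₁ ?_
        rw [hconjm _ (zpow_mem hg j), ← zpow_mul, show j * m = j + (m - 1) * j by ring, zpow_add, zpow_mul,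
          h2, one_zpow, mul_one]
      · have h1 := (Nat.prime_iff_prime_int.1 hq).pow_dvd_of_dvd_mul_left k hm1 hdvd
        have h2 : g ^ (m + 1) = 1 := orderOf_dvd_iff_zpow_eq_one.1 (by rw [hk, Nat.cast_pow]; exact h1)
        intro z hz
        obtain ⟨j, rfl⟩ := hgen' z hz
        rw [hconjm _ (zpow_mem hg j), ← zpow_mul, show j * m = (m + 1) * j + -j by ring, zpow_add, zpow_mul,
          h2, one_zpow, one_mul, zpow_neg]
    -- the two elements exchanging the points differ by an element of the stabiliser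
    have hx' : (x : G) ∈ Q' := ⟨x, hx, rfl⟩
    have hsn : s * n⁻¹ ∈ H := by
      refine ⟨MulAction.mem_stabilizer_iff.2 ?_, MulAction.mem_stabilizer_iff.2 ?_⟩ <;> rw [mul_smul]
      · rw [inv_smul_eq_iff.2 hn.2.symm, hsb]
      · rw [inv_smul_eq_iff.2 hn.1.symm, hsa]
    have he : σ x = (⟨_, hsn⟩ : H) * x⁻¹ * (⟨_, hsn⟩ : H)⁻¹ := Subtype.ext (by
      show s * x * s⁻¹ = s * n⁻¹ * (x : G)⁻¹ * (s * n⁻¹)⁻¹
      rw [← hinv _ hx']; group)
    show Abelianization.of (σ x) * Abelianization.of x = 1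
    rw [he, map_mul, map_mul, map_inv, map_inv, mul_comm (Abelianization.of (⟨_, hsn⟩ : H)) (Abelianization.of x)⁻¹,
      mul_inv_cancel_right, inv_mul_cancel]
  -- the derived group is central
  obtain ⟨s₀, hs₀a, hs₀b⟩ := MulAction.is_two_pretransitive_iff.1 h2 hab hab.symm
  have hcentral : commutator H ≤ Subgroup.center H := by
    intro z hz
    rw [Subgroup.mem_center_iff]
    intro h
    haveI := IsZGroup.isCyclic_commutator H
    obtain ⟨c₀, hc₀⟩ := IsCyclic.exists_generator (α := commutator H)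
    have hgenC : ∀ w ∈ commutator H, ∃ j : ℤ, (((c₀ : H) : G)) ^ j = (w : G) := fun w hw => by
      obtain ⟨j, hj⟩ := Subgroup.mem_zpowers_iff.1 (hc₀ ⟨w, hw⟩)
      exact ⟨j, by simpa using congrArg (fun v : commutator H => ((v : H) : G)) hj⟩
    -- the powers by which the two elements act
    have hconjC : ∀ g : G, (∀ u ∈ H, g * u * g⁻¹ ∈ H) → ∃ m : ℤ, ∀ w ∈ commutator H,
        g * ((w : H) : G) * g⁻¹ = ((w : H) : G) ^ m := by
      intro g hg
      let σ : H →* H := MonoidHom.mk' (fun u => ⟨g * u * g⁻¹, hg u u.2⟩) fun x y => Subtype.ext (by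
        show g * (x * y : G) * g⁻¹ = g * x * g⁻¹ * (g * y * g⁻¹)
        group)
      have hσc : σ c₀ ∈ commutator H := by
        have := Abelianization.commutator_subset_ker (Abelianization.of.comp σ) c₀.2
        rwa [MonoidHom.mem_ker, MonoidHom.comp_apply, ← MonoidHom.mem_ker, Abelianization.ker_of] at this
      obtain ⟨m, hm⟩ := hgenC _ hσc
      refine ⟨m, fun w hw => ?_⟩
      obtain ⟨j, hj⟩ := hgenC w hw
      rw [← hj, ← MulAut.conj_apply, map_zpow, MulAut.conj_apply]
      show (σ c₀ : G) ^ j = _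
      rw [← hm, ← zpow_mul, ← zpow_mul, mul_comm]
    obtain ⟨ms, hms⟩ := hconjC s₀ (hswap hs₀a hs₀b)
    obtain ⟨mh, hmh⟩ := hconjC h (fun u hu => mul_mem (mul_mem h.2 hu) (inv_mem h.2))
    set h' : H := ⟨s₀ * h * s₀⁻¹, hswap hs₀a hs₀b h h.2⟩ with hh'
    have hc : h' * h ∈ commutator H := by
      rw [← Abelianization.ker_of, MonoidHom.mem_ker, map_mul]
      exact hstep hs₀a hs₀b h
    have hinC : ∀ u : H, ∀ w ∈ commutator H, u * w * u⁻¹ ∈ commutator H := fun u w hw =>
      Subgroup.Normal.conj_mem inferInstance w hw u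
    have hcommC : ∀ u ∈ commutator H, ∀ w ∈ commutator H, u * w = w * u := by
      intro u hu w hw
      obtain ⟨i, hi⟩ := hgenC u hu
      obtain ⟨j, hj⟩ := hgenC w hw
      exact Subtype.ext (by rw [Subgroup.coe_mul, Subgroup.coe_mul, ← hi, ← hj, ← zpow_add, ← zpow_add, add_comm])
    have key : ∀ w ∈ commutator H, h' * w * h'⁻¹ = h * w * h⁻¹ := by
      intro w hw
      refine Subtype.ext ?_
      show s₀ * h * s₀⁻¹ * (w : G) * (s₀ * h * s₀⁻¹)⁻¹ = (h : G) * w * (h : G)⁻¹
      -- write `w` as a conjugate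
      obtain ⟨w', hw', hww⟩ : ∃ w' ∈ commutator H, s₀ * (w' : G) * s₀⁻¹ = (w : G) := by
        let C' : Subgroup G := (commutator H).map H.subtype
        let f : C' → C' := fun v => ⟨s₀ * v * s₀⁻¹, by
          obtain ⟨v₀, hv₀, e⟩ := v.2
          obtain ⟨i, hi⟩ := hgenC v₀ hv₀
          refine ⟨c₀ ^ (i * ms), zpow_mem c₀.2 _, ?_⟩
          rw [← e]
          show ((c₀ : H) : G) ^ (i * ms) = s₀ * (v₀ : G) * s₀⁻¹
          rw [hms v₀ hv₀, ← hi, ← zpow_mul]⟩
        have hf : Function.Injective f := fun u v e =>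
          Subtype.ext (mul_left_cancel (mul_right_cancel (congrArg Subtype.val e)))
        obtain ⟨⟨_, v₀, hv₀, rfl⟩, hv⟩ := (Finite.injective_iff_surjective.1 hf) ⟨w, w, hw, rfl⟩
        exact ⟨v₀, hv₀, congrArg Subtype.val hv⟩
      rw [← hww]
      have e1 : (h : G) * (w' : G) * (h : G)⁻¹ = ((h * w' * h⁻¹ : H) : G) := rfl
      calc s₀ * h * s₀⁻¹ * (s₀ * (w' : G) * s₀⁻¹) * (s₀ * h * s₀⁻¹)⁻¹
          = s₀ * ((h : G) * w' * (h : G)⁻¹) * s₀⁻¹ := by group
        _ = ((w' : G) ^ mh) ^ ms := by rw [e1, hms _ (hinC h w' hw'), ← e1, hmh w' hw']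
        _ = ((w' : G) ^ ms) ^ mh := by rw [← zpow_mul, ← zpow_mul, mul_comm]
        _ = (h : G) * (s₀ * w' * s₀⁻¹) * (h : G)⁻¹ := by
          rw [hms w' hw', ← MulAut.conj_apply, map_zpow, MulAut.conj_apply, hmh w' hw', ← zpow_mul, ← zpow_mul,
            mul_comm]
    have hsqc : h * h * z = z * (h * h) := by
      have h1 := key z hz
      have h2 : h' * h * (h⁻¹ * z * h) = h⁻¹ * z * h * (h' * h) :=
        hcommC _ hc _ (by simpa using hinC h⁻¹ z hz)
      have h3 : h⁻¹ * z * h = h * z * h⁻¹ := by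
        calc h⁻¹ * z * h = (h⁻¹ * z * h * (h' * h)) * (h' * h)⁻¹ := by group
          _ = h' * z * h'⁻¹ := by rw [← h2]; group
          _ = _ := h1
      calc h * h * z = h * (h * z * h⁻¹) * h := by group
        _ = h * (h⁻¹ * z * h) * h := by rw [h3]
        _ = z * (h * h) := by group
    obtain ⟨r, hr⟩ := hodd.of_dvd_nat (orderOf_dvd_natCard h)
    have hh : h = (h * h) ^ (r + 1) := by
      rw [← sq, ← pow_mul, show 2 * (r + 1) = orderOf h + 1 by omega, pow_succ, pow_orderOf_eq_one, one_mul]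
    rw [hh]
    exact ((Commute.pow_left (show Commute (h * h) z from hsqc) (r + 1))).eq
  have hcomm : ∀ x y : H, x * y = y * x :=
    commutative_of_cyclic_center_quotient Abelianization.of (Abelianization.ker_of H ▸ hcentral)
  haveI : Group.IsNilpotent H :=
    letI : CommGroup H := { (inferInstance : Group H) with mul_comm := hcomm }
    inferInstance
  have hinvs : ∀ s : G, s • a = b → s • b = a → ∀ h ∈ H, s * h * s⁻¹ = h⁻¹ := by
    intro s hsa hsb h hh
    have h1 := hstep hsa hsb ⟨h, hh⟩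
    rw [← map_mul, ← MonoidHom.mem_ker, Abelianization.ker_of] at h1
    have hbot : commutator H = ⊥ := by
      rw [commutator_def, eq_bot_iff, Subgroup.commutator_le]
      intro x _ y _
      rw [Subgroup.mem_bot]
      exact commutatorElement_eq_one_iff_mul_comm.2 (hcomm x y)
    rw [hbot, Subgroup.mem_bot] at h1
    exact eq_inv_of_mul_eq_one_left (congrArg Subtype.val h1)
  refine ⟨inferInstance, le_antisymm (fun g hg => ?_) (fun g hg => ?_), hinvs⟩
  · have hfix : ∀ y, (y = a ∨ y = b) → g • y = a ∨ g • y = b := by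
      intro y hy
      refine honly h₁ h₁H h₁1 _ ?_
      rw [← mul_smul, Subgroup.mem_centralizer_iff.1 hg h₁ h₁H, mul_smul]
      rcases hy with rfl | rfl
      · rw [hfa h₁H]
      · rw [hfb h₁H]
    rcases hfix a (Or.inl rfl) with e1 | e1
    · rcases hfix b (Or.inr rfl) with e2 | e2
      · exact absurd (smul_left_cancel _ (e1.trans e2.symm)) hab
      · exact ⟨MulAction.mem_stabilizer_iff.2 e1, MulAction.mem_stabilizer_iff.2 e2⟩
    · rcases hfix b (Or.inr rfl) with e2 | e2
      · exfalso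
        have h1 := hinvs g e1 e2 h₁ h₁H
        rw [← Subgroup.mem_centralizer_iff.1 hg h₁ h₁H, mul_inv_cancel_right] at h1
        have h22 : h₁ ^ 2 = 1 := by rw [sq, ← mul_inv_cancel h₁, ← h1]
        have h3 : orderOf h₁ = 1 := by
          refine ((Nat.dvd_prime Nat.prime_two).1 (orderOf_dvd_of_pow_eq_one h22)).resolve_right fun h => ?_
          exact hodd.not_two_dvd_nat (h ▸ Subgroup.orderOf_dvd_natCard H h₁H)
        exact h₁1 (orderOf_eq_one_iff.1 h3)
      · exact absurd (smul_left_cancel _ (e1.trans e2.symm)) hab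
  · exact Subgroup.mem_centralizer_iff.2 fun u hu => congrArg Subtype.val (hcomm ⟨u, hu⟩ ⟨g, hg⟩)

end Cfsg.Agent.S0739
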