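import Cfsg.Statements.S0741
import Mathlib.Combinatorics.Enumerative.DoubleCounting
import Mathlib.GroupTheory.GroupAction.MultipleTransitivity
import Mathlib.GroupTheory.Perm.Cycle.Type

set_option autoImplicit false
open Cfsg

namespace Cfsg.Agent.S0741

/-- If the two-point stabilisers of a finite Zassenhaus group of degree `n + 1` have even order `d`, then `2d ≥ n - 1`. -/
theorem result {G Ω : Type*} [Group G] [Finite G] [MulAction G Ω] [Fintype Ω] (hZ : Cfsg.IsZassenhausGroup G Ω) {a b : Ω} (hab : a ≠ b) (heven : Even (Nat.card ↥(MulAction.stabilizer G a ⊓ MulAction.stabilizer G b))) : Fintype.card Ω - 2 ≤ 2 * Nat.card ↥(MulAction.stabilizer G a ⊓ MulAction.stabilizer G b) := by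
  classical
  obtain ⟨hfaith, h2, hthree, -, -⟩ := hZ
  haveI : Fact (Nat.Prime 2) := ⟨Nat.prime_two⟩
  haveI : Fintype G := Fintype.ofFinite G
  set d := Nat.card ↥(MulAction.stabilizer G a ⊓ MulAction.stabilizer G b) with hd
  have hsq : ∀ {s : G}, orderOf s = 2 → ∀ z : Ω, s • s • z = z := fun {s} hs z => by
    have h1 := pow_orderOf_eq_one s
    rw [hs, sq] at h1
    rw [← mul_smul, h1, one_smul]
  let fix : G → Finset Ω := fun t => Finset.univ.filter fun z => t • z = z
  let T : Finset G := Finset.univ.filter fun t => orderOf t = 2 ∧ (fix t).card = 2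
  have hT : ∀ {t : G}, t ∈ T ↔ orderOf t = 2 ∧ (fix t).card = 2 := fun {t} => by simp [T]
  have hfix : ∀ {t : G} {z : Ω}, z ∈ fix t ↔ t • z = z := fun {t z} => by simp [fix]
  -- an involution fixes two points of each pair
  obtain ⟨t₀, ht₀⟩ := exists_prime_orderOf_dvd_card' 2 (even_iff_two_dvd.1 heven)
  have hexT : ∀ x y : Ω, x ≠ y → ∃ t ∈ T, t • x = x ∧ t • y = y := by
    intro x y hxy
    obtain ⟨g, hga, hgb⟩ := MulAction.is_two_pretransitive_iff.1 h2 hab hxy
    set t := g * (t₀ : G) * g⁻¹ with ht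
    have ho : orderOf t = 2 := by rw [ht, ← MulAut.conj_apply, MulEquiv.orderOf_eq, Subgroup.orderOf_coe, ht₀]
    have hx : t • x = x := by
      rw [ht, ← hga, mul_smul, mul_smul, inv_smul_smul, MulAction.mem_stabilizer_iff.1 t₀.2.1]
    have hy : t • y = y := by
      rw [ht, ← hgb, mul_smul, mul_smul, inv_smul_smul, MulAction.mem_stabilizer_iff.1 t₀.2.2]
    refine ⟨t, hT.2 ⟨ho, ?_⟩, hx, hy⟩
    refine le_antisymm ?_ ?_
    · by_contra hlt
      push Not at hlt
      obtain ⟨u, hu, v, hv, w, hw, huv, huw, hvw⟩ := Finset.two_lt_card.1 hlt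
      have := hthree t u v w huv hvw huw (hfix.1 hu) (hfix.1 hv) (hfix.1 hw)
      rw [this, orderOf_one] at ho
      omega
    · rw [← Finset.card_pair hxy]
      exact Finset.card_le_card (by simp [Finset.insert_subset_iff, hfix, hx, hy])
  have hc1 : (Finset.univ : Finset Ω).offDiag.card * 1 ≤ T.card * 2 := by
    refine Finset.card_mul_le_card_mul (fun q t => t • q.1 = q.1 ∧ t • q.2 = q.2) (fun q hq => ?_) (fun t ht => ?_)
    · obtain ⟨t, ht, h⟩ := hexT q.1 q.2 (Finset.mem_offDiag.1 hq).2.2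
      exact Finset.card_pos.2 ⟨t, Finset.mem_filter.2 ⟨ht, h⟩⟩
    · have hsub : Finset.bipartiteBelow (fun q t => t • q.1 = q.1 ∧ t • q.2 = q.2)
          (Finset.univ : Finset Ω).offDiag t ⊆ (fix t).offDiag := fun q hq => by
        obtain ⟨h1, h2, h3⟩ := Finset.mem_filter.1 hq
        exact Finset.mem_offDiag.2 ⟨hfix.2 h2, hfix.2 h3, (Finset.mem_offDiag.1 h1).2.2⟩
      refine (Finset.card_le_card hsub).trans ?_
      rw [Finset.offDiag_card, (hT.1 ht).2]
  have hc2 : T.card * (Fintype.card Ω - 2) ≤ (Finset.univ : Finset Ω).offDiag.card * d := by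
    refine Finset.card_mul_le_card_mul (fun t q => t • q.1 = q.2) (fun t ht => ?_) (fun q hq => ?_)
    · have hsub : (fix t)ᶜ.image (fun z => (z, t • z)) ⊆
          Finset.bipartiteAbove (fun t q => t • q.1 = q.2) (Finset.univ : Finset Ω).offDiag t := fun q hq => by
        obtain ⟨z, hz, rfl⟩ := Finset.mem_image.1 hq
        exact Finset.mem_filter.2 ⟨Finset.mem_offDiag.2 ⟨Finset.mem_univ _, Finset.mem_univ _,
          fun e => Finset.mem_compl.1 hz (hfix.2 e.symm)⟩, rfl⟩
      refine le_trans (le_of_eq ?_) (Finset.card_le_card hsub)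
      rw [Finset.card_image_of_injective _ (fun u v e => congrArg Prod.fst e), Finset.card_compl, (hT.1 ht).2]
    · obtain ⟨x, y⟩ := q
      have hxy : x ≠ y := (Finset.mem_offDiag.1 hq).2.2
      obtain ⟨g, hga, hgb⟩ := MulAction.is_two_pretransitive_iff.1 h2 hab hxy
      rcases (Finset.bipartiteBelow (fun t q => t • q.1 = q.2) T (x, y)).eq_empty_or_nonempty with h | ⟨τ, hτ⟩
      · rw [h]; simp
      obtain ⟨hτT, hτxy⟩ := Finset.mem_filter.1 hτ
      change τ • x = y at hτxy
      have hτ' : τ • y = x := by rw [← hτxy, hsq (hT.1 hτT).1]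
      have hmem : ∀ σ ∈ Finset.bipartiteBelow (fun t q => t • q.1 = q.2) T (x, y),
          g⁻¹ * (τ * σ) * g ∈ MulAction.stabilizer G a ⊓ MulAction.stabilizer G b := by
        intro σ hσ
        obtain ⟨hσT, hσxy⟩ := Finset.mem_filter.1 hσ
        change σ • x = y at hσxy
        have hσ' : σ • y = x := by rw [← hσxy, hsq (hT.1 hσT).1]
        refine ⟨MulAction.mem_stabilizer_iff.2 ?_, MulAction.mem_stabilizer_iff.2 ?_⟩ <;>
          rw [mul_smul, mul_smul, mul_smul, inv_smul_eq_iff]
        · rw [hga, show σ • x = y from hσxy, hτ']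
        · rw [hgb, hσ', show τ • x = y from hτxy]
      rw [hd, Nat.card_eq_fintype_card, ← Finset.card_univ]
      refine Finset.card_le_card_of_injOn (fun σ => if h : σ ∈ Finset.bipartiteBelow (fun t q => t • q.1 = q.2) T (x, y)
        then ⟨g⁻¹ * (τ * σ) * g, hmem σ h⟩ else 1) (fun σ _ => Finset.mem_univ _) ?_
      intro σ hσ σ' hσ' e
      simp only [] at e
      rw [dif_pos (Finset.mem_coe.1 hσ), dif_pos (Finset.mem_coe.1 hσ')] at e
      exact mul_left_cancel (mul_left_cancel (mul_right_cancel (congrArg Subtype.val e)))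
  have hpos : 0 < T.card := by
    obtain ⟨t, ht, -⟩ := hexT a b hab
    exact Finset.card_pos.2 ⟨t, ht⟩
  refine Nat.le_of_mul_le_mul_left ?_ hpos
  calc T.card * (Fintype.card Ω - 2) ≤ (Finset.univ : Finset Ω).offDiag.card * d := hc2
    _ ≤ T.card * 2 * d := Nat.mul_le_mul_right d (by simpa using hc1)
    _ = T.card * (2 * d) := by ring

end Cfsg.Agent.S0741
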