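import Cfsg.Statements.S0208
-- import your own Cfsg.Agent.* helpers here

set_option autoImplicit false
open Cfsg

namespace Cfsg.Agent.S0208

/-- If x, y are involutions and xy has odd order, then some element of the subgroup generated by x and y conjugates x to y. -/
theorem result {G : Type*} [Group G] [Finite G] (x y : G) (hx : orderOf x = 2) (hy : orderOf y = 2) (hodd : Odd (orderOf (x * y))) : ∃ d ∈ Subgroup.closure ({x, y} : Set G), d * x * d⁻¹ = y := by
  set u := x * y with hu
  have hx2 : x * x = 1 := by rw [← sq, ← hx]; exact pow_orderOf_eq_one x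
  have hy2 : y * y = 1 := by rw [← sq, ← hy]; exact pow_orderOf_eq_one y
  obtain ⟨k, hk⟩ := hodd
  refine ⟨u ^ k, pow_mem (mul_mem (Subgroup.subset_closure (by simp)) (Subgroup.subset_closure (by simp))) _, ?_⟩
  have hxinv : x⁻¹ = x := inv_eq_of_mul_eq_one_right hx2
  have hyinv : y⁻¹ = y := inv_eq_of_mul_eq_one_right hy2
  have hc : SemiconjBy x u u⁻¹ := by
    show x * (x * y) = (x * y)⁻¹ * x
    rw [mul_inv_rev, hxinv, hyinv, mul_assoc, hx2, ← mul_assoc, hx2, one_mul, mul_one]
  have h1 : x * (u ^ k)⁻¹ = u ^ k * x := by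
    have h := hc.pow_right k
    rw [SemiconjBy, inv_pow] at h
    have h' := congrArg (fun z => u ^ k * z * (u ^ k)⁻¹) h
    simp only [mul_assoc, mul_inv_cancel, mul_one, mul_inv_cancel_left] at h'
    exact h'.symm
  rw [mul_assoc, h1, ← mul_assoc, ← pow_add]
  have h2 : u ^ (k + k) = u⁻¹ := by
    apply eq_inv_of_mul_eq_one_left
    rw [← pow_succ, show k + k + 1 = 2 * k + 1 by omega, ← hk, pow_orderOf_eq_one]
  rw [h2, hu, mul_inv_rev, hxinv, hyinv, mul_assoc, hx2, mul_one]

end Cfsg.Agent.S0208
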