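import Cfsg.Statements.S0780
import Cfsg.Agent.KnownA.UnitaryGen

set_option autoImplicit false
open Cfsg Matrix

namespace Cfsg.Agent.S0780

/-- Generation of SU_n(q), n ≥ 3, (n, q) ≠ (3, 2), by unitary transvections: the subgroup generated by the elements whose matrix is x ↦ x + c h(x, v) v with v isotropic is all of SU_n(q). -/
theorem result {F : Type*} [Field F] [Fintype F] {q : ℕ} (hF : Fintype.card F = q ^ 2) (n : ℕ) (hn : 3 ≤ n) (h32 : ¬ (n = 3 ∧ q = 2)) : Subgroup.closure {A : ↥(Cfsg.SU n F q) | ∃ (v : Fin n → F) (c : F), Cfsg.hermForm n F q v v = 0 ∧ ((A : Matrix.SpecialLinearGroup (Fin n) F) : Matrix (Fin n) (Fin n) F) = Cfsg.unitaryTransvection n q v c} = ⊤ := by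
  classical
  set T := {A : ↥(Cfsg.SU n F q) | ∃ (v : Fin n → F) (c : F), Cfsg.hermForm n F q v v = 0 ∧
    ((A : Matrix.SpecialLinearGroup (Fin n) F) : Matrix (Fin n) (Fin n) F) = Cfsg.unitaryTransvection n q v c}
  have hmat : ∀ (v : Fin n → F) (c : F) (x : Fin n → F),
      Cfsg.unitaryTransvection n q v c *ᵥ x = x + (c * KnownA.ub hF v x) • v := by
    intro v c x
    rw [Cfsg.unitaryTransvection, Matrix.add_mulVec, Matrix.one_mulVec, Matrix.smul_mulVec,
      Matrix.vecMulVec_mulVec, op_smul_eq_smul, smul_smul]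
    congr 3
    show _ = Cfsg.hermForm n F q x v
    simp [Cfsg.hermForm, dotProduct, mul_comm]
  haveI : (Subgroup.closure T).Normal := by
    refine ⟨fun a ha g => ?_⟩
    have hsub : T ⊆ (Subgroup.closure T).comap (MulAut.conj g).toMonoidHom := by
      rintro A ⟨v, c, hv, hA⟩
      refine Subgroup.subset_closure ⟨KnownA.act g v, c, ?_, ?_⟩
      · show KnownA.ub hF (KnownA.act g v) (KnownA.act g v) = 0
        rw [KnownA.act_ub hF]; exact hv
      · apply Matrix.toLin'.injective
        refine LinearMap.ext fun x => ?_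
        show KnownA.act (g * A * g⁻¹) x = Cfsg.unitaryTransvection n q (KnownA.act g v) c *ᵥ x
        have hAx : ∀ y, KnownA.act A y = y + (c * KnownA.ub hF v y) • v := fun y => by
          show Matrix.toLin' _ y = _
          rw [Matrix.toLin'_apply, hA, hmat]
        rw [hmat, KnownA.act_mul_apply, KnownA.act_mul_apply, hAx, map_add, map_smul, ← KnownA.act_mul_apply,
          mul_inv_cancel, KnownA.act_one, Module.End.one_apply,
          show KnownA.ub hF v (KnownA.act g⁻¹ x) = KnownA.ub hF (KnownA.act g v) x by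
            conv_lhs => rw [← KnownA.act_ub hF g, ← KnownA.act_mul_apply, mul_inv_cancel, KnownA.act_one,
              Module.End.one_apply]]
    exact (Subgroup.closure_le _).mpr hsub ha
  refine KnownA.eq_top_of_trv_mem hF hn h32 _ fun e a hee => Subgroup.subset_closure ⟨e, KnownA.kap hF a, ?_, ?_⟩
  · exact hee
  · apply Matrix.toLin'.injective
    refine LinearMap.ext fun x => ?_
    show KnownA.act (KnownA.trv hF e a) x = Cfsg.unitaryTransvection n q e (KnownA.kap hF a) *ᵥ x
    rw [hmat, KnownA.act_trv hF hee]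

end Cfsg.Agent.S0780
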