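import Cfsg.Statements.S1592
import Cfsg.Agent.Golay.Ternary
import Cfsg.Agent.Golay.Bits

set_option autoImplicit false
open Cfsg

namespace Cfsg.Agent.S1592

open Cfsg.Agent.Golay in
/-- The set with a given 12-bit mask. -/
def setOf12 (n : ℕ) : Finset Cfsg.ArrayPt := Finset.univ.filter fun p => n.testBit (tIdx p)

open Cfsg.Agent.Golay in
theorem tIdx_inj : Function.Injective tIdx := Function.LeftInverse.injective tPt_idx

open Cfsg.Agent.Golay in
theorem testBit_tMask (s : Finset Cfsg.ArrayPt) (p : Cfsg.ArrayPt) :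
    (tMask s).testBit (tIdx p) = true ↔ p ∈ s := by
  have e : tMask s = ∑ i ∈ s.image tIdx, 2 ^ i := by
    rw [tMask, Finset.sum_image (fun a _ b _ h => tIdx_inj h)]
  rw [e]
  conv_rhs => rw [← tIdx_inj.mem_finset_image, ← Finset.toFinset_bitIndices_sum_two_pow (s.image tIdx),
    List.mem_toFinset]
  exact Nat.mem_bitIndices.symm

open Cfsg.Agent.Golay in
theorem setOf12_mask (s : Finset Cfsg.ArrayPt) : setOf12 (tMask s) = s := by
  ext p; simp [setOf12, testBit_tMask]

open Cfsg.Agent.Golay in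
theorem mask_inj {a b : Finset Cfsg.ArrayPt} (e : tMask a = tMask b) : a = b := by
  rw [← setOf12_mask a, e, setOf12_mask]

open Cfsg.Agent.Golay in
theorem mask_setOf12 {n : ℕ} (hn : n ∈ tHexads) : tMask (setOf12 n) = n := by
  revert n
  decide +kernel

open Cfsg.Agent.Golay in
theorem hex_of_word : ∀ f : Fin 6 → ZMod 3, (Cfsg.ternarySupport (tComb f)).card = 6 →
    tMask (Cfsg.ternarySupport (tComb f)) ∈ tHexads := by
  decide +kernel

open Cfsg.Agent.Golay in
theorem word_of_hex : ∀ n ∈ tHexads, ∃ f : Fin 6 → ZMod 3,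
    (Cfsg.ternarySupport (tComb f)).card = 6 ∧ tMask (Cfsg.ternarySupport (tComb f)) = n := by
  decide +kernel

/-- Alias of the mask, for five-element sets. -/
def mask5 (s : Finset Cfsg.ArrayPt) : Finset Cfsg.ArrayPt := s

open Cfsg.Agent.Golay in
theorem count_aux : allB (fun m => ((List.range 12).filter fun i => m.testBit i).length != 5 ||
    (tHexads.filter fun h => m &&& h == m).length == 1) 12 0 = true := by
  decide +kernel

open Cfsg.Agent.Golay in
theorem count_check (m : ℕ) (hm : m < 4096)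
    (h : ((List.range 12).filter fun i => m.testBit i).length = 5) :
    (tHexads.filter fun h => m &&& h == m).length = 1 := by
  have := allB_spec _ 12 0 count_aux m (Nat.zero_le _) (by simpa using hm)
  simpa [h] using this

open Cfsg.Agent.Golay in
theorem steiner_check (s : Finset Cfsg.ArrayPt) (hs : s.card = 5) :
    ∃! h, h ∈ tHexads ∧ tMask s &&& h = tMask s := by
  have hlt : tMask s < 4096 := by
    have e : tMask s = ∑ i ∈ s.image tIdx, 2 ^ i := by
      rw [tMask, Finset.sum_image (fun a _ b _ h => tIdx_inj h)]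
    rw [e]
    refine Nat.geomSum_lt (le_refl 2) ?_ (n := 12)
    intro i hi
    obtain ⟨p, -, rfl⟩ := Finset.mem_image.1 hi
    exact (by decide +kernel : ∀ p : Cfsg.ArrayPt, tIdx p < 12) p
  have hpc : ((List.range 12).filter fun i => (tMask s).testBit i).length = 5 := by
    rw [← List.toFinset_card_of_nodup (List.nodup_range.filter _), ← hs,
      ← Finset.card_image_of_injective s tIdx_inj]
    congr 1
    ext i
    simp only [List.mem_toFinset, List.mem_filter, List.mem_range, Finset.mem_image]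
    constructor
    · rintro ⟨hi, hb⟩
      refine ⟨tPt i, ?_, (by decide +kernel : ∀ i < 12, tIdx (tPt i) = i) i hi⟩
      rw [← testBit_tMask, (by decide +kernel : ∀ i < 12, tIdx (tPt i) = i) i hi]; exact hb
    · rintro ⟨p, hp, rfl⟩
      exact ⟨(by decide +kernel : ∀ p : Cfsg.ArrayPt, tIdx p < 12) p, (testBit_tMask s p).2 hp⟩
  obtain ⟨h, hh⟩ := List.length_eq_one_iff.1 (count_check _ hlt hpc)
  have key : ∀ x, x ∈ tHexads ∧ tMask s &&& x = tMask s ↔ x = h := by
    intro x
    rw [← List.mem_singleton (b := h), ← hh, List.mem_filter, beq_iff_eq]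
  exact ⟨h, (key h).2 rfl, fun x hx => (key x).1 hx⟩

open Cfsg.Agent.Golay in
theorem subset_of_mask {s : Finset Cfsg.ArrayPt} {h : ℕ} (_ : h ∈ tHexads)
    (e : tMask s &&& h = tMask s) : s ⊆ setOf12 h := by
  intro p hp
  have := (testBit_tMask s p).2 hp
  rw [← e, Nat.testBit_and, Bool.and_eq_true] at this
  simp [setOf12, this.2]

open Cfsg.Agent.Golay in
theorem mask_subset {s h : Finset Cfsg.ArrayPt} (hsub : s ⊆ h) :
    tMask s &&& tMask h = tMask s := by
  apply Nat.eq_of_testBit_eq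
  intro i
  rw [Nat.testBit_and]
  by_cases hb : (tMask s).testBit i
  · have e : tMask s = ∑ i ∈ s.image tIdx, 2 ^ i := by
      rw [tMask, Finset.sum_image (fun a _ b _ h => tIdx_inj h)]
    have hb' := hb
    rw [e, ← Nat.mem_bitIndices, ← List.mem_toFinset, Finset.toFinset_bitIndices_sum_two_pow,
      Finset.mem_image] at hb'
    obtain ⟨p, hp, rfl⟩ := hb'
    rw [hb, (testBit_tMask h p).2 (hsub hp)]
    rfl
  · simp [hb]

/-- The supports of the weight-6 words of the length-12 ternary code form a Steiner system S(5, 6, 12) with 132 blocks. -/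
theorem result : Cfsg.IsSteinerSystem 5 6 {h : Finset Cfsg.ArrayPt | ∃ x ∈ Cfsg.ternaryGolayCode, Cfsg.ternarySupport x = h ∧ h.card = 6} ∧ {h : Finset Cfsg.ArrayPt | ∃ x ∈ Cfsg.ternaryGolayCode, Cfsg.ternarySupport x = h ∧ h.card = 6}.ncard = 132 := by
  set S := {h : Finset Cfsg.ArrayPt | ∃ x ∈ Cfsg.ternaryGolayCode, Cfsg.ternarySupport x = h ∧ h.card = 6}
  have hS : ∀ h : Finset Cfsg.ArrayPt, h ∈ S ↔ Cfsg.Agent.Golay.tMask h ∈ Cfsg.Agent.Golay.tHexads := by
    intro h
    constructor
    · rintro ⟨x, hx, rfl, h6⟩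
      rw [Cfsg.Agent.Golay.ternary_eq_tComb hx] at h6 ⊢
      exact hex_of_word _ h6
    · intro hh
      obtain ⟨f, hf6, hf⟩ := word_of_hex _ hh
      have e : h = Cfsg.ternarySupport (Cfsg.Agent.Golay.tComb f) := mask_inj (hf.symm)
      exact ⟨_, Cfsg.Agent.Golay.tComb_mem_code f, e.symm, e ▸ hf6⟩
  constructor
  · refine ⟨fun h hh => hh.choose_spec.2.2, fun s hs => ?_⟩
    obtain ⟨h, ⟨hh, hsub⟩, huniq⟩ := steiner_check (mask5 s) hs
    refine ⟨setOf12 h, ⟨(hS _).2 (by rwa [mask_setOf12 hh]), subset_of_mask hh hsub⟩, ?_⟩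
    rintro h' ⟨hh', hsub'⟩
    rw [← setOf12_mask h', huniq _ ⟨(hS h').1 hh', mask_subset hsub'⟩]
  · rw [← Set.ncard_image_of_injective _ (fun a b e => mask_inj e : Function.Injective Cfsg.Agent.Golay.tMask)]
    rw [show Cfsg.Agent.Golay.tMask '' S = ↑Cfsg.Agent.Golay.tHexads.toFinset by
      ext n
      rw [Set.mem_image, List.coe_toFinset]
      exact ⟨fun ⟨h, hh, e⟩ => e ▸ (hS h).1 hh,
        fun hn => ⟨setOf12 n, (hS _).2 (by rwa [mask_setOf12 hn]), mask_setOf12 hn⟩⟩,
      Set.ncard_coe_finset]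
    decide +kernel

end Cfsg.Agent.S1592
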