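import Cfsg.Statements.S1593
import Cfsg.Agent.Golay.Ternary

set_option autoImplicit false
open Cfsg

namespace Cfsg.Agent.S1593

open Cfsg.Agent.Golay in
/-- Sign vector from a mask. -/
def sgn (m : ℕ) (p : Cfsg.ArrayPt) : ZMod 3 := bif m.testBit (tIdx p) then -1 else 1

open Cfsg.Agent.Golay in
theorem tIdx_inj : Function.Injective tIdx := Function.LeftInverse.injective tPt_idx

open Cfsg.Agent.Golay in
theorem tIdx_lt : ∀ p : Cfsg.ArrayPt, tIdx p < 12 := by decide +kernel

open Cfsg.Agent.Golay in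
theorem full_bits : ∀ p : Cfsg.ArrayPt, (4095 : ℕ).testBit (tIdx p) = true := by decide +kernel

open Cfsg.Agent.Golay in
/-- Binary splitting over masks. -/
def allM (f : ℕ → Bool) : ℕ → ℕ → Bool
  | 0, a => f a
  | k + 1, a => allM f k a && allM f k (a + 2 ^ k)

theorem allM_spec (f : ℕ → Bool) :
    ∀ k a, allM f k a = true → ∀ i, a ≤ i → i < a + 2 ^ k → f i = true
  | 0, a, h, i, h1, h2 => by
    have : i = a := by simp at h2; omega
    subst this; simpa [allM] using h
  | k + 1, a, h, i, h1, h2 => by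
    simp only [allM, Bool.and_eq_true] at h
    by_cases hi : i < a + 2 ^ k
    · exact allM_spec f k a h.1 i h1 hi
    · exact allM_spec f k _ h.2 i (not_lt.1 hi) (by rw [pow_succ] at h2; omega)

open Cfsg.Agent.Golay in
theorem sign_check_aux : allM (fun m => m == 0 || m == 4095 ||
    !((List.finRange 6).all fun i : Fin 6 =>
      decide (tWordB (fun p => sgn m p * tComb (Pi.single i 1) p)))) 12 0 = true := by
  decide +kernel

open Cfsg.Agent.Golay in
theorem sign_check (m : ℕ) (hm : m < 2 ^ 12)
    (hw : ∀ i : Fin 6, tWordB (fun p => sgn m p * tComb (Pi.single i 1) p)) : m = 0 ∨ m = 4095 := by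
  have h := allM_spec _ 12 0 sign_check_aux m (Nat.zero_le _) (by simpa using hm)
  simp only [Bool.or_eq_true, beq_iff_eq, Bool.not_eq_true', ← Bool.not_eq_true, List.all_eq_true,
    decide_eq_true_eq] at h
  exact h.resolve_right fun h' => h' fun i _ => hw i

/-- The only sign changes preserving the length-12 ternary code are the identity and negation of all coordinates. -/
theorem result (c : Cfsg.ArrayPt → (ZMod 3)ˣ) (h : (∀ x ∈ Cfsg.ternaryGolayCode, Cfsg.monomialMap 1 c x ∈ Cfsg.ternaryGolayCode)) : (∀ p, c p = 1) ∨ (∀ p, c p = -1) := by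
  classical
  have key : ∀ c' : Cfsg.ArrayPt → ZMod 3, (∀ p, c' p = 1 ∨ c' p = -1) →
      (∀ i : Fin 6, Cfsg.Agent.Golay.tWordB (fun p => c' p * Cfsg.Agent.Golay.tComb (Pi.single i 1) p)) →
      (∀ p, c' p = 1) ∨ (∀ p, c' p = -1) := by
    intro c' hc' hw
    let m : ℕ := ∑ p ∈ Finset.univ.filter (fun p => c' p = -1), 2 ^ Cfsg.Agent.Golay.tIdx p
    have hlt : m < 2 ^ 12 := by
      have e : m = ∑ i ∈ (Finset.univ.filter (fun p => c' p = -1)).image Cfsg.Agent.Golay.tIdx, 2 ^ i := by
        rw [Finset.sum_image (fun a _ b _ h => tIdx_inj h)]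
      rw [e]
      refine Nat.geomSum_lt (le_refl 2) (fun i hi => ?_) (n := 12)
      obtain ⟨p, -, rfl⟩ := Finset.mem_image.1 hi
      exact (by decide +kernel : ∀ p : Cfsg.ArrayPt, Cfsg.Agent.Golay.tIdx p < 12) p
    have hc : c' = sgn m := by
      funext p
      have hb : m.testBit (Cfsg.Agent.Golay.tIdx p) = true ↔ c' p = -1 := by
        have e : m = ∑ i ∈ (Finset.univ.filter (fun p => c' p = -1)).image Cfsg.Agent.Golay.tIdx, 2 ^ i := by
          rw [Finset.sum_image (fun a _ b _ h => tIdx_inj h)]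
        rw [e]
        conv_rhs => rw [show c' p = -1 ↔ p ∈ Finset.univ.filter (fun p => c' p = -1) by simp,
          ← tIdx_inj.mem_finset_image, ← Finset.toFinset_bitIndices_sum_two_pow
            ((Finset.univ.filter (fun p => c' p = -1)).image Cfsg.Agent.Golay.tIdx), List.mem_toFinset]
        exact Nat.mem_bitIndices.symm
      rw [sgn]
      rcases hc' p with e | e
      · have : m.testBit (Cfsg.Agent.Golay.tIdx p) = false := by
          rw [← Bool.not_eq_true, hb, e]; decide
        rw [this, e]; rfl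
      · rw [hb.2 e, e]; rfl
    clear_value m; subst hc
    have h := sign_check m hlt hw
    rcases h with h | h
    · exact Or.inl fun p => by rw [sgn, h]; simp [tIdx_lt]
    · exact Or.inr fun p => by rw [sgn, h]; simp [tIdx_lt, full_bits]
  refine (key (fun p => (c p : ZMod 3)) (fun p => ?_) (fun i => ?_)).imp
    (fun h p => Units.ext (h p)) (fun h p => Units.ext (h p))
  · have hu : ∀ u : (ZMod 3)ˣ, (u : ZMod 3) = 1 ∨ (u : ZMod 3) = -1 := by decide
    exact hu (c p)
  · have h' := h _ (Cfsg.Agent.Golay.tComb_mem_code (Pi.single i 1))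
    rw [Cfsg.Agent.Golay.mem_ternary_iff] at h'
    have e : Cfsg.monomialMap 1 c (Cfsg.Agent.Golay.tComb (Pi.single i 1))
        = fun p => (c p : ZMod 3) * Cfsg.Agent.Golay.tComb (Pi.single i 1) p := rfl
    rwa [e] at h'

end Cfsg.Agent.S1593
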