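import Cfsg.Statements.S4274
import Cfsg.Agent.FGS4.JankoOrder
import Cfsg.Agent.Coprime.Generation
import Cfsg.Agent.Coprime.Action

set_option autoImplicit false
open Cfsg

namespace Cfsg.Agent.S4274

universe v

theorem subs {X : Type*} [Group X] [Finite X] {p : ℕ} [Fact p.Prime] (P : Sylow p X)
    (h : (P : Subgroup X).Normal) : Subsingleton (Sylow p X) := by
  haveI := Sylow.unique_of_normal P h
  exact inferInstance

theorem normal_of_subgroup {X : Type*} [Group X] [Finite X] [Fact (Nat.Prime 19)] (N : Subgroup X)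
    [N.Normal] (h19 : 19 ∣ Nat.card N) (hX : ¬ 19 ^ 2 ∣ Nat.card X)
    (hN : Subsingleton (Sylow 19 N)) : Subsingleton (Sylow 19 X) := by
  have hcard : ∀ P : Sylow 19 X, Nat.card (P : Subgroup X) = 19 :=
    Cfsg.Agent.FGS4.JankoOrder.sylow_prime (h19.trans (Subgroup.card_subgroup_dvd_card N)) hX
  obtain ⟨U⟩ : Nonempty (Sylow 19 N) := inferInstance
  have hU : Nat.card (U : Subgroup N) = 19 := Cfsg.Agent.FGS4.JankoOrder.sylow_prime h19
    (fun h => hX (h.trans (Subgroup.card_subgroup_dvd_card N))) U
  set U' := (U : Subgroup N).map N.subtype with hU'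
  haveI : U.Characteristic := Sylow.characteristic_of_subsingleton U
  have hU'n : U'.Normal := ConjAct.normal_of_characteristic_of_normal
  obtain ⟨P, hP⟩ := (U.2.map N.subtype).exists_le_sylow
  have hPU : U' = P := Subgroup.eq_of_le_of_card_ge hP (by
    rw [hcard P, Subgroup.card_map_of_injective N.subtype_injective, hU])
  haveI : (P : Subgroup X).Normal := hPU ▸ hU'n
  exact subs P inferInstance

theorem step {X : Type v} [Group X] [Finite X] [Fact (Nat.Prime 19)] (hd : Nat.card X ∣ 175560)
    (ih : ∀ (Y : Type v) [Group Y] [Finite Y], Nat.card Y < Nat.card X → Nat.card Y ∣ 175560 →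
      Subsingleton (Sylow 19 Y))
    (N : Subgroup X) [hN : N.Normal] (hN1 : N ≠ ⊥) (hNt : N ≠ ⊤) : Subsingleton (Sylow 19 X) := by
  classical
  have hX2 : ¬ 19 ^ 2 ∣ Nat.card X := fun h => by
    have := h.trans hd; norm_num at this
  have hproper : ∀ M : Subgroup X, M ≠ ⊤ → Subsingleton (Sylow 19 M) := fun M hM => by
    refine ih M ?_ ((Subgroup.card_subgroup_dvd_card M).trans hd)
    refine lt_of_le_of_ne (Nat.le_of_dvd Nat.card_pos (Subgroup.card_subgroup_dvd_card M)) fun h => hM ?_
    exact (Subgroup.card_eq_iff_eq_top M).mp h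
  by_cases h19 : 19 ∣ Nat.card N
  · exact normal_of_subgroup N h19 hX2 (hproper N hNt)
  obtain ⟨R⟩ : Nonempty (Sylow 19 X) := inferInstance
  by_cases hX : 19 ∣ Nat.card X
  swap
  · haveI : (R : Subgroup X).Normal := by
      have : (R : Subgroup X) = ⊥ := by
        obtain ⟨m, hm⟩ := IsPGroup.iff_card.mp R.2
        rcases Nat.eq_zero_or_pos m with rfl | hm0
        · exact Subgroup.card_eq_one.mp (by rw [hm, pow_zero])
        · exact absurd ((dvd_pow_self 19 hm0.ne').trans
            (hm ▸ Subgroup.card_subgroup_dvd_card (R : Subgroup X))) hX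
      rw [this]; infer_instance
    exact subs R inferInstance
  have hR19 : Nat.card (R : Subgroup X) = 19 := Cfsg.Agent.FGS4.JankoOrder.sylow_prime hX hX2 R
  by_cases hM : (R : Subgroup X) ⊔ N = ⊤
  · -- coprime action
    have hRN : (R : Subgroup X) ≤ Subgroup.normalizer (N : Set X) := by
      rw [Subgroup.normalizer_eq_top_iff.mpr hN]; exact le_top
    haveI : IsCyclic (R : Subgroup X) := isCyclic_of_prime_card hR19
    have hcop : (Nat.card (R : Subgroup X)).Coprime (Nat.card N) := by
      rw [hR19]; exact (Nat.Prime.coprime_iff_not_dvd (by norm_num)).mpr h19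
    have hcent : N ≤ Subgroup.centralizer ((R : Subgroup X) : Set X) := by
      refine Cfsg.Agent.Coprime.le_of_forall_invariant_sylow fun p hp => ?_
      haveI := Fact.mk hp
      obtain ⟨Q, hQN, hQp, hQi, hRQ⟩ :=
        Cfsg.Agent.Coprime.exists_invariant_sylow hRN hcop p
      refine ⟨Q, hQN, fun x hx => ?_, hQi⟩
      rw [Subgroup.mem_centralizer_iff]
      intro r hr
      have hsmall : Nat.card Q < 19 := by
        obtain ⟨m, hm⟩ := IsPGroup.iff_card.mp hQp
        have hQd : p ^ m ∣ 175560 := hm ▸ (Subgroup.card_subgroup_dvd_card Q).trans hd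
        have hp19 : m = 0 ∨ p ≠ 19 := by
          rcases Nat.eq_zero_or_pos m with h | h
          · exact Or.inl h
          · refine Or.inr fun h' => h19 ((dvd_pow_self 19 h.ne').trans ?_)
            rw [← h', ← hm]; exact Subgroup.card_dvd_of_le hQN
        have hall : ∀ d ∈ Cfsg.Agent.FGS4.JankoOrder.divs, 19 ≤ d → ∀ i ∈ [2, 3, 5, 7, 11],
            d % i = 0 → ∃ j ∈ [2, 3, 5, 7, 11, 19], j ≠ i ∧ d % j = 0 := by decide +kernel
        by_contra hbig
        rw [hm, not_lt] at hbig
        have hm0 : m ≠ 0 := fun h => by rw [h, pow_zero] at hbig; omega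
        have hpd : p ∣ 8 * 3 * 5 * 7 * 11 * 19 := (dvd_pow_self p hm0).trans hQd
        have hpmem : p ∈ [2, 3, 5, 7, 11] := by
          have hne := hp19.resolve_left hm0
          rcases hp.dvd_mul.mp hpd with h | h
          · rcases hp.dvd_mul.mp h with h | h
            · rcases hp.dvd_mul.mp h with h | h
              · rcases hp.dvd_mul.mp h with h | h
                · rcases hp.dvd_mul.mp h with h | h
                  · have := (Nat.prime_dvd_prime_iff_eq hp Nat.prime_two).mp
                      (hp.dvd_of_dvd_pow (show p ∣ 2 ^ 3 from h))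
                    simp [this]
                  · simp [(Nat.prime_dvd_prime_iff_eq hp (by norm_num : Nat.Prime 3)).mp h]
                · simp [(Nat.prime_dvd_prime_iff_eq hp (by norm_num : Nat.Prime 5)).mp h]
              · simp [(Nat.prime_dvd_prime_iff_eq hp (by norm_num : Nat.Prime 7)).mp h]
            · simp [(Nat.prime_dvd_prime_iff_eq hp (by norm_num : Nat.Prime 11)).mp h]
          · exact absurd ((Nat.prime_dvd_prime_iff_eq hp (by norm_num : Nat.Prime 19)).mp h) hne
        obtain ⟨j, hj, hji, hjd⟩ := hall _ (Cfsg.Agent.FGS4.JankoOrder.mem_divs hQd) hbig p hpmem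
          (Nat.mod_eq_zero_of_dvd (dvd_pow_self p hm0))
        have hjp : j.Prime := by fin_cases hj <;> norm_num
        exact hji ((Nat.prime_dvd_prime_iff_eq hjp hp).mp
          (hjp.dvd_of_dvd_pow (Nat.dvd_of_mod_eq_zero hjd)))
      let c : Equiv.Perm Q := (Q.normalizerMonoidHom ⟨r, hRQ hr⟩).toEquiv
      have hc : c ^ 19 = 1 := by
        have hr19 : (⟨r, hRQ hr⟩ : Subgroup.normalizer (Q : Set X)) ^ 19 = 1 := Subtype.ext (by
          have h := orderOf_dvd_iff_pow_eq_one.mp
            ((Subgroup.orderOf_dvd_natCard _ hr).trans (dvd_of_eq hR19))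
          simpa using h)
        let toP : MulAut Q →* Equiv.Perm Q := { toFun := MulEquiv.toEquiv, map_one' := rfl, map_mul' := fun _ _ => rfl }
        show (toP (Q.normalizerMonoidHom ⟨r, hRQ hr⟩)) ^ 19 = 1
        rw [← map_pow, ← map_pow, hr19, map_one, map_one]
      letI := Fintype.ofFinite Q
      have hd1 : orderOf c ∣ 19 := orderOf_dvd_of_pow_eq_one hc
      have hd2 : orderOf c ∣ (Fintype.card Q).factorial := by
        have h := orderOf_dvd_card (x := c)
        rwa [Fintype.card_perm] at h
      have hc1 : c = 1 := by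
        rcases (Nat.dvd_prime (by norm_num)).mp hd1 with h | h
        · exact orderOf_eq_one_iff.mp h
        · exfalso
          rw [h] at hd2
          have := (Nat.Prime.dvd_factorial (by norm_num)).mp hd2
          rw [← Nat.card_eq_fintype_card] at this
          omega
      have := congrArg Subtype.val (Equiv.Perm.congr_fun hc1 ⟨x, hx⟩)
      exact mul_inv_eq_iff_eq_mul.mp this
    haveI : (R : Subgroup X).Normal := by
      rw [← Subgroup.normalizer_eq_top_iff, eq_top_iff, ← hM]
      exact sup_le Subgroup.le_normalizer (hcent.trans (Subgroup.centralizer_le_normalizer _))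
    exact subs R inferInstance
  · have hMn : ((R : Subgroup X) ⊔ N).Normal := by
      have hlt : Nat.card (X ⧸ N) < Nat.card X := by
        rw [Subgroup.card_eq_card_quotient_mul_card_subgroup N]
        exact lt_mul_of_one_lt_right Nat.card_pos (Subgroup.one_lt_card_iff_ne_bot N |>.mpr hN1)
      haveI := ih (X ⧸ N) hlt (((Subgroup.card_quotient_dvd_card N)).trans hd)
      set R' : Sylow 19 (X ⧸ N) := R.mapSurjective (QuotientGroup.mk'_surjective N)
      haveI : (R' : Subgroup (X ⧸ N)).Normal := R'.normal_of_subsingleton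
      have h : ((R' : Subgroup (X ⧸ N)).comap (QuotientGroup.mk' N)).Normal := inferInstance
      have e : (R' : Subgroup (X ⧸ N)).comap (QuotientGroup.mk' N) = (R : Subgroup X) ⊔ N := by
        rw [Sylow.coe_mapSurjective, Subgroup.comap_map_eq, QuotientGroup.ker_mk']
      rwa [e] at h
    haveI := hMn
    refine normal_of_subgroup _ ?_ hX2 (hproper _ hM)
    exact (dvd_of_eq hR19.symm).trans (Subgroup.card_dvd_of_le le_sup_left)

theorem small : ∀ (m : ℕ), ∀ (X : Type v) [Group X] [Finite X], Nat.card X = m →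
    Nat.card X ∣ 175560 → Nat.card X < 175560 → Subsingleton (Sylow 19 X) := by
  intro m
  induction m using Nat.strong_induction_on with
  | _ m ih =>
  intro X _ _ hm hd hlt
  haveI : Fact (Nat.Prime 19) := ⟨by norm_num⟩
  have ih' : ∀ (Y : Type v) [Group Y] [Finite Y], Nat.card Y < Nat.card X → Nat.card Y ∣ 175560 →
      Subsingleton (Sylow 19 Y) :=
    fun Y _ _ hY hYd => ih _ (hm ▸ hY) Y rfl hYd (hY.trans hlt)
  by_cases h : ∃ N : Subgroup X, N.Normal ∧ N ≠ ⊥ ∧ N ≠ ⊤
  · obtain ⟨N, hN, h1, h2⟩ := h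
    haveI := hN
    exact step hd ih' N h1 h2
  obtain ⟨R⟩ : Nonempty (Sylow 19 X) := inferInstance
  have htriv : (R : Subgroup X) = ⊥ ∨ (R : Subgroup X) = ⊤ → Subsingleton (Sylow 19 X) := by
    intro hh
    haveI : (R : Subgroup X).Normal := by
      rcases hh with e | e <;> rw [e] <;> infer_instance
    exact subs R inferInstance
  by_cases hX : 19 ∣ Nat.card X
  · haveI : Nontrivial X := Finite.one_lt_card_iff_nontrivial.mp
      (lt_of_lt_of_le (by norm_num) (Nat.le_of_dvd Nat.card_pos hX))
    haveI : IsSimpleGroup X := ⟨fun N hN => by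
      by_contra hh; rw [not_or] at hh; exact h ⟨N, hN, hh.1, hh.2⟩⟩
    by_cases hne : Nat.card X = 19
    · refine htriv (Or.inr (Subgroup.eq_top_of_card_eq _ ?_))
      rw [Cfsg.Agent.FGS4.JankoOrder.sylow_prime hX (fun hh => by rw [hne] at hh; norm_num at hh) R, hne]
    · exact (Cfsg.Agent.FGS4.JankoOrder.not_simple hd hlt hX hne).elim
  · refine htriv (Or.inl ?_)
    obtain ⟨k, hk⟩ := IsPGroup.iff_card.mp R.2
    rcases Nat.eq_zero_or_pos k with rfl | hk0
    · exact Subgroup.card_eq_one.mp (by rw [hk, pow_zero])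
    · exact absurd ((dvd_pow_self 19 hk0.ne').trans
        (hk ▸ Subgroup.card_subgroup_dvd_card (R : Subgroup X))) hX

/-- A finite group of order 175560 = 2³·3·5·7·11·19 is either simple or has a normal Sylow 19-subgroup. -/
theorem result {G : Type*} [Group G] [Finite G] (hG : Nat.card G = 175560) : IsSimpleGroup G ∨ ∀ P : Sylow 19 G, (P : Subgroup G).Normal := by
  haveI : Fact (Nat.Prime 19) := ⟨by norm_num⟩
  by_cases h : ∃ N : Subgroup G, N.Normal ∧ N ≠ ⊥ ∧ N ≠ ⊤
  · obtain ⟨N, hN, h1, h2⟩ := h
    haveI := hN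
    haveI := step (dvd_of_eq hG) (fun Y _ _ hY hd => small _ Y rfl hd (hG ▸ hY)) N h1 h2
    exact Or.inr fun P => P.normal_of_subsingleton
  · haveI : Nontrivial G := Finite.one_lt_card_iff_nontrivial.mp (by rw [hG]; norm_num)
    refine Or.inl ⟨fun N hN => ?_⟩
    by_contra hh
    rw [not_or] at hh
    exact h ⟨N, hN, hh.1, hh.2⟩

end Cfsg.Agent.S4274
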