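import Cfsg.Statements.S5913


set_option autoImplicit false
open Cfsg

namespace Cfsg.Agent.S5913

/-- Let S be a non-abelian simple group and n a natural number. Every normal subgroup N of the direct power S^n (functions Fin n → S) is a subproduct: there is a set T of coordinates such that N consists exactly of the elements whose coordinates outside T are trivial. In particular the minimal normal subgroups of S^n are its n factors. -/
theorem result {S : Type*} [Group S] [IsSimpleGroup S] (hS : ¬ IsMulCommutative S) (n : ℕ)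
    (N : Subgroup (Fin n → S)) [N.Normal] :
    ∃ T : Finset (Fin n), ∀ x : Fin n → S, x ∈ N ↔ ∀ i, i ∉ T → x i = 1 := by
  classical
  let T : Finset (Fin n) := Finset.univ.filter fun i => ∃ x ∈ N, x i ≠ 1
  refine ⟨T, fun x => ⟨fun hx i hi => by_contra fun h => hi (by simp only [T, Finset.mem_filter_univ]; exact ⟨x, hx, h⟩), fun hx => ?_⟩⟩
  refine Subgroup.pi_mem_of_mulSingle_mem x fun i => ?_
  by_cases hi : i ∈ T
  · simp only [T, Finset.mem_filter_univ] at hi
    obtain ⟨y, hy, hyi⟩ := hi
    let K : Subgroup S := N.comap (MonoidHom.mulSingle (fun _ : Fin n => S) i)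
    have hK : K.Normal := by
      refine ⟨fun k hk g => ?_⟩
      show Pi.mulSingle i (g * k * g⁻¹) ∈ N
      rw [Pi.mulSingle_mul, Pi.mulSingle_mul, Pi.mulSingle_inv]
      exact (‹N.Normal›).conj_mem _ hk _
    have hcenter : Subgroup.center S = ⊥ := by
      rcases IsSimpleGroup.eq_bot_or_eq_top_of_normal (Subgroup.center S) inferInstance with h | h
      · exact h
      · exact absurd ⟨⟨fun a b => (Subgroup.mem_center_iff.mp (h ▸ Subgroup.mem_top b : b ∈ Subgroup.center S) a)⟩⟩ hS
    obtain ⟨s, hs⟩ : ∃ s, s * y i ≠ y i * s := by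
      by_contra h
      push_neg at h
      exact hyi (Subgroup.mem_bot.mp (hcenter ▸ Subgroup.mem_center_iff.mpr h))
    have hc : y i * s * (y i)⁻¹ * s⁻¹ ∈ K := by
      show Pi.mulSingle i (y i * s * (y i)⁻¹ * s⁻¹) ∈ N
      have h2 : y * (Pi.mulSingle i s * y⁻¹ * (Pi.mulSingle i s)⁻¹) ∈ N :=
        N.mul_mem hy ((‹N.Normal›).conj_mem _ (N.inv_mem hy) _)
      convert h2 using 1
      ext j
      by_cases hj : j = i
      · subst hj; simp [mul_assoc]
      · simp [Pi.mulSingle_eq_of_ne hj]
    rcases IsSimpleGroup.eq_bot_or_eq_top_of_normal K hK with h | h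
    · rw [h, Subgroup.mem_bot, mul_inv_eq_one, mul_inv_eq_iff_eq_mul] at hc
      exact absurd hc.symm hs
    · exact (h ▸ Subgroup.mem_top (x i) : x i ∈ K)
  · rw [hx i hi, Pi.mulSingle_one]; exact N.one_mem

end Cfsg.Agent.S5913
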