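import Cfsg.Statements.S5914
import Cfsg.Agent.S5913

set_option autoImplicit false
open Cfsg

namespace Cfsg.Agent.S5914

/-- A non-trivial finite group G is characteristically simple (its only characteristic subgroups are 1 and G) if and only if G is isomorphic to a direct power S^n (n ≥ 1) of some simple group S (possibly cyclic of prime order). -/
theorem result {G : Type*} [Group G] [Finite G] [Nontrivial G] :
    (∀ H : Subgroup G, H.Characteristic → H = ⊥ ∨ H = ⊤) ↔
    ∃ (S : Type) (_ : Group S) (_ : IsSimpleGroup S) (n : ℕ), 1 ≤ n ∧ Nonempty (G ≃* (Fin n → S)) := by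
  classical
  constructor
  · intro hchar
    -- a non-trivial normal subgroup of least order
    haveI : Fintype (Subgroup G) := Fintype.ofFinite _
    obtain ⟨N, hN, hNmin⟩ := Finset.exists_min_image
      (Finset.univ.filter fun N : Subgroup G => N.Normal ∧ N ≠ ⊥) (fun N => Nat.card N)
      ⟨⊤, by simp [Subgroup.normal_top, top_ne_bot]⟩
    simp only [Finset.mem_filter_univ] at hN hNmin
    obtain ⟨hNn, hN0⟩ := hN
    let P : Subgroup G → Prop := fun M => M.Normal ∧ ∃ k : ℕ, Nonempty (M ≃* (Fin k → N))
    obtain ⟨M, hM, hMmax⟩ := Finset.exists_max_image (Finset.univ.filter P) (fun M => Nat.card M)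
      ⟨⊥, by
        simp only [Finset.mem_filter_univ, P]
        haveI : Unique (Fin 0 → N) := Pi.uniqueOfIsEmpty _
        exact ⟨Subgroup.normal_bot, 0, ⟨MulEquiv.ofUnique⟩⟩⟩
    simp only [Finset.mem_filter_univ] at hM hMmax
    obtain ⟨hMn, k, ⟨eM⟩⟩ := hM
    have hMtop : M = ⊤ := by
      by_contra hne
      have hex : ∃ α : MulAut G, ¬ N.map α.toMonoidHom ≤ M := by
        by_contra h
        push_neg at h
        let K : Subgroup G := ⨆ α : MulAut G, N.map α.toMonoidHom
        have hKc : K.Characteristic := by
          rw [Subgroup.characteristic_iff_map_le]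
          intro φ
          rw [Subgroup.map_iSup]
          refine iSup_le fun α => ?_
          rw [Subgroup.map_map]
          exact le_iSup (fun β : MulAut G => N.map β.toMonoidHom) (φ * α)
        rcases hchar K hKc with hK | hK
        · apply hN0
          rw [eq_bot_iff, ← hK]
          exact le_trans (Subgroup.map_id N).ge (le_iSup (fun β : MulAut G => N.map β.toMonoidHom) 1)
        · exact hne (eq_top_iff.mpr (hK ▸ iSup_le h))
      obtain ⟨α, hα⟩ := hex
      set N' := N.map α.toMonoidHom with hN'
      have hN'n : N'.Normal := hNn.map _ α.surjective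
      have hcard : Nat.card N' = Nat.card N := Subgroup.card_map_of_injective α.injective
      have hdis : M ⊓ N' = ⊥ := by
        by_contra h
        have hnm : (M ⊓ N').Normal := Subgroup.normal_inf_normal M N'
        have h1 := hNmin _ ⟨hnm, h⟩
        have h2 : M ⊓ N' = N' := Subgroup.eq_of_le_of_card_ge inf_le_right (hcard ▸ h1)
        exact hα (inf_eq_right.mp h2)
      have hcomm : ∀ a : M, ∀ b : N', Commute (M.subtype a) (N'.subtype b) := fun a b =>
        Subgroup.commute_of_normal_of_disjoint M N' hMn hN'n (disjoint_iff.mpr hdis) a b a.2 b.2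
      let f := MonoidHom.noncommCoprod M.subtype N'.subtype hcomm
      have hinj : Function.Injective f := by
        rw [MonoidHom.noncommCoprod_injective]
        refine ⟨M.subtype_injective, N'.subtype_injective, ?_⟩
        rw [Subgroup.range_subtype, Subgroup.range_subtype]
        exact disjoint_iff.mpr hdis
      have hrange : f.range = M ⊔ N' := by
        rw [MonoidHom.noncommCoprod_range, Subgroup.range_subtype, Subgroup.range_subtype]
      let e₁ : ↥(M ⊔ N') ≃* M × N' := ((MonoidHom.ofInjective hinj).trans (MulEquiv.subgroupCongr hrange)).symm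
      let e₂ : M × N' ≃* (Fin k → N) × N := MulEquiv.prodCongr eM (N.equivMapOfInjective _ α.injective).symm
      let e₃ : (Fin k → N) × N ≃* (Fin (k + 1) → N) :=
        { toEquiv := (Equiv.prodComm _ _).trans (Fin.consEquiv (fun _ => ↥N))
          map_mul' := fun x y => funext fun i => by
            cases i using Fin.cases <;> simp [Fin.consEquiv] }
      have hbig : P (M ⊔ N') := ⟨Subgroup.sup_normal M N', k + 1, ⟨(e₁.trans e₂).trans e₃⟩⟩
      have hle := hMmax _ hbig
      exact hα (le_sup_right.trans (Subgroup.eq_of_le_of_card_ge le_sup_left hle).ge)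
    let eG : G ≃* (Fin k → N) :=
      (Subgroup.topEquiv.symm.trans (MulEquiv.subgroupCongr hMtop.symm)).trans eM
    have hk : 1 ≤ k := by
      by_contra h
      obtain rfl : k = 0 := by omega
      exact not_subsingleton G eG.toEquiv.subsingleton
    haveI : Nontrivial N := (Subgroup.nontrivial_iff_ne_bot N).mpr hN0
    have hsimple : IsSimpleGroup N := by
      refine ⟨fun K hK => ?_⟩
      by_cases hK0 : K = ⊥
      · exact Or.inl hK0
      right
      let i₀ : Fin k := ⟨0, hk⟩
      let ι : N →* G := eG.symm.toMonoidHom.comp (MonoidHom.mulSingle (fun _ : Fin k => ↥N) i₀)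
      have hι : Function.Injective ι := eG.symm.injective.comp (Pi.mulSingle_injective (M := fun _ : Fin k => ↥N) i₀)
      have hnorm : (K.map ι).Normal := by
        refine ⟨?_⟩
        rintro _ ⟨x, hx, rfl⟩ g
        refine ⟨eG g i₀ * x * (eG g i₀)⁻¹, hK.conj_mem x hx _, eG.injective ?_⟩
        simp only [ι, MonoidHom.coe_comp, MulEquiv.toMonoidHom_eq_coe, MonoidHom.coe_coe, Function.comp_apply,
          MonoidHom.mulSingle_apply, map_mul, map_inv, MulEquiv.apply_symm_apply]
        funext j
        by_cases hj : j = i₀
        · subst hj; simp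
        · simp [Pi.mulSingle_eq_of_ne hj]
      have hne : K.map ι ≠ ⊥ := fun h => hK0 ((Subgroup.map_eq_bot_iff_of_injective _ hι).mp h)
      have := hNmin _ ⟨hnorm, hne⟩
      rw [Subgroup.card_map_of_injective hι] at this
      exact Subgroup.eq_top_of_le_card K this
    haveI : Small.{0} N := Countable.toSmall _
    let eN' : Shrink.{0} N ≃* N := Shrink.mulEquiv
    haveI : Nontrivial (Shrink.{0} N) := eN'.toEquiv.nontrivial
    refine ⟨Shrink.{0} N, inferInstance, ?_, k, hk, ⟨eG.trans (MulEquiv.piCongrRight fun _ => eN'.symm)⟩⟩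
    haveI := hsimple
    exact IsSimpleGroup.isSimpleGroup_of_surjective eN'.symm.toMonoidHom eN'.symm.surjective
  · rintro ⟨S, _, hS, n, hn, ⟨e⟩⟩ H hH
    haveI := hS
    haveI : Finite (Fin n → S) := Finite.of_equiv G e.toEquiv
    set H' := H.map e.toMonoidHom with hH'
    have hinv : ∀ φ : (Fin n → S) ≃* (Fin n → S), ∀ x ∈ H', φ x ∈ H' := by
      rintro φ _ ⟨x, hx, rfl⟩
      refine ⟨(e.trans (φ.trans e.symm)) x, ?_, by simp⟩
      exact (Subgroup.characteristic_iff_map_le.mp hH (e.trans (φ.trans e.symm))) ⟨x, hx, rfl⟩
    suffices h : H' = ⊥ ∨ H' = ⊤ by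
      rcases h with h | h
      · exact Or.inl ((Subgroup.map_eq_bot_iff_of_injective _ e.injective).mp h)
      · refine Or.inr (Subgroup.map_injective (f := e.toMonoidHom) e.injective ?_)
        rw [← hH', h, Subgroup.map_top_of_surjective _ e.surjective]
    let perm : Equiv.Perm (Fin n) → (Fin n → S) ≃* (Fin n → S) := fun σ =>
      { toEquiv := Equiv.arrowCongr σ (Equiv.refl S)
        map_mul' := fun x y => rfl }
    by_cases hab : IsMulCommutative S
    · by_cases h0 : H' = ⊥
      · exact Or.inl h0
      right
      obtain ⟨h, hh, hh1⟩ := H'.ne_bot_iff_exists_ne_one.mp h0 |> fun ⟨⟨x, hx⟩, hx1⟩ => (⟨x, hx, fun hh => hx1 (Subtype.ext hh)⟩ : ∃ x, x ∈ H' ∧ x ≠ 1)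
      obtain ⟨j, hj⟩ : ∃ j, h j ≠ 1 := not_forall.mp fun hall => hh1 (funext hall)
      have hc : ∀ a b : S, a * b = b * a := fun a b => mul_comm' a b
      have hgen : ∀ i, i ≠ j → ∀ s : S, Pi.mulSingle i s ∈ H' := by
        intro i hij s
        let shear : (Fin n → S) ≃* (Fin n → S) :=
          { toFun := fun x => Function.update x i (x i * x j)
            invFun := fun x => Function.update x i (x i * (x j)⁻¹)
            left_inv := fun x => by funext l; by_cases hl : l = i <;> simp [hl, Ne.symm hij, mul_assoc]
            right_inv := fun x => by funext l; by_cases hl : l = i <;> simp [hl, Ne.symm hij, mul_assoc]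
            map_mul' := fun x y => by
              funext l
              by_cases hl : l = i
              · subst hl
                simp only [Function.update_self, Pi.mul_apply]
                rw [mul_assoc, mul_assoc, ← mul_assoc (y l) (x j), hc (y l) (x j), mul_assoc]
              · simp [hl] }
        have h1 : Pi.mulSingle i (h j) ∈ H' := by
          have := H'.mul_mem (H'.inv_mem hh) (hinv shear h hh)
          convert this using 1
          funext l
          by_cases hl : l = i <;> simp [hl, shear]
        let Z : Subgroup S := H'.comap (MonoidHom.mulSingle (fun _ : Fin n => S) i)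
        haveI : Z.Normal := ⟨fun z hz g => by rwa [hc g, mul_assoc, mul_inv_cancel, mul_one]⟩
        rcases IsSimpleGroup.eq_bot_or_eq_top_of_normal Z inferInstance with hZ | hZ
        · exact absurd (Subgroup.mem_bot.mp (hZ ▸ (h1 : h j ∈ Z))) hj
        · exact (hZ ▸ Subgroup.mem_top s : s ∈ Z)
      rw [eq_top_iff]
      intro x _
      by_cases hne : ∃ i, i ≠ j
      · obtain ⟨i, hij⟩ := hne
        refine Subgroup.pi_mem_of_mulSingle_mem x fun l => ?_
        by_cases hl : l = j
        · subst hl
          have := hinv (perm (Equiv.swap i l)) _ (hgen i hij (x l))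
          convert this using 1
          funext t
          simp [perm, Equiv.arrowCongr, Pi.mulSingle_apply, Equiv.swap_apply_eq_iff]
        · exact hgen l hl _
      · push_neg at hne
        let Z : Subgroup S := H'.comap (MonoidHom.mulSingle (fun _ : Fin n => S) j)
        haveI : Z.Normal := ⟨fun z hz g => by rwa [hc g, mul_assoc, mul_inv_cancel, mul_one]⟩
        have hsingle : ∀ y : Fin n → S, Pi.mulSingle j (y j) = y := fun y => funext fun l => by rw [hne l, Pi.mulSingle_eq_same]
        rcases IsSimpleGroup.eq_bot_or_eq_top_of_normal Z inferInstance with hZ | hZ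
        · refine absurd (Subgroup.mem_bot.mp (hZ ▸ (?_ : h j ∈ Z))) hj
          show Pi.mulSingle j (h j) ∈ H'
          rwa [hsingle]
        · have hm : x j ∈ Z := hZ ▸ Subgroup.mem_top _
          change Pi.mulSingle j (x j) ∈ H' at hm
          rwa [hsingle] at hm
    · haveI : H'.Normal := hH'  ▸ (Subgroup.normal_of_characteristic H).map _ e.surjective
      obtain ⟨T, hT⟩ := Cfsg.Agent.S5913.result hab n H'
      obtain ⟨s, hs⟩ := exists_ne (1 : S)
      by_cases hT0 : T = ∅
      · left
        rw [eq_bot_iff]
        intro x hx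
        exact Subgroup.mem_bot.mpr (funext fun i => (hT x).mp hx i (by simp [hT0]))
      right
      obtain ⟨j, hj⟩ := Finset.nonempty_iff_ne_empty.mpr hT0
      have hall : ∀ i, i ∈ T := by
        intro i
        by_contra hi
        have hm : Pi.mulSingle j s ∈ H' := (hT _).mpr fun l hl => Pi.mulSingle_eq_of_ne (fun h : l = j => hl (h ▸ hj)) _
        have := (hT _).mp (hinv (perm (Equiv.swap j i)) _ hm) i hi
        simp [perm, Equiv.arrowCongr] at this
        exact hs this
      rw [eq_top_iff]
      intro x _
      exact (hT x).mpr fun l hl => absurd (hall l) hl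

end Cfsg.Agent.S5914
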