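import Cfsg.Statements.S0804
import Cfsg.Agent.Linear.Icosian

set_option autoImplicit false
open Cfsg

namespace Cfsg.Agent.S0804

/-- PSL_2(q) has a subgroup isomorphic to A_5 iff 5 ∣ q(q² − 1). -/
theorem result {F : Type*} [Field F] [Fintype F] {q : ℕ} (hF : Fintype.card F = q) : (∃ H : Subgroup (Matrix.ProjectiveSpecialLinearGroup (Fin 2) F), Nonempty (H ≃* alternatingGroup (Fin 5))) ↔ 5 ∣ q * (q ^ 2 - 1) := by
  classical
  subst hF
  constructor
  · rintro ⟨H, ⟨e⟩⟩
    have h5 : 5 ∣ Nat.card H := by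
      rw [Nat.card_congr e.toEquiv, nat_card_alternatingGroup, Nat.card_eq_fintype_card, Fintype.card_fin]
      decide
    have h := h5.trans (Subgroup.card_subgroup_dvd_card H)
    rw [← Cfsg.Agent.Linear.card_SL_two, ← Cfsg.Agent.Linear.card_PSL_mul_center]
    exact dvd_mul_of_dvd_right h _
  · intro h5
    by_cases h2 : (2 : F) = 0
    · have hc : CharP F 2 := CharTwo.of_one_ne_zero_of_two_eq_zero one_ne_zero h2
      obtain ⟨n, -, hn⟩ := FiniteField.card F 2
      have : Fact (Nat.Prime 2) := ⟨Nat.prime_two⟩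
      rcases Nat.even_or_odd (n : ℕ) with ⟨k, hk⟩ | ⟨k, hk⟩
      · refine Cfsg.Agent.Linear.exists_A5_even (k := k) (by have := n.pos; omega) ?_
        rw [hn, hk, show (4 : ℕ) = 2 ^ 2 by norm_num, ← pow_mul]; ring_nf
      · exfalso
        rw [hn, hk] at h5
        have h1 : 1 ≤ (2 ^ (2 * k + 1)) ^ 2 := Nat.one_le_pow _ _ (by positivity)
        rw [Nat.dvd_iff_mod_eq_zero, Nat.mul_mod] at h5
        have ha : ((2 : ℕ) ^ (2 * k + 1)) % 5 = 2 ∨ ((2 : ℕ) ^ (2 * k + 1)) % 5 = 3 := by
          clear h5 h1 hk hn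
          induction k with
          | zero => left; rfl
          | succ k ih =>
            rw [show 2 * (k + 1) + 1 = (2 * k + 1) + 2 by ring, pow_add, Nat.mul_mod]
            rcases ih with h | h <;> rw [h] <;> decide
        have hb : ((2 ^ (2 * k + 1)) ^ 2 - 1) % 5 = 3 := by
          have : ((2 : ℕ) ^ (2 * k + 1)) ^ 2 % 5 = 4 := by
            rw [Nat.pow_mod]; rcases ha with h | h <;> rw [h]
          omega
        rw [hb] at h5
        rcases ha with h | h <;> rw [h] at h5 <;> norm_num at h5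
    · exact Cfsg.Agent.Linear.exists_A5_odd h2 h5

end Cfsg.Agent.S0804
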