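import Cfsg.Statements.S0802
import Cfsg.Agent.Linear.PSL2Subfield

set_option autoImplicit false
open Cfsg

namespace Cfsg.Agent.S0802

/-- PSL_2(p^n) has a subgroup isomorphic to A_4 if and only if it is not the case that p = 2 and n is odd. -/
theorem result {F : Type*} [Field F] [Fintype F] (p n : ℕ) [Fact p.Prime] [CharP F p] (hF : Fintype.card F = p ^ n) : (∃ H : Subgroup (Matrix.ProjectiveSpecialLinearGroup (Fin 2) F), Nonempty (H ≃* alternatingGroup (Fin 4))) ↔ ¬ (p = 2 ∧ Odd n) := by
  classical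
  constructor
  · rintro ⟨H, ⟨e⟩⟩ ⟨rfl, hn⟩
    refine Cfsg.Agent.Linear.no_A4_char_two CharTwo.two_eq_zero ?_ e
    intro h
    obtain ⟨k, rfl⟩ := hn
    rw [hF, ← Nat.modEq_iff_dvd' (Nat.one_le_pow _ _ (by norm_num)), Nat.ModEq, pow_succ, pow_mul,
      Nat.mul_mod, Nat.pow_mod] at h
    norm_num at h
  · intro h
    rcases eq_or_ne p 2 with rfl | hp
    · have hev : Even n := Nat.not_odd_iff_even.1 fun ho => h ⟨rfl, ho⟩
      obtain ⟨k, rfl⟩ := hev
      have hk : 1 ≤ k := by
        rcases k with _ | k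
        · simp at hF
          have := Fintype.one_lt_card (α := F)
          omega
        · omega
      obtain ⟨H, ⟨e⟩⟩ := Cfsg.Agent.Linear.exists_A5_even (F := F) hk
        (by rw [hF, show (4 : ℕ) = 2 ^ 2 by norm_num, ← pow_mul]; ring_nf)
      exact Cfsg.Agent.Linear.exists_subgroup_of_injective (H.subtype.comp e.symm.toMonoidHom)
        (Subtype.val_injective.comp e.symm.injective) Cfsg.Agent.Linear.exists_A4_in_A5
    · refine Cfsg.Agent.Linear.exists_A4 fun h2 => hp ?_
      exact ((CharP.ringChar_of_prime_eq_zero Nat.prime_two (by exact_mod_cast h2)).symm.trans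
        (ringChar.eq F p)).symm

end Cfsg.Agent.S0802
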