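import Cfsg.Statements.S0803
import Cfsg.Agent.Linear.PSL2Subgroups

set_option autoImplicit false
open Cfsg

namespace Cfsg.Agent.S0803

/-- PSL_2(q) has a subgroup isomorphic to S_4 iff q² ≡ 1 (mod 16). -/
theorem result {F : Type*} [Field F] [Fintype F] {q : ℕ} (hF : Fintype.card F = q) : (∃ H : Subgroup (Matrix.ProjectiveSpecialLinearGroup (Fin 2) F), Nonempty (H ≃* Equiv.Perm (Fin 4))) ↔ q ^ 2 % 16 = 1 := by
  classical
  subst hF
  constructor
  · rintro ⟨H, ⟨e⟩⟩
    obtain ⟨σ, hσ⟩ : ∃ σ : Equiv.Perm (Fin 4), orderOf σ = 4 :=
      ⟨finRotate 4, by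
        have : Fact (Nat.Prime 2) := ⟨Nat.prime_two⟩
        exact orderOf_eq_prime_pow (p := 2) (n := 1) (by decide) (by decide)⟩
    have hord : orderOf ((e.symm σ : H) : Matrix.ProjectiveSpecialLinearGroup (Fin 2) F) = 4 := by
      exact (orderOf_injective (H.subtype.comp e.symm.toMonoidHom)
        (Subtype.val_injective.comp e.symm.injective) σ).trans hσ
    by_cases h2 : (2 : F) = 0
    · exfalso
      obtain ⟨g, hg⟩ := Cfsg.Agent.Linear.toPSL_surjective
        ((e.symm σ : H) : Matrix.ProjectiveSpecialLinearGroup (Fin 2) F)
      rw [← hg] at hord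
      have hdvd : 4 ∣ orderOf g := hord ▸ orderOf_map_dvd _ g
      have h4 : g ^ 4 = 1 := by
        have h1 := pow_orderOf_eq_one (Cfsg.Agent.Linear.toPSL g)
        rw [hord, ← map_pow, Cfsg.Agent.Linear.toPSL_eq_one_iff] at h1
        rcases h1 with h1 | h1
        · exact h1
        · rw [h1]
          refine Subtype.ext (Matrix.ext fun i j => ?_)
          fin_cases i <;> fin_cases j <;> simp <;> linear_combination -h2
      set M : Matrix (Fin 2) (Fin 2) F := g.1 with hM
      set t := M 0 0 + M 1 1 with ht
      have hCH : M * M = t • M - 1 := by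
        have hd := g.2
        rw [Matrix.det_fin_two, ← hM] at hd
        ext i j
        fin_cases i <;> fin_cases j <;> simp [Matrix.mul_apply, Fin.sum_univ_two, ht] <;>
          first | (linear_combination -hd) | ring
      have hMM : M * M = 1 := by
        have h44 : M * M * (M * M) = 1 := by
          have := congrArg Subtype.val h4
          simpa [pow_succ, mul_assoc] using this
        have hsum : ∀ X : Matrix (Fin 2) (Fin 2) F, X + X = 0 := fun X => by
          rw [← two_smul F X, h2, zero_smul]
        have hneg : ∀ X : Matrix (Fin 2) (Fin 2) F, -X = X := fun X =>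
          neg_eq_of_add_eq_zero_left (hsum X)
        have h5 : (M * M) * (M * M) = (t * t) • (M * M) + 1 := by
          have hc : t • M - 1 = t • M + 1 := by rw [sub_eq_add_neg, hneg]
          conv_lhs => rw [hCH, hc]
          rw [add_mul, mul_add, mul_add, smul_mul_assoc, mul_smul_comm, smul_smul, one_mul, mul_one,
            mul_one, add_assoc, ← add_assoc (t • M) (t • M), hsum, zero_add]
        rw [h44, eq_comm, add_eq_right] at h5
        have hu : IsUnit (M * M).det := by
          rw [Matrix.det_mul, hM, g.2, one_mul]; exact isUnit_one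
        have h6 : t * t = 0 := by
          by_contra hne
          rw [smul_eq_zero] at h5
          rcases h5 with h5 | h5
          · exact hne h5
          · rw [h5] at hu; simp at hu
        rw [hCH, mul_self_eq_zero.1 h6, zero_smul, zero_sub, hneg]
      have : orderOf g ∣ 2 := orderOf_dvd_of_pow_eq_one (Subtype.ext (by
        rw [sq]; exact hMM))
      have := hdvd.trans this
      norm_num at this
    · have hs := (FiniteField.isSquare_two_iff (F := F)).1
        (Cfsg.Agent.Linear.isSquare_two_of_order_four h2 hord)
      have hodd : Fintype.card F % 2 = 1 := FiniteField.odd_card_of_char_ne_two fun h => h2 (by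
        have : CharP F 2 := ringChar.of_eq h
        exact CharTwo.two_eq_zero)
      rcases (show Fintype.card F % 8 = 1 ∨ Fintype.card F % 8 = 7 by omega) with h | h <;>
      · obtain ⟨k, hk⟩ : ∃ k, Fintype.card F = 8 * k + Fintype.card F % 8 :=
          ⟨Fintype.card F / 8, (Nat.div_add_mod _ 8).symm⟩
        rw [hk, h]; ring_nf; omega
  · intro h16
    have hodd : Fintype.card F % 2 = 1 := by
      by_contra h
      obtain ⟨k, hk⟩ : ∃ k, Fintype.card F = 2 * k := ⟨Fintype.card F / 2, by omega⟩
      rw [hk, mul_pow] at h16
      omega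
    have h2 : (2 : F) ≠ 0 := fun h => by
      have hr : ringChar F = 2 :=
        CharP.ringChar_of_prime_eq_zero Nat.prime_two (by exact_mod_cast h)
      have := FiniteField.even_card_iff_char_two.1 hr
      omega
    refine Cfsg.Agent.Linear.exists_S4 h2 ((FiniteField.isSquare_two_iff (F := F)).2 ⟨?_, ?_⟩) <;>
    · intro h8
      rw [Nat.pow_mod, show Fintype.card F % 16 = Fintype.card F % 16 from rfl] at h16
      rcases (show Fintype.card F % 16 = Fintype.card F % 8 ∨
        Fintype.card F % 16 = Fintype.card F % 8 + 8 by omega) with h | h <;>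
        rw [h, h8] at h16 <;> norm_num at h16

end Cfsg.Agent.S0803
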