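import Cfsg.Statements.S5193
import Cfsg.Agent.FusionZJ.CenterGroup
import Cfsg.Agent.FusionZJ.FunctorControl
-- import your own Cfsg.Agent.* helpers here

set_option autoImplicit false
open Cfsg Cfsg.FusionSystem Cfsg.Agent Cfsg.Agent.Fusion Cfsg.Agent.FusionZJ

namespace Cfsg.Agent.S5193

/-- Glauberman's Theorem for fusion systems. Let F be a saturated fusion system over a finite p-group S, let J(S) be the subgroup generated by the abelian subgroups of S of largest order, and let N be the normalizer fusion system of J(S) in F (a fusion system over N_S(J(S)) = S). Then every p-th power of an element of Z(S) that lies in the centre of N lies in the centre of F; and if p is odd, or if the symmetric group of degree 4 is not involved in any model of the normalizer system of a fully normalized F-centric subgroup (F is S₄-free), then the centre of N equals the centre of F. -/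
theorem result {Ω : Type*} [Group Ω] {S : Subgroup Ω} [Finite S] (p : ℕ) [Fact p.Prime] (hS : IsPGroup p S) (F : Cfsg.FusionSystem S) (hF : F.IsSaturated p) (N : Cfsg.FusionSystem (Cfsg.FusionSystem.normalizerIn S (Cfsg.thompsonSubgroupAOf S))) (hN : F.IsNormalizerSystem (Cfsg.thompsonSubgroupAOf S) N) : Subgroup.closure ((fun z : Ω => z ^ p) '' ((S ⊓ Subgroup.centralizer (S : Set Ω) : Subgroup Ω) : Set Ω)) ⊓ N.center ≤ F.center ∧ (p ≠ 2 ∨ F.IsSectionFree p (Equiv.Perm (Fin 4)) → N.center = F.center) := by
  haveI : Finite ↥(normalizerIn S (thompsonSubgroupAOf S)) := finite_of_le normalizerIn_le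
  have hroot : ∀ y ∈ Subgroup.closure ((fun z => z ^ p) ''
      ((S ⊓ Subgroup.centralizer (S : Set Ω) : Subgroup Ω) : Set Ω)),
      ∃ z ∈ S ⊓ Subgroup.centralizer (S : Set Ω), y = z ^ p := by
    intro y hy
    induction hy using Subgroup.closure_induction with
    | mem y hy => obtain ⟨z, hz, rfl⟩ := hy; exact ⟨z, hz, rfl⟩
    | one => exact ⟨1, Subgroup.one_mem _, (one_pow p).symm⟩
    | mul a b _ _ iha ihb =>
      obtain ⟨c, hc, rfl⟩ := iha
      obtain ⟨d, hd, rfl⟩ := ihb
      exact ⟨c * d, Subgroup.mul_mem _ hc hd,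
        (Commute.mul_pow (hd.2 c hc.1 : Commute c d) p).symm⟩
    | inv a _ iha =>
      obtain ⟨c, hc, rfl⟩ := iha
      exact ⟨c⁻¹, Subgroup.inv_mem _ hc, (inv_pow c p).symm⟩
  refine ⟨mem_center_of_fixed_powers hS hF
    (fun y hy => by
      obtain ⟨z, hz, rfl⟩ := hroot y hy.1
      exact S.pow_mem hz.1 p) fun y hy P f hf hyP => ?_, fun hodd => ?_⟩
  · obtain ⟨z, hz, rfl⟩ := hroot y hy.1
    exact fixed_of_group_condition (W := jA) hS hF jA_equiv center_le_jA p
      (fun G _ _ T hc _ z hz hzc _ hfix =>
        pow_fixed_of_quadratic jA jA_equiv jA_quadratic G T hc z hz hzc hfix)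
      hz.1 (fun s hs => hz.2 s hs) (N := N) hN hy.2 P f hf hyP
  have hZS : F.center ≤ thompsonSubgroupAOf S := fun z hz =>
    mem_wOf_of_center (W := jA) hS center_le_jA (F.center_le_centralizer hz) le_rfl
      ((center_isCentral (F := F)).1 hz)
  refine le_antisymm ?_ (center_le_center_normalizerSystem hS hF (wOf_le jA S) hZS hN)
  refine mem_center_of_fixed_powers hS hF ((center_isCentral (F := N)).1.trans normalizerIn_le)
    fun x hx P f hf hxP => ?_
  have hxS : x ∈ S := normalizerIn_le ((center_isCentral (F := N)).1 hx)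
  have hSn : S ≤ normalizerIn S (thompsonSubgroupAOf S) := le_inf le_rfl
    (normalizerIn_self.ge.trans (normalizerIn_le_wOf (W := jA) hS jA_equiv le_rfl))
  have hxc : ∀ s ∈ S, s * x = x * s := fun s hs =>
    N.center_le_centralizer hx s (hSn hs)
  have h := fixed_of_group_condition (W := jA) hS hF jA_equiv center_le_jA 1
    (fun G _ _ T hc hfree z hz hzc _ hfix g => ?_) hxS hxc (N := N) hN (by rwa [pow_one]) P f hf
    (by rwa [pow_one])
  · rwa [pow_one] at h
  rw [pow_one] at hfix ⊢
  exact center_fixed_of_normalizer G T hc (hodd.imp id (hfree _)) z hz hzc hfix g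

end Cfsg.Agent.S5193
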