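import Cfsg.Statements.S5194
import Cfsg.Agent.FusionZJ.NilpotencyApps

set_option autoImplicit false
set_option linter.style.haveILetI false

open Cfsg Cfsg.FusionSystem Cfsg.Agent Cfsg.Agent.Fusion Cfsg.Agent.FusionZJ

namespace Cfsg.Agent.S5194

/-- Thompson's normal p-complement Theorem for fusion systems. Let F be a saturated fusion system over a finite p-group S such that p is odd or F is S₄-free (the symmetric group of degree 4 is not involved in any model of the normalizer system of a fully normalized F-centric subgroup), and let J(S) be the subgroup generated by the abelian subgroups of S of largest order. If the centralizer fusion system of Z(S) in F is the inner fusion system of C_S(Z(S)) = S and the normalizer fusion system of J(S) in F is the inner fusion system of N_S(J(S)) = S, then F is the inner fusion system of S. -/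
theorem result {Ω : Type*} [Group Ω] {S : Subgroup Ω} [Finite S] (p : ℕ) [Fact p.Prime] (hS : IsPGroup p S) (F : Cfsg.FusionSystem S) (hF : F.IsSaturated p) (hp : p ≠ 2 ∨ F.IsSectionFree p (Equiv.Perm (Fin 4))) (hC : ∀ C : Cfsg.FusionSystem (Cfsg.FusionSystem.centralizerIn S (S ⊓ Subgroup.centralizer (S : Set Ω))), F.IsCentralizerSystem (S ⊓ Subgroup.centralizer (S : Set Ω)) C → ∀ P : Subgroup Ω, C.Hom P = (Cfsg.innerFusionSystem (Cfsg.FusionSystem.centralizerIn S (S ⊓ Subgroup.centralizer (S : Set Ω)))).Hom P) (hN : ∀ N : Cfsg.FusionSystem (Cfsg.FusionSystem.normalizerIn S (Cfsg.thompsonSubgroupAOf S)), F.IsNormalizerSystem (Cfsg.thompsonSubgroupAOf S) N → ∀ P : Subgroup Ω, N.Hom P = (Cfsg.innerFusionSystem (Cfsg.FusionSystem.normalizerIn S (Cfsg.thompsonSubgroupAOf S))).Hom P) : ∀ P : Subgroup Ω, F.Hom P = (Cfsg.innerFusionSystem S).Hom P := by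
  intro P
  by_contra hP
  obtain ⟨U, hNS, hUn, hUc, N, L, _, ι, hN', hM, hfree, hLp⟩ :=
    exists_witness_model hS hF hp fun h => hP (h ▸ rfl)
  haveI : Finite L := hM.1
  obtain ⟨T, hT⟩ := hM.2.2.1
  rcases thompson_step T hM.2.2.2 hfree hLp with ⟨g, hg, hg1⟩ | hfix
  · have h : thompsonSubgroupAOf S ≤ S := wOf_le (jA) S
    obtain ⟨E, hE⟩ := exists_normalizerSystem F (thompsonSubgroupAOf S) h
    refine functor_normalizer_not_inner hS hF jA jA_equiv hNS hUn hUc hN' hM
      (fun T' hT' => ?_) E hE (hN E hE)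
    obtain rfl : T' = T := Sylow.ext (hT'.trans hT.symm)
    exact ⟨g, hg, hg1⟩
  · obtain ⟨g, -, hg1, hgp⟩ := exists_coprime_ne_one (C := (⊤ : Subgroup L))
      fun h => hLp (h.of_equiv Subgroup.topEquiv)
    set Z := S ⊓ Subgroup.centralizer (S : Set Ω)
    have hZN : Z ≤ normalizerIn S U := fun z hz => hNS.ge hz.1
    have hgz : ∀ z (hz : z ∈ Z), g * ι ⟨z, hZN hz⟩ * g⁻¹ = ι ⟨z, hZN hz⟩ := by
      intro z hz
      refine hfix _ (hT ▸ ⟨_, rfl⟩) (fun a ha => ?_) g
      obtain ⟨y, rfl⟩ : a ∈ ι.range := hT ▸ ha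
      rw [← map_mul, ← map_mul]
      exact congrArg ι (Subtype.ext (hz.2 _ (normalizerIn_le y.2)))
    have hgn : g ∈ Subgroup.normalizer
        (((Z.subgroupOf (normalizerIn S U)).map ι : Subgroup L) : Set L) := by
      refine Subgroup.centralizer_le_normalizer _ ?_
      rintro _ ⟨z, hz, rfl⟩
      exact (mul_inv_eq_iff_eq_mul.mp (hgz z hz)).symm
    obtain ⟨f, hf, -, hfm, hkey⟩ := model_stab hS hF hUn hUc hN' hM hZN hgn
    have hfx : ∀ x ∈ Z, f x = x := fun x hx => by
      have h : f x ∈ normalizerIn S U :=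
        hNS.ge (hf.cod_le (hf.mapsTo (Subgroup.mem_sup_right hx)))
      exact congrArg Subtype.val (hM.2.1.1 ((hfm x hx h).trans (hgz x hx)))
    obtain ⟨C, hC'⟩ := exists_centralizerSystem F Z inf_le_left
    have hCS : S ≤ centralizerIn S Z := fun s hs => ⟨hs, fun z hz => (hz.2 s hs).symm⟩
    have hfC : Iso C f (U ⊔ Z) (U ⊔ Z) := by
      refine ⟨⟨hf.mor.hom, ?_, fun _ => rfl⟩, hf.bij⟩
      rw [hC']
      refine ⟨hf.mor.hom_mem, hf.dom_le.trans hCS, fun x => hCS (hf.cod_le (hf.mapsTo x.2)),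
        (fixExt_iff (φ := hf.mor.hom)).mpr ⟨f, ?_, fun _ => rfl, hfx⟩⟩
      exact hf.mor.restrict (sup_le le_rfl le_sup_right)
    haveI : Finite ↥(centralizerIn S Z) := finite_of_le centralizerIn_le
    obtain ⟨k, hk⟩ := period_of_inner (hS.to_le centralizerIn_le) (hC C hC') hfC
    exact hg1 (hkey hgp ⟨k, fun x hx => hk x (Subgroup.mem_sup_left hx)⟩)

end Cfsg.Agent.S5194
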