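import Cfsg.Statements.S2824
import Cfsg.Agent.LocalEven.LargestPReduced2

set_option autoImplicit false
open Cfsg

namespace Cfsg.Agent.S2824

/-- Let H be a finite group, p a prime, T a Sylow p-subgroup, L and M subgroups of characteristic p containing T, Y_L the largest p-reduced normal subgroup of L and T₀ = C_T(Y_L). If M·C_H(Y_L) = L·C_H(Y_L), then L* := N_M(T₀) has Y_{L*} = Y_L and L·C_H(Y_L) = L*·C_H(Y_L). -/
theorem result {H : Type*} [Group H] [Finite H] {p : ℕ} [Fact p.Prime] (T : Sylow p H) (L M : Subgroup H) (hTL : (T : Subgroup H) ≤ L) (hTM : (T : Subgroup H) ≤ M) (hL : Subgroup.centralizer (Cfsg.pCore p ↥L : Set ↥L) ≤ Cfsg.pCore p ↥L) (hM : Subgroup.centralizer (Cfsg.pCore p ↥M : Set ↥M) ≤ Cfsg.pCore p ↥M) (T₀ : Subgroup H) (hT₀ : T₀ = (T : Subgroup H) ⊓ Subgroup.centralizer (((Cfsg.largestPReducedOf p L) : Subgroup H) : Set H)) (hfac : M ⊔ Subgroup.centralizer (((Cfsg.largestPReducedOf p L) : Subgroup H) : Set H) = L ⊔ Subgroup.centralizer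 (((Cfsg.largestPReducedOf p L) : Subgroup H) : Set H)) (Ls : Subgroup H) (hLs : Ls = M ⊓ Subgroup.normalizer ((T₀ : Subgroup H) : Set H)) : (Cfsg.largestPReducedOf p Ls) = (Cfsg.largestPReducedOf p L) ∧ L ⊔ Subgroup.centralizer (((Cfsg.largestPReducedOf p L) : Subgroup H) : Set H) = Ls ⊔ Subgroup.centralizer (((Cfsg.largestPReducedOf p L) : Subgroup H) : Set H) := by
  subst hT₀ hLs
  have hY := LocalEven.largestOf_reduced (p := p) L
  have hYle := LocalEven.largestOf_le (p := p) L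
  set Y := Cfsg.largestPReducedOf p L with hYdef
  set C := Subgroup.centralizer (Y : Set H) with hC
  set T₀ := (T : Subgroup H) ⊓ C with hT₀
  set Ls := M ⊓ Subgroup.normalizer (T₀ : Set H) with hLs
  have hLY : L ≤ Subgroup.normalizer (Y : Set H) := LocalEven.reduced_normalizes hYle hY
  have hMY : M ≤ Subgroup.normalizer (Y : Set H) :=
    (le_sup_left.trans hfac.le).trans (sup_le hLY (Subgroup.centralizer_le_normalizer _))
  have hMC : M ≤ Subgroup.normalizer (C : Set H) := hMY.trans (LocalEven.normalizer_le_normalizer_cent Y)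
  have hTM' : LocalEven.IsMaxP p (T : Subgroup H) M :=
    ⟨hTM, T.isPGroup', fun R hR _ hle => T.is_maximal' hR hle⟩
  have hTL' : LocalEven.IsMaxP p (T : Subgroup H) L :=
    ⟨hTL, T.isPGroup', fun R hR _ hle => T.is_maximal' hR hle⟩
  have hMC' : M ≤ Subgroup.normalizer ((M ⊓ C : Subgroup H) : Set H) :=
    (le_inf Subgroup.le_normalizer hMC).trans Subgroup.inf_normalizer_le_normalizer_inf
  have h0 : LocalEven.IsMaxP p T₀ (M ⊓ C) := by
    have h := hTM'.inf_normal (N := M ⊓ C) inf_le_left hMC'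
    rwa [← inf_assoc, inf_of_le_left hTM] at h
  have hfr : M ≤ Ls ⊔ C := by
    intro m hm
    have hsub : LocalEven.cj m T₀ ≤ M ⊓ C :=
      (LocalEven.cj_mono h0.1).trans (LocalEven.cj_eq_self_iff.mpr (hMC' hm)).le
    obtain ⟨k, hk, hkT⟩ := h0.conj_le (LocalEven.isPGroup_cj h0.2.1) hsub
    rw [LocalEven.cj_cj] at hkT
    have h1 : k * m ∈ Ls := Subgroup.mem_inf.mpr ⟨mul_mem (Subgroup.mem_inf.mp hk).1 hm,
      LocalEven.cj_eq_self_iff.mp (Subgroup.eq_of_le_of_card_ge hkT (LocalEven.card_cj _ _).ge)⟩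
    rw [show m = k⁻¹ * (k * m) by group]
    exact mul_mem (Subgroup.mem_sup_right (inv_mem (Subgroup.mem_inf.mp hk).2)) (Subgroup.mem_sup_left h1)
  have heq : Ls ⊔ C = L ⊔ C := by
    refine le_antisymm (sup_le ((inf_le_left.trans le_sup_left).trans hfac.le) le_sup_right) ?_
    rw [← hfac]
    exact sup_le hfr le_sup_right
  refine ⟨?_, heq.symm⟩
  have hTLs : (T : Subgroup H) ≤ Ls := le_inf hTM
    ((le_inf Subgroup.le_normalizer (hTM.trans hMC)).trans Subgroup.inf_normalizer_le_normalizer_inf)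
  have hYLs : Y ≤ Ls := ((LocalEven.reduced_le_op hYle hY).trans hTL'.pCore_le).trans hTLs
  have hYred : Cfsg.IsPReducedNormal p (Y.subgroupOf Ls) := LocalEven.reduced_of_factor hYle hYLs hY heq
  refine le_antisymm ?_ (LocalEven.le_largestOf hYLs hYred)
  have hW := LocalEven.largestOf_reduced (p := p) Ls
  refine (LocalEven.reduced_le_omegaZ (LocalEven.largestOf_le Ls) hW).trans ?_
  have hTLs' : LocalEven.IsMaxP p (T : Subgroup H) Ls := hTM'.of_le hTLs inf_le_left
  have hop : LocalEven.op p Ls = T₀ := le_antisymm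
    (le_inf hTLs'.pCore_le (LocalEven.op_le_centralizer_reduced hYLs hYred))
    (LocalEven.le_op (inf_le_left.trans hTLs) inf_le_right h0.2.1)
  rw [hop]
  obtain ⟨-, -, h3⟩ := LocalEven.structure_largest hL (T.subtype hTL)
    (Y := Cfsg.largestPReduced p ↥L) LocalEven.isPReducedNormal_largest fun V hV => LocalEven.le_largest hV
  have hcent : ∀ x : L, x ∈ Subgroup.centralizer (Cfsg.largestPReduced p ↥L : Set L) → (x : H) ∈ C := by
    intro x hx
    rw [hC, hYdef, Subgroup.mem_centralizer_iff]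
    rintro _ ⟨y, hy, rfl⟩
    exact congrArg Subtype.val (Subgroup.mem_centralizer_iff.mp hx y hy)
  intro x hx
  obtain ⟨hxT, hxC, hxp⟩ := LocalEven.mem_omegaZ.mp hx
  have hxT' := (Subgroup.mem_inf.mp hxT).1
  refine ⟨⟨x, hTL hxT'⟩, ?_, rfl⟩
  rw [SetLike.mem_coe, h3, LocalEven.mem_omegaZ]
  refine ⟨Subgroup.mem_inf.mpr ⟨hxT', ?_⟩, ?_, Subtype.ext hxp⟩
  · refine Subgroup.mem_centralizer_iff.mpr fun y hy => Subtype.ext ?_
    exact Subgroup.mem_centralizer_iff.mp (Subgroup.mem_inf.mp hxT).2 y ⟨y, hy, rfl⟩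
  · refine Subgroup.mem_centralizer_iff.mpr fun y hy => Subtype.ext ?_
    obtain ⟨hyT, hyC⟩ := Subgroup.mem_inf.mp hy
    exact Subgroup.mem_centralizer_iff.mp hxC y (Subgroup.mem_inf.mpr ⟨hyT, hcent y hyC⟩)


end Cfsg.Agent.S2824
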