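import Cfsg.Statements.S1514
import Cfsg.Agent.OddChar.Coherence
import Cfsg.Agent.OddChar.Signed

set_option autoImplicit false
open Cfsg

namespace Cfsg.Agent.S1514

/-- Let S be a nonempty set of irreducible characters of the finite group L, closed under complex conjugation and containing no real-valued member, and τ a linear isometry on the integer combinations of S vanishing at 1, with values virtual characters of G vanishing at 1. Then there is a choice R making (S, τ, R) a coherence system. -/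
theorem result {L : Type*} [Group L] [Fintype L] {G : Type*} [Group G] [Fintype G] (S : Set (L → ℂ)) (hS : S.Nonempty) (hirr : ∀ χ ∈ S, Cfsg.IsIrrCharacter L χ) (hconj : ∀ χ ∈ S, Cfsg.conjFun χ ∈ S ∧ Cfsg.conjFun χ ≠ χ) (τ : (L → ℂ) → (G → ℂ)) (hτ : Cfsg.IsLinearIsometryOn (Cfsg.zspanOn S {1}ᶜ) τ) (hτ1 : ∀ α ∈ Cfsg.zspanOn S {1}ᶜ, τ α 1 = 0) : ∃ R : (L → ℂ) → Finset (G → ℂ), Cfsg.IsCoherenceSystem S τ R := by
  classical
  set E := Cfsg.zspanOn S {1}ᶜ with hE
  have hD : ∀ χ ∈ S, χ - Cfsg.conjFun χ ∈ E := fun χ hχ => OddChar.mem_zspanOn_one.mpr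
    ⟨OddChar.zspan_sub_mem (OddChar.zspan_subset_apply hχ)
      (OddChar.zspan_subset_apply (hconj χ hχ).1),
     by simp [OddChar.conjFun_apply_one (Chars.isCharacter_of_isIrr (hirr χ hχ))]⟩
  have key : ∀ χ ∈ S, ∃ μ ν : G → ℂ, Cfsg.IsIrrCharacter G μ ∧ Cfsg.IsIrrCharacter G ν ∧ μ ≠ ν ∧
      τ (χ - Cfsg.conjFun χ) = μ - ν := by
    intro χ hχ
    refine OddChar.virt_norm_two (hτ.2.2.2 _ (hD χ hχ)) ?_ (hτ1 _ (hD χ hχ))
    have hc := hirr _ (hconj χ hχ).1
    rw [hτ.2.2.1 _ (hD χ hχ) _ (hD χ hχ), Chars.classInner_sub_left, Chars.classInner_sub_right,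
      Chars.classInner_sub_right, Chars.classInner_self_irr (hirr χ hχ),
      Chars.classInner_self_irr hc, Chars.classInner_irr_of_ne hc (hirr χ hχ) (hconj χ hχ).2,
      Chars.classInner_irr_of_ne (hirr χ hχ) hc (hconj χ hχ).2.symm]
    norm_num
  choose! μ ν hμ hν hne heq using key
  refine ⟨fun χ => {μ χ, -ν χ},
    { nonempty := hS
      isCharacter := fun χ hχ => Chars.isCharacter_of_isIrr (hirr χ hχ)
      conj_mem := fun χ hχ => (hconj χ hχ).1
      conj_ne := fun χ hχ => (hconj χ hχ).2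
      isometry := hτ
      map_one := hτ1
      orthogonal := fun χ hχ φ hφ h => Chars.classInner_irr_of_ne (hirr χ hχ) (hirr φ hφ) h
      orthonormal := ?_, virtual := ?_, sum_eq := ?_, disjoint := ?_ }⟩
  · intro χ hχ α hα β hβ
    have e1 : OddChar.IsSigned (μ χ) := Or.inl (hμ χ hχ)
    have e2 : OddChar.IsSigned (-ν χ) := Or.inr (by rw [neg_neg]; exact hν χ hχ)
    have e3 : Cfsg.classInner (μ χ) (-ν χ) = 0 := by
      rw [← Chars.classInner_conj_symm, Chars.classInner_neg_left,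
        Chars.classInner_irr_of_ne (hν χ hχ) (hμ χ hχ) (hne χ hχ).symm, neg_zero, map_zero]
    have hdist : μ χ ≠ -ν χ := fun h => by
      rw [← h, e1.norm] at e3; exact one_ne_zero e3
    simp only [Finset.mem_insert, Finset.mem_singleton] at hα hβ
    rcases hα with rfl | rfl <;> rcases hβ with rfl | rfl
    · rw [if_pos rfl, e1.norm]
    · rw [if_neg hdist, e3]
    · rw [if_neg hdist.symm, ← Chars.classInner_conj_symm, e3, map_zero]
    · rw [if_pos rfl, e2.norm]
  · intro χ hχ α hα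
    simp only [Finset.mem_insert, Finset.mem_singleton] at hα
    rcases hα with rfl | rfl
    · exact OddChar.virt_of_irr (hμ χ hχ)
    · exact OddChar.virt_neg (OddChar.virt_of_irr (hν χ hχ))
  · intro χ hχ
    have hdist : μ χ ≠ -ν χ := fun h => by
      have h1 := congrArg (fun f => Cfsg.classInner f (μ χ)) h
      simp only [Chars.classInner_neg_left, Chars.classInner_self_irr (hμ χ hχ),
        Chars.classInner_irr_of_ne (hν χ hχ) (hμ χ hχ) (hne χ hχ).symm, neg_zero] at h1
      exact one_ne_zero h1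
    rw [heq χ hχ, Finset.sum_pair hdist, sub_eq_add_neg]
  · intro χ hχ φ hφ h1 h2 α hα β hβ
    have h3 : Cfsg.classInner (Cfsg.conjFun φ) χ = 0 := by
      have h := OddChar.classInner_conjFun φ (Cfsg.conjFun χ)
      rw [h2, map_zero] at h
      rwa [show Cfsg.conjFun (Cfsg.conjFun χ) = χ from funext fun x => by simp [Cfsg.conjFun]] at h
    have h4 : Cfsg.classInner (Cfsg.conjFun φ) (Cfsg.conjFun χ) = 0 := by
      rw [OddChar.classInner_conjFun, h1, map_zero]
    have hmix : Cfsg.classInner (((1 : ℝ) : ℂ) • μ φ - ((1 : ℝ) : ℂ) • ν φ)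
        (((1 : ℝ) : ℂ) • μ χ - ((1 : ℝ) : ℂ) • ν χ) = 0 := by
      simp only [Complex.ofReal_one, one_smul]
      rw [← heq φ hφ, ← heq χ hχ, hτ.2.2.1 _ (hD φ hφ) _ (hD χ hχ), Chars.classInner_sub_left,
        Chars.classInner_sub_right, Chars.classInner_sub_right, h1, h2, h3, h4]
      simp
    have hdeg : ∀ χ, χ ∈ S → ((1 : ℝ) : ℂ) * μ χ 1 = ((1 : ℝ) : ℂ) * ν χ 1 := by
      intro χ hχ
      have h0 := hτ1 _ (hD χ hχ)
      rw [heq χ hχ, Pi.sub_apply, sub_eq_zero] at h0
      rw [h0]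
    obtain ⟨o1, o2, o3, o4⟩ := OddChar.signed_orth_four (Or.inl (hμ φ hφ)) (Or.inl (hν φ hφ))
      (Or.inl (hμ χ hχ)) (Or.inl (hν χ hχ)) one_ne_zero one_ne_zero one_ne_zero one_ne_zero
      (Chars.classInner_irr_of_ne (hμ φ hφ) (hν φ hφ) (hne φ hφ))
      (Chars.classInner_irr_of_ne (hμ χ hχ) (hν χ hχ) (hne χ hχ)) hmix (hdeg φ hφ) (hdeg χ hχ)
    have hr : ∀ f g : G → ℂ, Cfsg.classInner f (-g) = -Cfsg.classInner f g := fun f g => by
      rw [← Chars.classInner_conj_symm, Chars.classInner_neg_left, map_neg,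
        Chars.classInner_conj_symm]
    simp only [Finset.mem_insert, Finset.mem_singleton] at hα hβ
    rcases hα with rfl | rfl <;> rcases hβ with rfl | rfl <;>
      simp [hr, Chars.classInner_neg_left, o1, o2, o3, o4]

end Cfsg.Agent.S1514
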