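import Cfsg.Statements.S1528
import Cfsg.Agent.OddChar.NormalInd
import Cfsg.Agent.OddChar.Elem
import Mathlib.Tactic.Group

set_option autoImplicit false
open Cfsg

namespace Cfsg.Agent.S1528

/-- Let N be a normal subgroup of the finite group G such that every element of G commuting with a non-identity element of N lies in N. If χ is an irreducible character of G with χ n ≠ χ 1 for some n ∈ N, then χ is the function induced from some irreducible character of N. -/
theorem result {G : Type*} [Group G] [Fintype G] (N : Subgroup G) [N.Normal] (hC : ∀ n ∈ N, n ≠ 1 → Subgroup.centralizer ({n} : Set G) ≤ N) (χ : G → ℂ) (hχ : Cfsg.IsIrrCharacter G χ) (hker : ∃ n ∈ N, χ n ≠ χ 1) : ∃ φ : N → ℂ, Cfsg.IsIrrCharacter N φ ∧ χ = Cfsg.indFun N φ := by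
  classical
  have hres := Chars.isCharacter_restrict (Chars.isCharacter_of_isIrr hχ) N
  obtain ⟨θ, hθ⟩ : ∃ θ : Cfsg.IrrCharacter N,
      Cfsg.classInner (fun n : N => χ n) (θ : N → ℂ) ≠ 0 := by
    by_contra hno
    push Not at hno
    have h1 := Chars2.apply_eq_sum (Chars.isClassFunction_of_isCharacter hres) 1
    simp [hno, Chars.irr_apply_one_ne_zero hχ] at h1
  have hne : (θ : N → ℂ) ≠ fun _ => 1 := by
    intro h
    obtain ⟨n, hn, hne⟩ := hker
    have hinv : Chars2.inertiaSub (θ : N → ℂ) = ⊤ :=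
      Chars2.inertiaSub_eq_top fun g m => by rw [h]
    apply hne
    rw [show χ n = χ ((⟨n, hn⟩ : N) : G) from rfl, show χ 1 = χ ((1 : N) : G) from rfl,
      Chars2.clifford_invariant hχ θ.2 hinv hθ, Chars2.clifford_invariant hχ θ.2 hinv hθ, h]
  have hT : N = Chars2.inertiaSub (θ : N → ℂ) := by
    refine Chars2.inertiaSub_eq N fun g => ⟨fun hg h => congrFun
      (OddChar.cj_of_mem (Chars.isClassFunction_irr θ) hg) h, fun hg => ?_⟩
    by_contra hgN
    refine hne (OddChar.eq_one_of_fixed (x := g) (fun n hn => ?_) θ.2 (funext hg))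
    by_contra hn1
    obtain ⟨c, hc⟩ := isConj_iff.mp hn
    have hc' : (c : G) * (g * n * g⁻¹) * (c : G)⁻¹ = n := congrArg Subtype.val hc
    have hcomm : (c : G) * g * n = n * ((c : G) * g) := by
      calc (c : G) * g * n = (c : G) * (g * n * g⁻¹) * (c : G)⁻¹ * ((c : G) * g) := by group
        _ = n * ((c : G) * g) := by rw [hc']
    exact hgN ((N.mul_mem_cancel_left c.2).mp (hC n n.2 (fun h => hn1 (Subtype.ext h))
      (OddChar.mem_centralizer_singleton.mpr (by first | exact hcomm | exact hcomm.symm))))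
  refine ⟨θ, θ.2, ?_⟩
  have h2 : Cfsg.classInner (Chars2.resSub N N le_rfl (θ : N → ℂ)) (θ : N → ℂ) ≠ 0 := by
    show Cfsg.classInner (θ : N → ℂ) (θ : N → ℂ) ≠ 0
    rw [Chars.classInner_self_irr θ.2]
    exact one_ne_zero
  exact (Chars2.clifford_correspondence le_rfl θ.2 hT hχ θ.2 hθ h2).1.symm

end Cfsg.Agent.S1528
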