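import Cfsg.Statements.S1362
import Cfsg.Agent.OddLocal.Sigma.PartnerRows
import Cfsg.Agent.OddLocal.Sigma.Tilde
import Cfsg.Agent.OddLocal.Sigma.PLengthProper

set_option autoImplicit false
open Cfsg

namespace Cfsg.Agent.S1362

/-- Let G be a minimal simple group of odd order and M a maximal subgroup with standard factorisation M = K U M_σ, and let A(M) be the set of elements of U M_σ centralizing some non-identity element of M_σ. Then A(M) with M_σ removed is a TI-subset of G. -/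
theorem result {G : Type*} [Group G] [Finite G] (hG : Cfsg.IsMinSimpleOddOrder G)
    (M : Subgroup G) (hM : IsCoatom M) (K U : Subgroup G) (hKU : Cfsg.IsSigmaDecomposition M K U) :
    Cfsg.IsTISubset (Cfsg.sigmaA M U \ (Cfsg.sigmaCore M : Set G)) := by
  have hpl := fun (r : ℕ) [Fact r.Prime] (H : Subgroup G) hH => OddLocal.Sigma.pLengthLE_proper hG r H hH
  intro g hg a ha hga
  exfalso
  apply hg
  obtain ⟨⟨haH, haU⟩, haσ⟩ := ha
  have hN := OddLocal.Sigma.decomp_le_normalizer hKU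
  -- `M` normalizes the set
  have hinv : ∀ m ∈ M, ∀ v ∈ Cfsg.sigmaA M U \ (Cfsg.sigmaCore M : Set G),
      m * v * m⁻¹ ∈ Cfsg.sigmaA M U \ (Cfsg.sigmaCore M : Set G) := by
    intro m hm v hv
    obtain ⟨⟨⟨hvM, y, hy, hy1, hvy⟩, hvU⟩, hvσ⟩ := hv
    refine ⟨⟨⟨M.mul_mem (M.mul_mem hm hvM) (M.inv_mem hm), m * y * m⁻¹,
      (Subgroup.mem_normalizer_iff.mp (OddLocal.Sigma.le_normalizer_sigmaCore M hm) y).mp hy,
      fun e => hy1 (conj_eq_one_iff.mp e), ?_⟩,
      (Subgroup.mem_normalizer_iff.mp (hN hm) v).mp hvU⟩,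
      fun h => hvσ ((Subgroup.mem_normalizer_iff.mp (OddLocal.Sigma.le_normalizer_sigmaCore M hm) v).mpr h)⟩
    exact (show Commute v y from hvy).map (MulAut.conj m)
  suffices hgM : g ∈ M by
    refine Subgroup.mem_set_normalizer_iff.mpr fun v => ⟨fun hv => hinv g hgM v hv, fun hv => ?_⟩
    have := hinv g⁻¹ (M.inv_mem hgM) _ hv
    rwa [show g⁻¹ * (g * v * g⁻¹) * g⁻¹⁻¹ = v by group] at this
  obtain ⟨E, hE, -⟩ := OddLocal.Sigma.exists_compl_ge hG hM (bot_le : (⊥ : Subgroup G) ≤ M) (fun q hq hd => by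
    rw [Subgroup.card_bot] at hd; exact absurd hd hq.not_dvd_one)
  obtain ⟨q, hq, hqd, hqσ⟩ : ∃ q : ℕ, q.Prime ∧ q ∣ orderOf a ∧ q ∉ Cfsg.sigma M := by
    by_contra! hall
    exact haσ (OddLocal.Sigma.le_sigmaCore hG hM (Subgroup.zpowers_le.mpr haH.1)
      (fun q hq hd => hall q hq (by rwa [Nat.card_zpowers] at hd)) (Subgroup.mem_zpowers a))
  haveI := Fact.mk hq
  set n := orderOf a / q
  -- the order `q` parts
  have key : ∀ v ∈ Cfsg.sigmaA M U, orderOf (v ^ n) = q →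
      Subgroup.centralizer ({v ^ n} : Set G) ≤ M ∧
        ∀ L : Subgroup G, IsCoatom L → Subgroup.centralizer ({v ^ n} : Set G) ≤ L → L = M := by
    intro v hv hvo
    obtain ⟨⟨hvM, y, hy, hy1, hvy⟩, hvU⟩ := hv
    have hvy' : v ^ n * y = y * v ^ n := ((show Commute v y from hvy).pow_left n)
    have hκ : q ∉ Cfsg.kappa M := OddLocal.Sigma.decomp_primes hG hpl hM hKU q hq
      (hvo ▸ Subgroup.orderOf_dvd_natCard _ (pow_mem hvU n))
    refine OddLocal.Sigma.only_centralizer_of_tau2 hG hpl hM hE (pow_mem hvM n)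
      (fun e => hq.one_lt.ne (by rw [← hvo, e, orderOf_one])) (fun r hr hd => ?_)
      ⟨pow_mem hvM n, y, hy, hy1, hvy'⟩
    rw [hvo] at hd
    rw [(Nat.prime_dvd_prime_iff_eq hr hq).mp hd]
    exact (OddLocal.Sigma.fixed_elt_classes hG hpl hM (pow_mem hvM n) hy hy1 hvy' hq (hvo.symm ▸ dvd_rfl)
      hqσ).resolve_left hκ
  have hao : orderOf (a ^ n) = q := orderOf_pow_orderOf_div (orderOf_pos a).ne' hqd
  have hconj : (g * a * g⁻¹) ^ n = MulAut.conj g (a ^ n) := conj_pow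
  obtain ⟨h1, -⟩ := key a ⟨haH, haU⟩ hao
  obtain ⟨-, h2⟩ := key _ hga.1 (by rw [hconj, MulEquiv.orderOf_eq, hao])
  refine OddLocal.Sigma.mem_of_cj_eq hG hM (h2 _ (OddLocal.Sigma.isCoatom_cj hM g) ?_)
  rw [hconj]
  exact (OddLocal.Sigma.cj_centralizer_singleton g (a ^ n)).ge.trans (OddLocal.Sigma.cj_mono h1)

end Cfsg.Agent.S1362
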