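import Cfsg.Statements.S1436
import Cfsg.Agent.OddLocal.Sigma.SupportKappa
import Cfsg.Agent.OddLocal.Sigma.PLengthProper

set_option autoImplicit false
open Cfsg

namespace Cfsg.Agent.S1436

/-- Let G be a minimal simple group of odd order, M a maximal subgroup, x ≠ 1 in M_σ with C_G(x) ⊄ M, and N a maximal subgroup containing C_G(x). (a) If some prime of σ(N) divides the order of M, then κ(M) = ∅ and τ₂(M) = ∅. (b) If y ≠ 1 in M_σ has C_G(y) ⊄ M, N' is a maximal subgroup containing C_G(y), and gN'g⁻¹ = N for some g ∈ G, then mN'm⁻¹ = N for some m ∈ M. -/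
theorem result {G : Type*} [Group G] [Finite G] (hG : Cfsg.IsMinSimpleOddOrder G)
    (M : Subgroup G) (hM : IsCoatom M) (x : G) (hx : x ∈ Cfsg.sigmaCore M) (hx1 : x ≠ 1) (hxM : ¬ Subgroup.centralizer ({x} : Set G) ≤ M)
    (N : Subgroup G) (hN : IsCoatom N) (hxN : Subgroup.centralizer ({x} : Set G) ≤ N) :
    ((∃ p ∈ Cfsg.sigma N, p ∣ Nat.card M) → Cfsg.kappa M = ∅ ∧ Cfsg.tau2 M = ∅) ∧
      ∀ (y : G) (N' : Subgroup G) (g : G), y ∈ Cfsg.sigmaCore M → y ≠ 1 → ¬ Subgroup.centralizer ({y} : Set G) ≤ M → IsCoatom N' → Subgroup.centralizer ({y} : Set G) ≤ N' →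
        N'.map (MulAut.conj g).toMonoidHom = N → ∃ m ∈ M, N'.map (MulAut.conj m).toMonoidHom = N := by
  have hpl := fun (r : ℕ) [Fact r.Prime] (H : Subgroup G) hH => OddLocal.Sigma.pLengthLE_proper hG r H hH
  obtain ⟨N₀, h⟩ := OddLocal.Sigma.exists_support hG hpl hM hx hx1 hxM
  obtain rfl := h.only N hN hxN
  refine ⟨?_, ?_⟩
  · rintro ⟨p, hpN, hpM⟩
    haveI := Fact.mk (hpN.1 : p.Prime)
    by_cases hκN : (Cfsg.kappa N).Nonempty
    · exact ⟨(h.kappa_facts hG hpl hM hx1 hκN).1, (h.kappa_facts hG hpl hM hx1 hκN).2.1⟩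
    refine ⟨?_, h.tau2_eq_empty hG hpl hM hx1 (Set.not_nonempty_iff_eq_empty.mp hκN) hpN hpM⟩
    by_contra hne
    obtain ⟨⟨K, hK⟩, hc⟩ := OddLocal.Sigma.kappa_hall hG hpl hM
    obtain ⟨U, hd⟩ := OddLocal.Sigma.exists_decomp hG hpl hM (hc K hK) hK
    have hK1 : K ≠ ⊥ := fun e => by
      obtain ⟨q, hq⟩ := Set.nonempty_iff_ne_empty.mpr hne
      have h1 : q ∣ Nat.card K * K.relIndex M := by rw [Cfsg.Agent.Core.card_mul_relIndex hK.1]; exact hq.2.1
      rw [e, Subgroup.card_bot, one_mul, ← e] at h1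
      exact hK.2.2 q hq.1 hq h1
    by_cases hU : U = ⊥
    · obtain ⟨L, hL⟩ := OddLocal.Sigma.exists_partner hG hpl hM hK hK1
      have hpσ : p ∉ Cfsg.sigma M := fun hσ => OddLocal.Sigma.sigma_disjoint hG hpl hM hN h.nc hσ hpN
      obtain ⟨a, ha⟩ := exists_prime_orderOf_dvd_card' p hpM
      have hpK : p ∣ Nat.card K := by
        obtain ⟨hE, -, -⟩ := OddLocal.Sigma.decomp_facts hG hpl hM hd
        rw [hU, bot_sup_eq] at hE
        have h1 := Cfsg.Agent.Core.card_mul_relIndex hE.1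
        rw [← h1] at hpM
        exact ((Fact.out : p.Prime).dvd_mul.mp hpM).resolve_right fun hd' =>
          hpσ (OddLocal.Sigma.complIn_index_isPiNat hG hE p Fact.out hd')
      have hpL : p ∈ Cfsg.sigma L :=
        OddLocal.Sigma.mem_sigma_of_dvd Fact.out (hpK.trans (Subgroup.card_dvd_of_le hL.le_sigma))
      obtain ⟨g, rfl⟩ : ∃ g : G, N = OddLocal.Sigma.cj g L := by
        by_contra! hne'
        exact OddLocal.Sigma.sigma_disjoint hG hpl hL.coatom hN hne' hpL hpN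
      obtain ⟨t, ht⟩ := OddLocal.Sigma.IsPartner.kappa_ne hG hpl (K := Cfsg.sigmaCore M ⊓ Subgroup.centralizer (K : Set G))
        hL.hall (OddLocal.Sigma.IsPartner.kst_ne hG hpl hM hK hK1)
      exact hκN ⟨t, OddLocal.Sigma.kappa_cj hG hL.coatom ht g⟩
    · obtain ⟨L, hL⟩ := OddLocal.Sigma.exists_partner hG hpl hM hK hK1
      haveI := Fact.mk (OddLocal.Sigma.card_kappa_prime hG hpl hM hd hK1 hU)
      exact hxM ((⟨hM, hd, hL, rfl, hU⟩ : OddLocal.Sigma.P2Ctx M K U L (Nat.card K)).centralizer_le hG hpl hx hx1)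
  · intro y N' g hy hy1 hyM hN' hyN' hgN
    obtain ⟨N₁, h'⟩ := OddLocal.Sigma.exists_support hG hpl hM hy hy1 hyM
    obtain rfl := h'.only N' hN' hyN'
    obtain ⟨q, hq, hqd⟩ := Nat.exists_prime_and_dvd (show orderOf x ≠ 1 by rwa [ne_eq, orderOf_eq_one_iff])
    haveI := Fact.mk hq
    obtain ⟨hqτ, hqσ⟩ := h.tau2_primes q hq hqd
    obtain ⟨A, hAE, hAe, hA2⟩ := OddLocal.Sigma.exists_ea_le_compl hG h.compl hqτ
    change OddLocal.Sigma.cj g N' = N at hgN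
    have hE : Cfsg.IsComplIn (OddLocal.Sigma.cj g (M ⊓ N')) (Cfsg.sigmaCore N) N := by
      obtain ⟨h1, h2, h3, h4⟩ := h'.compl
      rw [← hgN, ← OddLocal.Sigma.cj_sigmaCore hG hN' g]
      refine ⟨OddLocal.Sigma.cj_mono h1, OddLocal.Sigma.cj_mono h2, ?_, ?_⟩
      · rw [← OddLocal.Sigma.cj_inf, h3]; exact Subgroup.map_bot _
      · rintro _ ⟨m, hm, rfl⟩
        obtain ⟨a, ha, b, hb, rfl⟩ := h4 m hm
        exact ⟨_, Subgroup.mem_map_of_mem _ ha, _, Subgroup.mem_map_of_mem _ hb, map_mul _ _ _⟩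
    obtain ⟨n, hn, hnA⟩ := OddLocal.Sigma.exists_cj_le_compl hG hN hE (hAE.trans h.compl.1)
      (OddLocal.Sigma.mem_of_pGroup (π := (Cfsg.sigma N)ᶜ) (Components.ea_isPGroup hAe) hqτ.2.1)
    have hAh : A ≤ OddLocal.Sigma.cj (n⁻¹ * g) M := by
      rw [OddLocal.Sigma.cj_mul]
      exact (OddLocal.Sigma.cj_le_iff.mp hnA).trans (OddLocal.Sigma.cj_mono (OddLocal.Sigma.cj_mono inf_le_left))
    obtain ⟨c, hc, e⟩ := OddLocal.Sigma.transitive hG hM hqσ _ A le_rfl (Components.ea_isPGroup hAe)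
      (fun e => OddLocal.Sigma.not_isCyclic_ea_sq hAe hA2 (by subst e; infer_instance)) 1 (n⁻¹ * g)
      (by rw [OddLocal.Sigma.cj_one]; exact hAE.trans inf_le_left) hAh
    have hcM : c ∈ M := OddLocal.Sigma.centralizer_ea_sq_le hG hpl hM (hAE.trans inf_le_left) hAe hA2 hc
    rw [OddLocal.Sigma.cj_one, OddLocal.Sigma.cj_eq_iff.mpr (Subgroup.le_normalizer hcM)] at e
    refine ⟨n⁻¹ * g, OddLocal.Sigma.mem_of_cj_eq hG hM e, ?_⟩
    show OddLocal.Sigma.cj (n⁻¹ * g) N' = N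
    rw [OddLocal.Sigma.cj_mul, hgN, OddLocal.Sigma.cj_eq_iff.mpr (Subgroup.le_normalizer (inv_mem hn))]

end Cfsg.Agent.S1436
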