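import Cfsg.Statements.S1432
import Cfsg.Agent.OddLocal.Sigma.KappaTau2
import Cfsg.Agent.OddLocal.Sigma.PLengthProper

set_option autoImplicit false
open Cfsg

namespace Cfsg.Agent.S1432

/-- Let G be a minimal simple group of odd order, M a maximal subgroup, x a non-identity element of M_σ and x' a non-identity element of C_M(x) no prime divisor of whose order lies in σ(M). Then either all prime divisors of the order of x' lie in κ(M) and C_G(x) ≤ M; or all of them lie in τ₂(M), they all lie in σ(L) for a single maximal subgroup L, and C_G(x') ≤ M with M the unique maximal subgroup containing C_G(x'). -/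
theorem result {G : Type*} [Group G] [Finite G] (hG : Cfsg.IsMinSimpleOddOrder G)
    (M : Subgroup G) (hM : IsCoatom M) (x : G) (hx : x ∈ Cfsg.sigmaCore M) (hx1 : x ≠ 1) (x' : G) (hx' : x' ∈ M ⊓ Subgroup.centralizer ({x} : Set G)) (hx'1 : x' ≠ 1)
    (hσ : ∀ p : ℕ, p.Prime → p ∣ orderOf x' → p ∉ Cfsg.sigma M) :
    ((∀ p : ℕ, p.Prime → p ∣ orderOf x' → p ∈ Cfsg.kappa M) ∧ Subgroup.centralizer ({x} : Set G) ≤ M) ∨
      ((∀ p : ℕ, p.Prime → p ∣ orderOf x' → p ∈ Cfsg.tau2 M) ∧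
        (∃ L : Subgroup G, IsCoatom L ∧ ∀ p : ℕ, p.Prime → p ∣ orderOf x' → p ∈ Cfsg.sigma L) ∧
        (Subgroup.centralizer ({x'} : Set G) ≤ M ∧ ∀ L : Subgroup G, IsCoatom L → Subgroup.centralizer ({x'} : Set G) ≤ L → L = M)) := by
  have hpl := fun (r : ℕ) [Fact r.Prime] (H : Subgroup G) hH => OddLocal.Sigma.pLengthLE_proper hG r H hH
  obtain ⟨hx'M, hx'C⟩ := hx'
  have hcomm : x' * x = x * x' := Subgroup.mem_centralizer_singleton_iff.mp hx'C
  have hcl : ∀ q : ℕ, q.Prime → q ∣ orderOf x' → q ∈ Cfsg.kappa M ∨ q ∈ Cfsg.tau2 M := fun q hq hd =>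
    OddLocal.Sigma.fixed_elt_classes hG hpl hM hx'M hx hx1 hcomm hq hd (hσ q hq hd)
  by_cases hall : ∃ p : ℕ, p.Prime ∧ p ∣ orderOf x' ∧ p ∈ Cfsg.kappa M
  · obtain ⟨p, hp, hd, hpκ⟩ := hall
    haveI := Fact.mk hp
    set z := x' ^ (orderOf x' / p)
    have hz : orderOf z = p := orderOf_pow_orderOf_div (orderOf_pos x').ne' hd
    have hP : Nat.card (Subgroup.zpowers z) = p := by rw [Nat.card_zpowers, hz]
    have hPM : Subgroup.zpowers z ≤ M := Subgroup.zpowers_le.mpr (pow_mem hx'M _)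
    have hpt := OddLocal.Sigma.kappa_subset_tau1 hG hpl hM hpκ
    have hxP : x ∈ Subgroup.centralizer (Subgroup.zpowers z : Set G) := by
      rw [← OddLocal.Sigma.centralizer_singleton_eq rfl, Subgroup.mem_centralizer_singleton_iff]
      exact ((show Commute x' x from hcomm).pow_left _).eq.symm
    refine Or.inl ⟨fun q hq hqd => (hcl q hq hqd).resolve_right fun hqτ => hx1 ?_, ?_⟩
    · haveI := Fact.mk hq
      have hw : orderOf (x' ^ (orderOf x' / q)) = q := orderOf_pow_orderOf_div (orderOf_pos x').ne' hqd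
      refine Subgroup.mem_bot.mp ((OddLocal.Sigma.tau12_regular hG hpl hM hpt hP hPM hqτ
        (Z := Subgroup.zpowers (x' ^ (orderOf x' / q))) (Subgroup.zpowers_le.mpr (pow_mem hx'M _))
        (by rw [Nat.card_zpowers, hw]) (Subgroup.zpowers_le.mpr ?_)).le (Subgroup.mem_inf.mpr ⟨hx, hxP⟩))
      rw [← OddLocal.Sigma.centralizer_singleton_eq rfl, Subgroup.mem_centralizer_singleton_iff]
      exact ((Commute.refl x').pow_pow _ _).eq
    · obtain ⟨t, ht, htd⟩ := Nat.exists_prime_and_dvd (show orderOf x ≠ 1 by rwa [ne_eq, orderOf_eq_one_iff])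
      haveI := Fact.mk ht
      have hy : orderOf (x ^ (orderOf x / t)) = t := orderOf_pow_orderOf_div (orderOf_pos x).ne' htd
      have hC := (OddLocal.Sigma.only_centralizer_tau1_fixed hG hpl hM hpt hP hPM
        (X := Subgroup.zpowers (x ^ (orderOf x / t))) (by rw [Nat.card_zpowers, hy])
        (Subgroup.zpowers_le.mpr (Subgroup.mem_inf.mpr ⟨pow_mem hx _, pow_mem hxP _⟩))).1
      refine fun c hc => hC ?_
      rw [← OddLocal.Sigma.centralizer_singleton_eq rfl, Subgroup.mem_centralizer_singleton_iff]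
      exact ((show Commute c x from Subgroup.mem_centralizer_singleton_iff.mp hc).pow_right _).eq
  push Not at hall
  have hτ : ∀ p : ℕ, p.Prime → p ∣ orderOf x' → p ∈ Cfsg.tau2 M := fun p hp hd =>
    (hcl p hp hd).resolve_left (hall p hp hd)
  obtain ⟨L, hL, hLσ⟩ := OddLocal.Sigma.exists_sigma_tau2 hG hpl hM
  obtain ⟨E, hE, -⟩ := OddLocal.Sigma.exists_compl_ge hG hM (bot_le : (⊥ : Subgroup G) ≤ M) (fun q hq hd => by
    rw [Subgroup.card_bot] at hd; exact absurd hd hq.not_dvd_one)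
  exact Or.inr ⟨hτ, ⟨L, hL, fun p hp hd => hLσ (hτ p hp hd)⟩,
    OddLocal.Sigma.only_centralizer_of_tau2 hG hpl hM hE hx'M hx'1 hτ ⟨hx'M, x, hx, hx1, hcomm⟩⟩

end Cfsg.Agent.S1432
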