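import Cfsg.Statements.S3224
import Cfsg.Agent.Screen.CyclicIndexTwo
import Cfsg.Agent.Screen.FourCentralizer
-- import your own Cfsg.Agent.* helpers here

set_option autoImplicit false
open Cfsg

namespace Cfsg.Agent.S3224

/-- A finite 2-group containing an involution whose centralizer has order 4 is dihedral, quasi-dihedral (semidihedral), or of order 4. -/
theorem result {S : Type*} [Group S] [Finite S] (hS : IsPGroup 2 S)
    (x : S) (hx : orderOf x = 2) (hC : Nat.card ↥(Subgroup.centralizer ({x} : Set S)) = 4) :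
    (∃ n : ℕ, Nonempty (S ≃* DihedralGroup n)) ∨ Cfsg.IsQuasiDihedral S ∨ Nat.card S = 4 := by
  classical
  haveI : Fact (Nat.Prime 2) := ⟨Nat.prime_two⟩
  by_cases h4 : Nat.card S = 4
  · exact Or.inr (Or.inr h4)
  have : Fintype S := Fintype.ofFinite S
  have hdvd : 4 ∣ Nat.card S := hC ▸ Subgroup.card_subgroup_dvd_card _
  have hgt : 4 < Nat.card S := by
    have := Nat.le_of_dvd Nat.card_pos hdvd
    omega
  have hclass := Screen.FourCentralizer.card_eq_image_mul (⊤ : Subgroup S) x le_top
  rw [Subgroup.card_top, hC] at hclass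
  set K := (Finset.univ.filter (· ∈ (⊤ : Subgroup S))).image fun k => k * x * k⁻¹
  have hK : K.card ≤ Nat.card (commutator S) := by
    rw [← Nat.card_eq_finsetCard]
    refine Nat.card_le_card_of_injective (fun v => (⟨v.1 * x⁻¹, ?_⟩ : commutator S))
      fun v w h => Subtype.ext (mul_right_cancel (congrArg Subtype.val h))
    obtain ⟨k, -, hk⟩ := Finset.mem_image.1 v.2
    rw [← hk]
    exact Subgroup.commutator_mem_commutator (Subgroup.mem_top k) (Subgroup.mem_top x)
  have hi : (commutator S).index ≤ 4 := by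
    have h1 := (commutator S).card_mul_index
    refine Nat.le_of_mul_le_mul_left ?_ (Nat.card_pos : 0 < Nat.card (commutator S))
    rw [h1, hclass]
    exact Nat.mul_le_mul_right _ hK
  obtain ⟨k, a, b, hcard, ha, hb, h⟩ := Screen.CyclicIndexTwo.cases_of_index_le_four hS hi hgt
  rcases h with ⟨hb2, hc⟩ | ⟨hb2, hc⟩ | ⟨hk, hb2, hc⟩
  · refine Or.inl ⟨2 ^ (k + 2), ?_⟩
    refine TwoGroups.IsTwoExt.dihedral (x := a) (y := b) ⟨ha, by rw [hcard, pow_succ'], by positivity, hb, by rw [← pow_two, hb2], ?_⟩
    rw [hc, zpow_neg_one]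
  · exfalso
    -- the only involution of a quaternion group is central
    have hidx : (Subgroup.zpowers a).index = 2 := by
      have := (Subgroup.zpowers a).card_mul_index
      rw [Nat.card_zpowers, ha, hcard, pow_succ 2 (k + 2)] at this
      exact Nat.eq_of_mul_eq_mul_left (by positivity) this
    have hxx : x * x = 1 := by rw [← pow_two, ← hx, pow_orderOf_eq_one]
    have hinv : ∀ i : ℤ, b * a ^ i * b⁻¹ = (a ^ i)⁻¹ := fun i => by rw [← conj_zpow, hc, inv_zpow]
    have hxa : x ∈ Subgroup.zpowers a := by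
      by_contra hcon
      obtain ⟨i, hi⟩ := Subgroup.mem_zpowers_iff.1
        ((Subgroup.mul_mem_iff_of_index_two hidx).2 (iff_of_false (by simpa using hb) hcon) :
          b⁻¹ * x ∈ Subgroup.zpowers a)
      have hxe : x = b * a ^ i := by rw [hi, mul_inv_cancel_left]
      have e : x * x = b ^ 2 := by
        rw [hxe, show b * a ^ i * (b * a ^ i) = (b * a ^ i * b⁻¹) * (b * b) * a ^ i by group, hinv,
          ← pow_two, hb2, ← zpow_natCast]
        group
      rw [hxx, hb2] at e
      have h1 : orderOf a ∣ 2 ^ (k + 1) := orderOf_dvd_of_pow_eq_one e.symm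
      rw [ha] at h1
      have := (Nat.pow_dvd_pow_iff_le_right (by norm_num)).1 h1
      omega
    obtain ⟨i, rfl⟩ := Subgroup.mem_zpowers_iff.1 hxa
    have htop : Subgroup.centralizer ({a ^ i} : Set S) = ⊤ := by
      refine eq_top_iff.2 fun g _ => Subgroup.mem_centralizer_singleton_iff.2 ?_
      have hb' : Commute b (a ^ i) := by
        have e := hinv i
        rw [inv_eq_of_mul_eq_one_right hxx] at e
        exact mul_inv_eq_iff_eq_mul.1 e
      by_cases hg : g ∈ Subgroup.zpowers a
      · obtain ⟨l, rfl⟩ := Subgroup.mem_zpowers_iff.1 hg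
        exact (Commute.zpow_zpow_self a l i).eq
      · obtain ⟨l, hl⟩ := Subgroup.mem_zpowers_iff.1
          ((Subgroup.mul_mem_iff_of_index_two hidx).2 (iff_of_false (by simpa using hb) hg) :
            b⁻¹ * g ∈ Subgroup.zpowers a)
        rw [show g = b * a ^ l by rw [hl, mul_inv_cancel_left]]
        exact (hb'.mul_left (Commute.zpow_zpow_self a l i)).eq
    rw [htop, Subgroup.card_top] at hC
    exact h4 hC
  · refine Or.inr (Or.inl ⟨k + 2, by omega, hcard, a, b, ha, ?_, hc⟩)
    exact orderOf_eq_prime hb2 fun e => hb (e ▸ one_mem _)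

end Cfsg.Agent.S3224
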