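import Cfsg.Statements.S3304
import Cfsg.Agent.Core.SylowIntersection
import Cfsg.Agent.Core.BinaryOctahedral
import Cfsg.Agent.Components.Rank
import Cfsg.Agent.Components.BaerSuzuki
import Cfsg.Agent.OddLocal.UniqueSubgroup
import Cfsg.Agent.Fusion.DihedralAut
import Cfsg.Agent.Coprime.Conjugacy

set_option autoImplicit false
set_option linter.style.haveILetI false
open Cfsg

namespace Cfsg.Agent.S3304

theorem uniqueOrderP_of_pRankLE {H : Type*} [Group H] [Finite H] (hH : IsPGroup 2 H)
    (h : Cfsg.PRankLE 2 1 H) : OddLocal.UniqueOrderP 2 H := by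
  haveI := Fact.mk Nat.prime_two
  intro a b ha hb ha1
  haveI : Nontrivial H := ⟨⟨a, 1, ha1⟩⟩
  haveI := hH.center_nontrivial
  obtain ⟨k, hk⟩ := IsPGroup.iff_card.mp (hH.to_subgroup (Subgroup.center H))
  have hk0 : k ≠ 0 := fun e => Finite.one_lt_card.ne' (by rw [hk, e, pow_zero])
  obtain ⟨z, hz⟩ := exists_prime_orderOf_dvd_card' (G := Subgroup.center H) 2 (hk ▸ dvd_pow_self 2 hk0)
  rw [← Subgroup.orderOf_coe] at hz
  have hzz : (z : H) ^ 2 = 1 := hz ▸ pow_orderOf_eq_one _
  have hzc : ∀ c : H, Commute (z : H) c := fun c => (Subgroup.mem_center_iff.mp z.2 c).symm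
  have key : ∀ c : H, c ^ 2 = 1 → c ∈ Subgroup.zpowers (z : H) := by
    intro c hc
    have hcn : Subgroup.zpowers c ≤ Subgroup.normalizer (Subgroup.zpowers (z : H) : Set H) := by
      refine Subgroup.zpowers_le.mpr (Coprime.mem_normalizer_of_conj_mem fun a ha => ?_)
      obtain ⟨j, rfl⟩ := Subgroup.mem_zpowers_iff.mp ha
      rw [← ((hzc c).zpow_left j).eq, mul_inv_cancel_right]
      exact Subgroup.zpow_mem _ (Subgroup.mem_zpowers _) _
    by_contra hnot
    have hdis : Subgroup.zpowers (z : H) ⊓ Subgroup.zpowers c = ⊥ := by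
      rw [Subgroup.eq_bot_iff_forall]
      rintro v ⟨hv1, hv2⟩
      obtain ⟨j, rfl⟩ := Subgroup.mem_zpowers_iff.mp hv2
      rcases Int.even_or_odd' j with ⟨m, rfl | rfl⟩
      · rw [zpow_mul, zpow_two, ← pow_two, hc, one_zpow]
      · rw [zpow_add, zpow_mul, zpow_two, ← pow_two, hc, one_zpow, one_mul, zpow_one] at hv1
        exact absurd hv1 hnot
    have hcard := Coprime.card_sup hcn hdis
    rw [Nat.card_zpowers, Nat.card_zpowers, hz, orderOf_eq_prime hc (fun e => hnot (e ▸ one_mem _))] at hcard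
    have hle := h (Subgroup.zpowers (z : H) ⊔ Subgroup.zpowers c) ?_ ?_
    · rw [hcard] at hle
      norm_num at hle
    · refine ⟨⟨fun x y => Subtype.ext ?_⟩⟩
      have hz' : Subgroup.zpowers (z : H) ⊔ Subgroup.zpowers c ≤ Subgroup.centralizer ({c} : Set H) :=
        sup_le (Subgroup.zpowers_le.mpr (Subgroup.mem_centralizer_singleton_iff.mpr (hzc c).eq))
          (Subgroup.zpowers_le.mpr (Subgroup.mem_centralizer_singleton_iff.mpr rfl))
      have hy' : (y : H) ∈ Subgroup.centralizer ({(x : H)} : Set H) := by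
        refine (sup_le (Subgroup.zpowers_le.mpr ?_) (Subgroup.zpowers_le.mpr ?_) :
          Subgroup.zpowers (z : H) ⊔ Subgroup.zpowers c ≤ _) y.2
        · exact Subgroup.mem_centralizer_singleton_iff.mpr (hzc x).eq
        · exact Subgroup.mem_centralizer_singleton_iff.mpr
            (Subgroup.mem_centralizer_singleton_iff.mp (hz' x.2)).symm
      exact (Subgroup.mem_centralizer_singleton_iff.mp hy').symm
    · intro v hv
      have hv' : v ∈ (Subgroup.zpowers (z : H) ⊔ Subgroup.zpowers c : Subgroup H) := hv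
      rw [← SetLike.mem_coe, Subgroup.coe_mul_of_right_le_normalizer_left _ _ hcn] at hv'
      obtain ⟨s, hs, r, hr, rfl⟩ := hv'
      obtain ⟨i, rfl⟩ := Subgroup.mem_zpowers_iff.mp hs
      obtain ⟨j, rfl⟩ := Subgroup.mem_zpowers_iff.mp hr
      rw [(((hzc c).zpow_left i).zpow_right j).mul_pow, ← zpow_natCast, ← zpow_mul, mul_comm i, zpow_mul,
        zpow_natCast, hzz, one_zpow, one_mul, ← zpow_natCast, ← zpow_mul, mul_comm j, zpow_mul, zpow_natCast, hc,
        one_zpow]
  have hza : Subgroup.zpowers a = Subgroup.zpowers (z : H) := Subgroup.eq_of_le_of_card_ge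
    (Subgroup.zpowers_le.mpr (key a ha)) (by rw [Nat.card_zpowers, Nat.card_zpowers, hz, orderOf_eq_prime ha ha1])
  rw [hza]
  exact key b hb

/-- An involution outside `O₂` inverts an element of odd prime order. -/
theorem exists_inverted {Q : Type*} [Group Q] [Finite Q] {t : Q} (ht : orderOf t = 2) (htP : t ∉ Cfsg.pCore 2 Q) :
    ∃ u : Q, (∀ k, orderOf u ≠ 2 ^ k) ∧ t * u * t⁻¹ = u⁻¹ := by
  haveI := Fact.mk Nat.prime_two
  by_contra hall
  push Not at hall
  refine htP ?_
  suffices hpair : ∀ g : Q, IsPGroup 2 ↥(Subgroup.zpowers t ⊔ (Subgroup.zpowers t).map (MulAut.conj g).toMonoidHom) by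
    obtain ⟨N, hn, hp, hle⟩ := Components.baer_suzuki (Subgroup.zpowers t) hpair
    exact Core.le_pCore hn hp (hle (Subgroup.mem_zpowers t))
  intro g
  have htt : t * t = 1 := by rw [← pow_two, ← ht, pow_orderOf_eq_one]
  have hti : t⁻¹ = t := inv_eq_of_mul_eq_one_right htt
  set s := g * t * g⁻¹
  have hss : s * s = 1 := by
    rw [show s * s = g * (t * t) * g⁻¹ by simp only [s]; group, htt, mul_one, mul_inv_cancel]
  have hinv : t * (t * s) * t⁻¹ = (t * s)⁻¹ := by
    rw [mul_inv_rev, inv_eq_of_mul_eq_one_right hss, ← mul_assoc, htt, one_mul, hti]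
  obtain ⟨k, hk⟩ : ∃ k, orderOf (t * s) = 2 ^ k := by
    by_contra hno
    push Not at hno
    exact hall _ hno hinv
  rw [MonoidHom.map_zpowers, MulEquiv.coe_toMonoidHom, MulAut.conj_apply]
  have hle : Subgroup.zpowers t ⊔ Subgroup.zpowers s ≤ Subgroup.zpowers (t * s) ⊔ Subgroup.zpowers t :=
    sup_le le_sup_right (Subgroup.zpowers_le.mpr (by
      have h1 : t * (t * s) ∈ Subgroup.zpowers (t * s) ⊔ Subgroup.zpowers t :=
        mul_mem (Subgroup.mem_sup_right (Subgroup.mem_zpowers t)) (Subgroup.mem_sup_left (Subgroup.mem_zpowers _))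
      rwa [← mul_assoc t t s, htt, one_mul] at h1))
  refine IsPGroup.to_le ?_ hle
  refine IsPGroup.to_sup_of_normal_left' (IsPGroup.of_card (n := k) (by rw [Nat.card_zpowers, hk]))
    (IsPGroup.of_card (n := 1) (by rw [Nat.card_zpowers, ht, pow_one])) ?_
  refine Subgroup.zpowers_le.mpr (Coprime.mem_normalizer_of_conj_mem fun a ha => ?_)
  obtain ⟨j, rfl⟩ := Subgroup.mem_zpowers_iff.mp ha
  rw [← conj_zpow, hinv]
  exact Subgroup.zpow_mem _ (Subgroup.inv_mem _ (Subgroup.mem_zpowers _)) _

/-- The structure theorem for the core-free quotient. -/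
theorem core_free {Q : Type*} [Group Q] [Finite Q] [Group.IsSolvable Q] (h0 : Cfsg.pPrimeCore 2 Q = ⊥)
    (hI : ∀ S T : Sylow 2 Q, S ≠ T → Cfsg.PRankLE 2 1 ↥((S : Subgroup Q) ⊓ (T : Subgroup Q)))
    (hno : ¬ ∃ P : Sylow 2 Q, (P : Subgroup Q).Normal) :
    Nonempty (Q ≃* GL (Fin 2) (ZMod 3)) ∨
    (Nat.card Q = 48 ∧ Nat.card ↥(Subgroup.center Q) = 2 ∧
      Nonempty (Q ⧸ Subgroup.center Q ≃* Equiv.Perm (Fin 4)) ∧
      ∀ P : Sylow 2 Q, Nonempty (↥(P : Subgroup Q) ≃* QuaternionGroup 4)) := by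
  classical
  haveI := Fact.mk Nat.prime_two
  haveI := Fact.mk Nat.prime_three
  obtain ⟨S, T, hne⟩ := Core.exists_sylow_ne hno
  set P := Cfsg.pCore 2 Q with hPdef
  have hP2 : IsPGroup 2 P := Core.isPGroup_pCore 2 Q
  have hnotp : ¬ IsPGroup 2 (MulAut P) := fun hA => by
    have h2 := Core.isPGroup_of_mulAut_pCore h0 hA
    exact hne (Sylow.ext ((S.3 (h2.to_subgroup ⊤) le_top).symm.trans (T.3 (h2.to_subgroup ⊤) le_top)))
  have hu : OddLocal.UniqueOrderP 2 P := uniqueOrderP_of_pRankLE hP2 (Components.pRankLE_of_le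
    (le_inf (Core.pCore_le_sylow S) (Core.pCore_le_sylow T)) (hI S T hne))
  obtain ⟨e⟩ : Nonempty (QuaternionGroup 2 ≃* P) := by
    rcases OddLocal.isCyclic_or_quaternion hP2 hu with hc | ⟨-, n, ⟨e⟩⟩
    · exfalso
      obtain ⟨k, hk⟩ := IsPGroup.iff_card.mp hP2
      refine hnotp (IsPGroup.of_card (n := k - 1) ?_)
      haveI := hc
      rw [IsCyclic.card_mulAut, hk]
      rcases k with _ | k
      · simp
      · rw [Nat.totient_prime_pow_succ Nat.prime_two]; simp
    · match n, e with
      | 0, e =>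
        exfalso
        haveI : IsCyclic (QuaternionGroup (2 ^ 0)) := isCyclic_of_orderOf_eq_card (QuaternionGroup.xa 0) (by
          rw [QuaternionGroup.orderOf_xa, Nat.card_eq_fintype_card, QuaternionGroup.card, pow_zero, mul_one])
        haveI : IsCyclic P := isCyclic_of_surjective e.symm.toMonoidHom e.symm.surjective
        refine hnotp (IsPGroup.of_card (n := 1) ?_)
        rw [IsCyclic.card_mulAut, Nat.card_congr e.toEquiv, Nat.card_eq_fintype_card, QuaternionGroup.card]
        decide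
      | 1, e => exact ⟨e.symm⟩
      | n + 2, e =>
        exact absurd ((Fusion.isPGroup_mulAut_quaternion (n + 2) (by omega)).of_equiv (MulAut.congr e.symm)) hnotp
  have hC : Subgroup.centralizer (P : Set Q) ≤ P :=
    Core.centralizer_pCore_le Core.isPSolvable_of_isSolvable h0
  obtain ⟨hCZ, hZ⟩ := Core.BinaryOctahedral.centralizer_eq_center P e hC
  set φ := Core.BinaryOctahedral.act P e
  have hker : φ.ker = Subgroup.center Q := by
    ext g
    rw [MonoidHom.mem_ker, Core.BinaryOctahedral.act_eq_one_iff, hCZ]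
  have hP8 : Nat.card P = 8 := by
    rw [← Nat.card_congr e.toEquiv, Nat.card_eq_fintype_card, QuaternionGroup.card]
  have hr : Nat.card φ.range * 2 = Nat.card Q := by
    rw [← Subgroup.index_ker, hker, ← hZ, mul_comm, Subgroup.card_mul_index]
  have hdvd : Nat.card φ.range ∣ 24 :=
    PermGroups.RegLin.card_mulAut_quat ▸ Subgroup.card_subgroup_dvd_card _
  have h4 : 4 ∣ Nat.card φ.range := by
    have := Subgroup.card_subgroup_dvd_card P
    rw [hP8, ← hr] at this
    omega
  have h2S : ∀ R : Sylow 2 Q, Nat.card (R : Subgroup Q) = 2 ^ (Nat.card Q).factorization 2 :=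
    fun R => R.card_eq_multiplicity
  have hrange : Nat.card φ.range = 24 := by
    have hle := Nat.le_of_dvd (by norm_num) hdvd
    by_contra hne24
    have hbad : ∀ {k : ℕ}, Nat.card Q = 2 ^ k → False := fun {k} hk => hnotp <| False.elim <| by
      have h2 : IsPGroup 2 Q := IsPGroup.of_card hk
      exact hne (Sylow.ext ((S.3 (h2.to_subgroup ⊤) le_top).symm.trans (T.3 (h2.to_subgroup ⊤) le_top)))
    obtain h | h | h : Nat.card φ.range = 4 ∨ Nat.card φ.range = 8 ∨ Nat.card φ.range = 12 := by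
      have h := Nat.mem_divisors.mpr ⟨hdvd, by norm_num⟩
      simp only [show Nat.divisors 24 = {1, 2, 3, 4, 6, 8, 12, 24} by decide +kernel, Finset.mem_insert, Finset.mem_singleton] at h
      omega
    · exact hbad (k := 3) (by omega)
    · exact hbad (k := 4) (by omega)
    · refine hno ⟨S, ?_⟩
      have hS8 : Nat.card (S : Subgroup Q) ≤ 8 := by
        obtain ⟨k, hk⟩ := IsPGroup.iff_card.mp S.isPGroup'
        have := Subgroup.card_subgroup_dvd_card (S : Subgroup Q)
        rw [hk, ← hr, h, show 12 * 2 = 2 ^ 3 * 3 from rfl] at this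
        rw [hk]
        exact Nat.le_of_dvd (by norm_num) ((Nat.Coprime.pow_left k (by norm_num)).dvd_of_dvd_mul_right this)
      rw [← Subgroup.eq_of_le_of_card_ge (Core.pCore_le_sylow S) (hS8.trans hP8.ge)]
      exact inferInstance
  have hQ : Nat.card Q = 48 := by omega
  have hsurj : Function.Surjective φ := MonoidHom.range_eq_top.mp (Subgroup.eq_top_of_le_card _
    (by rw [PermGroups.RegLin.card_mulAut_quat, hrange]))
  by_cases hex : ∃ t : Q, orderOf t = 2 ∧ t ∉ P
  · left
    obtain ⟨t, ht, htP⟩ := hex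
    obtain ⟨u, hu2, hinv⟩ := exists_inverted ht htP
    obtain ⟨d, hd⟩ : 3 ∣ orderOf u := by
      by_contra h3
      have h48 : orderOf u ∣ 2 ^ 4 * 3 := by
        have := orderOf_dvd_natCard u
        rwa [hQ] at this
      obtain ⟨k, -, hk⟩ := (Nat.dvd_prime_pow Nat.prime_two).mp
        ((Nat.prime_three.coprime_iff_not_dvd.mpr h3).symm.dvd_of_dvd_mul_right h48)
      exact hu2 k hk
    refine Core.BinaryOctahedral.iso_gl P e hQ hC ht htP (y := u ^ d) ?_ ?_
    · have hd0 : d ≠ 0 := fun e => (orderOf_pos u).ne' (by rw [hd, e, mul_zero])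
      rw [orderOf_pow_of_dvd hd0 (hd ▸ dvd_mul_left d 3), hd, Nat.mul_div_cancel _ (Nat.pos_of_ne_zero hd0)]
    · rw [← conj_pow, hinv, inv_pow]
  · right
    push Not at hex
    refine ⟨hQ, hZ, ?_, fun R => ?_⟩
    · obtain ⟨e4⟩ := Cfsg.Agent.S3742.result
      exact ⟨((QuotientGroup.quotientMulEquivOfEq hker.symm).trans
        (QuotientGroup.quotientKerEquivOfSurjective φ hsurj)).trans e4⟩
    have huR : OddLocal.UniqueOrderP 2 (R : Subgroup Q) := by
      intro a b ha hb ha1
      by_cases hb1 : b = 1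
      · subst hb1; exact one_mem _
      have hord : ∀ c : (R : Subgroup Q), c ^ 2 = 1 → c ≠ 1 → (c : Q) = e (QuaternionGroup.a 2) := fun c hc hc1 =>
        Core.BinaryOctahedral.eq_of_involution P e
          (hex c (by rw [Subgroup.orderOf_coe]; exact orderOf_eq_prime hc hc1))
          (by rw [← pow_two]; exact congrArg Subtype.val hc) (fun h => hc1 (Subtype.ext h))
      rw [show b = a from Subtype.ext ((hord b hb hb1).trans (hord a ha ha1).symm)]
      exact Subgroup.mem_zpowers a
    have hR16 : Nat.card (R : Subgroup Q) = 16 := by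
      obtain ⟨k, hk⟩ := IsPGroup.iff_card.mp R.isPGroup'
      have h1 := Subgroup.card_subgroup_dvd_card (R : Subgroup Q)
      have h2 := R.not_dvd_index
      have h3 := (R : Subgroup Q).card_mul_index
      rw [hQ] at h1 h3
      rw [hk] at h1 h3 ⊢
      have hk4 : k ≤ 4 := by
        by_contra hc
        exact absurd ((pow_dvd_pow 2 (show 5 ≤ k by omega)).trans h1) (by norm_num)
      interval_cases k <;> omega
    rcases OddLocal.isCyclic_or_quaternion R.isPGroup' huR with hc | ⟨-, n, ⟨e'⟩⟩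
    · exfalso
      haveI := hc
      have hPc : IsCyclic P := isCyclic_of_injective _ (Subgroup.inclusion_injective (Core.pCore_le_sylow R))
      haveI : IsCyclic (QuaternionGroup 2) := isCyclic_of_surjective e.symm.toMonoidHom e.symm.surjective
      have hab : QuaternionGroup.a 1 * QuaternionGroup.xa 0 ≠ (QuaternionGroup.xa 0 * QuaternionGroup.a 1 : QuaternionGroup 2) := by
        decide +kernel
      exact hab ((IsCyclic.commGroup (α := QuaternionGroup 2)).mul_comm _ _)
    · haveI : NeZero (2 ^ n) := ⟨pow_ne_zero _ two_ne_zero⟩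
      have h8 := Nat.card_congr e'.toEquiv
      rw [hR16, Nat.card_eq_fintype_card, QuaternionGroup.card] at h8
      obtain rfl : n = 2 := Nat.pow_right_injective le_rfl (show 2 ^ n = 2 ^ 2 by omega)
      exact ⟨e'⟩

/-- Let G be a finite solvable group in which the intersection of any two distinct Sylow 2-subgroups has 2-rank at most 1 (contains no Klein four-group). Write Q = G/O(G), O(G) the largest normal subgroup of odd order. Then Q has a normal Sylow 2-subgroup; or Q is isomorphic to GL(2,3); or Q has order 48, centre of order 2 with central quotient isomorphic to the symmetric group of degree 4, and generalized quaternion Sylow 2-subgroups of order 16 (the binary octahedral group). The last two are the two representation groups of the symmetric group of degree 4. -/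
theorem result {G : Type*} [Group G] [Finite G] (hs : Group.IsSolvable G)
    (hI : ∀ S T : Sylow 2 G, S ≠ T → Cfsg.PRankLE 2 1 ↥((S : Subgroup G) ⊓ (T : Subgroup G))) :
    (∃ P : Sylow 2 (G ⧸ Cfsg.oddCore G), (P : Subgroup (G ⧸ Cfsg.oddCore G)).Normal) ∨
    Nonempty ((G ⧸ Cfsg.oddCore G) ≃* GL (Fin 2) (ZMod 3)) ∨
    (Nat.card (G ⧸ Cfsg.oddCore G) = 48 ∧ Nat.card ↥(Subgroup.center (G ⧸ Cfsg.oddCore G)) = 2 ∧
      Nonempty ((G ⧸ Cfsg.oddCore G) ⧸ Subgroup.center (G ⧸ Cfsg.oddCore G) ≃* Equiv.Perm (Fin 4)) ∧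
      ∀ P : Sylow 2 (G ⧸ Cfsg.oddCore G), Nonempty (↥(P : Subgroup (G ⧸ Cfsg.oddCore G)) ≃* QuaternionGroup 4)) := by
  haveI := Fact.mk Nat.prime_two
  haveI := hs
  by_cases hno : ∃ P : Sylow 2 (G ⧸ Cfsg.oddCore G), (P : Subgroup (G ⧸ Cfsg.oddCore G)).Normal
  · exact Or.inl hno
  refine Or.inr (core_free (Core.pPrimeCore_quotient_pPrimeCore 2 G) (fun S' T' hne => ?_) hno)
  obtain ⟨S, T, hST, D, hD, ⟨e⟩⟩ := Core.exists_sylow_inter_lift (Cfsg.oddCore G)
    (Core.not_dvd_card_pPrimeCore 2 G) S' T' hne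
  exact Components.pRankLE_of_injective (f := (Subgroup.inclusion hD).comp e.symm.toMonoidHom)
    ((Subgroup.inclusion_injective hD).comp e.symm.injective) (hI S T hST)

end Cfsg.Agent.S3304
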