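import Cfsg.Statements.S1003
import Cfsg.Agent.SmallOrder.S168

set_option autoImplicit false
open Cfsg

namespace Cfsg.Agent.S1003

/-- A simple group of order 168 has exactly 21 Sylow 2-subgroups, 28 Sylow 3-subgroups and 8 Sylow 7-subgroups. -/
theorem result {G : Type*} [Group G] [Finite G] [IsSimpleGroup G] (h : Nat.card G = 168) : Nat.card (Sylow 2 G) = 21 ∧ Nat.card (Sylow 3 G) = 28 ∧ Nat.card (Sylow 7 G) = 8 := by
  haveI : Fact (Nat.Prime 2) := ⟨Nat.prime_two⟩
  haveI : Fact (Nat.Prime 3) := ⟨Nat.prime_three⟩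
  haveI : Fact (Nat.Prime 7) := ⟨by norm_num⟩
  have hG : ¬ IsMulCommutative G := SmallOrder.not_comm_of_not_prime (by rw [h]; norm_num)
  obtain ⟨e⟩ := SmallOrder.S168.exists_equiv h
  refine ⟨?_, ?_, ?_⟩
  · obtain ⟨T⟩ := (inferInstance : Nonempty (Sylow 2 G))
    obtain ⟨e', he⟩ := SmallOrder.S168.exists_sylow_equiv h T
    have hmul := SmallOrder.card_normalizer_mul_card_sylow T
    have hN : Nat.card (Subgroup.normalizer ((T : Subgroup G) : Set G)) = 8 := by
      rw [← SmallOrder.S168.card_T0, ← SmallOrder.S168.normalizer_T0, ← he,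
        ← Subgroup.map_equiv_normalizer_eq]
      exact Nat.card_congr ((Subgroup.normalizer ((T : Subgroup G) : Set G)).equivMapOfInjective
        e'.toMonoidHom e'.injective).toEquiv
    rw [hN, h] at hmul
    omega
  · obtain ⟨P⟩ := (inferInstance : Nonempty (Sylow 3 G))
    obtain ⟨hP, -, hd, hm⟩ := SmallOrder.sylow_arith P (a := 1) (m := 56) (by rw [h]; norm_num) (by norm_num)
    obtain ⟨u, hu⟩ := exists_prime_orderOf_dvd_card' (G := (P : Subgroup G)) 3 (by rw [hP]; norm_num)
    rw [← Subgroup.orderOf_coe] at hu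
    have hcount : Nat.card {g : G // orderOf g = 3} = 2 * Nat.card (Sylow 3 G) :=
      SmallOrder.S168.card_prime_elements (p := 3) (m := 56) (by rw [h]; norm_num) (by norm_num)
    rw [SmallOrder.S168.card_orderOf e, SmallOrder.S168.card_three] at hcount
    omega
  · have hcount : Nat.card {g : G // orderOf g = 7} = 6 * Nat.card (Sylow 7 G) :=
      SmallOrder.S168.card_prime_elements (p := 7) (m := 24) (by rw [h]; norm_num) (by norm_num)
    rw [SmallOrder.S168.card_orderOf e, SmallOrder.S168.card_seven] at hcount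
    omega

end Cfsg.Agent.S1003
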