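import Cfsg.Statements.S1007
import Cfsg.Agent.SmallOrder.S168

set_option autoImplicit false
open Cfsg

namespace Cfsg.Agent.S1007

/-- Let G be a simple group of order 168 and T a Sylow 2-subgroup. Then T contains exactly two subgroups that are Klein four-groups; they are not conjugate in G; and the normalizer of every Klein four-subgroup of G is isomorphic to the symmetric group of degree 4. -/
theorem result {G : Type*} [Group G] [Finite G] [IsSimpleGroup G] (h : Nat.card G = 168) (T : Sylow 2 G) : Nat.card {U : Subgroup G // U ≤ (T : Subgroup G) ∧ IsKleinFour ↥U} = 2 ∧ (∀ U W : Subgroup G, U ≤ (T : Subgroup G) → W ≤ (T : Subgroup G) → IsKleinFour ↥U → IsKleinFour ↥W → U ≠ W → ∀ g : G, U.map (MulAut.conj g).toMonoidHom ≠ W) ∧ ∀ U : Subgroup G, IsKleinFour ↥U → Nonempty (↥(Subgroup.normalizer (U : Set G)) ≃* Equiv.Perm (Fin 4)) := by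
  haveI : Fact (Nat.Prime 2) := ⟨Nat.prime_two⟩
  obtain ⟨e, he⟩ := SmallOrder.S168.exists_sylow_equiv h T
  let U1 : Subgroup G := SmallOrder.S168.V1.comap e.toMonoidHom
  let U2 : Subgroup G := SmallOrder.S168.V2.comap e.toMonoidHom
  have hmapc : ∀ V : Subgroup SmallOrder.S168.M, (V.comap e.toMonoidHom).map e.toMonoidHom = V :=
    fun V => Subgroup.map_comap_eq_self_of_surjective e.surjective V
  have hcm : ∀ U : Subgroup G, (U.map e.toMonoidHom).comap e.toMonoidHom = U :=
    fun U => Subgroup.comap_map_eq_self_of_injective e.injective U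
  have hle : ∀ U : Subgroup G, U ≤ (T : Subgroup G) ↔ U.map e.toMonoidHom ≤ SmallOrder.S168.T0 := by
    intro U; rw [← he]; exact (Subgroup.map_le_map_iff_of_injective e.injective).symm
  have hKmap : ∀ U : Subgroup G, IsKleinFour U → IsKleinFour (U.map e.toMonoidHom) := by
    intro U hU
    refine SmallOrder.S168.isKleinFour_of ?_ ?_
    · rw [← Nat.card_congr (U.equivMapOfInjective e.toMonoidHom e.injective).toEquiv, hU.card_four]
    · rintro _ ⟨u, hu, rfl⟩
      rw [← map_pow, SmallOrder.S168.klein_sq hU hu, map_one]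
  have hcases : ∀ U : Subgroup G, U ≤ (T : Subgroup G) → IsKleinFour U → U = U1 ∨ U = U2 := by
    intro U hUT hU
    rcases SmallOrder.S168.klein_le_T0 ((hle U).1 hUT) (hKmap U hU) with h1 | h1
    · exact Or.inl ((hcm U).symm.trans (by rw [h1]))
    · exact Or.inr ((hcm U).symm.trans (by rw [h1]))
  have hU1 : U1 ≤ (T : Subgroup G) ∧ IsKleinFour U1 := by
    refine ⟨(hle U1).2 ((hmapc _).le.trans fun x hx => hx.1), SmallOrder.S168.isKleinFour_of ?_ ?_⟩
    · rw [← SmallOrder.S168.card_V1, ← hmapc SmallOrder.S168.V1]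
      exact Nat.card_congr (U1.equivMapOfInjective e.toMonoidHom e.injective).toEquiv
    · intro u hu
      exact e.injective (by rw [map_pow, map_one]; exact SmallOrder.S168.sq_V1 _ hu)
  have hU2 : U2 ≤ (T : Subgroup G) ∧ IsKleinFour U2 := by
    refine ⟨(hle U2).2 ((hmapc _).le.trans fun x hx => hx.1), SmallOrder.S168.isKleinFour_of ?_ ?_⟩
    · rw [← SmallOrder.S168.card_V2, ← hmapc SmallOrder.S168.V2]
      exact Nat.card_congr (U2.equivMapOfInjective e.toMonoidHom e.injective).toEquiv
    · intro u hu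
      exact e.injective (by rw [map_pow, map_one]; exact SmallOrder.S168.sq_V2 _ hu)
  have hne : ∀ g : G, U1.map (MulAut.conj g).toMonoidHom ≠ U2 ∧ U2.map (MulAut.conj g).toMonoidHom ≠ U1 := by
    intro g
    obtain ⟨⟨v, hv, hv'⟩, ⟨w, hw, hw'⟩⟩ := SmallOrder.S168.V_not_conj (e g)
    constructor
    · intro hg
      have h1 : g * e.symm v * g⁻¹ ∈ U2 := hg ▸ ⟨e.symm v, by simpa [U1, SmallOrder.S168.mem_V1] using hv, rfl⟩
      exact hv' (by simpa [U2, SmallOrder.S168.mem_V2] using h1)
    · intro hg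
      have h1 : g * e.symm w * g⁻¹ ∈ U1 := hg ▸ ⟨e.symm w, by simpa [U2, SmallOrder.S168.mem_V2] using hw, rfl⟩
      exact hw' (by simpa [U1, SmallOrder.S168.mem_V1] using h1)
  have h12 : U1 ≠ U2 := fun h' => (hne 1).1 (by
    rw [← h']; ext x; simp)
  refine ⟨?_, ?_, ?_⟩
  · classical
    rw [show Nat.card {U : Subgroup G // U ≤ (T : Subgroup G) ∧ IsKleinFour ↥U} =
      ({U1, U2} : Finset (Subgroup G)).card from Nat.subtype_card _ fun U => ?_, Finset.card_pair h12]
    simp only [Finset.mem_insert, Finset.mem_singleton]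
    exact ⟨by rintro (rfl | rfl); exacts [hU1, hU2], fun ⟨a, b⟩ => hcases U a b⟩
  · intro U W hU hW hUk hWk hUW g
    rcases hcases U hU hUk with rfl | rfl <;> rcases hcases W hW hWk with rfl | rfl
    · exact absurd rfl hUW
    · exact (hne g).1
    · exact (hne g).2
    · exact absurd rfl hUW
  · intro U hU
    obtain ⟨P, hP⟩ := (IsPGroup.of_card (p := 2) (n := 2) (G := U) (by rw [hU.card_four]; norm_num)).exists_le_sylow
    obtain ⟨e', he'⟩ := SmallOrder.S168.exists_sylow_equiv h P
    have hK : IsKleinFour (U.map e'.toMonoidHom) := by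
      refine SmallOrder.S168.isKleinFour_of ?_ ?_
      · rw [← Nat.card_congr (U.equivMapOfInjective e'.toMonoidHom e'.injective).toEquiv, hU.card_four]
      · rintro _ ⟨u, hu, rfl⟩
        rw [← map_pow, SmallOrder.S168.klein_sq hU hu, map_one]
    have hmap := Subgroup.map_equiv_normalizer_eq U e'
    rcases SmallOrder.S168.klein_le_T0 (he' ▸ Subgroup.map_mono hP) hK with h1 | h1 <;> rw [h1] at hmap
    · obtain ⟨d⟩ := SmallOrder.S168.normalizer_V1_perm
      exact ⟨(((Subgroup.normalizer (U : Set G)).equivMapOfInjective e'.toMonoidHom e'.injective).trans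
        (MulEquiv.subgroupCongr hmap)).trans d⟩
    · obtain ⟨d⟩ := SmallOrder.S168.normalizer_V2_perm
      exact ⟨(((Subgroup.normalizer (U : Set G)).equivMapOfInjective e'.toMonoidHom e'.injective).trans
        (MulEquiv.subgroupCongr hmap)).trans d⟩

end Cfsg.Agent.S1007
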