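import Cfsg.Statements.S0493
import Cfsg.Agent.SmallOrder.Basic
import Cfsg.Agent.Core.BurnsidePQ
-- import your own Cfsg.Agent.* helpers here

set_option autoImplicit false
open Cfsg

namespace Cfsg.Agent.S0493

/-- No simple group has order twice an odd number. -/
theorem twomod {G : Type*} [Group G] [Finite G] [IsSimpleGroup G] (hG : ¬ IsMulCommutative G) {n : ℕ}
    (hn : Nat.card G = n) (h4 : n % 4 = 2) : False := by
  haveI : Fact (Nat.Prime 2) := ⟨Nat.prime_two⟩
  obtain ⟨P⟩ : Nonempty (Sylow 2 G) := inferInstance
  refine SmallOrder.not_isCyclic_minFac hG ((Nat.minFac_eq_two_iff _).2 (by omega)) P ?_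
  apply isCyclic_of_prime_card (p := 2)
  obtain ⟨k, hk⟩ := P.2.exists_card_eq
  have hd : Nat.card (P : Subgroup G) ∣ n := hn ▸ (P : Subgroup G).card_subgroup_dvd_card
  rcases k with _ | _ | k
  · exact absurd (Subgroup.card_eq_one.1 hk) (P.ne_bot_of_dvd_card (by omega))
  · simpa using hk
  · exfalso
    have : 4 ∣ n := dvd_trans ⟨2 ^ k, by ring⟩ (hk ▸ hd)
    omega

/-- No simple group has order 84. -/
theorem seven {G : Type*} [Group G] [Finite G] [IsSimpleGroup G] (hG : ¬ IsMulCommutative G)
    (hn : Nat.card G = 84) : False := by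
  haveI : Fact (Nat.Prime 7) := ⟨by norm_num⟩
  obtain ⟨P⟩ : Nonempty (Sylow 7 G) := inferInstance
  obtain ⟨-, -, hd, hm⟩ := SmallOrder.sylow_arith P (a := 1) (m := 12) (by rw [hn]; norm_num) (by norm_num)
  apply SmallOrder.card_sylow_ne_one (p := 7) hG (by rw [hn]; norm_num)
  have := Nat.le_of_dvd (by norm_num) hd
  interval_cases hc : Nat.card (Sylow 7 G) <;> omega

/-- A finite simple group of order at most 100 that is not cyclic has order 60. -/
theorem result {G : Type*} [Group G] [Finite G] [IsSimpleGroup G]
    (hG : ¬ IsCyclic G) (h : Nat.card G ≤ 100) : Nat.card G = 60 := by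
  have hG' := hG
  replace hG : ¬ IsMulCommutative G := fun hc => hG' (by
    haveI : Fact (Nat.card G).Prime := ⟨SmallOrder.prime_card_of_comm hc⟩
    exact isCyclic_of_prime_card rfl)
  obtain ⟨n, hn⟩ : ∃ n, Nat.card G = n := ⟨_, rfl⟩
  have hn1 : 1 < n := hn ▸ Finite.one_lt_card_iff_nontrivial.2 inferInstance
  have hpq : ∀ p q : ℕ, p.Prime → q.Prime → n ∣ p ^ 7 * q ^ 7 → False := fun p q hp hq hd =>
    hG (IsMulCommutative.of_comm <| IsSimpleGroup.comm_iff_isSolvable.2
      (Core.isSolvable_of_card_dvd_two_primes hp hq (hn ▸ hd)))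
  rw [hn] at h ⊢
  interval_cases n
  · exact (hpq 2 2 (by norm_num) (by norm_num) (by norm_num)).elim
  · exact (hpq 3 3 (by norm_num) (by norm_num) (by norm_num)).elim
  · exact (hpq 2 2 (by norm_num) (by norm_num) (by norm_num)).elim
  · exact (hpq 5 5 (by norm_num) (by norm_num) (by norm_num)).elim
  · exact (hpq 2 3 (by norm_num) (by norm_num) (by norm_num)).elim
  · exact (hpq 7 7 (by norm_num) (by norm_num) (by norm_num)).elim
  · exact (hpq 2 2 (by norm_num) (by norm_num) (by norm_num)).elim
  · exact (hpq 3 3 (by norm_num) (by norm_num) (by norm_num)).elim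
  · exact (hpq 2 5 (by norm_num) (by norm_num) (by norm_num)).elim
  · exact (hpq 11 11 (by norm_num) (by norm_num) (by norm_num)).elim
  · exact (hpq 2 3 (by norm_num) (by norm_num) (by norm_num)).elim
  · exact (hpq 13 13 (by norm_num) (by norm_num) (by norm_num)).elim
  · exact (hpq 2 7 (by norm_num) (by norm_num) (by norm_num)).elim
  · exact (hpq 3 5 (by norm_num) (by norm_num) (by norm_num)).elim
  · exact (hpq 2 2 (by norm_num) (by norm_num) (by norm_num)).elim
  · exact (hpq 17 17 (by norm_num) (by norm_num) (by norm_num)).elim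
  · exact (hpq 2 3 (by norm_num) (by norm_num) (by norm_num)).elim
  · exact (hpq 19 19 (by norm_num) (by norm_num) (by norm_num)).elim
  · exact (hpq 2 5 (by norm_num) (by norm_num) (by norm_num)).elim
  · exact (hpq 3 7 (by norm_num) (by norm_num) (by norm_num)).elim
  · exact (hpq 2 11 (by norm_num) (by norm_num) (by norm_num)).elim
  · exact (hpq 23 23 (by norm_num) (by norm_num) (by norm_num)).elim
  · exact (hpq 2 3 (by norm_num) (by norm_num) (by norm_num)).elim
  · exact (hpq 5 5 (by norm_num) (by norm_num) (by norm_num)).elim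
  · exact (hpq 2 13 (by norm_num) (by norm_num) (by norm_num)).elim
  · exact (hpq 3 3 (by norm_num) (by norm_num) (by norm_num)).elim
  · exact (hpq 2 7 (by norm_num) (by norm_num) (by norm_num)).elim
  · exact (hpq 29 29 (by norm_num) (by norm_num) (by norm_num)).elim
  · exact (twomod hG hn (by norm_num)).elim
  · exact (hpq 31 31 (by norm_num) (by norm_num) (by norm_num)).elim
  · exact (hpq 2 2 (by norm_num) (by norm_num) (by norm_num)).elim
  · exact (hpq 3 11 (by norm_num) (by norm_num) (by norm_num)).elim
  · exact (hpq 2 17 (by norm_num) (by norm_num) (by norm_num)).elim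
  · exact (hpq 5 7 (by norm_num) (by norm_num) (by norm_num)).elim
  · exact (hpq 2 3 (by norm_num) (by norm_num) (by norm_num)).elim
  · exact (hpq 37 37 (by norm_num) (by norm_num) (by norm_num)).elim
  · exact (hpq 2 19 (by norm_num) (by norm_num) (by norm_num)).elim
  · exact (hpq 3 13 (by norm_num) (by norm_num) (by norm_num)).elim
  · exact (hpq 2 5 (by norm_num) (by norm_num) (by norm_num)).elim
  · exact (hpq 41 41 (by norm_num) (by norm_num) (by norm_num)).elim
  · exact (twomod hG hn (by norm_num)).elim
  · exact (hpq 43 43 (by norm_num) (by norm_num) (by norm_num)).elim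
  · exact (hpq 2 11 (by norm_num) (by norm_num) (by norm_num)).elim
  · exact (hpq 3 5 (by norm_num) (by norm_num) (by norm_num)).elim
  · exact (hpq 2 23 (by norm_num) (by norm_num) (by norm_num)).elim
  · exact (hpq 47 47 (by norm_num) (by norm_num) (by norm_num)).elim
  · exact (hpq 2 3 (by norm_num) (by norm_num) (by norm_num)).elim
  · exact (hpq 7 7 (by norm_num) (by norm_num) (by norm_num)).elim
  · exact (hpq 2 5 (by norm_num) (by norm_num) (by norm_num)).elim
  · exact (hpq 3 17 (by norm_num) (by norm_num) (by norm_num)).elim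
  · exact (hpq 2 13 (by norm_num) (by norm_num) (by norm_num)).elim
  · exact (hpq 53 53 (by norm_num) (by norm_num) (by norm_num)).elim
  · exact (hpq 2 3 (by norm_num) (by norm_num) (by norm_num)).elim
  · exact (hpq 5 11 (by norm_num) (by norm_num) (by norm_num)).elim
  · exact (hpq 2 7 (by norm_num) (by norm_num) (by norm_num)).elim
  · exact (hpq 3 19 (by norm_num) (by norm_num) (by norm_num)).elim
  · exact (hpq 2 29 (by norm_num) (by norm_num) (by norm_num)).elim
  · exact (hpq 59 59 (by norm_num) (by norm_num) (by norm_num)).elim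
  · rfl
  · exact (hpq 61 61 (by norm_num) (by norm_num) (by norm_num)).elim
  · exact (hpq 2 31 (by norm_num) (by norm_num) (by norm_num)).elim
  · exact (hpq 3 7 (by norm_num) (by norm_num) (by norm_num)).elim
  · exact (hpq 2 2 (by norm_num) (by norm_num) (by norm_num)).elim
  · exact (hpq 5 13 (by norm_num) (by norm_num) (by norm_num)).elim
  · exact (twomod hG hn (by norm_num)).elim
  · exact (hpq 67 67 (by norm_num) (by norm_num) (by norm_num)).elim
  · exact (hpq 2 17 (by norm_num) (by norm_num) (by norm_num)).elim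
  · exact (hpq 3 23 (by norm_num) (by norm_num) (by norm_num)).elim
  · exact (twomod hG hn (by norm_num)).elim
  · exact (hpq 71 71 (by norm_num) (by norm_num) (by norm_num)).elim
  · exact (hpq 2 3 (by norm_num) (by norm_num) (by norm_num)).elim
  · exact (hpq 73 73 (by norm_num) (by norm_num) (by norm_num)).elim
  · exact (hpq 2 37 (by norm_num) (by norm_num) (by norm_num)).elim
  · exact (hpq 3 5 (by norm_num) (by norm_num) (by norm_num)).elim
  · exact (hpq 2 19 (by norm_num) (by norm_num) (by norm_num)).elim
  · exact (hpq 7 11 (by norm_num) (by norm_num) (by norm_num)).elim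
  · exact (twomod hG hn (by norm_num)).elim
  · exact (hpq 79 79 (by norm_num) (by norm_num) (by norm_num)).elim
  · exact (hpq 2 5 (by norm_num) (by norm_num) (by norm_num)).elim
  · exact (hpq 3 3 (by norm_num) (by norm_num) (by norm_num)).elim
  · exact (hpq 2 41 (by norm_num) (by norm_num) (by norm_num)).elim
  · exact (hpq 83 83 (by norm_num) (by norm_num) (by norm_num)).elim
  · exact (seven hG hn).elim
  · exact (hpq 5 17 (by norm_num) (by norm_num) (by norm_num)).elim
  · exact (hpq 2 43 (by norm_num) (by norm_num) (by norm_num)).elim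
  · exact (hpq 3 29 (by norm_num) (by norm_num) (by norm_num)).elim
  · exact (hpq 2 11 (by norm_num) (by norm_num) (by norm_num)).elim
  · exact (hpq 89 89 (by norm_num) (by norm_num) (by norm_num)).elim
  · exact (twomod hG hn (by norm_num)).elim
  · exact (hpq 7 13 (by norm_num) (by norm_num) (by norm_num)).elim
  · exact (hpq 2 23 (by norm_num) (by norm_num) (by norm_num)).elim
  · exact (hpq 3 31 (by norm_num) (by norm_num) (by norm_num)).elim
  · exact (hpq 2 47 (by norm_num) (by norm_num) (by norm_num)).elim
  · exact (hpq 5 19 (by norm_num) (by norm_num) (by norm_num)).elim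
  · exact (hpq 2 3 (by norm_num) (by norm_num) (by norm_num)).elim
  · exact (hpq 97 97 (by norm_num) (by norm_num) (by norm_num)).elim
  · exact (hpq 2 7 (by norm_num) (by norm_num) (by norm_num)).elim
  · exact (hpq 3 11 (by norm_num) (by norm_num) (by norm_num)).elim
  · exact (hpq 2 5 (by norm_num) (by norm_num) (by norm_num)).elim

end Cfsg.Agent.S0493
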