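import Cfsg.Statements.S4209
import Cfsg.Agent.FGS3.Regular
import Cfsg.Agent.FGS3.PolySeq
-- import your own Cfsg.Agent.* helpers here

set_option autoImplicit false
open Cfsg

namespace Cfsg.Agent.S4209

/-- A finite `p`-group of nilpotency class less than `p` (the term of index `p - 1` of the lower central series of the whole group, indexed from `0`, is trivial) is a regular `p`-group. -/
theorem result {G : Type*} [Group G] [Finite G] {p : ℕ} [Fact p.Prime] (hG : IsPGroup p G) (hcl : (⊤ : Subgroup G).lowerCentralSeries (p - 1) = ⊥) : Cfsg.IsRegularPGroup p G := by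
  refine ⟨hG, fun a b n => Cfsg.Agent.FGS3.Regular.regAt_of_one hG (fun a b => ?_) n a b⟩
  set K := Subgroup.closure ({a, b} : Set G) with hK
  have hclK : (⊤ : Subgroup K).lowerCentralSeries (p - 1) = ⊥ := by
    rw [← Subgroup.map_eq_bot_iff_of_injective _ K.subtype_injective,
      Subgroup.top_subtype_lowerCentralSeries, eq_bot_iff, ← hcl]
    clear hcl
    generalize p - 1 = m
    induction m with
    | zero => exact le_top
    | succ m ih => exact Subgroup.commutator_mono ih le_top
  have ha : a ∈ K := Subgroup.subset_closure (by simp)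
  have hb : b ∈ K := Subgroup.subset_closure (by simp)
  have hmap : (commutator K).map K.subtype = ⁅K, K⁆ := by
    rw [commutator_def, Subgroup.map_commutator, ← MonoidHom.range_eq_map, Subgroup.range_subtype]
  have h := Cfsg.Agent.FGS3.PolySeq.mul_pow_prime_mem (G := K) Fact.out hclK
    (L := (Cfsg.powerClosure p 1 ⁅K, K⁆).subgroupOf K) (fun x hx => by
      rw [Subgroup.mem_subgroupOf]
      refine Subgroup.subset_closure ⟨x, ?_, by rw [pow_one, Subgroup.coe_pow]⟩
      rw [← hmap]
      exact Subgroup.mem_map_of_mem _ hx) ⟨a, ha⟩ ⟨b, hb⟩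
  refine ⟨_, Subgroup.mem_subgroupOf.1 h, ?_⟩
  simp only [pow_one, Subgroup.coe_mul, Subgroup.coe_inv, Subgroup.coe_pow]
  group

end Cfsg.Agent.S4209
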