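import Cfsg.Statements.S1363
import Cfsg.Agent.OddLocal.Sigma.SupplementL
import Cfsg.Agent.OddLocal.Sigma.PLengthProper

set_option autoImplicit false
open Cfsg

namespace Cfsg.Agent.S1363

/-- Let G be a minimal simple group of odd order and M a maximal subgroup with standard factorisation M = K U M_σ and K ≠ 1. Then U is abelian and the normalizer of U in G is not contained in M. -/
theorem result {G : Type*} [Group G] [Finite G] (hG : Cfsg.IsMinSimpleOddOrder G)
    (M : Subgroup G) (hM : IsCoatom M) (K U : Subgroup G) (hKU : Cfsg.IsSigmaDecomposition M K U) (hK1 : K ≠ ⊥) :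
    IsMulCommutative U ∧ ¬ Subgroup.normalizer (U : Set G) ≤ M := by
  have hpl := fun (r : ℕ) [Fact r.Prime] (H : Subgroup G) hH => OddLocal.Sigma.pLengthLE_proper hG r H hH
  refine ⟨OddLocal.Sigma.decomp_abelian hG hpl hM hKU hK1, fun hN => ?_⟩
  by_cases hU1 : U = ⊥
  · subst hU1
    exact hM.1 (top_le_iff.mp (le_trans (Subgroup.normalizer_eq_top (⊥ : Subgroup G)).ge hN))
  have hp := OddLocal.Sigma.card_kappa_prime hG hpl hM hKU hK1 hU1
  haveI := Fact.mk hp
  obtain ⟨L, hL⟩ := OddLocal.Sigma.exists_partner hG hpl hM hKU.hall hK1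
  have c : OddLocal.Sigma.P2Ctx M K U L (Nat.card K) := ⟨hM, hKU, hL, rfl, hU1⟩
  obtain ⟨r, hr, hrd⟩ := Nat.exists_prime_and_dvd fun e => hU1 (Subgroup.eq_bot_of_card_eq _ e)
  haveI := Fact.mk hr
  obtain ⟨R⟩ := (inferInstance : Nonempty (Sylow r U))
  have hR1 : (R : Subgroup U).map U.subtype ≠ ⊥ := fun e => hr.not_dvd_one (by
    have h1 : r ∣ Nat.card ((R : Subgroup U).map U.subtype) := by
      rw [Cfsg.Agent.Core.card_map_subtype]; exact R.dvd_card_of_dvd_card hrd
    rwa [e, Subgroup.card_bot] at h1)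
  obtain ⟨H, hH, hNR⟩ := (eq_top_or_exists_le_coatom (Subgroup.normalizer
    (((R : Subgroup U).map U.subtype : Subgroup G) : Set G))).resolve_left
    (Cfsg.Agent.Core.BG.normalizer_ne_top_of_isPGroup hG hR1 (R.isPGroup'.map _))
  exact (c.supplement hG hpl hrd R hH hNR).2.2.2.1 (inf_le_right.trans hN)

end Cfsg.Agent.S1363
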