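import Cfsg.Statements.S1381
import Cfsg.Agent.OddLocal.Sigma.TypesP
import Cfsg.Agent.S1363
import Cfsg.Agent.OddLocal.Sigma.PLengthProper

set_option autoImplicit false
open Cfsg

namespace Cfsg.Agent.S1381

/-- Let G be a minimal simple group of odd order and M a maximal subgroup with standard factorisation M = K U M_σ. Then M is of Type II if and only if K ≠ 1 and U ≠ 1. -/
theorem result {G : Type*} [Group G] [Finite G] (hG : Cfsg.IsMinSimpleOddOrder G)
    (M : Subgroup G) (hM : IsCoatom M) (K U : Subgroup G) (hKU : Cfsg.IsSigmaDecomposition M K U) :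
    Cfsg.IsOfTypeII M ↔ (K ≠ ⊥ ∧ U ≠ ⊥) := by
  have hpl := fun (r : ℕ) [Fact r.Prime] (H : Subgroup G) hH => OddLocal.Sigma.pLengthLE_proper hG r H hH
  constructor
  · rintro ⟨W₁, V, W₂, hP, hV1, -, -, -, hnN, -⟩
    obtain ⟨hK1, h1, h2, -, -⟩ := OddLocal.Sigma.typeP_cases hG hpl hM hKU hP
    refine ⟨hK1, fun hU => ?_⟩
    by_cases hF : Cfsg.fittingHallOf M = Cfsg.sigmaCore M
    · exact hV1 (h1 hU hF)
    · exact hnN (h2 hU hF)
  · rintro ⟨hK1, hU1⟩
    obtain ⟨hD, -⟩ := OddLocal.Sigma.derived_eq_and_fixed_le hG hpl hM hKU hK1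
    obtain ⟨hF', hFeq⟩ := OddLocal.Sigma.derived_typeF hG hpl hM hKU hK1 hU1
    obtain ⟨hUc, hnN⟩ := Cfsg.Agent.S1363.result hG M hM K U hKU hK1
    have hn := OddLocal.Sigma.isNilpotent_sigmaCore_of_ne_bot hG hpl hM hKU hU1
    have hF : Cfsg.fittingHallOf M = Cfsg.sigmaCore M := le_antisymm
      (OddLocal.Sigma.fittingHallOf_le_sigmaCore hG hpl hM) (OddLocal.Sigma.sigmaCore_le_fittingHallOf hG hpl hM hn)
    have hV : Cfsg.IsComplIn (Cfsg.fittingHallOf M) U ⁅M, M⁆ := by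
      rw [hF]
      refine ⟨OddLocal.Sigma.sigmaCore_le_derived hG hM, hD ▸ le_sup_left, ?_, fun d hd => ?_⟩
      · rw [inf_comm]
        exact OddLocal.Sigma.inf_sigmaCore_eq_bot fun q hq hd =>
          ((OddLocal.Sigma.decomp_facts hG hpl hM hKU).2.1 q hq hd).1
      · obtain ⟨s, hs, u, hu, e⟩ := Cfsg.Agent.Coprime.exists_mul_of_mem_sup
          (hKU.compl.1.trans (OddLocal.Sigma.le_normalizer_sigmaCore M))
          (show d ∈ Cfsg.sigmaCore M ⊔ U by rw [sup_comm]; exact hD.le hd)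
        exact ⟨s, hs, u, hu, e.symm⟩
    haveI := hUc
    have hUn : Group.IsNilpotent U := by
      letI : CommGroup U := { (inferInstance : Group U) with mul_comm := mul_comm' }
      infer_instance
    exact ⟨K, U, _, OddLocal.Sigma.isTypePWith_of hG hpl hM hKU hK1 hUn hKU.normal hV, hU1,
      OddLocal.Sigma.card_kappa_prime hG hpl hM hKU hK1 hU1,
      OddLocal.Sigma.fitting_isTI_of_U hG hpl hM hKU hK1 hU1, hUc, hnN, hF', hFeq⟩

end Cfsg.Agent.S1381
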