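import Cfsg.Statements.S1382
import Cfsg.Agent.OddLocal.Sigma.TypesP
import Cfsg.Agent.S1363
import Cfsg.Agent.S1437
import Cfsg.Agent.OddLocal.Sigma.PLengthProper

set_option autoImplicit false
open Cfsg

namespace Cfsg.Agent.S1382

/-- Let G be a minimal simple group of odd order and M a maximal subgroup with standard factorisation M = K U M_σ. Then M is of Type III or of Type IV if and only if K ≠ 1, U = 1 and M_F ≠ M_σ. -/
theorem result {G : Type*} [Group G] [Finite G] (hG : Cfsg.IsMinSimpleOddOrder G)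
    (M : Subgroup G) (hM : IsCoatom M) (K U : Subgroup G) (hKU : Cfsg.IsSigmaDecomposition M K U) :
    (Cfsg.IsOfTypeIII M ∨ Cfsg.IsOfTypeIV M) ↔ (K ≠ ⊥ ∧ U = ⊥ ∧ Cfsg.fittingHallOf M ≠ Cfsg.sigmaCore M) := by
  have hpl := fun (r : ℕ) [Fact r.Prime] (H : Subgroup G) hH => OddLocal.Sigma.pLengthLE_proper hG r H hH
  constructor
  · intro h
    obtain ⟨W₁, V, W₂, hP, hV1, hle⟩ : ∃ W₁ V W₂, Cfsg.IsTypePWith M W₁ V W₂ ∧ V ≠ ⊥ ∧
        Subgroup.normalizer (V : Set G) ≤ M := by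
      rcases h with ⟨W₁, V, W₂, hP, hV1, -, -, -, hle⟩ | ⟨W₁, V, W₂, hP, hV1, -, -, -, hle⟩
      exacts [⟨W₁, V, W₂, hP, hV1, hle⟩, ⟨W₁, V, W₂, hP, hV1, hle⟩]
    obtain ⟨hK1, h1, -, h3, -⟩ := OddLocal.Sigma.typeP_cases hG hpl hM hKU hP
    by_cases hU : U = ⊥
    · exact ⟨hK1, hU, fun hF => hV1 (h1 hU hF)⟩
    · exact absurd ((h3 hU).2 hle) (Cfsg.Agent.S1363.result hG M hM K U hKU hK1).2
  · rintro ⟨hK1, hU, hF⟩
    obtain ⟨hD, -⟩ := OddLocal.Sigma.derived_eq_and_fixed_le hG hpl hM hKU hK1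
    have hD' : ⁅M, M⁆ = Cfsg.sigmaCore M := by rw [hD, hU, bot_sup_eq]
    have hne := OddLocal.Sigma.not_nilpotent_of_ne hG hpl hM hF
    obtain ⟨V, hVn, hKV, hV, hV1⟩ := OddLocal.Sigma.exists_typeP_compl hG hpl hM hKU hne
    have hP := OddLocal.Sigma.isTypePWith_of hG hpl hM hKU hK1 hVn hKV (by rw [hD']; exact hV)
    have hp : (Nat.card K).Prime := (Cfsg.Agent.S1437.result hG M hM K U hKU hF).2.2.1
    have hTI := OddLocal.Sigma.fitting_isTI_of_ne hG hpl hM hF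
    have hle := OddLocal.Sigma.normalizer_compl_le hG hM hV hVn hV1
    by_cases hc : IsMulCommutative V
    · exact Or.inl ⟨K, V, _, hP, hV1, hp, hTI, hc, hle⟩
    · exact Or.inr ⟨K, V, _, hP, hV1, hp, hTI, hc, hle⟩

end Cfsg.Agent.S1382
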