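import Cfsg.Statements.S1383
import Cfsg.Agent.OddLocal.Sigma.TypeVMoved
import Cfsg.Agent.OddLocal.Sigma.PLengthProper

set_option autoImplicit false
open Cfsg

namespace Cfsg.Agent.S1383

/-- Let G be a minimal simple group of odd order and M a maximal subgroup with standard factorisation M = K U M_σ. Then M is of Type V if and only if K ≠ 1, U = 1 and M_F = M_σ. -/
theorem result {G : Type*} [Group G] [Finite G] (hG : Cfsg.IsMinSimpleOddOrder G)
    (M : Subgroup G) (hM : IsCoatom M) (K U : Subgroup G) (hKU : Cfsg.IsSigmaDecomposition M K U) :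
    Cfsg.IsOfTypeV M ↔ (K ≠ ⊥ ∧ U = ⊥ ∧ Cfsg.fittingHallOf M = Cfsg.sigmaCore M) := by
  have hpl := fun (r : ℕ) [Fact r.Prime] (H : Subgroup G) hH => OddLocal.Sigma.pLengthLE_proper hG r H hH
  constructor
  · rintro ⟨W₁, V, W₂, hP, hV, -⟩
    obtain ⟨hK1, -, -, -, h4⟩ := OddLocal.Sigma.typeP_cases hG hpl hM hKU hP
    exact ⟨hK1, h4 hV⟩
  · rintro ⟨hK1, hU, hF⟩
    obtain ⟨hD, -⟩ := OddLocal.Sigma.derived_eq_and_fixed_le hG hpl hM hKU hK1
    have hV : Cfsg.IsComplIn (Cfsg.fittingHallOf M) ⊥ ⁅M, M⁆ := by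
      rw [hD, hU, bot_sup_eq, hF]
      exact ⟨le_rfl, bot_le, inf_bot_eq _, fun m hm => ⟨m, hm, 1, one_mem _, (mul_one m).symm⟩⟩
    exact ⟨K, ⊥, _, OddLocal.Sigma.isTypePWith_of hG hpl hM hKU hK1 inferInstance
      (le_trans le_top (Subgroup.normalizer_eq_top (⊥ : Subgroup G)).ge) hV, rfl,
      OddLocal.Sigma.typeV_disjunct hG hpl hM hKU hK1 hU hF⟩

end Cfsg.Agent.S1383
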