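import Cfsg.Statements.S1390
import Cfsg.Agent.OddLocal.Sigma.TypeI
import Cfsg.Agent.S1362
import Cfsg.Agent.S1381
import Cfsg.Agent.S1382

set_option autoImplicit false
open Cfsg

namespace Cfsg.Agent.S1390

/-- Let G be a minimal simple group of odd order, M a maximal subgroup and H = M_F; suppose M is of Type I and U is a complement to H in M, or M is of Type II and U is a complement to H in M'. Then every Sylow subgroup of U is abelian with no elementary abelian subgroup of order p ^ 3; for every nonempty set X of non-identity elements of U centralizing a non-identity element of H, C_G(X) ≤ M and M is the unique maximal subgroup containing C_G(X); and A(M) with A₁(M) removed is a TI-subset of G. -/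
theorem result {G : Type*} [Group G] [Finite G] (hG : Cfsg.IsMinSimpleOddOrder G)
    (M : Subgroup G) (hM : IsCoatom M) (U : Subgroup G)
    (hU : (Cfsg.IsOfTypeI M ∧ Cfsg.IsComplIn (Cfsg.fittingHallOf M) U M) ∨ (Cfsg.IsOfTypeII M ∧ Cfsg.IsComplIn (Cfsg.fittingHallOf M) U ⁅M, M⁆)) :
    (∀ (p : ℕ), p.Prime → ∀ P : Sylow p U, IsMulCommutative (P : Subgroup U) ∧ Cfsg.PRankLE p 2 (P : Subgroup U)) ∧
      (∀ X : Set G, X ⊆ (U : Set G) \ {1} → X.Nonempty → Cfsg.fittingHallOf M ⊓ Subgroup.centralizer X ≠ ⊥ →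
        Subgroup.centralizer X ≤ M ∧ ∀ L : Subgroup G, IsCoatom L → Subgroup.centralizer X ≤ L → L = M) ∧
      Cfsg.IsTISubset (Cfsg.typeA M \ Cfsg.typeA1 M) := by
  have hpl := fun (r : ℕ) [Fact r.Prime] (H : Subgroup G) hH => OddLocal.Sigma.pLengthLE_proper hG r H hH
  obtain ⟨⟨K, hK⟩, hcyc⟩ := OddLocal.Sigma.kappa_hall hG hpl hM
  obtain ⟨V, hKV⟩ := OddLocal.Sigma.exists_decomp hG hpl hM (hcyc K hK) hK
  obtain ⟨-, hVp, -⟩ := OddLocal.Sigma.decomp_facts hG hpl hM hKV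
  have hVσ : V ⊓ Cfsg.sigmaCore M = ⊥ := OddLocal.Sigma.inf_sigmaCore_eq_bot fun q hq hd => (hVp q hq hd).1
  have hVN := hKV.compl.1.trans (OddLocal.Sigma.le_normalizer_sigmaCore M)
  -- reduce both types to a common situation
  obtain ⟨N, hV1, hN, hUc, hA, hT⟩ : ∃ N : Subgroup G, V ≠ ⊥ ∧ N = V ⊔ Cfsg.sigmaCore M ∧
      Cfsg.IsComplIn (Cfsg.fittingHallOf M) U N ∧
      Cfsg.typeA M = {a | a ∈ N ∧ a ≠ 1 ∧ ∃ x ∈ Cfsg.fittingHallOf M, x ≠ 1 ∧ a * x = x * a} ∧
      Cfsg.typeCore M = Cfsg.fittingHallOf M := by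
    have hcore : V ≠ ⊥ → Cfsg.typeCore M = Cfsg.fittingHallOf M := fun hV1 => if_neg fun h34 =>
      hV1 ((Cfsg.Agent.S1382.result hG M hM K V hKV).mp h34).2.1
    rcases hU with ⟨hI, hUc⟩ | ⟨hII, hUc⟩
    · obtain ⟨hK1, hV1⟩ := OddLocal.Sigma.typeI_cases hG hpl hM hKV hI
      have hN : M = V ⊔ Cfsg.sigmaCore M := by
        refine le_antisymm (fun m hm => ?_) (sup_le hKV.compl.1 (OddLocal.Sigma.sigmaCore_le M))
        obtain ⟨a, ha, b, hb, rfl⟩ := hKV.compl.2.2.2 m hm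
        rw [hK1, bot_sup_eq] at hb
        exact mul_mem (Subgroup.mem_sup_left ha) (Subgroup.mem_sup_right hb)
      exact ⟨M, hV1, hN, hUc, if_pos hI, hcore hV1⟩
    · obtain ⟨hK1, hV1⟩ := (Cfsg.Agent.S1381.result hG M hM K V hKV).mp hII
      have hnI : ¬ Cfsg.IsOfTypeI M := fun hI => hK1 (OddLocal.Sigma.typeI_cases hG hpl hM hKV hI).1
      refine ⟨⁅M, M⁆, hV1, (OddLocal.Sigma.derived_eq_and_fixed_le hG hpl hM hKV hK1).1, hUc, ?_, hcore hV1⟩
      rw [← hcore hV1]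
      exact if_neg hnI
  have hF : Cfsg.fittingHallOf M = Cfsg.sigmaCore M := le_antisymm
    (OddLocal.Sigma.fittingHallOf_le_sigmaCore hG hpl hM) (OddLocal.Sigma.sigmaCore_le_fittingHallOf hG hpl hM
      (OddLocal.Sigma.isNilpotent_sigmaCore_of_ne_bot hG hpl hM hKV hV1))
  rw [hF] at hUc
  have hNM : N ≤ M := hN.le.trans (sup_le hKV.compl.1 (OddLocal.Sigma.sigmaCore_le M))
  have hcard : Nat.card U = Nat.card V := by
    have h1 := OddLocal.IsComplIn.card_mul hUc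
    have h2 : Nat.card ↥(V ⊔ Cfsg.sigmaCore M) = Nat.card V * Nat.card (Cfsg.sigmaCore M) := by
      rw [sup_comm, Cfsg.Agent.Coprime.card_sup hVN (by rw [inf_comm]; exact hVσ), mul_comm]
    rw [hN, h2, mul_comm (Nat.card V)] at h1
    exact Nat.eq_of_mul_eq_mul_left Nat.card_pos h1
  have hUM := hUc.2.1.trans hNM
  have hUp : ∀ q : ℕ, q.Prime → q ∣ Nat.card U → q ∉ Cfsg.sigma M ∧ q ∉ Cfsg.kappa M :=
    fun q hq hd => hVp q hq (hcard ▸ hd)
  obtain ⟨E, hE, -⟩ := OddLocal.Sigma.exists_compl_ge hG hM (bot_le : (⊥ : Subgroup G) ≤ M) (fun q hq hd => by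
    rw [Subgroup.card_bot] at hd; exact absurd hd hq.not_dvd_one)
  refine ⟨OddLocal.Sigma.sylow_props_of_compl hG hpl hM hUM fun q hq hd => (hUp q hq hd).1,
    fun X hX hne hfix => ?_, ?_⟩
  · rw [← Subgroup.centralizer_closure] at hfix ⊢
    rw [hF] at hfix
    have hY : Subgroup.closure X ≤ U := Subgroup.closure_le U |>.mpr fun a ha => (hX ha).1
    refine OddLocal.Sigma.only_centralizer_of_tau2_subgroup hG hpl hM hE (hY.trans hUM) (fun e => ?_)
      (fun p hp hd => ?_) hfix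
    · obtain ⟨a, ha⟩ := hne
      exact (hX ha).2 (Subgroup.mem_bot.mp (e ▸ Subgroup.subset_closure ha))
    · haveI := Fact.mk hp
      obtain ⟨v, hv⟩ := exists_prime_orderOf_dvd_card' (G := Subgroup.closure X) p hd
      obtain ⟨y, hy⟩ := Subgroup.ne_bot_iff_exists_ne_one.mp hfix
      have hd' : p ∣ Nat.card U := hd.trans (Subgroup.card_dvd_of_le hY)
      refine (OddLocal.Sigma.fixed_elt_classes hG hpl hM (hUM (hY v.2)) y.2.1 (fun e => hy (Subtype.ext e))
        (Subgroup.mem_centralizer_iff.mp y.2.2 _ v.2) hp (by rw [Subgroup.orderOf_coe, hv])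
        (hUp p hp hd').1).resolve_left (hUp p hp hd').2
  · have hset : Cfsg.typeA M \ Cfsg.typeA1 M = Cfsg.sigmaA M V \ (Cfsg.sigmaCore M : Set G) := by
      ext a
      rw [hA, Cfsg.typeA1, hT, hF, Cfsg.sigmaA, ← hN]
      simp only [Set.mem_sdiff, Set.mem_ofPred_eq, Set.mem_inter_iff, SetLike.mem_coe, Set.mem_singleton_iff,
        Cfsg.sigmaHat]
      constructor
      · rintro ⟨⟨h1, h2, h3⟩, h4⟩
        exact ⟨⟨⟨hNM h1, h3⟩, h1⟩, fun h => h4 ⟨h, h2⟩⟩
      · rintro ⟨⟨⟨-, h3⟩, h1⟩, h4⟩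
        exact ⟨⟨h1, fun e => h4 (e ▸ one_mem _), h3⟩, fun h => h4 h.1⟩
    rw [hset]
    exact Cfsg.Agent.S1362.result hG M hM K V hKV

end Cfsg.Agent.S1390
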