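import Cfsg.Statements.S1538
import Cfsg.Agent.S1390
import Cfsg.Agent.OddLocal.Sigma.TypeTwoTI

set_option autoImplicit false
open Cfsg
open scoped commutatorElement

namespace Cfsg.Agent.S1538

/-- Let G be a minimal simple group of odd order and M a maximal subgroup of Type II. Then each of A₀(M), A(M), A₁(M) is a TI-subset of G whose set normaliser is M. -/
theorem result {G : Type*} [Group G] [Finite G] (hG : Cfsg.IsMinSimpleOddOrder G) (M : Subgroup G) (hM : IsCoatom M) (hII : Cfsg.IsOfTypeII M) : (Cfsg.IsTISubset (Cfsg.typeA0 M) ∧ Subgroup.normalizer (Cfsg.typeA0 M) = M) ∧ (Cfsg.IsTISubset (Cfsg.typeA M) ∧ Subgroup.normalizer (Cfsg.typeA M) = M) ∧ (Cfsg.IsTISubset (Cfsg.typeA1 M) ∧ Subgroup.normalizer (Cfsg.typeA1 M) = M) := by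
  have hpl := fun (r : ℕ) [Fact r.Prime] (H : Subgroup G) hH => OddLocal.Sigma.pLengthLE_proper hG r H hH
  obtain ⟨W₁, U, W₂, hP, -, -, hFTI, -⟩ := id hII
  obtain ⟨⟨K, hK⟩, hcyc⟩ := OddLocal.Sigma.kappa_hall hG hpl hM
  obtain ⟨V, hKV⟩ := OddLocal.Sigma.exists_decomp hG hpl hM (hcyc K hK) hK
  obtain ⟨hK1, hV1⟩ := (Cfsg.Agent.S1381.result hG M hM K V hKV).mp hII
  have hnI : ¬ Cfsg.IsOfTypeI M := fun hI => hK1 (OddLocal.Sigma.typeI_cases hG hpl hM hKV hI).1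
  have hT : Cfsg.typeCore M = Cfsg.fittingHallOf M := if_neg fun h34 =>
    hV1 ((Cfsg.Agent.S1382.result hG M hM K V hKV).mp h34).2.1
  have hA : Cfsg.typeA M = {a | a ∈ ⁅M, M⁆ ∧ a ≠ 1 ∧ ∃ x ∈ Cfsg.fittingHallOf M, x ≠ 1 ∧ a * x = x * a} := by
    rw [← hT]; exact if_neg hnI
  have hA1 : Cfsg.typeA1 M = (Cfsg.fittingHallOf M : Set G) \ {1} := by rw [Cfsg.typeA1, hT]
  have hDM := OddLocal.derived_le M
  have hHD : Cfsg.fittingHallOf M ≤ ⁅M, M⁆ := hP.U_compl.1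
  have hH1 := OddLocal.Sigma.fittingHallOf_ne_bot hG hpl hM
  obtain ⟨h₀, hh₀, hh₀1⟩ := (Subgroup.bot_or_exists_ne_one _).resolve_left hH1
  have hHn := OddLocal.Sigma.le_normalizer_fittingHallOf hG hpl M
  have hcjH : ∀ m ∈ M, ∀ x ∈ Cfsg.fittingHallOf M, m * x * m⁻¹ ∈ Cfsg.fittingHallOf M := fun m hm x hx =>
    (Subgroup.mem_normalizer_iff.mp (hHn hm) x).mp hx
  have hsub1 : Cfsg.typeA1 M ⊆ Cfsg.typeA M := fun a ha => by
    rw [hA1] at ha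
    rw [hA]
    exact ⟨hHD ha.1, ha.2, a, ha.1, ha.2, rfl⟩
  have hinvA : ∀ m ∈ M, ∀ v ∈ Cfsg.typeA M, m * v * m⁻¹ ∈ Cfsg.typeA M := by
    intro m hm v hv
    rw [hA] at hv ⊢
    obtain ⟨hvD, hv1, x, hx, hx1, hc⟩ := hv
    refine ⟨?_, fun e => hv1 (conj_eq_one_iff.mp e), m * x * m⁻¹, hcjH m hm x hx,
      fun e => hx1 (conj_eq_one_iff.mp e), ((show Commute v x from hc).map (MulAut.conj m)).eq⟩
    rw [show m * v * m⁻¹ = ⁅m, v⁆ * v by rw [commutatorElement_def]; group]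
    exact mul_mem (Subgroup.commutator_mem_commutator hm (hDM hvD)) hvD
  have hinv1 : ∀ m ∈ M, ∀ v ∈ Cfsg.typeA1 M, m * v * m⁻¹ ∈ Cfsg.typeA1 M := fun m hm v hv => by
    rw [hA1] at hv ⊢
    exact ⟨hcjH m hm v hv.1, fun e => hv.2 (conj_eq_one_iff.mp e)⟩
  have hinv0 : ∀ m ∈ M, ∀ v ∈ Cfsg.typeA0 M, m * v * m⁻¹ ∈ Cfsg.typeA0 M := by
    intro m hm v hv
    rcases hv with hv | ⟨hn, A, B, C, hd, m', hm', w, hw, hw1, hw2, rfl⟩
    · exact Or.inl (hinvA m hm v hv)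
    · exact Or.inr ⟨hn, A, B, C, hd, m * m', M.mul_mem hm hm', w, hw, hw1, hw2, by group⟩
  have hAM : Cfsg.typeA M ⊆ M := fun a ha => by rw [hA] at ha; exact hDM ha.1
  have h1A1 : h₀ ∈ Cfsg.typeA1 M := by rw [hA1]; exact ⟨hh₀, hh₀1⟩
  have hN1 := OddLocal.Sigma.normalizer_eq_of_invariant hG hM (hsub1.trans hAM) h1A1 hh₀1 hinv1
  have hNA := OddLocal.Sigma.normalizer_eq_of_invariant hG hM hAM (hsub1 h1A1) hh₀1 hinvA
  have hA0M : Cfsg.typeA0 M ⊆ M := by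
    rintro a (ha | ⟨-, A, B, C, hd, m', hm', w, hw, -, -, rfl⟩)
    · exact hAM ha
    · exact M.mul_mem (M.mul_mem hm' (sup_le hd.W₁_compl.2.1 ((hd.W₂_le.trans inf_le_left).trans
        (OddLocal.fittingHallOf_le M)) hw)) (M.inv_mem hm')
  have hN0 := OddLocal.Sigma.normalizer_eq_of_invariant hG hM hA0M (Or.inl (hsub1 h1A1)) hh₀1 hinv0
  have hFN : Subgroup.normalizer (Cfsg.fittingOf M : Set G) = M :=
    OddLocal.Sigma.normalizer_eq_of_invariant hG hM (Subgroup.map_subtype_le _)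
      (OddLocal.Sigma.fittingHallOf_le_fittingOf M hh₀) hh₀1
      fun m hm v hv => (Subgroup.mem_normalizer_iff.mp (OddLocal.Sigma.le_normalizer_fittingOf M hm) v).mp hv
  -- conjugation inside `A₁(M)` and inside `A(M)`
  have hH : ∀ x ∈ Cfsg.fittingHallOf M, x ≠ 1 → ∀ g : G, g * x * g⁻¹ ∈ M →
      g ∈ M ∧ g * x * g⁻¹ ∈ Cfsg.fittingHallOf M := by
    intro x hx hx1 g hg
    have hy := OddLocal.Sigma.mem_fittingHallOf hg (by
      rw [OddLocal.Sigma.orderOf_conj_eq]; exact Subgroup.orderOf_dvd_natCard _ hx)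
    refine ⟨hFN.le ?_, hy⟩
    by_contra hn
    exact hx1 (hFTI g hn x (OddLocal.Sigma.fittingHallOf_le_fittingOf M hx)
      (OddLocal.Sigma.fittingHallOf_le_fittingOf M hy))
  have hTIdiff := (Cfsg.Agent.S1390.result hG M hM U (Or.inr ⟨hII, hP.U_compl⟩)).2.2
  have keyA : ∀ x ∈ Cfsg.typeA M, ∀ g : G, g * x * g⁻¹ ∈ Cfsg.typeA M → g ∈ M := by
    intro x hx g hgx
    have hx1 : x ≠ 1 := by rw [hA] at hx; exact hx.2.1
    by_cases h : x ∈ Cfsg.fittingHallOf M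
    · exact (hH x h hx1 g (hAM hgx)).1
    have hy : g * x * g⁻¹ ∉ Cfsg.fittingHallOf M := fun hy => h (by
      have := (hH _ hy (fun e => hx1 (conj_eq_one_iff.mp e)) g⁻¹ (by
        rw [show g⁻¹ * (g * x * g⁻¹) * g⁻¹⁻¹ = x by group]; exact hAM hx)).2
      rwa [show g⁻¹ * (g * x * g⁻¹) * g⁻¹⁻¹ = x by group] at this)
    have hd : ∀ v ∈ Cfsg.typeA M, v ∉ Cfsg.fittingHallOf M → v ∈ Cfsg.typeA M \ Cfsg.typeA1 M := fun v hv hvH =>
      ⟨hv, fun e => hvH (by rw [hA1] at e; exact e.1)⟩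
    refine (OddLocal.Sigma.normalizer_eq_of_invariant hG hM (Set.sdiff_subset.trans hAM) (hd x hx h) hx1
      (fun m hm v hv => ⟨hinvA m hm v hv.1, fun e => hv.2 (by
        have := hinv1 m⁻¹ (M.inv_mem hm) _ e
        rwa [show m⁻¹ * (m * v * m⁻¹) * m⁻¹⁻¹ = v by group] at this)⟩)).le ?_
    by_contra hn
    exact hx1 (hTIdiff g hn x (hd x hx h) (hd _ hgx hy))
  -- elements of `A₀(M)` outside `A(M)`
  have hform : ∀ v ∈ Cfsg.typeA0 M, v ∉ Cfsg.typeA M →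
      ∃ m ∈ M, ∃ w ∈ OddLocal.Sigma.zSet W₁ W₂, v = m * w * m⁻¹ := by
    intro v hv hvA
    rcases hv with hv | ⟨-, A, B, C, hd, m', hm', w, hw, hw1, hw2, rfl⟩
    · exact absurd hv hvA
    · obtain ⟨m, hm, hz⟩ := OddLocal.Sigma.zSet_conj hG hM hP hd (show w ∈ OddLocal.Sigma.zSet A C from ⟨hw, hw1, hw2⟩)
      exact ⟨m' * m⁻¹, M.mul_mem hm' (M.inv_mem hm), _, hz, by group⟩
  have hord : ∀ v ∈ Cfsg.typeA0 M, (orderOf v ∣ Nat.card ↥⁅M, M⁆ ↔ v ∈ Cfsg.typeA M) := by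
    refine fun v hv => ⟨fun hd => ?_, fun h => ?_⟩
    · by_contra hvA
      obtain ⟨m, -, w, hw, rfl⟩ := hform v hv hvA
      rw [OddLocal.Sigma.orderOf_conj_eq] at hd
      exact OddLocal.Sigma.zSet_order hP hw hd
    · rw [hA] at h
      exact Subgroup.orderOf_dvd_natCard _ h.1
  refine ⟨⟨fun g hg x hx hgx => ?_, hN0⟩, ⟨fun g hg x hx hgx => ?_, hNA⟩, ⟨fun g hg x hx hgx => ?_, hN1⟩⟩
  · rw [hN0] at hg
    refine absurd ?_ hg
    by_cases hxA : x ∈ Cfsg.typeA M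
    · exact keyA x hxA g ((hord _ hgx).mp (by rw [OddLocal.Sigma.orderOf_conj_eq]; exact (hord x hx).mpr hxA))
    · have hyA : g * x * g⁻¹ ∉ Cfsg.typeA M := fun h => hxA ((hord x hx).mp (by
        have := (hord _ hgx).mpr h
        rwa [OddLocal.Sigma.orderOf_conj_eq] at this))
      obtain ⟨m, hm, w, hw, rfl⟩ := hform x hx hxA
      obtain ⟨m', hm', w', hw', he⟩ := hform _ hgx hyA
      have h1 : m'⁻¹ * g * m ∈ W₁ ⊔ W₂ := OddLocal.Sigma.mem_of_conj_zSet hP.selfNormalizing hw (by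
        rw [show m'⁻¹ * g * m * w * (m'⁻¹ * g * m)⁻¹ = m'⁻¹ * (g * (m * w * m⁻¹) * g⁻¹) * m' by group, he,
          show m'⁻¹ * (m' * w' * m'⁻¹) * m' = w' by group]
        exact hw')
      have h2 : m'⁻¹ * g * m ∈ M := sup_le hP.W₁_compl.2.1 ((hP.W₂_le.trans inf_le_left).trans
        (OddLocal.fittingHallOf_le M)) h1
      have h3 := M.mul_mem (M.mul_mem hm' h2) (M.inv_mem hm)
      rwa [show m' * (m'⁻¹ * g * m) * m⁻¹ = g by group] at h3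
  · rw [hNA] at hg
    exact absurd (keyA x hx g hgx) hg
  · rw [hN1] at hg
    exact absurd (keyA x (hsub1 hx) g (hsub1 hgx)) hg

end Cfsg.Agent.S1538
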