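import Cfsg.Statements.S1537
import Cfsg.Agent.S1538
import Cfsg.Agent.S1382
import Cfsg.Agent.S1383
import Cfsg.Agent.OddChar.Support.DadeTools

set_option autoImplicit false
open Cfsg
open scoped commutatorElement

namespace Cfsg.Agent.S1537

/-- Let G be a minimal simple group of odd order and M a maximal subgroup. For A equal to A₁(M), A(M) or A₀(M): the set normaliser of A is M, and the Dade hypothesis holds for A, M and the function a ↦ R(a). -/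
theorem result {G : Type*} [Group G] [Finite G] (hG : Cfsg.IsMinSimpleOddOrder G) (M : Subgroup G) (hM : IsCoatom M) (A : Set G) (hA : A = Cfsg.typeA1 M ∨ A = Cfsg.typeA M ∨ A = Cfsg.typeA0 M) : Subgroup.normalizer A = M ∧ Cfsg.DadeHypothesis A M (Cfsg.supportR M) := by
  have hpl := OddChar.Support.plen hG
  obtain ⟨⟨K, hK⟩, hcyc⟩ := OddLocal.Sigma.kappa_hall hG hpl hM
  obtain ⟨V, hKV⟩ := OddLocal.Sigma.exists_decomp hG hpl hM (hcyc K hK) hK
  have hDM := OddLocal.derived_le M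
  have hFσ := OddLocal.Sigma.fittingHallOf_le_sigmaCore hG hpl hM
  have hσD := OddLocal.Sigma.sigmaCore_le_derived hG hM
  obtain ⟨h₀, hh₀, hh₀1⟩ := (Subgroup.bot_or_exists_ne_one _).resolve_left
    (OddLocal.Sigma.fittingHallOf_ne_bot hG hpl hM)
  have hDn : ∀ m ∈ M, ∀ v ∈ ⁅M, M⁆, m * v * m⁻¹ ∈ ⁅M, M⁆ := fun m hm v hv => by
    rw [show m * v * m⁻¹ = ⁅m, v⁆ * v by rw [commutatorElement_def]; group]
    exact mul_mem (Subgroup.commutator_mem_commutator hm (hDM hv)) hv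
  have hFn : ∀ m ∈ M, ∀ v ∈ Cfsg.fittingHallOf M, m * v * m⁻¹ ∈ Cfsg.fittingHallOf M := fun m hm v hv =>
    (Subgroup.mem_normalizer_iff.mp (OddLocal.Sigma.le_normalizer_fittingHallOf hG hpl M hm) v).mp hv
  have hTn : ∀ m ∈ M, ∀ v ∈ Cfsg.typeCore M, m * v * m⁻¹ ∈ Cfsg.typeCore M := by
    intro m hm v hv
    unfold Cfsg.typeCore at hv ⊢
    split_ifs at hv ⊢ with h
    · exact hDn m hm v hv
    · exact hFn m hm v hv
  have hFT : Cfsg.fittingHallOf M ≤ Cfsg.typeCore M := by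
    unfold Cfsg.typeCore
    split_ifs
    · exact hFσ.trans hσD
    · exact le_rfl
  have hTM : Cfsg.typeCore M ≤ M := by
    unfold Cfsg.typeCore
    split_ifs
    · exact hDM
    · exact OddLocal.fittingHallOf_le M
  have hmemA : Cfsg.typeA M ⊆ M := by
    intro a ha
    unfold Cfsg.typeA at ha
    split_ifs at ha
    · exact ha.1
    · exact hDM ha.1
  have hA1 : ∀ a ∈ Cfsg.typeA M, a ≠ 1 := by
    intro a ha
    unfold Cfsg.typeA at ha
    split_ifs at ha <;> exact ha.2.1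
  have hAn : ∀ m ∈ M, ∀ v ∈ Cfsg.typeA M, m * v * m⁻¹ ∈ Cfsg.typeA M := by
    intro m hm v hv
    unfold Cfsg.typeA at hv ⊢
    split_ifs at hv ⊢
    all_goals obtain ⟨h1, h2, y, hy, hy1, hc⟩ := hv
    · exact ⟨M.mul_mem (M.mul_mem hm h1) (M.inv_mem hm), fun e => h2 (conj_eq_one_iff.mp e), _, hFn m hm y hy,
        fun e => hy1 (conj_eq_one_iff.mp e), ((show Commute v y from hc).map (MulAut.conj m)).eq⟩
    · exact ⟨hDn m hm v h1, fun e => h2 (conj_eq_one_iff.mp e), _, hTn m hm y hy,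
        fun e => hy1 (conj_eq_one_iff.mp e), ((show Commute v y from hc).map (MulAut.conj m)).eq⟩
  have hh₀A : h₀ ∈ Cfsg.typeA M := by
    unfold Cfsg.typeA
    split_ifs
    · exact ⟨OddLocal.fittingHallOf_le M hh₀, hh₀1, h₀, hh₀, hh₀1, rfl⟩
    · exact ⟨hσD (hFσ hh₀), hh₀1, h₀, hFT hh₀, hh₀1, rfl⟩
  have hA0 : ∀ v ∈ Cfsg.typeA0 M, v ∈ Cfsg.typeA M ∨ ∃ W₁ U W₂, Cfsg.IsTypePWith M W₁ U W₂ ∧
      ∃ m ∈ M, ∃ w ∈ OddLocal.Sigma.zSet W₁ W₂, v = m * w * m⁻¹ := by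
    rintro v (hv | ⟨-, W₁, U, W₂, hd, m, hm, w, hw, hw1, hw2, rfl⟩)
    · exact Or.inl hv
    · exact Or.inr ⟨W₁, U, W₂, hd, m, hm, w, ⟨hw, hw1, hw2⟩, rfl⟩
  have hzM : ∀ {W₁ U W₂ : Subgroup G}, Cfsg.IsTypePWith M W₁ U W₂ → W₁ ⊔ W₂ ≤ M := fun hd =>
    sup_le hd.W₁_compl.2.1 ((hd.W₂_le.trans inf_le_left).trans (OddLocal.fittingHallOf_le M))
  -- membership and invariance for the three sets
  have h1A : (1 : G) ∉ A := by
    rcases hA with rfl | rfl | rfl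
    · exact fun h => h.2 rfl
    · exact fun h => hA1 _ h rfl
    · intro h
      rcases hA0 1 h with h | ⟨W₁, U, W₂, hd, m, -, w, hw, e⟩
      · exact hA1 _ h rfl
      · exact hw.2.1 (by rw [(conj_eq_one_iff.mp e.symm : w = 1)]; exact one_mem _)
  have hAM : A ⊆ M := by
    rcases hA with rfl | rfl | rfl
    · exact fun a ha => hTM ha.1
    · exact hmemA
    · intro v hv
      rcases hA0 v hv with h | ⟨W₁, U, W₂, hd, m, hm, w, hw, rfl⟩
      · exact hmemA h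
      · exact M.mul_mem (M.mul_mem hm (hzM hd hw.1)) (M.inv_mem hm)
  have hne : A.Nonempty := by
    rcases hA with rfl | rfl | rfl
    · exact ⟨h₀, hFT hh₀, hh₀1⟩
    · exact ⟨h₀, hh₀A⟩
    · exact ⟨h₀, Or.inl hh₀A⟩
  have hinv : ∀ m ∈ M, ∀ v ∈ A, m * v * m⁻¹ ∈ A := by
    rcases hA with rfl | rfl | rfl
    · exact fun m hm v hv => ⟨hTn m hm v hv.1, fun e => hv.2 (conj_eq_one_iff.mp e)⟩
    · exact hAn
    · intro m hm v hv
      rcases hv with hv | ⟨hn, W₁, U, W₂, hd, m', hm', w, hw, hw1, hw2, rfl⟩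
      · exact Or.inl (hAn m hm v hv)
      · exact Or.inr ⟨hn, W₁, U, W₂, hd, m * m', M.mul_mem hm hm', w, hw, hw1, hw2, by group⟩
  have hsub : ∀ v ∈ A, v ∈ Cfsg.typeA1 M ∨ v ∈ Cfsg.typeA M ∨ v ∈ Cfsg.typeA0 M := fun v hv => by
    rcases hA with rfl | rfl | rfl
    exacts [Or.inl hv, Or.inr (Or.inl hv), Or.inr (Or.inr hv)]
  by_cases hK1 : K = ⊥
  · -- `κ(M) = ∅`
    have hκ := OddLocal.Sigma.decomp_kappa_empty hG hpl hKV hK1
    have h34 : ¬ (Cfsg.IsOfTypeIII M ∨ Cfsg.IsOfTypeIV M) := fun h =>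
      ((Cfsg.Agent.S1382.result hG M hM K V hKV).mp h).1 hK1
    have hT : Cfsg.typeCore M = Cfsg.fittingHallOf M := if_neg h34
    have hhatA : Cfsg.typeA M ⊆ Cfsg.sigmaHat M := by
      intro a ha
      have haM := hmemA ha
      unfold Cfsg.typeA at ha
      rw [hT] at ha
      split_ifs at ha <;> exact ⟨haM, ha.2.2.choose, hFσ ha.2.2.choose_spec.1, ha.2.2.choose_spec.2⟩
    have hhat : A ⊆ Cfsg.sigmaHat M := by
      intro v hv
      rcases hsub v hv with ⟨h, h'⟩ | h | h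
      · rw [hT] at h
        exact ⟨OddLocal.fittingHallOf_le M h, v, hFσ h, h', rfl⟩
      · exact hhatA h
      · rcases hA0 v h with h | ⟨W₁, U, W₂, hd, -⟩
        · exact hhatA h
        · exact absurd hκ (OddLocal.Sigma.kappa_ne_of_typeP hG hpl hM hd).ne_empty
    exact OddChar.Support.dade_of hG hM hAM h1A hne hinv (fun _ => hhat) fun a ha haσ g hg =>
      OddChar.Support.moved_of_kappa_empty hG hM hκ (hhat ha) haσ (hhat hg)
  have hκ : ¬ Cfsg.kappa M = ∅ := fun e => by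
    obtain ⟨p, hp, hpd⟩ := Nat.exists_prime_and_dvd fun e' => hK1 (Subgroup.eq_bot_of_card_eq _ e')
    have := hK.2.1 p hp hpd
    rw [e] at this
    exact this
  by_cases hV1 : V = ⊥
  · -- `M` of Type III, IV or V
    have hnI : ¬ Cfsg.IsOfTypeI M := fun hI => hK1 (OddLocal.Sigma.typeI_cases hG hpl hM hKV hI).1
    have hD : ⁅M, M⁆ = Cfsg.sigmaCore M := by
      rw [(OddLocal.Sigma.derived_eq_and_fixed_le hG hpl hM hKV hK1).1, hV1, bot_sup_eq]
    have hP : ∃ W₁ U W₂, Cfsg.IsTypePWith M W₁ U W₂ := by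
      by_cases hF : Cfsg.fittingHallOf M = Cfsg.sigmaCore M
      · obtain ⟨W₁, U, W₂, hd, -⟩ := (Cfsg.Agent.S1383.result hG M hM K V hKV).mpr ⟨hK1, hV1, hF⟩
        exact ⟨W₁, U, W₂, hd⟩
      · rcases (Cfsg.Agent.S1382.result hG M hM K V hKV).mpr ⟨hK1, hV1, hF⟩ with
          ⟨W₁, U, W₂, hd, -⟩ | ⟨W₁, U, W₂, hd, -⟩ <;> exact ⟨W₁, U, W₂, hd⟩
    obtain ⟨W₁, U, W₂, hP⟩ := hP
    have hTσ : Cfsg.typeCore M ≤ Cfsg.sigmaCore M := by
      unfold Cfsg.typeCore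
      split_ifs
      · exact hD.le
      · exact hFσ
    have hAσ : Cfsg.typeA M ⊆ Cfsg.sigmaCore M := fun a ha => by
      rw [Cfsg.typeA, if_neg hnI] at ha
      exact hD.le ha.1
    refine OddChar.Support.dade_of hG hM hAM h1A hne hinv (fun e => absurd e hκ) fun a ha haσ g hg => ?_
    have hform : ∀ v ∈ A, v ∉ Cfsg.sigmaCore M →
        ∃ m ∈ M, ∃ w ∈ OddLocal.Sigma.zSet W₁ W₂, v = m * w * m⁻¹ := by
      intro v hv hvσ
      rcases hsub v hv with h | h | h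
      · exact absurd (hTσ h.1) hvσ
      · exact absurd (hAσ h) hvσ
      · rcases hA0 v h with h | ⟨B, C, D, hd, m', hm', w, hw, rfl⟩
        · exact absurd (hAσ h) hvσ
        · obtain ⟨m, hm, hz⟩ := OddLocal.Sigma.zSet_conj hG hM hP hd hw
          exact ⟨m' * m⁻¹, M.mul_mem hm' (M.inv_mem hm), _, hz, by group⟩
    have hgaσ : g * a * g⁻¹ ∉ Cfsg.sigmaCore M := fun h => haσ (by
      have := OddChar.Support.mem_sigmaCore_of_conj hG hM (g := g⁻¹) h (by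
        rw [show g⁻¹ * (g * a * g⁻¹) * g⁻¹⁻¹ = a by group]; exact hAM ha)
      rwa [show g⁻¹ * (g * a * g⁻¹) * g⁻¹⁻¹ = a by group] at this)
    obtain ⟨m, hm, w, hw, rfl⟩ := hform a ha haσ
    obtain ⟨m', hm', w', hw', he⟩ := hform _ hg hgaσ
    have h1 : m'⁻¹ * g * m ∈ W₁ ⊔ W₂ := OddLocal.Sigma.mem_of_conj_zSet hP.selfNormalizing hw (by
      rw [show m'⁻¹ * g * m * w * (m'⁻¹ * g * m)⁻¹ = m'⁻¹ * (g * (m * w * m⁻¹) * g⁻¹) * m' by group, he,
        show m'⁻¹ * (m' * w' * m'⁻¹) * m' = w' by group]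
      exact hw')
    have h3 := M.mul_mem (M.mul_mem hm' (hzM hP h1)) (M.inv_mem hm)
    rwa [show m' * (m'⁻¹ * g * m) * m⁻¹ = g by group] at h3
  -- `M` of Type II
  obtain ⟨⟨hT0, hN0⟩, ⟨hTA, hNA⟩, hT1, hN1⟩ :=
    Cfsg.Agent.S1538.result hG M hM ((Cfsg.Agent.S1381.result hG M hM K V hKV).mpr ⟨hK1, hV1⟩)
  have hTI : Cfsg.IsTISubset A ∧ Subgroup.normalizer A = M := by
    rcases hA with rfl | rfl | rfl
    exacts [⟨hT1, hN1⟩, ⟨hTA, hNA⟩, ⟨hT0, hN0⟩]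
  refine OddChar.Support.dade_of hG hM hAM h1A hne hinv (fun e => absurd e hκ) fun a ha _ g hg => ?_
  by_contra hn
  exact h1A (hTI.1 g (by rw [hTI.2]; exact hn) a ha hg ▸ ha)

end Cfsg.Agent.S1537
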