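import Cfsg.Statements.S0728
import Cfsg.Agent.PermGroups.SharplyThree

set_option autoImplicit false
open Cfsg

namespace Cfsg.Agent.S0728

/-- In a sharply triply transitive group of even degree at least 6 (degree `q + 1`, `q` odd), a two-point stabiliser has at most one subgroup of order 3. -/
theorem result {α : Type*} [Fintype α] [DecidableEq α] (heven : Even (Fintype.card α)) (h6 : 6 ≤ Fintype.card α) (G : Subgroup (Equiv.Perm α)) (h3 : MulAction.IsMultiplyPretransitive G α 3) (hsharp : ∀ x : Fin 3 ↪ α, MulAction.stabilizer G x = ⊥) {a b : α} (hab : a ≠ b) (A B : Subgroup G) (hA : A ≤ MulAction.stabilizer G a ⊓ MulAction.stabilizer G b) (hB : B ≤ MulAction.stabilizer G a ⊓ MulAction.stabilizer G b) (hA3 : Nat.card A = 3) (hB3 : Nat.card B = 3) : A = B := by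
  classical
  obtain ⟨c, hac, hbc⟩ := PermGroups.exists_third (by omega) hab
  obtain ⟨t, htH, ht2⟩ := PermGroups.exists_involution_twoStabilizer h3 hsharp heven hab hac hbc
  obtain ⟨s, hsa, hsb, hsc⟩ := PermGroups.exists_move_three h3 hab hac hbc hab.symm hbc hac
  have hinv : ∀ h ∈ MulAction.stabilizer G a ⊓ MulAction.stabilizer G b, orderOf h = 3 → s * h * s⁻¹ = h⁻¹ :=
    fun h hh hh3 => PermGroups.order_three_inverted h3 hsharp hab hac hbc htH ht2 hsa hsb hsc hh hh3
  obtain ⟨p, j, N, hp, -, -, -, hNb, hNn, hNc, hexp, hNreg⟩ := PermGroups.exists_translations h3 hsharp (by omega) b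
  haveI : Fact p.Prime := ⟨hp⟩
  haveI : Fact (Nat.Prime 3) := ⟨Nat.prime_three⟩
  obtain ⟨_, _, L, ⟨e⟩, hreg⟩ := PermGroups.exists_regLin hsharp hab hNb hNn hNc hNreg hexp h3
  haveI : Nontrivial (Additive N) := by
    obtain ⟨n, ⟨hn, hna⟩, -⟩ := hNreg a c hab hbc.symm
    refine ⟨⟨Additive.ofMul ⟨n, hn⟩, 0, fun h => ?_⟩⟩
    have : n = 1 := congrArg (fun v : Additive N => (v.toMul : G)) h
    rw [this, one_smul] at hna
    exact hac hna
  obtain ⟨x, hx⟩ := exists_prime_orderOf_dvd_card' (G := A) 3 (by rw [hA3])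
  obtain ⟨y, hy⟩ := exists_prime_orderOf_dvd_card' (G := B) 3 (by rw [hB3])
  have hx' : orderOf (x : G) = 3 := by rw [Subgroup.orderOf_coe, hx]
  have hy' : orderOf (y : G) = 3 := by rw [Subgroup.orderOf_coe, hy]
  have hxy : (x : G) * y = y * x := by
    have hxH := hA x.2
    have hyH := hB y.2
    have i1 := hinv _ hxH hx'
    have i2 := hinv _ hyH hy'
    have i3 := hinv ((x : G) * y * (x : G)⁻¹) (mul_mem (mul_mem hxH hyH) (inv_mem hxH))
      (by rw [← MulAut.conj_apply, MulEquiv.orderOf_eq, hy'])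
    have h1 : (x : G)⁻¹ * (y : G)⁻¹ * x = x * (y : G)⁻¹ * (x : G)⁻¹ := by
      calc (x : G)⁻¹ * (y : G)⁻¹ * x
          = (s * x * s⁻¹) * (s * y * s⁻¹) * (s * x * s⁻¹)⁻¹ := by rw [i1, i2]; group
        _ = s * ((x : G) * y * (x : G)⁻¹) * s⁻¹ := by group
        _ = ((x : G) * y * (x : G)⁻¹)⁻¹ := i3
        _ = x * (y : G)⁻¹ * (x : G)⁻¹ := by group
    have h3' : (x : G) * x * x = 1 := by
      rw [← pow_orderOf_eq_one (x : G), hx', pow_succ, pow_succ, pow_one]
    have h2 : (x : G) * x * (y : G)⁻¹ = (y : G)⁻¹ * (x * x) := by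
      calc (x : G) * x * (y : G)⁻¹ = x * (x * (y : G)⁻¹ * (x : G)⁻¹) * x := by group
        _ = x * ((x : G)⁻¹ * (y : G)⁻¹ * x) * x := by rw [h1]
        _ = (y : G)⁻¹ * (x * x) := by group
    have hc2 : Commute ((x : G) * x) y := Commute.inv_right_iff.1 h2
    have hxi : (x : G) = ((x : G) * x)⁻¹ := eq_inv_of_mul_eq_one_left (by rw [← mul_assoc, h3'])
    rw [hxi]
    exact hc2.inv_left
  haveI : Nontrivial L := by
    refine ⟨⟨e ⟨x, hA x.2⟩, 1, fun h => ?_⟩⟩
    have hx1 := e.injective (h.trans (map_one e).symm)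
    have hx2 : (x : G) = 1 := congrArg Subtype.val hx1
    rw [hx2, orderOf_one] at hx'
    omega
  haveI := PermGroups.RegLin.finite_group L
  obtain ⟨m, hm, ⟨F⟩⟩ := hreg.exists_fpfRep
  haveI : Nonempty (Fin m) := ⟨⟨0, hm⟩⟩
  have hmem := F.mem_zpowers_of_comm (a := e ⟨x, hA x.2⟩) (b := e ⟨y, hB y.2⟩)
    (by rw [MulEquiv.orderOf_eq, ← Subgroup.orderOf_coe, hx'])
    (by rw [MulEquiv.orderOf_eq, ← Subgroup.orderOf_coe, hy'])
    (by rw [← map_mul, ← map_mul]; exact congrArg e (Subtype.ext hxy))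
  obtain ⟨k, hk⟩ := hmem
  simp only [← map_zpow] at hk
  have hk' : (x : G) ^ k = y := by
    have := congrArg Subtype.val (e.injective hk)
    simpa using this
  haveI : Finite G := inferInstance
  have hA' : Subgroup.zpowers (x : G) = A := Subgroup.eq_of_le_of_card_ge
    (by rw [Subgroup.zpowers_le]; exact x.2) (by rw [Nat.card_zpowers, hx', hA3])
  have hB' : Subgroup.zpowers (y : G) = B := Subgroup.eq_of_le_of_card_ge
    (by rw [Subgroup.zpowers_le]; exact y.2) (by rw [Nat.card_zpowers, hy', hB3])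
  rw [← hA', ← hB']
  refine (Subgroup.eq_of_le_of_card_ge ?_ (by rw [Nat.card_zpowers, Nat.card_zpowers, hx', hy'])).symm
  rw [Subgroup.zpowers_le, ← hk']
  exact zpow_mem (Subgroup.mem_zpowers _) k

end Cfsg.Agent.S0728
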