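import Cfsg.Statements.S0729
import Cfsg.Agent.S0728
import Cfsg.Agent.PermGroups.RegularLinearIndexTwo

set_option autoImplicit false
open Cfsg

namespace Cfsg.Agent.S0729

/-- In a sharply triply transitive group of even degree at least 6, the two-point stabiliser `H = G_{a,b}` has a normal subgroup of index 2 that is normalised by the element `s` interchanging `a, b` and fixing a third point `c`. -/
theorem result {α : Type*} [Fintype α] [DecidableEq α] (heven : Even (Fintype.card α)) (h6 : 6 ≤ Fintype.card α) (G : Subgroup (Equiv.Perm α)) (h3 : MulAction.IsMultiplyPretransitive G α 3) (hsharp : ∀ x : Fin 3 ↪ α, MulAction.stabilizer G x = ⊥) {a b c : α} (hab : a ≠ b) (hac : a ≠ c) (hbc : b ≠ c) (s : G) (hsa : s • a = b) (hsb : s • b = a) (hsc : s • c = c) : ∃ N : Subgroup G, N ≤ MulAction.stabilizer G a ⊓ MulAction.stabilizer G b ∧ (N.subgroupOf (MulAction.stabilizer G a ⊓ MulAction.stabilizer G b)).Normal ∧ N.relIndex (MulAction.stabilizer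 G a ⊓ MulAction.stabilizer G b) = 2 ∧ ∀ n ∈ N, s * n * s⁻¹ ∈ N := by
  classical
  obtain ⟨p, j, N, hp, hj, hcard, -, hNb, hNn, hNc, hexp, hNreg⟩ := PermGroups.exists_translations h3 hsharp (by omega) b
  haveI : Fact p.Prime := ⟨hp⟩
  obtain ⟨_, _, L, ⟨e⟩, hreg⟩ := PermGroups.exists_regLin hsharp hab hNb hNn hNc hNreg hexp h3
  set H := MulAction.stabilizer G a ⊓ MulAction.stabilizer G b with hH
  haveI : Nontrivial (Additive N) := by
    obtain ⟨n, ⟨hn, hna⟩, -⟩ := hNreg a c hab hbc.symm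
    refine ⟨⟨Additive.ofMul ⟨n, hn⟩, 0, fun h => ?_⟩⟩
    have : n = 1 := congrArg (fun v : Additive N => (v.toMul : G)) h
    rw [this, one_smul] at hna
    exact hac hna
  have hcardH : Nat.card H = Fintype.card α - 2 := PermGroups.natCard_twoStabilizer h3 hsharp hab hac hbc
  have hL2 : 2 ∣ Nat.card L := by
    rw [← Nat.card_congr e.toEquiv, hcardH]
    obtain ⟨r, hr⟩ := heven
    exact ⟨r - 1, by omega⟩
  have huniq : ∀ x y : L, orderOf x = 3 → orderOf y = 3 → y = x ∨ y = x * x := by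
    intro x y hx hy
    have ho : ∀ z : L, orderOf ((e.symm z : H) : G) = orderOf z := fun z => by
      rw [Subgroup.orderOf_coe, MulEquiv.orderOf_eq]
    have hA := S0728.result heven h6 G h3 hsharp hab (Subgroup.zpowers ((e.symm x : H) : G))
      (Subgroup.zpowers ((e.symm y : H) : G)) (Subgroup.zpowers_le.2 (e.symm x).2)
      (Subgroup.zpowers_le.2 (e.symm y).2) (by rw [Nat.card_zpowers, ho, hx]) (by rw [Nat.card_zpowers, ho, hy])
    have hy' : ((e.symm y : H) : G) ∈ Subgroup.zpowers ((e.symm x : H) : G) := hA ▸ Subgroup.mem_zpowers _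
    rw [mem_zpowers_iff_mem_range_orderOf, ho, hx] at hy'
    obtain ⟨i, hi, hiy⟩ := Finset.mem_image.1 hy'
    have hiy' : y = x ^ i := e.symm.injective (Subtype.ext (by rw [map_pow, Subgroup.coe_pow, hiy]))
    rw [Finset.mem_range] at hi
    interval_cases i
    · rw [pow_zero] at hiy'
      rw [hiy', orderOf_one] at hy
      omega
    · exact Or.inl (by rw [hiy', pow_one])
    · exact Or.inr (by rw [hiy', sq])
  obtain ⟨M, hM⟩ := PermGroups.RegLin.IsReg.exists_index_two hreg hL2 huniq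
  set M₁ : Subgroup H := M.comap e.toMonoidHom with hM₁
  have hM1i : M₁.index = 2 := by rw [hM₁, Subgroup.index_comap_of_surjective M (f := e.toMonoidHom) e.surjective, hM]
  have hss : s * s = 1 := PermGroups.eq_one_of_three_fixed hsharp hab hac hbc
    (by rw [mul_smul, hsa, hsb]) (by rw [mul_smul, hsb, hsa]) (by rw [mul_smul, hsc, hsc])
  have hsi : s⁻¹ = s := inv_eq_of_mul_eq_one_right hss
  have hconj : ∀ h ∈ H, s * h * s⁻¹ ∈ H := by
    intro h hh
    refine ⟨MulAction.mem_stabilizer_iff.2 ?_, MulAction.mem_stabilizer_iff.2 ?_⟩ <;>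
      rw [hsi, mul_smul, mul_smul]
    · rw [hsa, MulAction.mem_stabilizer_iff.1 hh.2, hsb]
    · rw [hsb, MulAction.mem_stabilizer_iff.1 hh.1, hsa]
  let σ : H → H := fun h => ⟨s * h * s⁻¹, hconj h h.2⟩
  have hσmul : ∀ x y : H, σ (x * y) = σ x * σ y := fun x y => Subtype.ext (by
    show s * (x * y : G) * s⁻¹ = s * x * s⁻¹ * (s * y * s⁻¹)
    group)
  have hσσ : ∀ x : H, σ (σ x) = x := fun x => Subtype.ext (by
    show s * (s * x * s⁻¹) * s⁻¹ = (x : G)
    rw [hsi, ← mul_assoc, ← mul_assoc, hss, one_mul, mul_assoc, hss, mul_one])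
  -- the combination of the subgroup with its conjugate
  obtain ⟨M₂, hM2, hM2inv⟩ : ∃ M₂ : Subgroup H, M₂.index = 2 ∧ ∀ x ∈ M₂, σ x ∈ M₂ := by
    by_cases hinv : ∀ x ∈ M₁, σ x ∈ M₁
    · exact ⟨M₁, hM1i, hinv⟩
    push Not at hinv
    obtain ⟨x₀, hx₀, hx₀'⟩ := hinv
    have hσ1 : σ 1 = 1 := Subtype.ext (by show s * 1 * s⁻¹ = 1; group)
    let M₂ : Subgroup H :=
      { carrier := {x | x ∈ M₁ ↔ σ x ∈ M₁}
        one_mem' := by simp [hσ1]
        mul_mem' := fun {x y} hx hy => by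
          show x * y ∈ M₁ ↔ σ (x * y) ∈ M₁
          rw [hσmul, Subgroup.mul_mem_iff_of_index_two hM1i, Subgroup.mul_mem_iff_of_index_two hM1i]
          exact iff_congr hx hy
        inv_mem' := fun {x} hx => by
          show x⁻¹ ∈ M₁ ↔ σ x⁻¹ ∈ M₁
          rw [show σ x⁻¹ = (σ x)⁻¹ from eq_inv_of_mul_eq_one_left (by rw [← hσmul, inv_mul_cancel, hσ1]),
            inv_mem_iff, inv_mem_iff]
          exact hx }
    refine ⟨M₂, Subgroup.index_eq_two_iff.2 ⟨x₀, fun x => ?_⟩, fun x hx => ?_⟩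
    · show Xor (x * x₀ ∈ M₁ ↔ σ (x * x₀) ∈ M₁) (x ∈ M₁ ↔ σ x ∈ M₁)
      rw [hσmul, Subgroup.mul_mem_iff_of_index_two hM1i, Subgroup.mul_mem_iff_of_index_two hM1i]
      by_cases h1 : x ∈ M₁ <;> by_cases h2 : σ x ∈ M₁ <;> simp [Xor, h1, h2, hx₀, hx₀']
    · show σ x ∈ M₁ ↔ σ (σ x) ∈ M₁
      rw [hσσ]
      exact hx.symm
  refine ⟨M₂.map H.subtype, Subgroup.map_subtype_le _, ?_, ?_, ?_⟩
  · rw [Subgroup.subgroupOf, Subgroup.comap_map_eq_self_of_injective (Subgroup.subtype_injective _)]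
    exact Subgroup.normal_of_index_eq_two hM2
  · rw [Subgroup.relIndex, Subgroup.subgroupOf, Subgroup.comap_map_eq_self_of_injective (Subgroup.subtype_injective _), hM2]
  · rintro _ ⟨x, hx, rfl⟩
    exact ⟨σ x, hM2inv x hx, rfl⟩

end Cfsg.Agent.S0729
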