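import Cfsg.Statements.S0029
import Cfsg.Agent.Core.CoprimeAction
-- import your own Cfsg.Agent.* helpers here

set_option autoImplicit false
open Cfsg

namespace Cfsg.Agent.S0029

/-- An action that is trivial on the Frattini quotient and coprime on the Frattini subgroup is trivial: if A normalises K, the orders of A and of the Frattini subgroup of K are coprime, and every commutator of an element of A with an element of K lies in the Frattini subgroup of K, then A centralises K. -/
theorem result {G : Type*} [Group G] [Finite G] (A K : Subgroup G)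
    (hAK : A ≤ Subgroup.normalizer (K : Set G))
    (hcop : (Nat.card A).Coprime (Nat.card (frattini K)))
    (htriv : ∀ a ∈ A, ∀ k ∈ K, a * k * a⁻¹ * k⁻¹ ∈ (frattini K).map K.subtype) :
    A ≤ Subgroup.centralizer (K : Set G) := by
  intro a ha
  let B : Subgroup G := Subgroup.zpowers a
  let N : Subgroup G := (frattini K).map K.subtype
  have hBA : B ≤ A := Subgroup.zpowers_le.mpr ha
  haveI : Group.IsSolvable B :=
    Group.isSolvable_of_comm (fun a b => mul_comm' a b)
  have hNK : N ≤ K := Subgroup.map_subtype_le _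
  have hBN : B ≤ Subgroup.normalizer (N : Set G) := by
    intro b hb
    refine Cfsg.Agent.Coprime.mem_normalizer_of_conj_mem ?_
    rintro _ ⟨y, hy, rfl⟩
    refine ⟨(K : Subgroup G).normalizerMonoidHom ⟨b, hAK (hBA hb)⟩ y, ?_, rfl⟩
    exact Subgroup.characteristic_iff_le_comap.mp inferInstance _ hy
  have hcard : (Nat.card B).Coprime (Nat.card N) := by
    rw [Subgroup.card_map_of_injective K.subtype_injective]
    exact hcop.coprime_dvd_left (Subgroup.card_dvd_of_le hBA)
  suffices h : (Subgroup.centralizer (B : Set G)).subgroupOf K = ⊤ by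
    rw [Subgroup.mem_centralizer_iff]
    intro k hk
    exact ((Subgroup.mem_centralizer_iff.mp
      (Subgroup.subgroupOf_eq_top.mp h hk)) a (Subgroup.mem_zpowers a)).symm
  refine frattini_nongenerating (eq_top_iff.mpr fun ⟨k, hk⟩ _ => ?_)
  have hmap : B.map (MulAut.conj k).toMonoidHom ≤ N ⊔ B := by
    rw [Cfsg.Agent.Coprime.map_conj_le_iff]
    intro b hb
    have := N.inv_mem (htriv b (hBA hb) k hk)
    have h2 : k * b * k⁻¹ = (b * k * b⁻¹ * k⁻¹)⁻¹ * b := by group
    rw [h2]
    exact Subgroup.mul_mem_sup this hb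
  obtain ⟨x, hx, he⟩ := Cfsg.Agent.Core.exists_conj_complement_general N B _ (Or.inl ‹_›) hBN hmap
    (Cfsg.Agent.Coprime.card_map_conj B k) hcard
  have hc : x⁻¹ * k ∈ Subgroup.centralizer (B : Set G) := by
    rw [Cfsg.Agent.Coprime.mem_centralizer_iff_conj]
    intro b hb
    have h1 : (x⁻¹ * k) * b * (x⁻¹ * k)⁻¹ ∈ B := by
      have : k * b * k⁻¹ ∈ B.map (MulAut.conj x).toMonoidHom := by
        rw [← he, Cfsg.Agent.Coprime.map_conj_mem]; simpa [mul_assoc] using hb
      rw [Cfsg.Agent.Coprime.map_conj_mem] at this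
      simpa [mul_assoc] using this
    have h2 : (x⁻¹ * k) * b * (x⁻¹ * k)⁻¹ * b⁻¹ ∈ N := by
      have h3 : k * b * k⁻¹ * b⁻¹ ∈ N := by
        have := N.inv_mem (htriv b (hBA hb) k hk)
        simpa [mul_assoc] using this
      have h4 : b * x * b⁻¹ ∈ N := (Subgroup.mem_normalizer_iff.mp (hBN hb) x).mp hx
      have := N.mul_mem (N.mul_mem (N.inv_mem hx) h3) h4
      simpa [mul_assoc] using this
    have h5 : (x⁻¹ * k) * b * (x⁻¹ * k)⁻¹ * b⁻¹ ∈ N ⊓ B := ⟨h2, B.mul_mem h1 (B.inv_mem hb)⟩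
    rw [Cfsg.Agent.Coprime.inf_eq_bot_of_coprime hcard, Subgroup.mem_bot] at h5
    exact mul_inv_eq_one.mp h5
  have hk' : (⟨k, hk⟩ : K) = ⟨x, hNK hx⟩ * ⟨x⁻¹ * k, K.mul_mem (K.inv_mem (hNK hx)) hk⟩ :=
    Subtype.ext (mul_inv_cancel_left x k).symm
  rw [hk']
  refine Subgroup.mul_mem _ (Subgroup.mem_sup_right ?_) (Subgroup.mem_sup_left hc)
  obtain ⟨y, hy, hyx⟩ := hx
  have : y = ⟨x, hNK ⟨y, hy, hyx⟩⟩ := Subtype.ext hyx
  exact this ▸ hy

end Cfsg.Agent.S0029
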