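import Cfsg.Statements.S0132
import Cfsg.Agent.Transfer.Complement
import Cfsg.Agent.OddLocal.Basic

set_option autoImplicit false
open Cfsg

namespace Cfsg.Agent.S0132

/-- A minimal non-p-nilpotent finite group is a minimal non-nilpotent group with a normal Sylow p-subgroup. -/
theorem result {G : Type*} [Group G] [Finite G] {p : ℕ} [Fact p.Prime] (h1 : ¬ Cfsg.HasNormalPComplement p G) (h2 : ∀ H : Subgroup G, H ≠ ⊤ → Cfsg.HasNormalPComplement p H) : (∀ H : Subgroup G, H ≠ ⊤ → Group.IsNilpotent H) ∧ ¬ Group.IsNilpotent G ∧ ∀ P : Sylow p G, (P : Subgroup G).Normal := by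
  obtain ⟨P₀⟩ : Nonempty (Sylow p G) := inferInstance
  have hex : ∃ Q : Subgroup G, IsPGroup p Q ∧ ∃ g ∈ Subgroup.normalizer (Q : Set G),
      (orderOf g).Coprime p ∧ g ∉ Subgroup.centralizer (Q : Set G) := by
    by_contra h
    simp only [not_exists, not_and, not_not] at h
    exact h1 (Cfsg.Agent.Transfer.hasNormalPComplement_of_frobenius P₀ fun Q hQ _ g hg hgp =>
      h Q (P₀.2.to_le hQ) g hg hgp)
  obtain ⟨Q, hQ, g, hg, hgp, hgc⟩ := hex
  have hgen : Q ⊔ Subgroup.zpowers g = ⊤ := by
    by_contra hne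
    apply hgc
    set H := Q ⊔ Subgroup.zpowers g
    have hgH : g ∈ H := Subgroup.mem_sup_right (Subgroup.mem_zpowers g)
    have hc := Cfsg.Agent.Transfer.mem_centralizer_of_hasNormalPComplement (h2 H hne)
      (hQ.comap_subtype (K := H)) (g := (⟨g, hgH⟩ : H)) (by
        rw [Subgroup.mem_normalizer_iff]
        intro x
        exact Subgroup.mem_normalizer_iff.mp hg x) (by rw [← Subgroup.orderOf_coe]; exact hgp)
    rw [Subgroup.mem_centralizer_iff]
    intro q hq
    exact congrArg Subtype.val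
      (Subgroup.mem_centralizer_iff.mp hc ⟨q, Subgroup.mem_sup_left hq⟩ hq)
  haveI hQn : Q.Normal := by
    rw [← Subgroup.normalizer_eq_top_iff, eq_top_iff, ← hgen]
    exact sup_le Subgroup.le_normalizer (Subgroup.zpowers_le.mpr hg)
  have hquot : ∀ a : G, ∃ i : ℤ, QuotientGroup.mk' Q a = QuotientGroup.mk' Q g ^ i := by
    intro a
    obtain ⟨q, hq, z, ⟨i, rfl⟩, rfl⟩ := Subgroup.mem_sup_of_normal_left.mp
      (hgen.symm ▸ Subgroup.mem_top a : a ∈ Q ⊔ Subgroup.zpowers g)
    exact ⟨i, by rw [map_mul, map_zpow, show QuotientGroup.mk' Q q = 1 from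
      (QuotientGroup.eq_one_iff q).mpr hq, one_mul]⟩
  have hQP : ∀ P : Sylow p G, (P : Subgroup G) = Q := by
    intro P
    have hQle : Q ≤ (P : Subgroup G) := hQ.le_sylow_of_normal P
    refine le_antisymm ?_ hQle
    have hd : (Nat.card (G ⧸ Q)).Coprime p := by
      have hcard : Nat.card (G ⧸ Q) ∣ orderOf g := by
        have htop : Subgroup.zpowers (QuotientGroup.mk' Q g) = ⊤ := by
          rw [eq_top_iff]
          intro x _
          obtain ⟨a, rfl⟩ := QuotientGroup.mk'_surjective Q x
          obtain ⟨i, hi⟩ := hquot a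
          exact ⟨i, hi.symm⟩
        rw [← Subgroup.card_top (G := G ⧸ Q), ← htop, Nat.card_zpowers]
        exact orderOf_map_dvd _ _
      exact Nat.Coprime.coprime_dvd_left hcard hgp
    intro x hx
    rw [← QuotientGroup.eq_one_iff, ← QuotientGroup.mk'_apply]
    exact congrArg Subtype.val (Cfsg.Agent.Transfer.eq_one_of_coprime_orderOf (P.2.map (QuotientGroup.mk' Q))
      (g := (⟨QuotientGroup.mk' Q x, Subgroup.mem_map_of_mem _ hx⟩ : (P : Subgroup G).map (QuotientGroup.mk' Q)))
      (by rw [← Subgroup.orderOf_coe]; exact Nat.Coprime.coprime_dvd_left (orderOf_dvd_natCard _) hd))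
  refine ⟨fun M hM => ?_, fun hnil => ?_, fun P => (hQP P).symm ▸ hQn⟩
  · have hN := h2 M hM
    have hQM : IsPGroup p (Q.subgroupOf M) := hQ.comap_subtype
    haveI : (Q.subgroupOf M).Normal := hQn.subgroupOf M
    have hcomm : ∀ x ∈ Q.subgroupOf M, ∀ k ∈ pResidual p M, x * k = k * x := by
      intro x hx k hk
      exact Subgroup.mem_centralizer_iff.mp
        (Cfsg.Agent.Transfer.mem_centralizer_of_hasNormalPComplement hN hQM
          (by rw [Subgroup.normalizer_eq_top_iff.mpr inferInstance]; trivial)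
          ((Cfsg.Agent.Transfer.mem_pResidual_iff hN).mp hk)) x hx
    have hbot : ∀ y ∈ pResidual p M, (y : G) ∈ Q → y = 1 := by
      intro y hy hyQ
      apply Subtype.ext
      have ho : orderOf (⟨(y : G), hyQ⟩ : Q) = orderOf y :=
        (Subgroup.orderOf_coe (⟨(y : G), hyQ⟩ : Q)).symm.trans (Subgroup.orderOf_coe y)
      exact congrArg (fun z : Q => (z : G))
        (Cfsg.Agent.Transfer.eq_one_of_coprime_orderOf hQ (g := (⟨(y : G), hyQ⟩ : Q))
          (ho.symm ▸ (Cfsg.Agent.Transfer.mem_pResidual_iff hN).mp hy))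
    have hsup : Q.subgroupOf M ⊔ pResidual p M = ⊤ := by
      rw [eq_top_iff, ← Cfsg.Agent.Transfer.sylow_sup_pResidual (Classical.arbitrary (Sylow p M))]
      refine sup_le (le_trans ?_ le_sup_left) le_sup_right
      intro x hx
      obtain ⟨R, hR⟩ := ((Classical.arbitrary (Sylow p M)).2.map M.subtype).exists_le_sylow
      have := hR (Subgroup.mem_map_of_mem _ hx)
      rw [hQP R] at this
      exact this
    have hker : (QuotientGroup.mk' (pResidual p M)).ker ≤ Subgroup.center M := by
      rw [QuotientGroup.ker_mk']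
      intro k hk
      rw [Subgroup.mem_center_iff]
      intro y
      obtain ⟨x, hx, l, hl, rfl⟩ := Subgroup.mem_sup_of_normal_right.mp
        (hsup.symm ▸ Subgroup.mem_top y : y ∈ Q.subgroupOf M ⊔ pResidual p M)
      have hab : l * k = k * l := by
        apply mul_inv_eq_iff_eq_mul.mp
        have h3 : l * k * l⁻¹ * k⁻¹ = 1 := by
          refine hbot _ (mul_mem (Cfsg.Agent.Transfer.pResidual_normal.conj_mem _ hk _) (inv_mem hk)) ?_
          obtain ⟨i, hi⟩ := hquot (l : G)
          obtain ⟨j, hj⟩ := hquot (k : G)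
          rw [← QuotientGroup.eq_one_iff, ← QuotientGroup.mk'_apply]
          simp only [Subgroup.coe_mul, Subgroup.coe_inv, map_mul, map_inv]
          rw [hi, hj]
          group
        exact mul_inv_eq_one.mp h3
      rw [mul_assoc, hab, ← mul_assoc, hcomm x hx k hk, mul_assoc]
    haveI := (Cfsg.Agent.Transfer.isPGroup_quotient_pResidual (p := p) (G := M)).isNilpotent
    exact isNilpotent_of_ker_le_center _ hker
  · apply hgc
    rw [Subgroup.mem_centralizer_iff]
    intro q hq
    obtain ⟨k, hk⟩ := IsPGroup.iff_orderOf.mp hQ ⟨q, hq⟩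
    refine (Cfsg.Agent.OddLocal.commute_of_coprime_orderOf (G := G) ?_).eq
    rw [show orderOf q = p ^ k from (Subgroup.orderOf_coe _).trans hk]
    exact (Nat.Coprime.pow_left k hgp.symm)

end Cfsg.Agent.S0132
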