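import Cfsg.Statements.S0200
import Cfsg.Agent.Components.BaerSuzuki
import Cfsg.Agent.Components.InvolutionFusion

set_option autoImplicit false
open Cfsg

namespace Cfsg.Agent.S0200

/-- An involution lying in no normal 2-subgroup of a finite group inverts a nontrivial element of odd order (a consequence of the Baer–Suzuki Theorem). -/
theorem result {G : Type*} [Group G] [Finite G] (t : G) (ht : orderOf t = 2) (hO : ∀ N : Subgroup G, N.Normal → IsPGroup 2 N → t ∉ N) : ∃ h : G, h ≠ 1 ∧ Odd (orderOf h) ∧ t * h * t⁻¹ = h⁻¹ := by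
  by_contra hno
  push Not at hno
  have key : ∀ g : G, IsPGroup 2 ↥(Subgroup.zpowers t ⊔ (Subgroup.zpowers t).map (MulAut.conj g).toMonoidHom) := by
    intro g
    set s := g * t * g⁻¹ with hs
    have hs2 : orderOf s = 2 := Components.invol_conj ht g
    have hmap : (Subgroup.zpowers t).map (MulAut.conj g).toMonoidHom = Subgroup.zpowers s :=
      MonoidHom.map_zpowers _ t
    have hle : Subgroup.zpowers t ⊔ Subgroup.zpowers s ≤ Subgroup.closure ({t, s} : Set G) :=
      sup_le (Subgroup.zpowers_le.mpr (Subgroup.subset_closure (by simp)))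
        (Subgroup.zpowers_le.mpr (Subgroup.subset_closure (by simp)))
    rw [hmap]
    refine IsPGroup.to_le ?_ hle
    -- the order of t * s is a power of 2
    obtain ⟨k, m, hm, hkm⟩ := Nat.exists_eq_two_pow_mul_odd (orderOf_pos (t * s)).ne'
    have hm1 : m = 1 := by
      set h := (t * s) ^ (2 ^ k) with hh
      have ho : orderOf h = m := by
        rw [orderOf_pow_of_dvd (pow_ne_zero _ two_ne_zero) ⟨m, hkm⟩, hkm, Nat.mul_div_cancel_left _ (by positivity)]
      by_contra hne
      refine hno h (fun h1 => hne (ho ▸ orderOf_eq_one_iff.mpr h1)) (ho ▸ hm) ?_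
      rw [hh, ← conj_pow, Components.invol_left_inverts ht hs2, inv_pow]
    rw [hm1, mul_one] at hkm
    intro ⟨d, hd⟩
    obtain ⟨i, rfl | rfl⟩ := Components.mem_closure_pair_cases ht hs2 hd
    · refine ⟨k, Subtype.ext ?_⟩
      show ((t * s) ^ i) ^ (2 ^ k) = 1
      rw [← zpow_natCast, ← zpow_mul, mul_comm, zpow_mul, zpow_natCast, ← hkm, pow_orderOf_eq_one,
        one_zpow]
    · refine ⟨1, Subtype.ext ?_⟩
      show (t * (t * s) ^ i) ^ (2 ^ 1) = 1
      rw [pow_one, sq, mul_assoc, ← mul_assoc ((t * s) ^ i), Components.zpow_mul_invol ht hs2,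
        mul_assoc t, ← mul_assoc t t, Components.invol_mul_self ht, one_mul, zpow_neg, inv_mul_cancel]
  obtain ⟨N, hN, hN2, htN⟩ := Components.baer_suzuki (Subgroup.zpowers t) key
  exact hO N hN hN2 (htN (Subgroup.mem_zpowers t))

end Cfsg.Agent.S0200
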