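import Cfsg.Statements.S0214
import Cfsg.Agent.Components.Transitivity

set_option autoImplicit false
open Cfsg

namespace Cfsg.Agent.S0214

/-- Let H be a proper subgroup of the finite group G and P a nontrivial Sylow 2-subgroup of H. Then H is strongly embedded in G if and only if N_G(X) ≤ H for every nontrivial subgroup X of P. -/
theorem result {G : Type*} [Group G] [Finite G] (H : Subgroup G) (hH : H ≠ ⊤) (P : Sylow 2 ↥H) (hP : (P : Subgroup ↥H) ≠ ⊥) : Cfsg.IsStronglyEmbedded H ↔ (∀ X : Subgroup ↥H, X ≤ (P : Subgroup ↥H) → X ≠ ⊥ → Subgroup.normalizer ((X.map H.subtype : Subgroup G) : Set G) ≤ H) := by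
  haveI : Fact (Nat.Prime 2) := ⟨Nat.prime_two⟩
  set P' : Subgroup G := (P : Subgroup ↥H).map H.subtype
  have hP'H : P' ≤ H := Subgroup.map_subtype_le _
  have hP'2 : IsPGroup 2 P' := P.2.map _
  have hP'bot : P' ≠ ⊥ := fun h => hP ((Subgroup.map_eq_bot_iff_of_injective _ H.subtype_injective).mp h)
  have even_of : ∀ {T K : Subgroup G}, IsPGroup 2 T → T ≠ ⊥ → T ≤ K → Even (Nat.card K) := by
    intro T K hT hT1 hTK
    obtain ⟨k, hk⟩ := hT.exists_card_eq
    rcases k with _ | k
    · exact absurd (Subgroup.eq_bot_of_card_eq T (by simpa using hk)) hT1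
    · exact even_iff_two_dvd.mpr ((hk ▸ dvd_pow_self 2 k.succ_ne_zero).trans (Subgroup.card_dvd_of_le hTK))
  have conj_eq : ∀ {T : Subgroup G} {g : G}, g ∈ Subgroup.normalizer (T : Set G) →
      T.map (MulAut.conj g).toMonoidHom = T := fun h => Subgroup.mem_normalizer_iff_map_conj_eq.mp h
  have mk_normalizer : ∀ {T : Subgroup G} {g : G},
      T.map (MulAut.conj g).toMonoidHom = T → g ∈ Subgroup.normalizer (T : Set G) :=
    fun h => Subgroup.mem_normalizer_iff_map_conj_eq.mpr h
  constructor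
  · rintro ⟨-, -, hodd⟩ X hX hX1 g hg
    by_contra hgH
    refine (Nat.not_even_iff_odd.mpr (hodd g hgH)) (even_of (T := X.map H.subtype) ((P.2.to_le hX).map _)
      (fun h => hX1 ((Subgroup.map_eq_bot_iff_of_injective _ H.subtype_injective).mp h)) ?_)
    exact le_inf (Subgroup.map_subtype_le _) ((conj_eq hg).ge.trans (Subgroup.map_mono (Subgroup.map_subtype_le _)))
  · intro hN
    have key : ∀ D : Subgroup G, IsPGroup 2 D → D ≠ ⊥ → D ≤ H → Subgroup.normalizer (D : Set G) ≤ H := by
      intro D hD hD1 hDH g hg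
      obtain ⟨Q, hQ⟩ := (hD.comap_of_injective _ H.subtype_injective : IsPGroup 2 (D.subgroupOf H)).exists_le_sylow
      obtain ⟨h, hh⟩ := MulAction.exists_smul_eq ↥H Q P
      have hle : D.map (MulAut.conj (h : G)).toMonoidHom ≤ P' := by
        rintro _ ⟨d, hd, rfl⟩
        refine ⟨h * ⟨d, hDH hd⟩ * h⁻¹, ?_, rfl⟩
        rw [← hh]
        exact ⟨⟨d, hDH hd⟩, hQ hd, rfl⟩
      have hX : ((D.map (MulAut.conj (h : G)).toMonoidHom).subgroupOf H).map H.subtype =
          D.map (MulAut.conj (h : G)).toMonoidHom := Subgroup.map_subgroupOf_eq_of_le (hle.trans hP'H)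
      have hb := hN ((D.map (MulAut.conj (h : G)).toMonoidHom).subgroupOf H)
        (fun x hx => by
          obtain ⟨y, hy, hyx⟩ := hle hx
          exact H.subtype_injective hyx ▸ hy)
        (fun he => hD1 (by
          rw [he, Subgroup.map_bot] at hX
          exact (Subgroup.map_eq_bot_iff_of_injective _ (MulAut.conj (h : G)).injective).mp hX.symm))
      rw [hX] at hb
      have hmem : (h : G) * g * (h : G)⁻¹ ∈ H := hb (mk_normalizer <| by
        rw [Cfsg.Agent.Components.map_conj_map_conj,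
          show (h : G) * g * (h : G)⁻¹ * (h : G) = (h : G) * g by group,
          ← Cfsg.Agent.Components.map_conj_map_conj, conj_eq hg])
      have := H.mul_mem (H.mul_mem (H.inv_mem h.2) hmem) h.2
      rwa [show (h : G)⁻¹ * ((h : G) * g * (h : G)⁻¹) * (h : G) = g by group] at this
    have sylG : ∀ D K : Subgroup G, IsPGroup 2 D → D ≤ K → Subgroup.normalizer (D : Set G) ≤ K →
        ¬ 2 ∣ D.relIndex K → ¬ 2 ∣ D.index := by
      intro D K hD hDK hNK hi
      obtain ⟨S, hS⟩ := hD.exists_le_sylow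
      by_cases hDS : D = (S : Subgroup G)
      · rw [hDS]; exact S.not_dvd_index
      exfalso
      obtain ⟨x, ⟨hxS, hxN⟩, hxD⟩ := Cfsg.Agent.Components.exists_mem_normalizer_not_mem S.2 hS hDS
      obtain ⟨k, hk⟩ := (S.2.to_le (sup_le hS (Subgroup.zpowers_le.mpr hxS))).exists_card_eq
      have h1 := Cfsg.Agent.Components.card_mul_relIndex' (le_sup_left : D ≤ D ⊔ Subgroup.zpowers x)
      obtain ⟨i, -, hi'⟩ := (Nat.dvd_prime_pow Nat.prime_two).mp (hk ▸ Dvd.intro_left _ h1)
      rcases i with _ | i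
      · exact hxD (Subgroup.relIndex_eq_one.mp (by rw [hi', pow_zero])
          (le_sup_right (a := D) (Subgroup.mem_zpowers x)))
      · exact hi ((hi' ▸ dvd_pow_self 2 i.succ_ne_zero).trans (dvd_trans
          (Dvd.intro _ rfl) (Subgroup.relIndex_mul_relIndex D _ K le_sup_left
            (sup_le hDK (Subgroup.zpowers_le.mpr (hNK hxN)))).dvd))
    refine ⟨hH, even_of hP'2 hP'bot hP'H, fun g hg => Nat.not_even_iff_odd.mp fun hev => hg ?_⟩
    set K := H ⊓ H.map (MulAut.conj g).toMonoidHom with hK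
    set S : Sylow 2 ↥K := default
    set D := (S : Subgroup ↥K).map K.subtype with hD'
    have hDK : D ≤ K := Subgroup.map_subtype_le _
    have hD : IsPGroup 2 D := S.2.map _
    have hDi : ¬ 2 ∣ D.relIndex K := by
      rw [Subgroup.relIndex, hD', Subgroup.subgroupOf, Subgroup.comap_map_eq_self_of_injective K.subtype_injective]
      exact S.not_dvd_index
    have hD1 : D ≠ ⊥ := fun h => by
      rw [h, Subgroup.relIndex_bot_left] at hDi
      exact hDi (even_iff_two_dvd.mp hev)
    set D0 := D.map (MulAut.conj g⁻¹).toMonoidHom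
    have back : D0.map (MulAut.conj g).toMonoidHom = D := by
      rw [Cfsg.Agent.Components.map_conj_map_conj, mul_inv_cancel, map_one, MulEquiv.toMonoidHom_eq_coe,
        show ((1 : MulAut G) : G →* G) = MonoidHom.id G from rfl, Subgroup.map_id]
    have hD0H : D0 ≤ H := by
      rintro _ ⟨d, hd, rfl⟩
      obtain ⟨h, hh, rfl⟩ := (hDK hd).2
      show g⁻¹ * (g * h * g⁻¹) * (g⁻¹)⁻¹ ∈ H
      rwa [show g⁻¹ * (g * h * g⁻¹) * (g⁻¹)⁻¹ = h by group]
    have hD01 : D0 ≠ ⊥ := fun h => hD1 (back.symm.trans (by rw [h, Subgroup.map_bot]))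
    have hNK : Subgroup.normalizer (D : Set G) ≤ K := by
      refine le_inf (key D hD hD1 (hDK.trans inf_le_left)) fun x hx => ?_
      refine ⟨g⁻¹ * x * g, key D0 (hD.map _) hD01 hD0H (mk_normalizer ?_), by show g * (g⁻¹ * x * g) * g⁻¹ = x; group⟩
      rw [Cfsg.Agent.Components.map_conj_map_conj,
        show g⁻¹ * x * g * g⁻¹ = g⁻¹ * x by group, ← Cfsg.Agent.Components.map_conj_map_conj, conj_eq hx]
    have hDG := sylG D K hD hDK hNK hDi
    have hD0i : ¬ 2 ∣ D0.index := by
      have h2 := Subgroup.card_mul_index D0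
      rw [← Subgroup.card_mul_index D, Cfsg.Agent.Coprime.card_map_conj] at h2
      rwa [Nat.eq_of_mul_eq_mul_left Nat.card_pos h2]
    obtain ⟨h, hh, e⟩ := Cfsg.Agent.Coprime.exists_conj_of_sylow (hD.map _ : IsPGroup 2 D0) hD hD0H
      (hDK.trans inf_le_left) (fun h => hD0i (h.trans (Subgroup.relIndex_dvd_index_of_le hD0H)))
      (fun h => hDG (h.trans (Subgroup.relIndex_dvd_index_of_le (hDK.trans inf_le_left))))
    rw [Cfsg.Agent.Components.map_conj_map_conj] at e
    have := H.mul_mem (H.inv_mem hh) (key D hD hD1 (hDK.trans inf_le_left)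
      (Subgroup.mem_normalizer_iff_map_conj_eq.mpr e))
    rw [inv_mul_cancel_left] at this
    exact inv_mem_iff.mp this

end Cfsg.Agent.S0214
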