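import Cfsg.Statements.S0223
import Cfsg.Agent.Components.InvolutionCount

set_option autoImplicit false
open Cfsg

namespace Cfsg.Agent.S0223

/-- Let H be a proper subgroup of even order of the finite group G. Then H is strongly embedded if and only if (i) C_G(t) ≤ H for every involution t of H and (ii) H controls fusion of its involutions: involutions of H conjugate in G are conjugate in H. -/
theorem result {G : Type*} [Group G] [Finite G] (H : Subgroup G) (hH : H ≠ ⊤) (heven : Even (Nat.card H)) : Cfsg.IsStronglyEmbedded H ↔ ((∀ t ∈ H, orderOf t = 2 → Subgroup.centralizer ({t} : Set G) ≤ H) ∧ (∀ t ∈ H, ∀ s ∈ H, orderOf t = 2 → orderOf s = 2 → IsConj t s → ∃ h ∈ H, h * t * h⁻¹ = s)) := by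
  constructor
  · intro hse
    have key : ∀ g t : G, t ∈ H → orderOf t = 2 → g * t * g⁻¹ ∈ H → g ∈ H := by
      intro g t ht ho hc
      by_contra hg
      have hmem : g * t * g⁻¹ ∈ H ⊓ H.map (MulAut.conj g).toMonoidHom := ⟨hc, t, ht, rfl⟩
      have h3 := orderOf_dvd_natCard (⟨_, hmem⟩ : ↥(H ⊓ H.map (MulAut.conj g).toMonoidHom))
      rw [Subgroup.orderOf_mk, Components.invol_conj ho g] at h3
      exact Nat.not_even_iff_odd.mpr (hse.2.2 g hg) (even_iff_two_dvd.mpr h3)
    refine ⟨fun t ht ho c hc => key c t ht ho ?_, fun t ht s hs ho _ hc => ?_⟩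
    · rwa [Components.mem_centralizer_singleton.mp hc, mul_inv_cancel_right]
    · obtain ⟨g, rfl⟩ := isConj_iff.mp hc
      exact ⟨g, key g t ht ho hs, rfl⟩
  · rintro ⟨h1, h2⟩
    refine ⟨hH, heven, fun g hg => Nat.not_even_iff_odd.mp fun he => hg ?_⟩
    obtain ⟨⟨t, htH, s, hs, hst⟩, ho⟩ := Components.exists_involution he
    rw [← Subgroup.orderOf_coe] at ho
    have hst' : g * s * g⁻¹ = t := hst
    have hso : orderOf s = 2 := by
      rw [show s = g⁻¹ * t * g⁻¹⁻¹ by rw [← hst']; group]
      exact Components.invol_conj ho g⁻¹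
    obtain ⟨h, hh, hht⟩ := h2 t htH s hs ho hso
      (isConj_iff.mpr ⟨g⁻¹, by rw [← hst']; group⟩)
    have : g * h ∈ H := h1 t htH ho (Components.mem_centralizer_singleton.mpr (by
      calc g * h * t = g * (h * t * h⁻¹) * g⁻¹ * (g * h) := by group
        _ = t * (g * h) := by rw [hht, hst']))
    simpa using mul_mem this (inv_mem hh)

end Cfsg.Agent.S0223
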