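import Cfsg.Statements.S0224
import Cfsg.Agent.Components.InvolutionCount

set_option autoImplicit false
open Cfsg

namespace Cfsg.Agent.S0224

/-- Let H be a proper subgroup of even order of the finite group G. Then H is strongly embedded if and only if each involution of H fixes exactly one point (namely the coset H) in the action of G on the cosets of H. -/
theorem result {G : Type*} [Group G] [Finite G] (H : Subgroup G) (hH : H ≠ ⊤) (heven : Even (Nat.card H)) : Cfsg.IsStronglyEmbedded H ↔ ∀ t ∈ H, orderOf t = 2 → Nat.card {c : G ⧸ H // t • c = c} = 1 := by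
  have key : ∀ (t g : G), t • (g : G ⧸ H) = (g : G ⧸ H) ↔ g⁻¹ * t * g ∈ H := fun t g => by
    rw [MulAction.Quotient.smul_mk, smul_eq_mul, QuotientGroup.eq,
      show (t * g)⁻¹ * g = (g⁻¹ * t * g)⁻¹ by group, inv_mem_iff]
  constructor
  · intro hse t ht ht2
    rw [Nat.card_eq_one_iff_unique]
    refine ⟨⟨?_⟩, ⟨⟨((1 : G) : G ⧸ H), (key t 1).mpr (by simpa using ht)⟩⟩⟩
    suffices ∀ c : G ⧸ H, t • c = c → c = ((1 : G) : G ⧸ H) from
      fun a b => Subtype.ext ((this _ a.2).trans (this _ b.2).symm)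
    intro c hc
    induction c using QuotientGroup.induction_on with
    | H g =>
      by_contra hne
      have hg : g ∉ H := fun h => hne (QuotientGroup.eq.mpr (by simpa using h))
      have hmem : t ∈ H ⊓ H.map (MulAut.conj g).toMonoidHom :=
        ⟨ht, g⁻¹ * t * g, (key t g).mp hc, by
          show g * (g⁻¹ * t * g) * g⁻¹ = t
          group⟩
      have h3 := orderOf_dvd_natCard (⟨t, hmem⟩ : ↥(H ⊓ H.map (MulAut.conj g).toMonoidHom))
      rw [Subgroup.orderOf_mk, ht2] at h3
      exact Nat.not_even_iff_odd.mpr (hse.2.2 g hg) (even_iff_two_dvd.mpr h3)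
  · intro h
    refine ⟨hH, heven, fun g hg => Nat.not_even_iff_odd.mp fun he => hg ?_⟩
    obtain ⟨⟨t, htH, s, hs, hst⟩, ho⟩ := Components.exists_involution he
    rw [← Subgroup.orderOf_coe] at ho
    have hfix : t • (g : G ⧸ H) = g := (key t g).mpr (by
      rw [← hst]
      show g⁻¹ * (g * s * g⁻¹) * g ∈ H
      simpa [mul_assoc] using hs)
    obtain ⟨hsub, -⟩ := Nat.card_eq_one_iff_unique.mp (h t htH ho)
    have := congrArg Subtype.val (hsub.elim ⟨(g : G ⧸ H), hfix⟩
      ⟨((1 : G) : G ⧸ H), (key t 1).mpr (by simpa using htH)⟩)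
    simpa using QuotientGroup.eq.mp this

end Cfsg.Agent.S0224
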