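import Cfsg.Statements.S0282
import Cfsg.Agent.Forms.UnitaryOrder
import Cfsg.Agent.Core.BurnsidePQ

set_option autoImplicit false
open Cfsg

namespace Cfsg.Agent.S0282

/-- PSU_3(2) is a solvable group of order 72. -/
theorem result {F : Type*} [Field F] [Fintype F] (hF : Fintype.card F = 4) : Nat.card (Cfsg.PSU 3 F 2) = 72 ∧ Group.IsSolvable (Cfsg.PSU 3 F 2) := by
  classical
  have h := Cfsg.Agent.Forms.card_PSU (F := F) (n := 3) (q := 2) (by rw [hF]; norm_num) (by norm_num)
  have hg : Nat.gcd 3 (2 + 1) = 3 := rfl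
  simp only [Finset.prod_range_succ, Finset.prod_range_zero, hg] at h
  norm_num [Nat.even_iff] at h
  have h72 : Nat.card (Cfsg.PSU 3 F 2) = 72 := by
    change Nat.card (Cfsg.SU 3 F 2 ⧸ Subgroup.center (Cfsg.SU 3 F 2)) = 72
    rw [Nat.card_eq_fintype_card]
    omega
  exact ⟨h72, Cfsg.Agent.Core.isSolvable_of_card_dvd_two_primes (p := 2) (q := 3) (a := 3) (b := 2)
    Nat.prime_two Nat.prime_three (by rw [h72]; norm_num)⟩

end Cfsg.Agent.S0282
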