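import Cfsg.Statements.S0497
import Cfsg.Agent.Screen.Simple360

set_option autoImplicit false
open Cfsg

namespace Cfsg.Agent.S0497

/-- A simple group of order 360 is isomorphic to the alternating group of degree 6. -/
theorem result {G : Type*} [Group G] [Finite G] [IsSimpleGroup G]
    (h : Nat.card G = 360) : Nonempty (G ≃* alternatingGroup (Fin 6)) := by
  have hcard : Nat.card (alternatingGroup (Fin 6)) = 360 := by
    haveI : Nontrivial (Fin 6) := Fin.nontrivial_iff_two_le.mpr (by norm_num)
    have := two_mul_card_alternatingGroup (α := Fin 6)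
    rw [Fintype.card_perm, Fintype.card_fin, show Nat.factorial 6 = 720 from rfl] at this
    rw [Nat.card_eq_fintype_card]; omega
  haveI : IsSimpleGroup (alternatingGroup (Fin 6)) := alternatingGroup.isSimpleGroup (by simp)
  obtain ⟨a⟩ := Screen.Simple360.equiv_model h
  obtain ⟨b⟩ := Screen.Simple360.equiv_model hcard
  exact ⟨a.trans b.symm⟩

end Cfsg.Agent.S0497
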