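import Cfsg.Statements.S0508
import Cfsg.Agent.Screen.BSW.Dihedral
import Cfsg.Agent.Screen.BSW.PSL
import Cfsg.Agent.SmallOrder.Basic

set_option autoImplicit false
open Cfsg

namespace Cfsg.Agent.S0508

/-- Let G be a finite simple group with a dihedral Sylow 2-subgroup S (of order at least 4), t an involution in the
centre of S, C the centralizer of t and O the core of C (its largest normal subgroup of odd order). Suppose that: if O
is nontrivial then the centralizer of O in S is cyclic of index 2 in S; every element of S not centralizing O inverts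
every element of O; and the normalizer of every nontrivial subgroup of O lies in C. Then G is isomorphic to a projective
special linear group of dimension 2 over a field of odd order. -/
theorem result {G : Type*} [Group G] [Finite G] [IsSimpleGroup G] (S : Sylow 2 G) (n : ℕ)
    (hn : 2 ≤ n) (hS : Nonempty ((S : Subgroup G) ≃* DihedralGroup n)) (t : G) (ht : orderOf t = 2)
    (htS : t ∈ (S : Subgroup G))
    (htZ : ∀ s ∈ (S : Subgroup G), s * t = t * s) (O : Subgroup G)
    (hO : O = (Cfsg.oddCore (Subgroup.centralizer ({t} : Set G))).map (Subgroup.centralizer ({t} : Set G)).subtype)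
    (ha : O ≠ ⊥ → IsCyclic ((S : Subgroup G) ⊓ Subgroup.centralizer (O : Set G) : Subgroup G) ∧
      ((S : Subgroup G) ⊓ Subgroup.centralizer (O : Set G)).relIndex (S : Subgroup G) = 2)
    (hb : ∀ s ∈ (S : Subgroup G), s ∉ Subgroup.centralizer (O : Set G) → ∀ y ∈ O, s * y * s⁻¹ = y⁻¹)
    (hc : ∀ Y : Subgroup G, Y ≤ O → Y ≠ ⊥ → Subgroup.normalizer (Y : Set G) ≤ Subgroup.centralizer ({t} : Set G)) :
    ∃ (F : Type) (_ : Field F) (_ : Fintype F), Odd (Fintype.card F) ∧ Nonempty (G ≃* Matrix.ProjectiveSpecialLinearGroup (Fin 2) F) := by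
  haveI : Fact (Nat.Prime 2) := ⟨Nat.prime_two⟩
  obtain ⟨eS⟩ := hS
  obtain ⟨r, s₀, e, hd, -⟩ := TwoGroups.exists_dihIn S n hn eS
  obtain ⟨K, s, h⟩ := Screen.BSW.Dihedral.exists_setup hd ht htS htZ hO ha hb hc
  obtain ⟨Q, D, hQD⟩ := h.concl
  refine Screen.BSW.psl_of_concl hQD ?_
  have hdvd : 2 ^ (e + 1) ∣ Nat.card G := hd.card ▸ (S : Subgroup G).card_subgroup_dvd_card
  have h4 : 4 ∣ Nat.card G := (pow_dvd_pow 2 (by have := hd.kpos; omega : 2 ≤ e + 1)).trans hdvd
  have hG : ¬ IsMulCommutative G := SmallOrder.not_comm_of_not_prime fun hp => by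
    rcases (Nat.dvd_prime hp).1 ((by norm_num : 2 ∣ 4).trans h4) with q | q
    · omega
    · rw [← q] at h4; omega
  by_contra hle
  have h2 : 2 ∣ Nat.card G := (by norm_num : 2 ∣ 4).trans h4
  have hne := SmallOrder.card_sylow_ne_one (p := 2) hG h2
  have hidx : (S : Subgroup G).index ≤ 3 := by
    have h1 := (S : Subgroup G).card_mul_index
    rw [hd.card] at h1
    have : 2 ^ 2 ≤ 2 ^ (e + 1) := Nat.pow_le_pow_right two_pos (by have := hd.kpos; omega)
    have h5 : 2 ^ 2 * (S : Subgroup G).index ≤ 2 ^ (e + 1) * (S : Subgroup G).index := Nat.mul_le_mul_right _ this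
    omega
  have hn2 : Nat.card (Sylow 2 G) ≤ 3 :=
    (Nat.le_of_dvd (Nat.pos_of_ne_zero Subgroup.index_ne_zero_of_finite) S.card_dvd_index).trans hidx
  have hfac := Nat.le_of_dvd (Nat.factorial_pos _) (SmallOrder.two_mul_card_dvd_factorial_sylow (p := 2) hG h2)
  have h6 := hfac.trans (Nat.factorial_le hn2)
  have h7 : 4 ≤ Nat.card G := Nat.le_of_dvd Nat.card_pos h4
  simp [Nat.factorial] at h6
  omega

end Cfsg.Agent.S0508
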