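import Cfsg.Statements.S0514
import Cfsg.Agent.TwoGroups.DihedralFusion

set_option autoImplicit false
open Cfsg

namespace Cfsg.Agent.S0514

/-- In a finite group whose Sylow 2-subgroups are dihedral of order at least 4, the centralizer of any involution has a
normal subgroup of odd order whose index in the centralizer is a power of 2. -/
theorem result {X : Type*} [Group X] [Finite X]
    (S : Sylow 2 X) (n : ℕ) (hn : 2 ≤ n) (hS : Nonempty ((S : Subgroup X) ≃* DihedralGroup n)) (t : X)
    (ht : orderOf t = 2) :
    ∃ N : Subgroup (Subgroup.centralizer ({t} : Set X)), N.Normal ∧ Odd (Nat.card N) ∧ ∃ k : ℕ, N.index = 2 ^ k := by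
  classical
  haveI : Fact (Nat.Prime 2) := ⟨Nat.prime_two⟩
  set C := Subgroup.centralizer ({t} : Set X) with hC
  have htC : t ∈ C := Subgroup.mem_centralizer_singleton_iff.mpr rfl
  obtain ⟨R⟩ : Nonempty (Sylow 2 C) := inferInstance
  have htR : (⟨t, htC⟩ : C) ∈ (R : Subgroup C) := by
    set Z := Subgroup.zpowers (⟨t, htC⟩ : C) with hZ
    haveI : Z.Normal := ⟨fun a ha g => by
      obtain ⟨i, rfl⟩ := Subgroup.mem_zpowers_iff.mp ha
      have hc : Commute g (⟨t, htC⟩ : C) := Subtype.ext (by
        first
          | exact Subgroup.mem_centralizer_singleton_iff.mp g.2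
          | exact (Subgroup.mem_centralizer_singleton_iff.mp g.2).symm)
      rw [(hc.zpow_right i).eq, mul_inv_cancel_right]
      exact zpow_mem (Subgroup.mem_zpowers _) i⟩
    have hZp : IsPGroup 2 Z := IsPGroup.of_card (n := 1) (by
      rw [Nat.card_zpowers, Subgroup.orderOf_mk, ht, pow_one])
    have h := R.is_maximal' (hZp.to_sup_of_normal_left R.2) le_sup_right
    exact h.le (Subgroup.mem_sup_left (Subgroup.mem_zpowers _))
  obtain ⟨S₀, hS₀⟩ := (R.2.map C.subtype).exists_le_sylow
  obtain ⟨eS⟩ := hS
  obtain ⟨r, s, k, hd, -⟩ := TwoGroups.exists_dihIn S₀ n hn ((Sylow.equiv S₀ S).trans eS)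
  have htS : t ∈ (S₀ : Subgroup X) := hS₀ ⟨_, htR, rfl⟩
  have ht2 : t * t = 1 := by have := pow_orderOf_eq_one t; rwa [ht, pow_two] at this
  have hcomp : Cfsg.HasNormalPComplement 2 C := by
    refine Transfer.hasNormalPComplement_of_frobenius R fun Q hQ _ g hg hgp => ?_
    have hgo : Odd (orderOf (g : X)) := by
      rw [Subgroup.orderOf_coe]; exact Nat.coprime_two_right.mp hgp
    set B := Q.map C.subtype with hB
    have hBS : B ≤ (S₀ : Subgroup X) := (Subgroup.map_mono hQ).trans hS₀
    have hgB : (g : X) ∈ Subgroup.normalizer (B : Set X) := by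
      rw [Transfer.mem_normalizer_iff_map_conj, hB, Subgroup.map_map,
        show ((MulAut.conj (g : X)).toMonoidHom.comp C.subtype) =
          C.subtype.comp (MulAut.conj g).toMonoidHom from MonoidHom.ext fun y => by simp,
        ← Subgroup.map_map, Transfer.mem_normalizer_iff_map_conj.mp hg]
    have key : (g : X) ∈ Subgroup.centralizer (B : Set X) := by
      rcases hd.centralizes_or_four hBS hgB hgo with h | h4
      · exact h
      obtain ⟨i, hi⟩ := hd.eq_four h4 hBS
      have hBC : ∀ b ∈ B, t * b = b * t := by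
        rintro b ⟨q, -, rfl⟩
        first
          | exact Subgroup.mem_centralizer_singleton_iff.mp q.2
          | exact (Subgroup.mem_centralizer_singleton_iff.mp q.2).symm
      have htB : t ∈ B := by
        rw [hi]
        obtain ⟨j, hj | hj⟩ := hd.exists_eq htS
        · rcases hd.rot_sq (hj ▸ ht2) with e | e
          · rw [hj, e]; exact one_mem _
          · rw [hj, e]; exact hd.z_mem_four i
        · have hc := hBC _ (hi ▸ hd.t_mem_four i)
          rw [hj, hd.xy_mul_xy, hd.xy_mul_xy, ← neg_sub j i, zpow_neg] at hc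
          have h2 : r ^ (j - i) * r ^ (j - i) = 1 := mul_eq_one_iff_eq_inv.mpr hc
          have ht' : t = r ^ (j - i) * (r ^ i * s) := by rw [TwoGroups.DihIn.rot_mul_refl, sub_add_cancel, hj]
          rw [ht']
          rcases hd.rot_sq h2 with e | e
          · rw [e, one_mul]; exact hd.t_mem_four i
          · rw [e]; exact mul_mem (hd.z_mem_four i) (hd.t_mem_four i)
      have hgt : (g : X) * t * (g : X)⁻¹ = t := by
        first
          | exact mul_inv_eq_iff_eq_mul.mpr (Subgroup.mem_centralizer_singleton_iff.mp g.2)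
          | exact mul_inv_eq_iff_eq_mul.mpr (Subgroup.mem_centralizer_singleton_iff.mp g.2).symm
      obtain ⟨h4c, hsq, hcm⟩ := TwoGroups.four_facts h4
      haveI := Fintype.ofFinite B
      set D := ((Finset.univ : Finset B).erase 1).erase ⟨t, htB⟩ with hD
      have htne : (⟨t, htB⟩ : B) ≠ 1 := fun e => by
        rw [Subtype.ext_iff] at e
        simp only [OneMemClass.coe_one] at e
        rw [e, orderOf_one] at ht
        omega
      have hD2 : D.card = 2 := by
        rw [hD, Finset.card_erase_of_mem (by simp [htne]), Finset.card_erase_of_mem (Finset.mem_univ _),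
          Finset.card_univ, ← Nat.card_eq_fintype_card, h4c]
      obtain ⟨b, c, hbc, hDe⟩ := Finset.card_eq_two.mp hD2
      have hall : ∀ u : X, u ∈ B → (g : X) * u * (g : X)⁻¹ = u ∨
          (u ≠ 1 ∧ u ≠ t ∧ (u = b ∨ u = c)) := by
        intro u hu
        by_cases h1 : u = 1
        · left; rw [h1, mul_one, mul_inv_cancel]
        by_cases h2 : u = t
        · left; rw [h2, hgt]
        right
        refine ⟨h1, h2, ?_⟩
        have hm : (⟨u, hu⟩ : B) ∈ D := by
          simp only [hD, Finset.mem_erase, ne_eq, Finset.mem_univ, and_true, Subtype.ext_iff,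
            OneMemClass.coe_one]
          exact ⟨h2, h1⟩
        rw [hDe, Finset.mem_insert, Finset.mem_singleton] at hm
        rcases hm with e | e
        · exact Or.inl (congrArg Subtype.val e)
        · exact Or.inr (congrArg Subtype.val e)
      have hg2 : ∀ u ∈ B, ((g : X) * (g : X)) * u * ((g : X) * (g : X))⁻¹ = u := by
        intro u hu
        have e : ((g : X) * (g : X)) * u * ((g : X) * (g : X))⁻¹ = g * ((g : X) * u * (g : X)⁻¹) * (g : X)⁻¹ := by
          group
        rcases hall u hu with h | ⟨h1, h2, hu'⟩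
        · rw [e, h, h]
        have hv : (g : X) * u * (g : X)⁻¹ ∈ B := (Subgroup.mem_normalizer_iff.mp hgB u).mp hu
        by_cases hfix : (g : X) * u * (g : X)⁻¹ = u
        · rw [e, hfix, hfix]
        set v := (g : X) * u * (g : X)⁻¹ with hvdef
        rcases hall v hv with h | ⟨-, -, hv'⟩
        · exact absurd (mul_left_cancel (mul_right_cancel h)) hfix
        have hw : (g : X) * v * (g : X)⁻¹ ∈ B := (Subgroup.mem_normalizer_iff.mp hgB v).mp hv
        rw [e]
        rcases hall _ hw with h | ⟨-, -, hw'⟩
        · exact absurd (mul_left_cancel (mul_right_cancel (mul_left_cancel (mul_right_cancel h)))) hfix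
        rcases hu' with rfl | rfl <;> rcases hv' with hv' | hv' <;> rcases hw' with hw' | hw' <;>
          first
            | exact hw'
            | exact absurd hv' hfix
            | exact absurd (mul_left_cancel (mul_right_cancel (hw'.trans hv'.symm))) hfix
      obtain ⟨m, hm⟩ := hgo
      rw [Subgroup.mem_centralizer_iff]
      intro u hu
      have hc2 : Commute ((g : X) * (g : X)) u := mul_inv_eq_iff_eq_mul.mp (hg2 u hu)
      have hpow : ((g : X) * (g : X)) ^ (m + 1) = g := by
        rw [← pow_two, ← pow_mul, show 2 * (m + 1) = 2 * m + 1 + 1 by ring, pow_succ, ← hm,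
          pow_orderOf_eq_one, one_mul]
      have := (hc2.pow_left (m + 1)).eq
      rw [hpow] at this
      exact this.symm
    rw [Subgroup.mem_centralizer_iff]
    intro q hq
    exact Subtype.ext (Subgroup.mem_centralizer_iff.mp key _ ⟨q, hq, rfl⟩)
  obtain ⟨P, N, hN, hNP⟩ := hcomp
  obtain ⟨a, ha⟩ := IsPGroup.iff_card.mp P.2
  refine ⟨N, hN, ?_, a, hNP.symm.index_eq_card.trans ha⟩
  have h := P.not_dvd_index
  rw [hNP.index_eq_card] at h
  exact Nat.not_even_iff_odd.mp fun h' => h h'.two_dvd

end Cfsg.Agent.S0514
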