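import Cfsg.Statements.S0519
import Cfsg.Agent.OddChar.TwoNormal
import Cfsg.Agent.Screen.CyclicIndexTwo
import Cfsg.Agent.Transfer.MaxClassTwo
import Cfsg.Agent.TwoGroups.ExtSub

set_option autoImplicit false
open Cfsg

namespace Cfsg.Agent.S0519

/-- Let P be a finite p-group in which every abelian normal subgroup is cyclic, but which has a non-cyclic abelian
subgroup. Then p = 2 and P is generalized quaternion, dihedral of order at least 16, or quasi-dihedral. -/
theorem result {P : Type*} [Group P] [Finite P] (p : ℕ) [Fact p.Prime]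
    (hP : IsPGroup p P) (hn : ∀ A : Subgroup P, A.Normal → IsMulCommutative A → IsCyclic A)
    (hm : ∃ B : Subgroup P, IsMulCommutative B ∧ ¬ IsCyclic B) :
    p = 2 ∧ ((∃ n : ℕ, Nonempty (P ≃* QuaternionGroup n)) ∨ (∃ n : ℕ, 8 ≤ n ∧ Nonempty (P ≃* DihedralGroup n)) ∨
      Cfsg.IsQuasiDihedral P) := by
  classical
  have hP0 := hP
  obtain ⟨B, hBc, hBnc⟩ := hm
  by_cases hp2 : p = 2
  swap
  · haveI := OddChar.TwoNormal.isCyclic_of_odd hp2 hP hn
    exact absurd (inferInstance : IsCyclic B) hBnc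
  subst hp2
  refine ⟨rfl, ?_⟩
  have hBu : ¬ OddLocal.UniqueOrderP 2 B := fun h => hBnc
    (OddLocal.isCyclic_of_uniqueOrderP (Nat.card B) (hP.to_subgroup B) h (Or.inr fun a b => mul_comm' a b) le_rfl)
  haveI hnt : Nontrivial P := by
    by_contra hc
    rw [not_nontrivial_iff_subsingleton] at hc
    exact hBnc inferInstance
  obtain ⟨z, -, hz, hzc⟩ := Transfer.MaxClass.exists_central_involution hP ⊤ top_ne_bot
  have hzc' : ∀ s : P, s * z = z * s := fun s => Subgroup.mem_center_iff.mp hzc s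
  have hsq : ∀ u : P, orderOf u = 2 → u * u = 1 := fun u hu => by rw [← pow_two, ← hu, pow_orderOf_eq_one]
  have hfour : ∀ u : P, orderOf u = 2 → u * z = z * u → u ≠ z →
      ∀ (hN : (Subgroup.zpowers z ⊔ Subgroup.zpowers u).Normal), False := by
    intro u hu hcm hne hN
    set U := Subgroup.zpowers z ⊔ Subgroup.zpowers u
    have hUc : IsMulCommutative U := by
      have hle : U ≤ Subgroup.centralizer (U : Set P) := by
        have h1 : U ≤ Subgroup.centralizer ({u} : Set P) := sup_le
          (Subgroup.zpowers_le.mpr (Subgroup.mem_centralizer_singleton_iff.mpr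
            (by first | exact hcm | exact hcm.symm)))
          (Subgroup.zpowers_le.mpr (Subgroup.mem_centralizer_singleton_iff.mpr rfl))
        refine sup_le (Subgroup.zpowers_le.mpr ?_) (Subgroup.zpowers_le.mpr ?_)
        · exact Subgroup.mem_centralizer_iff.mpr fun y _ => hzc' y
        · exact Subgroup.mem_centralizer_iff.mpr fun y hy => Subgroup.mem_centralizer_singleton_iff.mp (h1 hy)
      exact ⟨⟨fun x y => Subtype.ext (Subgroup.mem_centralizer_iff.mp (hle y.2) x x.2)⟩⟩
    haveI := hn U hN hUc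
    have hzU : z ∈ U := Subgroup.mem_sup_left (Subgroup.mem_zpowers z)
    have huU : u ∈ U := Subgroup.mem_sup_right (Subgroup.mem_zpowers u)
    have heq : Subgroup.zpowers (⟨z, hzU⟩ : U) = Subgroup.zpowers ⟨u, huU⟩ :=
      FGS2.subgroup_eq_of_card_eq (by rw [Nat.card_zpowers, Nat.card_zpowers, Subgroup.orderOf_mk,
        Subgroup.orderOf_mk, hz, hu])
    obtain ⟨i, hi⟩ := Subgroup.mem_zpowers_iff.mp (heq.ge (Subgroup.mem_zpowers _))
    have hi' : z ^ i = u := by simpa using congrArg Subtype.val hi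
    rcases Int.even_or_odd i with ⟨l, rfl⟩ | ⟨l, rfl⟩
    · rw [← two_mul, zpow_mul, zpow_two, hsq z hz, one_zpow] at hi'
      rw [← hi', orderOf_one] at hu
      omega
    · rw [zpow_add, zpow_mul, zpow_two, hsq z hz, one_zpow, one_mul, zpow_one] at hi'
      exact hne hi'.symm
  have hnorm : ∀ u : P, (∀ s : P, s * u * s⁻¹ = u ∨ s * u * s⁻¹ = u * z) →
      (Subgroup.zpowers z ⊔ Subgroup.zpowers u).Normal := by
    intro u hu
    refine ⟨fun x hx s => ?_⟩
    have hle : (Subgroup.zpowers z ⊔ Subgroup.zpowers u).map (MulAut.conj s).toMonoidHom ≤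
        Subgroup.zpowers z ⊔ Subgroup.zpowers u := by
      rw [Subgroup.map_sup, MonoidHom.map_zpowers, MonoidHom.map_zpowers]
      refine sup_le (Subgroup.zpowers_le.mpr ?_) (Subgroup.zpowers_le.mpr ?_)
      · show s * z * s⁻¹ ∈ _
        rw [hzc' s, mul_inv_cancel_right]
        exact Subgroup.mem_sup_left (Subgroup.mem_zpowers z)
      · show s * u * s⁻¹ ∈ _
        rcases hu s with e | e <;> rw [e]
        · exact Subgroup.mem_sup_right (Subgroup.mem_zpowers u)
        · exact mul_mem (Subgroup.mem_sup_right (Subgroup.mem_zpowers u))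
            (Subgroup.mem_sup_left (Subgroup.mem_zpowers z))
    exact hle ⟨x, hx, rfl⟩
  have huniq : ∀ c : P, orderOf c = 2 → (∀ s : P, s * c = c * s) → c = z := by
    intro c hc hcc
    by_contra hne
    exact hfour c hc (hcc z).symm hne (hnorm c fun s => Or.inl (by rw [hcc, mul_inv_cancel_right]))
  have hno : ∀ w : P, orderOf w = 2 → w ≠ z → ∃ s : P, s * w * s⁻¹ ≠ w ∧ s * w * s⁻¹ ≠ w * z := by
    intro w hw hne
    by_contra hcon
    push Not at hcon
    exact hfour w hw (hzc' w) hne (hnorm w fun s => (em _).imp_right (hcon s))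
  obtain ⟨x, hx, hxz⟩ : ∃ x : P, orderOf x = 2 ∧ x ≠ z := by
    by_contra hcon
    push Not at hcon
    refine hBu fun a b ha hb ha1 => ?_
    have key : ∀ c : B, c ^ 2 = 1 → c ≠ 1 → (c : P) = z := fun c hc hc1 =>
      hcon c (orderOf_eq_prime (by rw [← SubmonoidClass.coe_pow, hc]; rfl) (fun h => hc1 (Subtype.ext h)))
    by_cases hb1 : b = 1
    · rw [hb1]; exact one_mem _
    · rw [show b = a from Subtype.ext ((key b hb hb1).trans (key a ha ha1).symm)]
      exact Subgroup.mem_zpowers a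
  obtain ⟨A, hA, hxA, hAcyc⟩ := OddChar.TwoNormal.exists_cyclic_index_two hP hz hzc' huniq hno hx hxz
  have hnab : ∃ u v : P, u * v ≠ v * u := by
    by_contra hcon
    push Not at hcon
    exact hxz (huniq x hx fun s => hcon s x)
  obtain ⟨n, hcard⟩ := IsPGroup.iff_card.mp hP
  have hn3 : 3 ≤ n := by
    by_contra hlt
    obtain ⟨u, v, huv⟩ := hnab
    apply huv
    rcases (show n = 0 ∨ n = 1 ∨ n = 2 by omega) with rfl | rfl | rfl
    · haveI := (Nat.card_eq_one_iff_unique.mp (hcard.trans (pow_zero _))).1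
      exact Subsingleton.elim _ _
    · haveI : IsCyclic P := isCyclic_of_prime_card (p := 2) (hcard.trans (pow_one _))
      exact mul_comm' u v
    · haveI : IsMulCommutative P := IsPGroup.isMulCommutative_of_card_eq_prime_sq (p := 2) hcard
      exact mul_comm' u v
  obtain ⟨a, b, ha, hb, h⟩ := Screen.CyclicIndexTwo.exists_gens n hn3 hcard A hAcyc hA hnab
  obtain ⟨m, rfl⟩ : ∃ m, n = m + 3 := ⟨n - 3, by omega⟩
  rw [show m + 3 - 1 = m + 2 by omega] at ha
  rw [show m + 3 - 2 = m + 1 by omega] at h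
  rcases h with ⟨hb2, hc⟩ | ⟨hb2, hc⟩ | ⟨hm, hb2, hc⟩ | ⟨hm, hb2, hc⟩
  · obtain ⟨e⟩ := TwoGroups.IsTwoExt.dihedral (x := a) (y := b) (N := 2 ^ (m + 2))
      ⟨ha, by rw [hcard, pow_succ'], by positivity, hb, by rw [← pow_two, hb2], by rw [hc, zpow_neg_one]⟩
    rcases Nat.eq_zero_or_pos m with rfl | hm0
    · exfalso
      -- the dihedral group of order eight has a normal four-group
      norm_num at ha
      have hb1 : b ≠ 1 := fun e => hb (e ▸ one_mem _)
      have hzA : z = a ^ 2 := by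
        refine (huniq (a ^ 2) (by rw [orderOf_pow, ha]; norm_num) fun s => ?_).symm
        obtain ⟨i, hi | hi⟩ := (TwoGroups.IsTwoExt.exists_eq (x := a) (y := b) (N := 4) (c := -1)
          ⟨ha, by rw [hcard]; norm_num, by norm_num, hb, by rw [← pow_two, hb2], by rw [hc, zpow_neg_one]⟩ s)
        · rw [hi, ← zpow_natCast, (Commute.zpow_zpow_self a _ _).eq]
        · have hba : b * a ^ 2 * b⁻¹ = a ^ 2 := by
            rw [← conj_pow, hc, inv_pow]
            refine inv_eq_of_mul_eq_one_right ?_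
            rw [← pow_add, show 2 + 2 = orderOf a from ha.symm, pow_orderOf_eq_one]
          rw [hi, mul_assoc, mul_inv_eq_iff_eq_mul.mp hba, ← mul_assoc, ← mul_assoc, ← zpow_natCast,
            (Commute.zpow_zpow_self a _ _).eq]
      have hbz : b ≠ z := fun e => hb (e ▸ hzA ▸ Subgroup.npow_mem_zpowers a 2)
      have hbo : orderOf b = 2 := orderOf_eq_prime hb2 hb1
      obtain ⟨s, hs1, hs2⟩ := hno b hbo hbz
      obtain ⟨i, hi | hi⟩ := (TwoGroups.IsTwoExt.exists_eq (x := a) (y := b) (N := 4) (c := -1)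
        ⟨ha, by rw [hcard]; norm_num, by norm_num, hb, by rw [← pow_two, hb2], by rw [hc, zpow_neg_one]⟩ s)
      all_goals
        have hw : a ^ i * b * (a ^ i)⁻¹ = b * a ^ (-(2 * i)) := by
          have h1 : b * a ^ (-i) * b⁻¹ = a ^ i := by rw [← conj_zpow, hc, inv_zpow, zpow_neg, inv_inv]
          calc a ^ i * b * (a ^ i)⁻¹ = b * a ^ (-i) * b⁻¹ * b * (a ^ i)⁻¹ := by rw [h1]
            _ = b * (a ^ (-i) * (a ^ i)⁻¹) := by group
            _ = b * a ^ (-(2 * i)) := by rw [← zpow_neg, ← zpow_add]; congr 2; ring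
        have hs : s * b * s⁻¹ = b * a ^ (-(2 * i)) := by
          rw [← hw, hi]
          all_goals simp only [mul_inv_rev, mul_assoc, mul_inv_cancel_left]
        have h4 : a ^ (4 : ℤ) = 1 := by
          have := pow_orderOf_eq_one a
          rw [ha] at this
          exact_mod_cast this
        rcases Int.even_or_odd i with ⟨l, hl⟩ | ⟨l, hl⟩
        · apply hs1
          rw [hs, show -(2 * i) = 4 * (-l) by omega, zpow_mul, h4, one_zpow, mul_one]
        · apply hs2
          rw [hs, hzA, show -(2 * i) = 4 * (-l - 1) + 2 by omega, zpow_add, zpow_mul, h4, one_zpow, one_mul]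
          norm_num [zpow_two, pow_two]
    · exact Or.inr (Or.inl ⟨2 ^ (m + 2), le_trans (by norm_num) (Nat.pow_le_pow_right two_pos (show 3 ≤ m + 2 by omega)), ⟨e⟩⟩)
  · refine Or.inl ⟨2 ^ (m + 1), ?_⟩
    refine TwoGroups.exists_quaternion_equiv (u := a) (v := b) (by positivity) ?_ ?_ hb ?_ hc
    · rw [ha, pow_succ' 2 (m + 1)]
    · rw [hcard, pow_succ' 2 (m + 2), pow_succ' 2 (m + 1)]; ring
    · rw [← pow_two, hb2]
  · exfalso
    have hb1 : b ≠ 1 := fun e => hb (e ▸ one_mem _)
    have hbo : orderOf b = 2 := orderOf_eq_prime hb2 hb1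
    have hbb : b * b = 1 := by rw [← pow_two, hb2]
    set c := a ^ 2 ^ (m + 1) with hcdef
    have hco : orderOf c = 2 := by
      rw [hcdef, orderOf_pow_of_dvd (by positivity) (by rw [ha]; exact pow_dvd_pow 2 (by omega)), ha,
        pow_succ _ (m + 1), Nat.mul_div_cancel_left _ (by positivity)]
    have hba : b * a * b⁻¹ = a * c := by rw [hc, pow_add, pow_one]
    have hbc : b * c * b⁻¹ = c := by
      rw [hcdef, ← conj_pow, hba, (Commute.self_pow a _).mul_pow, ← hcdef]
      obtain ⟨j, hj⟩ : 2 ∣ 2 ^ (m + 1) := dvd_pow_self 2 (by omega)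
      rw [hj, pow_mul c, pow_two, hsq c hco, one_pow, mul_one]
    have hcc : ∀ s : P, s * c = c * s := by
      intro s
      by_cases hs : s ∈ Subgroup.zpowers a
      · obtain ⟨i, rfl⟩ := Subgroup.mem_zpowers_iff.mp hs
        rw [hcdef, ← zpow_natCast, (Commute.zpow_zpow_self a _ _).eq]
      · have hidx : (Subgroup.zpowers a).index = 2 := by
          have h1 := (Subgroup.zpowers a).card_mul_index
          rw [Nat.card_zpowers, ha, hcard, pow_succ 2 (m + 2)] at h1
          exact Nat.eq_of_mul_eq_mul_left (by positivity) h1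
        have h2 : s * b ∈ Subgroup.zpowers a := (Subgroup.mul_mem_iff_of_index_two hidx).mpr
          ⟨fun h => absurd h hs, fun h => absurd h hb⟩
        obtain ⟨i, hi⟩ := Subgroup.mem_zpowers_iff.mp h2
        have hs' : s = a ^ i * b := by rw [hi, mul_assoc, hbb, mul_one]
        rw [hs', mul_assoc, mul_inv_eq_iff_eq_mul.mp hbc, ← mul_assoc, ← mul_assoc, hcdef, ← zpow_natCast,
          (Commute.zpow_zpow_self a _ _).eq]
    have hcz : c = z := huniq c hco hcc
    have hbz : b ≠ z := fun e => hb (e ▸ hcz ▸ Subgroup.npow_mem_zpowers a _)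
    obtain ⟨s, hs1, hs2⟩ := hno b hbo hbz
    have key : ∀ i : ℤ, a ^ i * b * (a ^ i)⁻¹ = b ∨ a ^ i * b * (a ^ i)⁻¹ = b * z := by
      intro i
      have h1 : b⁻¹ * a ^ i * b = a ^ i * c ^ i := by
        rw [show b⁻¹ = b from inv_eq_of_mul_eq_one_right hbb]
        calc b * a ^ i * b = b * a ^ i * b⁻¹ := by rw [show b⁻¹ = b from inv_eq_of_mul_eq_one_right hbb]
          _ = a ^ i * c ^ i := by
            rw [← conj_zpow, hba, (Commute.self_pow a _).mul_zpow]
      have h2 : a ^ i * b * (a ^ i)⁻¹ = b * c ^ i := by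
        calc a ^ i * b * (a ^ i)⁻¹ = b * (b⁻¹ * a ^ i * b) * (a ^ i)⁻¹ := by group
          _ = b * c ^ i := by
            rw [h1, ((Commute.self_pow a (2 ^ (m + 1))).zpow_zpow i i).eq, mul_assoc, mul_inv_cancel_right]
      rcases Int.even_or_odd i with ⟨l, hl⟩ | ⟨l, hl⟩
      · left; rw [h2, hl, ← two_mul, zpow_mul, zpow_two, hsq c hco, one_zpow, mul_one]
      · right
        rw [h2, hl, zpow_add, zpow_mul, zpow_two, hsq c hco, one_zpow, one_mul, zpow_one, hcz]
    have hidx : (Subgroup.zpowers a).index = 2 := by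
      have h1 := (Subgroup.zpowers a).card_mul_index
      rw [Nat.card_zpowers, ha, hcard, pow_succ 2 (m + 2)] at h1
      exact Nat.eq_of_mul_eq_mul_left (by positivity) h1
    by_cases hs : s ∈ Subgroup.zpowers a
    · obtain ⟨i, rfl⟩ := Subgroup.mem_zpowers_iff.mp hs
      exact (key i).elim hs1 hs2
    · have h2 : s * b ∈ Subgroup.zpowers a := (Subgroup.mul_mem_iff_of_index_two hidx).mpr
        ⟨fun h => absurd h hs, fun h => absurd h hb⟩
      obtain ⟨i, hi⟩ := Subgroup.mem_zpowers_iff.mp h2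
      have hse : s * b * s⁻¹ = a ^ i * b * (a ^ i)⁻¹ := by rw [hi]; group
      exact (key i).elim (fun e => hs1 (hse.trans e)) (fun e => hs2 (hse.trans e))
  · refine Or.inr (Or.inr ⟨m + 2, by omega, hcard, a, b, ha, orderOf_eq_prime hb2 (fun e => hb (e ▸ one_mem _)), ?_⟩)
    rw [show m + 2 - 1 = m + 1 by omega]
    exact hc

end Cfsg.Agent.S0519
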