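import Cfsg.Statements.S0620
import Cfsg.Agent.PLocal.OffenderEmbed

set_option autoImplicit false
open Cfsg
open scoped commutatorElement

namespace Cfsg.Agent.S0620

/-- Under coprime action of an elementary abelian q-group X on a p-separable group K with trivial p'-core, K is generated by the normalizer of J(S), the centralizer of Ω₁(Z(S)) and the fixed points of X. -/
theorem result {G : Type*} [Group G] [Finite G] {p : ℕ} [Fact p.Prime] {q : ℕ} [Fact q.Prime] (K X : Subgroup G) (hXK : X ≤ Subgroup.normalizer (K : Set G)) (hX : Cfsg.IsElementaryAbelian q X) (hq : ¬ q ∣ Nat.card K) (hsep : Cfsg.IsPSolvable p ↥K) (hO : Cfsg.pPrimeCore p ↥K = ⊥) (S : Sylow p ↥K) : (Subgroup.normalizer (Cfsg.thompsonSubgroupOf p (S : Subgroup ↥K) : Set ↥K) ⊔ Subgroup.centralizer (Cfsg.omegaOne p ((S : Subgroup ↥K) ⊓ Subgroup.centralizer ((S : Subgroup ↥K) : Set ↥K)) : Set ↥K) ⊔ (Subgroup.centralizer (X : Set G)).subgroupOf K) = ⊤ := by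
  classical
  by_cases htriv : p ∣ Nat.card K
  swap
  · have hbot : (⊤ : Subgroup K) = ⊥ := by
      rw [← hO, Core.pPrimeCore_eq_top (((Fact.out : p.Prime).coprime_iff_not_dvd.mpr htriv).symm)]
    haveI : Subsingleton K := by
      refine ⟨fun a b => ?_⟩
      have ha : a ∈ (⊤ : Subgroup K) := trivial
      have hb : b ∈ (⊤ : Subgroup K) := trivial
      rw [hbot, Subgroup.mem_bot] at ha hb
      rw [ha, hb]
    exact Subsingleton.elim _ _
  have hpq : p ≠ q := fun e => hq (e ▸ htriv)
  set N : Subgroup G := K ⊔ X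
  set ι : K →* N := Subgroup.inclusion le_sup_left with hι'
  have hι : Function.Injective ι := Subgroup.inclusion_injective _
  have hrange : ι.range = K.subgroupOf N := Subgroup.inclusion_range _
  have hKN : N ≤ Subgroup.normalizer (K : Set G) := sup_le Subgroup.le_normalizer hXK
  haveI : ι.range.Normal := hrange ▸ Subgroup.normal_subgroupOf_of_le_normalizer hKN
  obtain ⟨n, hn⟩ := IsPGroup.iff_card.mp (PLocal.isPGroup_of_EA hX)
  have hXK' : (Nat.card X).Coprime (Nat.card K) := by
    rw [hn]; exact ((Fact.out : q.Prime).coprime_iff_not_dvd.mpr hq).pow_left n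
  have hidx : ι.range.index.Coprime p := by
    have h1 := Subgroup.card_mul_index ι.range
    rw [hrange, Nat.card_congr (Subgroup.subgroupOfEquivOfLe (le_sup_left : K ≤ N)).toEquiv,
      Coprime.card_sup hXK (Coprime.inf_eq_bot_of_coprime hXK')] at h1
    rw [hrange, Nat.eq_of_mul_eq_mul_left Nat.card_pos h1, hn]
    exact ((Nat.coprime_primes (Fact.out : q.Prime) (Fact.out : p.Prime)).mpr hpq.symm).pow_left n
  have hXN : X ≤ N := le_sup_right
  haveI : Group.IsSolvable (X.subgroupOf N) := by
    haveI := Coprime.isSolvable_of_isPGroup (PLocal.isPGroup_of_EA hX)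
    exact solvable_of_solvable_injective (f := (Subgroup.subgroupOfEquivOfLe hXN).toMonoidHom)
      (Subgroup.subgroupOfEquivOfLe hXN).injective
  have hcop : (Nat.card (X.subgroupOf N)).Coprime (Nat.card (Cfsg.thompsonSubgroup p K)) := by
    rw [Nat.card_congr (Subgroup.subgroupOfEquivOfLe hXN).toEquiv]
    exact hXK'.coprime_dvd_right (Subgroup.card_subgroup_dvd_card _)
  have hcomap : (Subgroup.centralizer (X.subgroupOf N : Set N)).comap ι = (Subgroup.centralizer (X : Set G)).subgroupOf K := by
    ext k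
    rw [Subgroup.mem_comap, Subgroup.mem_subgroupOf, Subgroup.mem_centralizer_iff, Subgroup.mem_centralizer_iff]
    exact ⟨fun h x hx => congrArg Subtype.val (h ⟨x, hXN hx⟩ hx), fun h x hx => Subtype.ext (h (x : G) hx)⟩
  have h := PLocal.generation_embed ι hι hidx hsep hO (X := X.subgroupOf N) hcop S
  rw [hcomap] at h
  exact h

end Cfsg.Agent.S0620
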