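import Cfsg.Statements.S0621
import Cfsg.Agent.PLocal.OffenderEmbed

set_option autoImplicit false
open Cfsg
open scoped commutatorElement

namespace Cfsg.Agent.S0621

/-- Let K be p-separable with O_p'(K) = 1, normalized by an elementary abelian q-group X for a prime q not dividing the order of K. If the Thompson factorization fails in K, then p is 2 or 3 and the fixed points of X contain a plane W of order p² and a subgroup inducing SL(2, p) on it. -/
theorem result {G : Type*} [Group G] [Finite G] {p : ℕ} [Fact p.Prime] {q : ℕ} [Fact q.Prime] (K X : Subgroup G) (hXK : X ≤ Subgroup.normalizer (K : Set G)) (hX : Cfsg.IsElementaryAbelian q X) (hq : ¬ q ∣ Nat.card K) (hsep : Cfsg.IsPSolvable p ↥K) (hO : Cfsg.pPrimeCore p ↥K = ⊥) (hnf : ¬ Cfsg.IsThompsonFactorizable p ↥K) : (p = 2 ∨ p = 3) ∧ ∃ W D : Subgroup G, W ≤ K ⊓ Subgroup.centralizer (X : Set G) ∧ D ≤ K ⊓ Subgroup.centralizer (X : Set G) ∧ Cfsg.IsElementaryAbelian p W ∧ Nat.card W = p ^ 2 ∧ D ≤ Subgroup.normalizer (W : Set G) ∧ ∃ hn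 : ((Subgroup.centralizer (W : Set G)).subgroupOf D).Normal, Nonempty ((↥D ⧸ (Subgroup.centralizer (W : Set G)).subgroupOf D) ≃* Matrix.SpecialLinearGroup (Fin 2) (ZMod p)) := by
  classical
  by_cases htriv : p ∣ Nat.card K
  swap
  · have hbot : (⊤ : Subgroup K) = ⊥ := by
      rw [← hO, Core.pPrimeCore_eq_top (((Fact.out : p.Prime).coprime_iff_not_dvd.mpr htriv).symm)]
    haveI : Subsingleton K := by
      refine ⟨fun a b => ?_⟩
      have ha : a ∈ (⊤ : Subgroup K) := trivial
      have hb : b ∈ (⊤ : Subgroup K) := trivial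
      rw [hbot, Subgroup.mem_bot] at ha hb
      rw [ha, hb]
    refine absurd (fun S g => ⟨1, one_mem _, 1, one_mem _, 1, one_mem _, Subsingleton.elim _ _⟩) hnf
  have hpq : p ≠ q := fun e => hq (e ▸ htriv)
  set N : Subgroup G := K ⊔ X
  set ι : K →* N := Subgroup.inclusion le_sup_left with hι'
  have hι : Function.Injective ι := Subgroup.inclusion_injective _
  have hrange : ι.range = K.subgroupOf N := Subgroup.inclusion_range _
  have hKN : N ≤ Subgroup.normalizer (K : Set G) := sup_le Subgroup.le_normalizer hXK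
  haveI : ι.range.Normal := hrange ▸ Subgroup.normal_subgroupOf_of_le_normalizer hKN
  obtain ⟨n, hn⟩ := IsPGroup.iff_card.mp (PLocal.isPGroup_of_EA hX)
  have hXK' : (Nat.card X).Coprime (Nat.card K) := by
    rw [hn]; exact ((Fact.out : q.Prime).coprime_iff_not_dvd.mpr hq).pow_left n
  have hidx : ι.range.index.Coprime p := by
    have h1 := Subgroup.card_mul_index ι.range
    rw [hrange, Nat.card_congr (Subgroup.subgroupOfEquivOfLe (le_sup_left : K ≤ N)).toEquiv,
      Coprime.card_sup hXK (Coprime.inf_eq_bot_of_coprime hXK')] at h1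
    rw [hrange, Nat.eq_of_mul_eq_mul_left Nat.card_pos h1, hn]
    exact ((Nat.coprime_primes (Fact.out : q.Prime) (Fact.out : p.Prime)).mpr hpq.symm).pow_left n
  have hXN : X ≤ N := le_sup_right
  haveI : Group.IsSolvable (X.subgroupOf N) := by
    haveI := Coprime.isSolvable_of_isPGroup (PLocal.isPGroup_of_EA hX)
    exact solvable_of_solvable_injective (f := (Subgroup.subgroupOfEquivOfLe hXN).toMonoidHom)
      (Subgroup.subgroupOfEquivOfLe hXN).injective
  have hcop : (Nat.card (X.subgroupOf N)).Coprime (Nat.card (Cfsg.thompsonSubgroup p K)) := by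
    rw [Nat.card_congr (Subgroup.subgroupOfEquivOfLe hXN).toEquiv]
    exact hXK'.coprime_dvd_right (Subgroup.card_subgroup_dvd_card _)
  have hcomap : (Subgroup.centralizer (X.subgroupOf N : Set N)).comap ι = (Subgroup.centralizer (X : Set G)).subgroupOf K := by
    ext k
    rw [Subgroup.mem_comap, Subgroup.mem_subgroupOf, Subgroup.mem_centralizer_iff, Subgroup.mem_centralizer_iff]
    exact ⟨fun h x hx => congrArg Subtype.val (h ⟨x, hXN hx⟩ hx), fun h x hx => Subtype.ext (h (x : G) hx)⟩
  obtain ⟨hp', W, D, hW, hD, hWea, hWc, hDn, φ, hφ, hker⟩ :=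
    PLocal.fixed_sl2_embed ι hι hidx hsep hO hnf (X := X.subgroupOf N) hcop
  refine ⟨hp', W.map N.subtype, D.map N.subtype, ?_, ?_, PLocal.isEA_map hWea _, ?_, ?_, ?_⟩
  · rintro _ ⟨w, hw, rfl⟩
    obtain ⟨⟨k, hk⟩, hwX⟩ := hW hw
    refine ⟨by rw [← hk]; exact k.2, Subgroup.mem_centralizer_iff.mpr fun x hx => ?_⟩
    exact congrArg Subtype.val (Subgroup.mem_centralizer_iff.mp hwX ⟨x, hXN hx⟩ hx)
  · rintro _ ⟨w, hw, rfl⟩
    obtain ⟨⟨k, hk⟩, hwX⟩ := hD hw
    refine ⟨by rw [← hk]; exact k.2, Subgroup.mem_centralizer_iff.mpr fun x hx => ?_⟩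
    exact congrArg Subtype.val (Subgroup.mem_centralizer_iff.mp hwX ⟨x, hXN hx⟩ hx)
  · rw [Subgroup.card_map_of_injective N.subtype_injective, hWc]
  · exact (Subgroup.map_mono hDn).trans (Subgroup.le_normalizer_map _)
  · let e : D ≃* D.map N.subtype := D.equivMapOfInjective _ N.subtype_injective
    have hk : (Subgroup.centralizer ((W.map N.subtype : Subgroup G) : Set G)).subgroupOf (D.map N.subtype) =
        (φ.comp e.symm.toMonoidHom).ker := by
      ext d
      obtain ⟨d, rfl⟩ := e.surjective d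
      rw [MonoidHom.mem_ker, Subgroup.mem_subgroupOf]
      show _ ↔ φ (e.symm (e d)) = 1
      rw [e.symm_apply_apply, ← MonoidHom.mem_ker, hker, Subgroup.mem_subgroupOf, Subgroup.mem_centralizer_iff,
        Subgroup.mem_centralizer_iff]
      constructor
      · intro h w hw
        exact Subtype.ext (h _ ⟨w, hw, rfl⟩)
      · rintro h _ ⟨w, hw, rfl⟩
        exact congrArg Subtype.val (h w hw)
    haveI hn' : ((Subgroup.centralizer ((W.map N.subtype : Subgroup G) : Set G)).subgroupOf (D.map N.subtype)).Normal := by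
      rw [hk]; infer_instance
    exact ⟨hn', ⟨(QuotientGroup.quotientMulEquivOfEq hk).trans
      (QuotientGroup.quotientKerEquivOfSurjective _ (hφ.comp e.symm.surjective))⟩⟩

end Cfsg.Agent.S0621
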