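import Cfsg.Statements.S0632
import Cfsg.Agent.Core.Cores
import Cfsg.Agent.Core.PPrimeP
import Cfsg.Agent.Coprime.Action
import Cfsg.Agent.PLocal.ZJ
import Cfsg.Agent.PLocal.Constrained

set_option autoImplicit false
open Cfsg
open scoped commutatorElement

namespace Cfsg.Agent.S0632

/-- Modulo `O_{p'}`, `N(P)/C(P)` does not change. -/
theorem pCore_transfer {G : Type*} [Group G] [Finite G] {p : ℕ} [Fact p.Prime] {P : Subgroup G}
    (hP : IsPGroup p P) (hn : (pPrimeCore p G ⊔ P).Normal)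
    {Pq : Subgroup (G ⧸ pPrimeCore p G)} (hPq : P.map (QuotientGroup.mk' (pPrimeCore p G)) = Pq)
    (a : G) (ha : a ∈ Subgroup.normalizer (P : Set G))
    (ha' : QuotientGroup.mk' (pPrimeCore p G) a ∈ Subgroup.normalizer (Pq : Set (G ⧸ pPrimeCore p G))) :
    (QuotientGroup.mk' ((Subgroup.centralizer (P : Set G)).subgroupOf (Subgroup.normalizer (P : Set G))) ⟨a, ha⟩ ∈ pCore p _) ↔
    (QuotientGroup.mk' ((Subgroup.centralizer (Pq : Set (G ⧸ pPrimeCore p G))).subgroupOf
      (Subgroup.normalizer (Pq : Set (G ⧸ pPrimeCore p G))))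
      ⟨QuotientGroup.mk' (pPrimeCore p G) a, ha'⟩ ∈ pCore p _) := by
  subst hPq
  set O := pPrimeCore p G with hO
  set π := QuotientGroup.mk' O with hπ
  set N := Subgroup.normalizer (P : Set G) with hN
  set P' := P.map π with hP'
  set N' := Subgroup.normalizer (P' : Set (G ⧸ O)) with hN'
  have hNN : ∀ g ∈ N, π g ∈ N' := fun g hg => Coprime.mem_normalizer_of_conj_mem fun y hy => by
    obtain ⟨x, hx, rfl⟩ := hy
    exact ⟨g * x * g⁻¹, (Subgroup.mem_normalizer_iff.mp hg x).mp hx, by simp⟩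
  have hcen : ∀ g : G, g ∈ N → (g ∈ Subgroup.centralizer (P : Set G) ↔ π g ∈ Subgroup.centralizer (P' : Set (G ⧸ O))) := by
    intro g hg
    rw [Subgroup.mem_centralizer_iff, Subgroup.mem_centralizer_iff]
    constructor
    · rintro h _ ⟨x, hx, rfl⟩
      rw [← map_mul, ← map_mul, h x hx]
    · intro h x hx
      have h1 : g * x * g⁻¹ * x⁻¹ ∈ P := mul_mem ((Subgroup.mem_normalizer_iff.mp hg x).mp hx) (inv_mem hx)
      have h2 : g * x * g⁻¹ * x⁻¹ ∈ O := by
        rw [← QuotientGroup.eq_one_iff, ← QuotientGroup.mk'_apply]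
        show π _ = 1
        rw [map_mul, map_mul, map_mul, map_inv, map_inv, ← h _ ⟨x, hx, rfl⟩, mul_inv_cancel_right, mul_inv_cancel]
      have h3 := Core.ThompsonComplement.eq_one_of_mem hP h1
        ((Core.card_pPrimeCore_coprime p G).coprime_dvd_left (Subgroup.orderOf_dvd_natCard _ h2))
      exact (mul_inv_eq_iff_eq_mul.mp (mul_inv_eq_one.mp h3)).symm
  let f₀ : ↥N →* ↥N' := (π.comp N.subtype).codRestrict N' fun g => hNN g g.2
  set C := (Subgroup.centralizer (P : Set G)).subgroupOf N with hC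
  set C' := (Subgroup.centralizer (P' : Set (G ⧸ O))).subgroupOf N' with hC'
  have hCn : C.Normal := inferInstance
  have hC'n : C'.Normal := inferInstance
  let f : (↥N ⧸ C) →* (↥N' ⧸ C') := QuotientGroup.map C C' f₀ fun g hg => (hcen g g.2).mp hg
  have hfinj : Function.Injective f := by
    rw [injective_iff_map_eq_one]
    intro x hx
    obtain ⟨g, rfl⟩ := QuotientGroup.mk'_surjective C x
    exact (QuotientGroup.eq_one_iff g).mpr ((hcen g g.2).mpr ((QuotientGroup.eq_one_iff (N := C') (f₀ g)).mp hx))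
  have hfsur : Function.Surjective f := by
    intro y
    obtain ⟨⟨y, hy⟩, rfl⟩ := QuotientGroup.mk'_surjective C' y
    obtain ⟨g, rfl⟩ := QuotientGroup.mk'_surjective O y
    have hg : g ∈ O ⊔ N := by
      have hfr : N ⊔ (O ⊔ P) = ⊤ := by
        set L := O ⊔ P
        haveI := hn
        obtain ⟨S, hS⟩ := hP.exists_le_sylow
        have hSL : (S : Subgroup G) ⊓ L = P := by
          refine le_antisymm (fun x hx => ?_) (le_inf hS le_sup_right)
          obtain ⟨o, ho, z, hz, rfl⟩ := Subgroup.mem_sup_of_normal_left.mp (Subgroup.mem_inf.mp hx).2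
          have h1 : o ∈ (S : Subgroup G) := by
            have := mul_mem (Subgroup.mem_inf.mp hx).1 (inv_mem (hS hz))
            rwa [mul_inv_cancel_right] at this
          have h2 := Core.ThompsonComplement.eq_one_of_mem S.isPGroup' h1
            ((Core.card_pPrimeCore_coprime p G).coprime_dvd_left (Subgroup.orderOf_dvd_natCard _ ho))
          rw [h2, one_mul]; exact hz
        obtain ⟨T, hT⟩ := PLocal.exists_sylow_inf S L
        rw [hSL] at hT
        have := Sylow.normalizer_sup_eq_top T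
        rwa [hT] at this
      exact (sup_le le_sup_right (sup_le le_sup_left (Subgroup.le_normalizer.trans le_sup_right)) :
        N ⊔ (O ⊔ P) ≤ O ⊔ N) (hfr ▸ Subgroup.mem_top g)
    obtain ⟨o, ho, n, hn', rfl⟩ := Subgroup.mem_sup_of_normal_left.mp hg
    refine ⟨QuotientGroup.mk' C ⟨n, hn'⟩, ?_⟩
    have he : (⟨π (o * n), hy⟩ : ↥N') = f₀ ⟨n, hn'⟩ := Subtype.ext (by
      show π (o * n) = π n
      rw [map_mul, show π o = 1 from (QuotientGroup.eq_one_iff o).mpr ho, one_mul])
    show f _ = QuotientGroup.mk' C' _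
    rw [he]; rfl
  let e := MulEquiv.ofBijective f ⟨hfinj, hfsur⟩
  have hmap : (pCore p (↥N ⧸ C)).map e.toMonoidHom = pCore p (↥N' ⧸ C') := Core.pCore_map_equiv e
  show QuotientGroup.mk' C ⟨a, ha⟩ ∈ pCore p (↥N ⧸ C) ↔ _
  constructor
  · intro h
    rw [← hmap]
    exact ⟨_, h, rfl⟩
  · intro h
    rw [← hmap] at h
    obtain ⟨x, hx, hxe⟩ := h
    have : x = QuotientGroup.mk' C ⟨a, ha⟩ := hfinj hxe
    rwa [← this]


/-- For a group with a nontrivial normal p-subgroup, p-stability passes to and from the quotient by the largest normal subgroup of order prime to p. -/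
theorem result {G : Type*} [Group G] [Finite G] {p : ℕ} [Fact p.Prime] (hO : Cfsg.pCore p G ≠ ⊥) : Cfsg.IsPStable p G ↔ Cfsg.IsPStable p (G ⧸ Cfsg.pPrimeCore p G) := by
  set O := pPrimeCore p G with hOdef
  set π := QuotientGroup.mk' O with hπ
  have hsurj : Function.Surjective π := QuotientGroup.mk'_surjective O
  have hO' : pPrimeCore p (G ⧸ O) = ⊥ := Core.pPrimeCore_quotient_pPrimeCore p G
  have hker : ∀ {H : Subgroup G}, IsPGroup p H → ∀ x ∈ H, π x = 1 → x = 1 := fun hH x hx h1 =>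
    Core.ThompsonComplement.eq_one_of_mem hH hx
      ((Core.card_pPrimeCore_coprime p G).coprime_dvd_left
        (Subgroup.orderOf_dvd_natCard _ ((QuotientGroup.eq_one_iff x).mp h1)))
  have hcore : pCore p (G ⧸ O) ≠ ⊥ := by
    intro h
    apply hO
    refine le_bot_iff.mp fun x hx => Subgroup.mem_bot.mpr (hker (Core.isPGroup_pCore p G) x hx ?_)
    have := Core.map_pCore_le (p := p) hsurj ⟨x, hx, rfl⟩
    rwa [h, Subgroup.mem_bot] at this
  constructor
  · rintro ⟨hodd, -, hst⟩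
    refine ⟨hodd, hcore, fun A P hA hP hAP hPle hPn hc => ?_⟩
    rw [hO', bot_sup_eq] at hPn
    rw [Core.pPrimePCore_eq_pCore hO'] at hPle
    haveI := hPn
    obtain ⟨U, hU⟩ := hA.exists_le_sylow
    obtain ⟨S, rfl⟩ := Sylow.mapSurjective_surjective hsurj p U
    set L := P.comap π with hL
    haveI : L.Normal := hPn.comap _
    set P₀ := (S : Subgroup G) ⊓ L with hP₀
    set A₀ := (S : Subgroup G) ⊓ A.comap π with hA₀
    have hP₀p : IsPGroup p P₀ := S.isPGroup'.to_le inf_le_left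
    have hA₀map : A₀.map π = A := by
      refine le_antisymm (Subgroup.map_le_iff_le_comap.mpr inf_le_right) fun y hy => ?_
      obtain ⟨s, hs, rfl⟩ := hU hy
      exact ⟨s, Subgroup.mem_inf.mpr ⟨hs, hy⟩, rfl⟩
    have hP₀map : P₀.map π = P := by
      refine le_antisymm (Subgroup.map_le_iff_le_comap.mpr inf_le_right) fun y hy => ?_
      have hy' : y ∈ (S.mapSurjective hsurj : Subgroup (G ⧸ O)) :=
        Core.pCore_le_sylow _ (Core.le_pCore hPn hP hy)
      obtain ⟨s, hs, rfl⟩ := hy'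
      exact ⟨s, Subgroup.mem_inf.mpr ⟨hs, hy⟩, rfl⟩
    have hPn0 : (O ⊔ P₀).Normal := by
      have he : O ⊔ P₀ = L := by
        refine le_antisymm (sup_le (fun x hx => ?_) inf_le_right) fun x hx => ?_
        · show π x ∈ P
          rw [show π x = 1 from (QuotientGroup.eq_one_iff x).mpr hx]; exact one_mem _
        · obtain ⟨r, hr, hrx⟩ := hP₀map.ge (show π x ∈ P from hx)
          rw [show x = r * (r⁻¹ * x) by group]
          exact mul_mem (Subgroup.mem_sup_right hr) (Subgroup.mem_sup_left ((QuotientGroup.eq_one_iff _).mp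
            (show π (r⁻¹ * x) = 1 by rw [map_mul, map_inv, hrx, inv_mul_cancel])))
      rw [he]; infer_instance
    have hnorm : ∀ a ∈ A₀, ∀ x ∈ P₀, a * x * a⁻¹ ∈ P₀ := fun a ha x hx => by
      obtain ⟨h1, h2⟩ := Subgroup.mem_inf.mp hx
      exact Subgroup.mem_inf.mpr ⟨mul_mem (mul_mem ha.1 h1) (inv_mem ha.1),
        (inferInstance : L.Normal).conj_mem x h2 a⟩
    have hc0 : ⁅⁅P₀, A₀⁆, A₀⁆ = ⊥ := by
      refine le_bot_iff.mp fun z hz => Subgroup.mem_bot.mpr (hker S.isPGroup' z ?_ ?_)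
      · have hle : ∀ X Y : Subgroup G, X ≤ (S : Subgroup G) → Y ≤ (S : Subgroup G) → ⁅X, Y⁆ ≤ (S : Subgroup G) := by
          intro X Y hX hY
          rw [Subgroup.commutator_le]
          intro a ha b hb
          rw [commutatorElement_def]
          exact mul_mem (mul_mem (mul_mem (hX ha) (hY hb)) (inv_mem (hX ha))) (inv_mem (hY hb))
        exact hle _ _ (hle _ _ inf_le_left inf_le_left) inf_le_left hz
      · have h1 : π z ∈ (⁅⁅P₀, A₀⁆, A₀⁆).map π := ⟨z, hz, rfl⟩
        rwa [Subgroup.map_commutator, Subgroup.map_commutator, hP₀map, hA₀map, hc, Subgroup.mem_bot] at h1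
    have h := hst A₀ P₀ (S.isPGroup'.to_le inf_le_left) hP₀p hnorm (fun x hx => Subgroup.mem_comap.mpr
      (Core.le_pCore hPn hP (Subgroup.mem_inf.mp hx).2)) hPn0 hc0
    rintro _ ⟨⟨a, ha'⟩, haA, rfl⟩
    obtain ⟨a₀, ha₀, rfl⟩ := hA₀map.ge (Subgroup.mem_subgroupOf.mp haA)
    exact (pCore_transfer hP₀p hPn0 hP₀map a₀ (Coprime.mem_normalizer_of_conj_mem (hnorm a₀ ha₀)) ha').mp
      (h ⟨⟨a₀, _⟩, ha₀, rfl⟩)
  · rintro ⟨hodd, -, hst⟩
    refine ⟨hodd, hO, fun A P hA hP hAP hPle hPn hc => ?_⟩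
    have hPn' : (P.map π).Normal := by
      have h1 := hPn.map π hsurj
      rwa [Subgroup.map_sup, hπ, QuotientGroup.map_mk'_self, bot_sup_eq] at h1
    have hle : P.map π ≤ pPrimePCore p (G ⧸ O) := by
      rw [Core.pPrimePCore_eq_pCore hO']
      exact Core.le_pCore hPn' (hP.map π)
    have hnorm : ∀ a ∈ A.map π, ∀ x ∈ P.map π, a * x * a⁻¹ ∈ P.map π := by
      rintro _ ⟨a, ha, rfl⟩ _ ⟨x, hx, rfl⟩
      exact ⟨a * x * a⁻¹, hAP a ha x hx, by simp⟩
    have h := hst (A.map π) (P.map π) (hA.map π) (hP.map π) hnorm hle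
      (by rw [hO', bot_sup_eq]; exact hPn')
      (by rw [← Subgroup.map_commutator, ← Subgroup.map_commutator, hc, Subgroup.map_bot])
    rintro _ ⟨⟨a, ha⟩, haA, rfl⟩
    have ha' : π a ∈ Subgroup.normalizer ((P.map π : Subgroup (G ⧸ O)) : Set (G ⧸ O)) :=
      Coprime.mem_normalizer_of_conj_mem (hnorm (π a) ⟨a, haA, rfl⟩)
    exact (pCore_transfer hP hPn rfl a ha ha').mpr (h ⟨⟨π a, ha'⟩, ⟨a, haA, rfl⟩, rfl⟩)

end Cfsg.Agent.S0632
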