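import Cfsg.Statements.S0647
import Cfsg.Agent.PLocal.ElemAb

set_option autoImplicit false
open Cfsg
open scoped commutatorElement

namespace Cfsg.Agent.S0647

/-- For a nonempty family of maximal abelian subgroups of a finite group, the intersection of the family is the centre of the subgroup it generates, which is also the full centralizer of that subgroup. -/
theorem result {S : Type*} [Group S] [Finite S] (𝒜 : Set (Subgroup S)) (hne : 𝒜.Nonempty) (hab : ∀ A ∈ 𝒜, IsMulCommutative A) (hmax : ∀ A ∈ 𝒜, ∀ B : Subgroup S, IsMulCommutative B → A ≤ B → B = A) : sInf 𝒜 = sSup 𝒜 ⊓ Subgroup.centralizer ((sSup 𝒜 : Subgroup S) : Set S) ∧ sInf 𝒜 = Subgroup.centralizer ((sSup 𝒜 : Subgroup S) : Set S) := by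
  have hz : sInf 𝒜 ≤ sSup 𝒜 := by
    obtain ⟨A, hA⟩ := hne
    exact (sInf_le hA).trans (le_sSup hA)
  have h1 : Subgroup.centralizer ((sSup 𝒜 : Subgroup S) : Set S) ≤ sInf 𝒜 := by
    refine le_sInf fun A hA x hx => ?_
    have hxc : x ∈ Subgroup.centralizer (A : Set S) := Subgroup.centralizer_le (SetLike.coe_subset_coe.mpr (le_sSup hA)) hx
    have hc : A ≤ Subgroup.centralizer (Subgroup.zpowers x : Set S) :=
      Subgroup.le_centralizer_iff.mp (Subgroup.zpowers_le.mpr hxc)
    have h2 : A ⊔ Subgroup.zpowers x = A :=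
      hmax A hA _ (PLocal.isMulCommutative_sup (hab A hA) inferInstance hc) le_sup_left
    exact h2 ▸ Subgroup.mem_sup_right (Subgroup.mem_zpowers x)
  have h2 : sInf 𝒜 ≤ Subgroup.centralizer ((sSup 𝒜 : Subgroup S) : Set S) := by
    rw [Subgroup.le_centralizer_iff]
    refine sSup_le fun A hA => ?_
    exact (Subgroup.le_centralizer_iff_isMulCommutative.mpr (hab A hA)).trans
      (Subgroup.centralizer_le (SetLike.coe_subset_coe.mpr (sInf_le hA)))
  exact ⟨le_antisymm (le_inf hz h2) (inf_le_right.trans h1), le_antisymm h2 h1⟩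

end Cfsg.Agent.S0647
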