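import Cfsg.Statements.S0648
import Cfsg.Agent.Coprime.Action
import Cfsg.Agent.PLocal.ChainPCore

set_option autoImplicit false
open Cfsg
open scoped commutatorElement

namespace Cfsg.Agent.S0648

/-- If A acts on B centralizing [B, B], then [B, A] has derived subgroup central in B, and for abelian A and b ∈ B with [[b, A], A, A] = 1 the derived subgroup of the subgroup [b, A] generated by the commutators of b with A has exponent dividing 2. -/
theorem result {G : Type*} [Group G] [Finite G] (A B : Subgroup G) (hAB : A ≤ Subgroup.normalizer (B : Set G)) (hc : ⁅⁅B, B⁆, A⁆ = ⊥) : ⁅⁅B, A⁆, ⁅B, A⁆⁆ ≤ B ⊓ Subgroup.centralizer (B : Set G) ∧ (IsMulCommutative A → ∀ b ∈ B, ⁅⁅(Subgroup.closure {g : G | ∃ a ∈ A, g = b⁻¹ * a * b * a⁻¹}), A⁆, A⁆ = ⊥ → ∀ w ∈ ⁅(Subgroup.closure {g : G | ∃ a ∈ A, g = b⁻¹ * a * b * a⁻¹}), (Subgroup.closure {g : G | ∃ a ∈ A, g = b⁻¹ * a * b * a⁻¹})⁆, w ^ 2 = 1) := by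
  have hBA : ⁅B, A⁆ ≤ B := Coprime.commutator_le_of_le_normalizer hAB
  have hDA : ∀ d ∈ ⁅B, B⁆, ∀ a ∈ A, a * d = d * a := fun d hd a ha =>
    Subgroup.mem_centralizer_iff.mp (Subgroup.commutator_eq_bot_iff_le_centralizer.mp hc hd) a ha
  have hBD : ∀ d ∈ ⁅B, B⁆, ∀ x ∈ B, x * d * x⁻¹ ∈ ⁅B, B⁆ := fun d hd x hx =>
    (Subgroup.mem_normalizer_iff.mp ((PLocal.sup_le_normalizer_commutator B B) (Subgroup.mem_sup_left hx)) d).mp hd
  -- `[B, A]` centralizes `[B, B]`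
  have hBA' : ⁅B, B⁆ ≤ B := by
    rw [Subgroup.commutator_le]
    intro x hx y hy
    rw [commutatorElement_def]
    exact mul_mem (mul_mem (mul_mem hx hy) (inv_mem hx)) (inv_mem hy)
  have hY1 : ⁅⁅B, A⁆, ⁅B, B⁆⁆ = ⊥ := by
    rw [Subgroup.commutator_comm B A]
    refine Subgroup.commutator_commutator_eq_bot_of_rotate ?_ ?_
    · refine le_bot_iff.mp (le_trans ?_ hc.le)
      exact Subgroup.commutator_mono (Subgroup.commutator_mono le_rfl hBA') le_rfl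
    · rw [hc, Subgroup.commutator_bot_left]
  have hYB : ⁅⁅B, A⁆, B⁆ ≤ ⁅B, B⁆ := Subgroup.commutator_mono hBA le_rfl
  have hD : ⁅⁅⁅B, A⁆, ⁅B, A⁆⁆, B⁆ = ⊥ := by
    have h2 : ⁅⁅B, ⁅B, A⁆⁆, ⁅B, A⁆⁆ = ⊥ := le_bot_iff.mp (le_trans
      (Subgroup.commutator_mono (Subgroup.commutator_mono le_rfl hBA) le_rfl)
      (Subgroup.commutator_comm ⁅B, B⁆ ⁅B, A⁆ ▸ hY1.le))
    refine Subgroup.commutator_commutator_eq_bot_of_rotate ?_ h2
    rw [Subgroup.commutator_comm ⁅B, A⁆ B]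
    exact h2
  have part1 : ⁅⁅B, A⁆, ⁅B, A⁆⁆ ≤ B ⊓ Subgroup.centralizer (B : Set G) :=
    le_inf ((Subgroup.commutator_mono hBA hBA).trans hBA') (Subgroup.commutator_eq_bot_iff_le_centralizer.mp hD)
  refine ⟨part1, fun hA b hb hX => ?_⟩
  set X := Subgroup.closure {g : G | ∃ a ∈ A, g = b⁻¹ * a * b * a⁻¹} with hXdef
  have hxX : ∀ a ∈ A, ⁅b⁻¹, a⁆ ∈ X := fun a ha =>
    Subgroup.subset_closure ⟨a, ha, by simp only [commutatorElement_def]; group⟩
  have hXY : X ≤ ⁅B, A⁆ := (Subgroup.closure_le _).mpr (by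
    rintro _ ⟨a, ha, rfl⟩
    rw [show b⁻¹ * a * b * a⁻¹ = ⁅b⁻¹, a⁆ by simp only [commutatorElement_def]; group]
    exact Subgroup.commutator_mem_commutator (inv_mem hb) ha)
  have hXA : ∀ t ∈ ⁅X, A⁆, ∀ f ∈ A, f * t = t * f := fun t ht f hf =>
    Subgroup.mem_centralizer_iff.mp (Subgroup.commutator_eq_bot_iff_le_centralizer.mp hX ht) f hf
  have hYD : ∀ y ∈ ⁅B, A⁆, ∀ d ∈ ⁅B, B⁆, y * d = d * y := fun y hy d hd =>
    (Subgroup.mem_centralizer_iff.mp (Subgroup.commutator_eq_bot_iff_le_centralizer.mp hY1 hy) d hd).symm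
  have hzB : ∀ z ∈ ⁅⁅B, A⁆, ⁅B, A⁆⁆, ∀ y ∈ B, y * z = z * y := fun z hz y hy =>
    Subgroup.mem_centralizer_iff.mp (part1 hz).2 y hy
  have hzA : ∀ z ∈ ⁅⁅B, A⁆, ⁅B, A⁆⁆, ∀ f ∈ A, f * z = z * f := fun z hz f hf =>
    hDA z ((Subgroup.commutator_mono hBA hBA) hz) f hf
  -- the squares of the commutators of the generators
  have key : ∀ a ∈ A, ∀ c ∈ A, ⁅⁅b⁻¹, a⁆, ⁅b⁻¹, c⁆⁆ ^ 2 = 1 := by
    set φ : MulAut G := MulAut.conj b⁻¹ with hφ
    set x : G → G := fun a => ⁅b⁻¹, a⁆ with hx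
    have hφA : ∀ a, φ a = x a * a := fun a => by
      simp only [hx, hφ, MulAut.conj_apply, commutatorElement_def]; group
    have hxY : ∀ a ∈ A, x a ∈ ⁅B, A⁆ := fun a ha => hXY (hxX a ha)
    -- `φ (x a)` is `x a` modulo `[B, B]`
    have hφx : ∀ a ∈ A, ∃ t ∈ ⁅B, B⁆, φ (x a) = x a * t := fun a ha =>
      ⟨⁅(x a)⁻¹, b⁻¹⁆, Subgroup.commutator_mem_commutator (inv_mem (hBA (hxY a ha))) (inv_mem hb), by
        simp only [hφ, MulAut.conj_apply, commutatorElement_def]; group⟩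
    have hTX : ∀ a ∈ A, ∀ c ∈ A, ⁅a, x c⁆ ∈ ⁅X, A⁆ := fun a ha c hc => by
      rw [← commutatorElement_inv]
      exact inv_mem (Subgroup.commutator_mem_commutator (hxX c hc) ha)
    have hTY : ∀ a ∈ A, ∀ c ∈ A, ⁅a, x c⁆ ∈ ⁅B, A⁆ := fun a ha c hc => by
      rw [← commutatorElement_inv]
      exact inv_mem (Subgroup.commutator_mem_commutator (hBA (hxY c hc)) ha)
    have hφT : ∀ a ∈ A, ∀ c ∈ A, φ ⁅a, x c⁆ = x a * ⁅a, x c⁆ * (x a)⁻¹ * ⁅x a, x c⁆ := by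
      intro a ha c hc
      obtain ⟨t, ht, e⟩ := hφx c hc
      rw [map_commutatorElement, e, hφA]
      have h1 : ∀ y ∈ ⁅B, A⁆, t * y = y * t := fun y hy => (hYD y hy t ht).symm
      have h2 : t * a⁻¹ = a⁻¹ * t := (hDA t ht a⁻¹ (inv_mem ha)).symm
      have h3 : t * (x a)⁻¹ = (x a)⁻¹ * t := h1 _ (inv_mem (hxY a ha))
      calc ⁅x a * a, x c * t⁆ = x a * a * x c * (t * a⁻¹) * (x a)⁻¹ * t⁻¹ * (x c)⁻¹ := by
            simp only [commutatorElement_def]; group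
        _ = x a * a * x c * a⁻¹ * (t * (x a)⁻¹) * t⁻¹ * (x c)⁻¹ := by rw [h2]; group
        _ = _ := by rw [h3]; simp only [commutatorElement_def]; group
    have hTx : ∀ a ∈ A, ∀ c ∈ A, ∀ g ∈ A, x g * ⁅a, x c⁆ = ⁅a, x c⁆ * x g := by
      intro a ha c hc g hg
      set T := ⁅a, x c⁆ with hT
      have hz1 : ⁅x a, T⁆ ∈ ⁅⁅B, A⁆, ⁅B, A⁆⁆ := Subgroup.commutator_mem_commutator (hxY a ha) (hTY a ha c hc)
      have hz2 : ⁅x a, x c⁆ ∈ ⁅⁅B, A⁆, ⁅B, A⁆⁆ := Subgroup.commutator_mem_commutator (hxY a ha) (hxY c hc)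
      have e : φ T = ⁅x a, T⁆ * T * ⁅x a, x c⁆ := by
        rw [hT, hφT a ha c hc, ← hT, commutatorElement_def (x a) T]; group
      have cg : ∀ u : G, (g * u = u * g) → (φ g * φ u = φ u * φ g) := fun u h => by
        rw [← map_mul, ← map_mul, h]
      have h1 : x g * g * (⁅x a, T⁆ * T * ⁅x a, x c⁆) = ⁅x a, T⁆ * T * ⁅x a, x c⁆ * (x g * g) := by
        rw [← e, ← hφA]; exact cg T (hXA T (hTX a ha c hc) g hg)
      have hfix : g * (⁅x a, T⁆ * T * ⁅x a, x c⁆) = ⁅x a, T⁆ * T * ⁅x a, x c⁆ * g :=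
        (((show Commute g ⁅x a, T⁆ from hzA _ hz1 g hg).mul_right (show Commute g T from hXA T (hTX a ha c hc) g hg)).mul_right
          (show Commute g ⁅x a, x c⁆ from hzA _ hz2 g hg)).eq
      have h2 : x g * (⁅x a, T⁆ * T * ⁅x a, x c⁆) = ⁅x a, T⁆ * T * ⁅x a, x c⁆ * x g := by
        refine mul_right_cancel (b := g) ?_
        rw [mul_assoc, ← hfix, ← mul_assoc, h1, ← mul_assoc]
      have k1 : Commute (x g) ⁅x a, T⁆ := hzB _ hz1 _ (hBA (hxY g hg))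
      have k2 : Commute (x g) ⁅x a, x c⁆ := hzB _ hz2 _ (hBA (hxY g hg))
      have h3 : Commute (x g) (⁅x a, T⁆ * T * ⁅x a, x c⁆) := h2
      have := ((k1.inv_right.mul_right h3).mul_right k2.inv_right).eq
      rw [show ⁅x a, T⁆⁻¹ * (⁅x a, T⁆ * T * ⁅x a, x c⁆) * ⁅x a, x c⁆⁻¹ = T by group] at this
      exact this
    intro a ha c hc
    set z := ⁅x a, x c⁆ with hz
    set T := ⁅a, x c⁆ with hT
    set T' := ⁅c, x a⁆ with hT'
    have hzY : z ∈ ⁅⁅B, A⁆, ⁅B, A⁆⁆ := Subgroup.commutator_mem_commutator (hxY a ha) (hxY c hc)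
    have hxac : x a * T * x c = x c * T' * x a := by
      have hac : a * c = c * a := congrArg Subtype.val (hA.is_comm.comm ⟨a, ha⟩ ⟨c, hc⟩)
      have e1 : x (a * c) = x a * T * x c := by
        simp only [hT, hx, commutatorElement_def]; group
      have e2 : x (c * a) = x c * T' * x a := by
        simp only [hT', hx, commutatorElement_def]; group
      rw [← e1, ← e2, hac]
    have eT : T' = T * z := by
      have h1 : T' * (x c * x a) = T * (x a * x c) := by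
        rw [← mul_assoc, ← hTx c hc a ha c hc, ← hxac, hTx a ha c hc a ha, mul_assoc]
      have h2 : x a * x c = z * (x c * x a) := by rw [hz, commutatorElement_def]; group
      rw [h2, ← mul_assoc T] at h1
      exact mul_right_cancel h1
    have hzz : φ z = z := by
      show b⁻¹ * z * b⁻¹⁻¹ = z
      rw [hzB z hzY b⁻¹ (inv_mem hb), mul_inv_cancel_right]
    have f1 : φ T = T * z := by
      rw [hT, hφT a ha c hc, ← hT, hTx a ha c hc a ha, mul_inv_cancel_right]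
    have f2 : φ T' = T := by
      rw [hT', hφT c hc a ha, hTx c hc a ha c hc, mul_inv_cancel_right, ← hT', eT,
        show ⁅x c, x a⁆ = z⁻¹ by rw [hz, commutatorElement_inv], mul_inv_cancel_right]
    have f3 : φ T' = T * z * z := by rw [eT, map_mul, f1, hzz]
    rw [f2, mul_assoc, eq_comm, mul_eq_left] at f3
    rw [sq]; exact f3
  intro w hw
  -- the commutator subgroup is central and generated by commutators of generators
  have hcen : ∀ z ∈ ⁅X, X⁆, ∀ y ∈ B, y * z = z * y := fun z hz => hzB z (Subgroup.commutator_mono hXY hXY hz)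
  let K : Subgroup G :=
    { carrier := {z | z ∈ B ∧ z ^ 2 = 1 ∧ ∀ y ∈ B, y * z = z * y}
      one_mem' := ⟨one_mem B, one_pow 2, fun y _ => by simp⟩
      mul_mem' := fun {u v} hu hv => ⟨mul_mem hu.1 hv.1, by
        rw [(show Commute u v from hv.2.2 u hu.1).mul_pow, hu.2.1, hv.2.1, one_mul], fun y hy => by
        rw [← mul_assoc, hu.2.2 y hy, mul_assoc, hv.2.2 y hy, ← mul_assoc]⟩
      inv_mem' := fun {u} hu => ⟨inv_mem hu.1, by rw [inv_pow, hu.2.1, inv_one],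
        fun y hy => (Commute.inv_right (hu.2.2 y hy)).eq⟩ }
  have hXB : X ≤ B := hXY.trans hBA
  have hgen : ∀ u ∈ X, ∀ v ∈ X, ⁅u, v⁆ ∈ K := by
    -- bilinearity
    let R : Subgroup G :=
      { carrier := {u | u ∈ X ∧ ∀ a ∈ A, ⁅u, ⁅b⁻¹, a⁆⁆ ∈ K}
        one_mem' := ⟨one_mem X, fun a _ => by rw [commutatorElement_one_left]; exact one_mem K⟩
        mul_mem' := fun {u v} hu hv => ⟨mul_mem hu.1 hv.1, fun a ha => by
          have hk := hv.2 a ha
          have e : ⁅u * v, ⁅b⁻¹, a⁆⁆ = u * ⁅v, ⁅b⁻¹, a⁆⁆ * u⁻¹ * ⁅u, ⁅b⁻¹, a⁆⁆ := by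
            simp only [commutatorElement_def]; group
          rw [e, hk.2.2 u (hXB hu.1), mul_inv_cancel_right]
          exact mul_mem hk (hu.2 a ha)⟩
        inv_mem' := fun {u} hu => ⟨inv_mem hu.1, fun a ha => by
          have hk := inv_mem (hu.2 a ha)
          have e : ⁅u⁻¹, ⁅b⁻¹, a⁆⁆ = u⁻¹ * ⁅u, ⁅b⁻¹, a⁆⁆⁻¹ * u⁻¹⁻¹ := by
            simp only [commutatorElement_def]; group
          rw [e, hk.2.2 u⁻¹ (inv_mem (hXB hu.1)), mul_inv_cancel_right]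
          exact hk⟩ }
    have hR : X ≤ R := (Subgroup.closure_le _).mpr (by
      rintro _ ⟨a, ha, rfl⟩
      have e : b⁻¹ * a * b * a⁻¹ = ⁅b⁻¹, a⁆ := by simp only [commutatorElement_def]; group
      refine ⟨Subgroup.subset_closure ⟨a, ha, rfl⟩, fun c hc => ?_⟩
      rw [e]
      have hm : ⁅⁅b⁻¹, a⁆, ⁅b⁻¹, c⁆⁆ ∈ ⁅X, X⁆ := Subgroup.commutator_mem_commutator (hxX a ha) (hxX c hc)
      exact ⟨hBA' (Subgroup.commutator_mono hXB hXB hm), key a ha c hc, hcen _ hm⟩)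
    intro u hu
    let L : Subgroup G :=
      { carrier := {v | v ∈ X ∧ ⁅u, v⁆ ∈ K}
        one_mem' := ⟨one_mem X, by rw [commutatorElement_one_right]; exact one_mem K⟩
        mul_mem' := fun {v v'} hv hv' => ⟨mul_mem hv.1 hv'.1, by
          have e : ⁅u, v * v'⁆ = ⁅u, v⁆ * (v * ⁅u, v'⁆ * v⁻¹) := by simp only [commutatorElement_def]; group
          rw [e, hv'.2.2.2 v (hXB hv.1), mul_inv_cancel_right]
          exact mul_mem hv.2 hv'.2⟩
        inv_mem' := fun {v} hv => ⟨inv_mem hv.1, by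
          have hk := inv_mem hv.2
          have e : ⁅u, v⁻¹⁆ = v⁻¹ * ⁅u, v⁆⁻¹ * v⁻¹⁻¹ := by simp only [commutatorElement_def]; group
          rw [e, hk.2.2 v⁻¹ (inv_mem (hXB hv.1)), mul_inv_cancel_right]
          exact hk⟩ }
    have hL : X ≤ L := (Subgroup.closure_le _).mpr (by
      rintro _ ⟨a, ha, rfl⟩
      have e : b⁻¹ * a * b * a⁻¹ = ⁅b⁻¹, a⁆ := by simp only [commutatorElement_def]; group
      refine ⟨Subgroup.subset_closure ⟨a, ha, rfl⟩, ?_⟩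
      rw [e]; exact (hR hu).2 a ha)
    exact fun v hv => (hL hv).2
  exact ((Subgroup.commutator_le.mpr hgen) hw).2.1

end Cfsg.Agent.S0648
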