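import Cfsg.Statements.S0658
import Cfsg.Agent.PLocal.ZJApp

set_option autoImplicit false
open Cfsg

namespace Cfsg.Agent.S0658

/-- In a group of characteristic p type all of whose p-locals are p-stable (p odd), the normalizer of Z(J(P)) contains the normalizer of every nontrivial subgroup of the Sylow p-subgroup P. -/
theorem result {G : Type*} [Group G] [Finite G] {p : ℕ} [Fact p.Prime] (hp : p ≠ 2) (hloc : ∀ Q : Subgroup G, IsPGroup p Q → Q ≠ ⊥ → Cfsg.pPrimeCore p ↥(Subgroup.normalizer (Q : Set G)) = ⊥ ∧ Cfsg.IsPConstrained p ↥(Subgroup.normalizer (Q : Set G)) ∧ Cfsg.IsPStable p ↥(Subgroup.normalizer (Q : Set G))) (P : Sylow p G) (Q : Subgroup G) (hQP : Q ≤ (P : Subgroup G)) (hQ1 : Q ≠ ⊥) : Subgroup.normalizer (Q : Set G) ≤ Subgroup.normalizer (Cfsg.centerThompsonAOf ((P : Subgroup G)) : Set G) := by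
  classical
  set Z := Cfsg.centerThompsonAOf (P : Subgroup G)
  set M := Subgroup.normalizer (Z : Set G) with hM
  have hPM : (P : Subgroup G) ≤ M := by
    refine Subgroup.le_normalizer.trans ?_
    rw [hM, show Z = PLocal.zMax (PLocal.IsAb (G := G)) (P : Subgroup G) from (PLocal.zMax_ab_eq _).symm]
    exact PLocal.normalizer_le_normalizer_zMax (fun e A h => (PLocal.replClass_ab (p := p)).map e A h) _
  suffices key : ∀ (n : ℕ) (Q : Subgroup G), Q ≤ (P : Subgroup G) → Q ≠ ⊥ →
      Nat.card (P : Subgroup G) - Nat.card ((P : Subgroup G) ⊓ Subgroup.normalizer (Q : Set G) : Subgroup G) ≤ n →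
      Subgroup.normalizer (Q : Set G) ≤ M from key _ Q hQP hQ1 le_rfl
  intro n
  induction n using Nat.strong_induction_on with
  | _ n ih =>
  intro Q hQP hQ1 hn
  have hQp : IsPGroup p Q := P.isPGroup'.to_le hQP
  set N := Subgroup.normalizer (Q : Set G) with hN
  set T := (P : Subgroup G) ⊓ N with hT
  obtain ⟨h1, h2, h3⟩ := hloc Q hQp hQ1
  have hTp : IsPGroup p (T.subgroupOf N) :=
    (P.isPGroup'.to_le inf_le_left).of_equiv (Subgroup.subgroupOfEquivOfLe inf_le_right).symm
  obtain ⟨R, hR⟩ := hTp.exists_le_sylow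
  set R' : Subgroup G := (R : Subgroup N).map N.subtype with hR'
  have hTR : T ≤ R' := fun x hx => ⟨⟨x, (Subgroup.mem_inf.mp hx).2⟩, hR (Subgroup.mem_subgroupOf.mpr hx), rfl⟩
  have hQT : Q ≤ T := le_inf hQP Subgroup.le_normalizer
  have hR'N : R' ≤ N := Subgroup.map_subtype_le _
  rcases eq_or_lt_of_le hTR with heq | hlt
  · -- `T` is a Sylow subgroup of `N`
    have hnorm := (PLocal.zj_factorization hp h2 h3 R).2 h1
    set Z' := Cfsg.centerThompsonAOf T with hZ'
    have hZ'map : (Cfsg.centerThompsonAOf (R : Subgroup N)).map N.subtype = Z' := by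
      rw [PLocal.centerThompsonAOf_map N.subtype N.subtype_injective.injOn, ← hR', ← heq]
    have hNZ' : N ≤ Subgroup.normalizer (Z' : Set G) := by
      intro x hx
      refine Subgroup.mem_normalizer_fintype ?_
      rintro y hy
      rw [SetLike.mem_coe, ← hZ'map] at hy ⊢
      obtain ⟨y, hy, rfl⟩ := hy
      exact ⟨⟨x, hx⟩ * y * ⟨x, hx⟩⁻¹, hnorm.conj_mem y hy _, rfl⟩
    by_cases hTP : T = (P : Subgroup G)
    · have hZZ : Z' = Z := by rw [hZ', hTP]
      rw [hM, ← hZZ]; exact hNZ'
    have hZ'T : Z' ≤ T := inf_le_left.trans (Subgroup.map_subtype_le _)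
    have hZ'1 : Z' ≠ ⊥ := by
      rw [hZ', ← PLocal.zMax_ab_eq]
      intro e
      haveI : Nontrivial T := (Subgroup.nontrivial_iff_ne_bot _).mpr fun e' => hQ1 (le_bot_iff.mp (e' ▸ hQT))
      haveI := (P.isPGroup'.to_le (inf_le_left : T ≤ _)).center_nontrivial
      obtain ⟨⟨c, hc⟩, hc1⟩ := exists_ne (1 : Subgroup.center T)
      apply hc1
      have : (c : G) ∈ PLocal.zMax (PLocal.IsAb (G := G)) T := by
        refine Subgroup.mem_sInf.mpr fun A hA => ?_
        have hab : IsMulCommutative (Subgroup.zpowers (c : G) ⊔ A : Subgroup G) := by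
          refine PLocal.isMulCommutative_sup inferInstance hA.2.1 ?_
          rw [Subgroup.zpowers_le, Subgroup.mem_centralizer_iff]
          intro a ha
          exact congrArg Subtype.val (Subgroup.mem_center_iff.mp hc ⟨a, hA.1 ha⟩)
        have hle := hA.2.2 _ (sup_le (Subgroup.zpowers_le.mpr c.2) hA.1) hab
        exact (Subgroup.eq_of_le_of_card_ge le_sup_right hle).ge
          (Subgroup.mem_sup_left (Subgroup.mem_zpowers _))
      rw [e, Subgroup.mem_bot] at this
      exact Subtype.ext (Subtype.ext this)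
    have hlt' : T < (P : Subgroup G) := lt_of_le_of_ne inf_le_left hTP
    haveI := P.isPGroup'.isNilpotent
    have hsub : T.subgroupOf (P : Subgroup G) < ⊤ := by
      rw [lt_top_iff_ne_top, ne_eq, Subgroup.subgroupOf_eq_top]
      exact not_le_of_gt hlt'
    obtain ⟨u, hu, huT⟩ := SetLike.exists_of_lt (Group.normalizerCondition_of_isNilpotent _ hsub)
    have huN : (u : G) ∈ Subgroup.normalizer (Z' : Set G) := by
      have hu' : (u : G) ∈ Subgroup.normalizer (T : Set G) := Subgroup.mem_normalizer_fintype fun y hy =>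
        (Subgroup.mem_normalizer_iff.mp hu ⟨y, hlt'.le hy⟩).mp hy
      rw [hZ', ← PLocal.zMax_ab_eq]
      exact PLocal.normalizer_le_normalizer_zMax (fun e A h => (PLocal.replClass_ab (p := p)).map e A h) _ hu'
    have hcard : Nat.card T < Nat.card ((P : Subgroup G) ⊓ Subgroup.normalizer (Z' : Set G) : Subgroup G) := by
      have hle : T ≤ (P : Subgroup G) ⊓ Subgroup.normalizer (Z' : Set G) := le_inf inf_le_left (inf_le_right.trans hNZ')
      refine lt_of_le_of_ne (Subgroup.card_le_of_le hle) fun e => huT ?_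
      rw [Subgroup.mem_subgroupOf, Subgroup.eq_of_le_of_card_ge hle e.ge]
      exact ⟨u.2, huN⟩
    refine hNZ'.trans (ih _ ?_ Z' (hZ'T.trans inf_le_left) hZ'1 le_rfl)
    have := Subgroup.card_le_of_le (inf_le_left : (P : Subgroup G) ⊓ Subgroup.normalizer (Z' : Set G) ≤ _)
    omega
  · -- `T` is not a Sylow subgroup of `N`
    have hR'p : IsPGroup p R' := R.isPGroup'.map _
    have hTlt : T < (P : Subgroup G) := by
      refine lt_of_le_of_ne inf_le_left fun e => ?_
      exact hlt.ne (e.trans (P.is_maximal' hR'p (e ▸ hTR)).symm)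
    haveI := hR'p.isNilpotent
    have hsub : T.subgroupOf R' < ⊤ := by
      rw [lt_top_iff_ne_top, ne_eq, Subgroup.subgroupOf_eq_top]
      exact not_le_of_gt hlt
    obtain ⟨u, hu, huT⟩ := SetLike.exists_of_lt (Group.normalizerCondition_of_isNilpotent _ hsub)
    have hu' : (u : G) ∈ Subgroup.normalizer (T : Set G) := Subgroup.mem_normalizer_fintype fun y hy =>
      (Subgroup.mem_normalizer_iff.mp hu ⟨y, hTR hy⟩).mp hy
    -- the normalizer of `T` lies in `M`
    haveI := P.isPGroup'.isNilpotent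
    have hsubP : T.subgroupOf (P : Subgroup G) < ⊤ := by
      rw [lt_top_iff_ne_top, ne_eq, Subgroup.subgroupOf_eq_top]
      exact not_le_of_gt hTlt
    obtain ⟨v, hv, hvT⟩ := SetLike.exists_of_lt (Group.normalizerCondition_of_isNilpotent _ hsubP)
    have hv' : (v : G) ∈ Subgroup.normalizer (T : Set G) := Subgroup.mem_normalizer_fintype fun y hy =>
      (Subgroup.mem_normalizer_iff.mp hv ⟨y, hTlt.le hy⟩).mp hy
    have hcT : Nat.card T < Nat.card ((P : Subgroup G) ⊓ Subgroup.normalizer (T : Set G) : Subgroup G) := by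
      have hle : T ≤ (P : Subgroup G) ⊓ Subgroup.normalizer (T : Set G) := le_inf inf_le_left Subgroup.le_normalizer
      refine lt_of_le_of_ne (Subgroup.card_le_of_le hle) fun e => hvT ?_
      rw [Subgroup.mem_subgroupOf, Subgroup.eq_of_le_of_card_ge hle e.ge]
      exact ⟨v.2, hv'⟩
    have hPT := Subgroup.card_le_of_le (inf_le_left : (P : Subgroup G) ⊓ Subgroup.normalizer (T : Set G) ≤ _)
    have hNT : Subgroup.normalizer (T : Set G) ≤ M :=
      ih _ (by omega) T inf_le_left (fun e => hQ1 (le_bot_iff.mp (e ▸ hQT))) le_rfl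
    set W := R' ⊓ Subgroup.normalizer (T : Set G) with hW
    have hWM : W ≤ M := inf_le_right.trans hNT
    have hWp : IsPGroup p (W.subgroupOf M) :=
      (hR'p.to_le inf_le_left).of_equiv (Subgroup.subgroupOfEquivOfLe hWM).symm
    obtain ⟨S', hS'⟩ := hWp.exists_le_sylow
    obtain ⟨m, hm⟩ := MulAction.exists_smul_eq M S' (P.subtype hPM)
    have hconj : ∀ w ∈ W, (m : G) * w * (m : G)⁻¹ ∈ (P : Subgroup G) := by
      intro w hw
      have h : m * ⟨w, hWM hw⟩ * m⁻¹ ∈ ((m • S' : Sylow p M) : Subgroup M) := by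
        rw [Sylow.coe_subgroup_smul, Subgroup.mem_pointwise_smul_iff_inv_smul_mem, ← map_inv, MulAut.smul_def,
          MulAut.conj_apply, inv_inv]
        have h' : (⟨w, hWM hw⟩ : M) ∈ (S' : Subgroup M) := hS' (Subgroup.mem_subgroupOf.mpr hw)
        simpa [mul_assoc] using h'
      rw [hm, Sylow.coe_subtype, Subgroup.mem_subgroupOf] at h
      simpa using h
    have hTW : T ≤ W := le_inf hTR Subgroup.le_normalizer
    set φ := (MulAut.conj (m : G)).toMonoidHom
    set Q' := Q.map φ with hQ'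
    have hQ'P : Q' ≤ (P : Subgroup G) := by
      rintro _ ⟨q, hq, rfl⟩
      exact hconj q (hTW (hQT hq))
    have hQ'1 : Q' ≠ ⊥ := fun e => hQ1 ((Subgroup.map_eq_bot_iff_of_injective _ (MulAut.conj (m : G)).injective).mp e)
    have hWQ' : W.map φ ≤ (P : Subgroup G) ⊓ Subgroup.normalizer (Q' : Set G) := by
      refine le_inf ?_ ?_
      · rintro _ ⟨w, hw, rfl⟩
        exact hconj w hw
      · exact (Subgroup.map_mono (inf_le_left.trans hR'N)).trans (Subgroup.le_normalizer_map φ)
    have hcW : Nat.card T < Nat.card W := by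
      refine lt_of_le_of_ne (Subgroup.card_le_of_le hTW) fun e => huT ?_
      rw [Subgroup.mem_subgroupOf, Subgroup.eq_of_le_of_card_ge hTW e.ge]
      exact ⟨u.2, hu'⟩
    have hcQ' := Subgroup.card_le_of_le hWQ'
    rw [Subgroup.card_map_of_injective (f := φ) (MulAut.conj (m : G)).injective] at hcQ'
    have hPQ' := Subgroup.card_le_of_le (inf_le_left : (P : Subgroup G) ⊓ Subgroup.normalizer (Q' : Set G) ≤ _)
    have hNQ' : Subgroup.normalizer (Q' : Set G) ≤ M := ih _ (by omega) Q' hQ'P hQ'1 le_rfl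
    intro x hx
    have : φ x ∈ M := hNQ' (Subgroup.le_normalizer_map φ ⟨x, hx, rfl⟩)
    have h' : (m : G)⁻¹ * φ x * m ∈ M := mul_mem (mul_mem (inv_mem m.2) this) m.2
    simpa [φ, mul_assoc] using h'

end Cfsg.Agent.S0658
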