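import Cfsg.Statements.S0672

set_option autoImplicit false
open Cfsg

namespace Cfsg.Agent.S0672

/-- Let a finite group act faithfully and doubly transitively with point stabilisers of even order, and let `K` have characteristic `p` dividing the degree. If the heart of the permutation module admits no non-zero equivariant map to the permutation module on unordered pairs (phrased: every intertwining map from the sum-zero functions vanishing on the constants is zero), the action is triply transitive. -/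
theorem result {G : Type*} [Group G] [Finite G] {K : Type*} [Field K] {p : ℕ} [Fact p.Prime] [CharP K p] {Ω : Type*} [Fintype Ω] [DecidableEq Ω] [MulAction G Ω] [FaithfulSMul G Ω] (h2 : MulAction.IsMultiplyPretransitive G Ω 2) (hp : p ∣ Fintype.card Ω) (heven : ∀ a : Ω, Even (Nat.card (MulAction.stabilizer G a))) (h : ∀ f : Representation.IntertwiningMap (Cfsg.permSumZero K G Ω).toRepresentation (Cfsg.permRep K G (Set.powersetCard Ω 2)), (∀ v : (Cfsg.permSumZero K G Ω).toSubmodule, (v : Ω → K) ∈ (Cfsg.permConstants K G Ω).toSubmodule → f v = 0) → f = 0) : MulAction.IsMultiplyPretransitive G Ω 3 := by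
  classical
  rcases Nat.lt_or_ge (Fintype.card Ω) 3 with hn | hn
  · refine ⟨fun x => absurd (Fintype.card_le_of_embedding x) ?_⟩
    rw [Fintype.card_fin]; omega
  have hn3 : 3 < Fintype.card Ω ∨ Fintype.card Ω = 3 := by omega
  have h2' : ∀ {x y z w : Ω}, x ≠ y → z ≠ w → ∃ g : G, g • x = z ∧ g • y = w :=
    MulAction.is_two_pretransitive_iff.1 h2
  obtain ⟨a₀, b₀, hab⟩ := Fintype.exists_pair_of_one_lt_card (α := Ω) (by omega)
  -- an involution fixing a point and moving another one
  haveI : Fact (Nat.Prime 2) := ⟨Nat.prime_two⟩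
  obtain ⟨t, ht⟩ := exists_prime_orderOf_dvd_card' (G := MulAction.stabilizer G a₀) 2 (heven a₀).two_dvd
  obtain ⟨b, hb⟩ : ∃ b, (t : G) • b ≠ b := by
    by_contra hh
    push Not at hh
    have : (t : G) = 1 := eq_of_smul_eq_smul (α := Ω) fun x => by rw [hh x, one_smul]
    rw [show t = 1 from Subtype.ext this, orderOf_one] at ht
    omega
  set c := (t : G) • b with hc
  have hta : (t : G) • a₀ = a₀ := t.2
  have htc : (t : G) • c = b := by
    have : (t : G) ^ 2 = 1 := by rw [← Subgroup.coe_pow, ← ht, pow_orderOf_eq_one, Subgroup.coe_one]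
    rw [hc, ← mul_smul, ← sq, this, one_smul]
  have hab' : a₀ ≠ b := fun e => hb (by rw [hc, ← e, hta])
  have hac : a₀ ≠ c := fun e => hab' (smul_left_cancel (t : G) (hta.trans (e.trans hc)))
  have hbc : b ≠ c := Ne.symm hb
  let s₀ : Set.powersetCard Ω 2 := ⟨{b, c}, by simp [Finset.card_pair hbc]⟩
  by_cases htr : ∀ d : Ω, d ≠ b → d ≠ c → ∃ g : G, g • s₀ = s₀ ∧ g • a₀ = d
  · -- then the pointwise stabiliser of `b`, `c` is transitive on the other points
    have key : ∀ d : Ω, d ≠ b → d ≠ c → ∃ g : G, g • b = b ∧ g • c = c ∧ g • a₀ = d := by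
      intro d hdb hdc
      obtain ⟨g, hg, hga⟩ := htr d hdb hdc
      have hmem : ∀ x, x = b ∨ x = c → g • x = b ∨ g • x = c := by
        intro x hx
        have h1 : g • x ∈ ((g • s₀ : Set.powersetCard Ω 2) : Finset Ω) := by
          rw [Set.powersetCard.coe_smul]
          exact Finset.smul_mem_smul_finset (by simpa [s₀] using hx)
        rw [hg] at h1
        simpa [s₀] using h1
      rcases hmem b (Or.inl rfl) with h1 | h1 <;> rcases hmem c (Or.inr rfl) with h2 | h2
      · exact absurd (smul_left_cancel g (h1.trans h2.symm)) hbc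
      · exact ⟨g, h1, h2, hga⟩
      · exact ⟨g * (t : G), by rw [mul_smul, ← hc, h2], by rw [mul_smul, htc, h1],
          by rw [mul_smul, hta, hga]⟩
      · exact absurd (smul_left_cancel g (h1.trans h2.symm)) hbc
    refine MulAction.isMultiplyPretransitive_iff.2 fun x y => ?_
    suffices hgo : ∀ z : Fin 3 ↪ Ω, ∃ g : G, g • b = z 0 ∧ g • c = z 1 ∧ g • a₀ = z 2 by
      obtain ⟨g, g0, g1, g2⟩ := hgo x
      obtain ⟨k, k0, k1, k2⟩ := hgo y
      refine ⟨k * g⁻¹, Function.Embedding.ext fun i => ?_⟩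
      show (k * g⁻¹) • x i = y i
      fin_cases i
      · show (k * g⁻¹) • x 0 = y 0
        rw [← g0, mul_smul, inv_smul_smul, k0]
      · show (k * g⁻¹) • x 1 = y 1
        rw [← g1, mul_smul, inv_smul_smul, k1]
      · show (k * g⁻¹) • x 2 = y 2
        rw [← g2, mul_smul, inv_smul_smul, k2]
    intro z
    obtain ⟨g, g0, g1⟩ := h2' hbc (z.injective.ne (show (0 : Fin 3) ≠ 1 by decide))
    obtain ⟨k, k0, k1, k2⟩ := key (g⁻¹ • z 2)
      (fun e => z.injective.ne (show (2 : Fin 3) ≠ 0 by decide) (by rw [← g0, ← e, smul_inv_smul]))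
      (fun e => z.injective.ne (show (2 : Fin 3) ≠ 1 by decide) (by rw [← g1, ← e, smul_inv_smul]))
    exact ⟨g * k, by rw [mul_smul, k0, g0], by rw [mul_smul, k1, g1], by rw [mul_smul, k2, smul_inv_smul]⟩
  exfalso
  push Not at htr
  obtain ⟨d, hdb, hdc, hd⟩ := htr
  let R : Set.powersetCard Ω 2 → Ω → Prop := fun s z => ∃ g : G, g • s₀ = s ∧ g • a₀ = z
  have hR : ∀ (g : G) s z, R (g • s) (g • z) ↔ R s z := fun g s z => by
    constructor
    · rintro ⟨k, h1, h2⟩
      exact ⟨g⁻¹ * k, by rw [mul_smul, h1, inv_smul_smul], by rw [mul_smul, h2, inv_smul_smul]⟩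
    · rintro ⟨k, h1, h2⟩
      exact ⟨g * k, by rw [mul_smul, h1], by rw [mul_smul, h2]⟩
  have hM : ∀ (g : G) (s : Set.powersetCard Ω 2) (z : Ω),
      g • z ∈ ((g • s : Set.powersetCard Ω 2) : Finset Ω) ↔ z ∈ (s : Finset Ω) := fun g s z => by
    rw [Set.powersetCard.coe_smul, Finset.smul_mem_smul_finset_iff]
  let N : K := ∑ z, if R s₀ z then (1 : K) else 0
  have hstrans : ∀ s : Set.powersetCard Ω 2, ∃ g : G, g • s₀ = s := by
    rintro ⟨s, hs⟩
    obtain ⟨u, v, huv, rfl⟩ := Finset.card_eq_two.1 (by simpa using hs)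
    obtain ⟨g, g0, g1⟩ := h2' hbc huv
    refine ⟨g, Subtype.ext ?_⟩
    show ((g • s₀ : Set.powersetCard Ω 2) : Finset Ω) = {u, v}
    rw [Set.powersetCard.coe_smul]
    simp [s₀, Finset.smul_finset_insert, g0, g1]
  have hN : ∀ s, (∑ z, if R s z then (1 : K) else 0) = N := fun s => by
    obtain ⟨g, rfl⟩ := hstrans s
    refine (Fintype.sum_equiv (MulAction.toPerm g) _ _ fun z => ?_).symm
    show _ = if R (g • s₀) (g • z) then (1 : K) else 0
    simp only [hR]
  let u₀ : K := if p = 2 then 1 else N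
  let u₁ : K := if p = 2 then 0 else -2
  let F : ((Ω → K)) →ₗ[K] (Set.powersetCard Ω 2 → K) :=
    { toFun := fun v s => ∑ z, ((if z ∈ (s : Finset Ω) then u₀ else 0) + if R s z then u₁ else 0) * v z
      map_add' := fun v w => funext fun s => by
        simp only [Pi.add_apply, mul_add, Finset.sum_add_distrib]
      map_smul' := fun k v => funext fun s => by
        simp only [Pi.smul_apply, smul_eq_mul, RingHom.id_apply, mul_left_comm _ k, ← Finset.mul_sum] }
  have hF : ∀ (g : G) v, F (Cfsg.permRep K G Ω g v) = Cfsg.permRep K G (Set.powersetCard Ω 2) g (F v) := by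
    intro g v
    funext s
    refine Fintype.sum_equiv (MulAction.toPerm g⁻¹) _ _ fun z => ?_
    show _ = ((if g⁻¹ • z ∈ ((g⁻¹ • s : Set.powersetCard Ω 2) : Finset Ω) then u₀ else 0) +
      if R (g⁻¹ • s) (g⁻¹ • z) then u₁ else 0) * v (g⁻¹ • z)
    rw [hR]
    simp only [hM]
    rfl
  let f : Representation.IntertwiningMap (Cfsg.permSumZero K G Ω).toRepresentation
      (Cfsg.permRep K G (Set.powersetCard Ω 2)) :=
    LinearMap.intertwiningMap_of_isIntertwiningMap _ _ (F.comp (Cfsg.permSumZero K G Ω).toSubmodule.subtype)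
      fun g v => hF g v
  have hfv : ∀ v : (Cfsg.permSumZero K G Ω).toSubmodule, f v = F (v : Ω → K) := fun v => rfl
  have hF1 : F (fun _ => 1) = 0 := funext fun s => by
    show ∑ z, ((if z ∈ (s : Finset Ω) then u₀ else 0) + if R s z then u₁ else 0) * 1 = (0 : K)
    have hs2 : ((s : Finset Ω)).card = 2 := by simpa using s.2
    have hsum0 : (∑ z : Ω, if z ∈ (s : Finset Ω) then u₀ else 0) = 2 * u₀ := by
      rw [Finset.sum_ite_mem, Finset.univ_inter, Finset.sum_const, hs2, nsmul_eq_mul, Nat.cast_ofNat]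
    have hsum1 : (∑ z : Ω, if R s z then u₁ else 0) = N * u₁ := by
      rw [← hN s, Finset.sum_mul]
      exact Finset.sum_congr rfl fun z _ => by split_ifs <;> simp
    simp only [mul_one, Finset.sum_add_distrib, hsum0, hsum1]
    simp only [u₀, u₁]
    split_ifs with hp2
    · subst hp2
      rw [mul_one, mul_zero, add_zero, ← Nat.cast_ofNat, CharP.cast_eq_zero]
    · ring
  have hf0 := h f fun v hv => by
    change (v : Ω → K) ∈ Submodule.span K {fun _ => (1 : K)} at hv
    rw [Submodule.mem_span_singleton] at hv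
    obtain ⟨k, hk⟩ := hv
    rw [hfv, ← hk, map_smul, hF1, smul_zero]
  have hval : ∀ y z : Ω, F (Pi.single y 1 - Pi.single z 1) = 0 := fun y z => by
    let v : (Cfsg.permSumZero K G Ω).toSubmodule := ⟨Pi.single y 1 - Pi.single z 1, by
      show ∑ w, _ = (0 : K)
      simp [Finset.sum_sub_distrib, Finset.sum_pi_single']⟩
    have := DFunLike.congr_fun hf0 v
    rw [hfv] at this
    exact this
  have hcoef : ∀ z : Ω, F (Pi.single z 1) s₀ =
      (if z ∈ (s₀ : Finset Ω) then u₀ else 0) + if R s₀ z then u₁ else 0 := fun z => by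
    show ∑ w, ((if w ∈ (s₀ : Finset Ω) then u₀ else 0) + if R s₀ w then u₁ else 0) *
      (Pi.single z (1 : K) : Ω → K) w = _
    rw [Finset.sum_eq_single z (fun w _ hw => by rw [Pi.single_eq_of_ne hw, mul_zero])
      (fun hh => absurd (Finset.mem_univ z) hh), Pi.single_eq_same, mul_one]
  have heq : ∀ y z : Ω, F (Pi.single y 1) s₀ = F (Pi.single z 1) s₀ := fun y z => by
    have := congrFun (hval y z) s₀
    rw [map_sub, Pi.sub_apply, Pi.zero_apply, sub_eq_zero] at this
    exact this
  have hRd : ¬ R s₀ d := fun ⟨g, h1, h2⟩ => hd g h1 h2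
  have hRa : R s₀ a₀ := ⟨1, one_smul _ _, one_smul _ _⟩
  by_cases hp2 : p = 2
  · have e := heq b d
    rw [hcoef, hcoef] at e
    simp [s₀, hdb, hdc, hRd, u₀, u₁, hp2] at e
  · have e := heq a₀ d
    rw [hcoef, hcoef] at e
    simp [s₀, hdb, hdc, hRd, hRa, hab', hac, u₀, u₁, hp2] at e
    have h2' : ((2 : ℕ) : K) = 0 := by exact_mod_cast e
    rw [CharP.cast_eq_zero_iff K p] at h2'
    exact hp2 ((Nat.prime_dvd_prime_iff_eq (Fact.out : p.Prime) Nat.prime_two).1 h2')

end Cfsg.Agent.S0672
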