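import Cfsg.Statements.S0676
import Cfsg.Agent.PermGroups.PrimeEven
import Cfsg.Agent.S0672

set_option autoImplicit false
open Cfsg
open scoped Pointwise

namespace Cfsg.Agent.S0676

/-- A non-solvable transitive permutation group of prime degree `p` whose Sylow `p`-normaliser has even order is triply transitive. -/
theorem result {α : Type*} [Fintype α] [DecidableEq α] {p : ℕ} [Fact p.Prime] (hα : Fintype.card α = p) (G : Subgroup (Equiv.Perm α)) [MulAction.IsPretransitive G α] (hG : ¬ Group.IsSolvable G) (P : Sylow p G) (heven : Even (Nat.card (Subgroup.normalizer ((P : Subgroup G) : Set G)))) : MulAction.IsMultiplyPretransitive G α 3 := by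
  classical
  have hp : p.Prime := Fact.out
  have hp2 : p ≠ 2 := fun h => hG (by
    have h1 : Nat.card G ∣ 2 := by
      have := Subgroup.card_subgroup_dvd_card G
      rwa [Nat.card_perm, Nat.card_eq_fintype_card (α := α), hα, h] at this
    haveI : Fact (Nat.Prime 2) := ⟨Nat.prime_two⟩
    have hle := Nat.le_of_dvd (by norm_num) h1
    have hcomm : ∀ x y : G, x * y = y * x := by
      have hpos : 0 < Nat.card G := Nat.card_pos
      rcases (show Nat.card G = 1 ∨ Nat.card G = 2 by omega) with h2 | h2
      · intro x y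
        haveI := (Nat.card_eq_one_iff_unique.1 h2).1
        exact Subsingleton.elim _ _
      · haveI : IsCyclic G := isCyclic_of_prime_card h2
        exact fun x y => IsCyclic.isMulCommutative.is_comm.comm x y
    exact Group.isSolvable_of_comm hcomm)
  have h2t : MulAction.IsMultiplyPretransitive G α 2 :=
    (PermGroups.prime_degree_solvable_or_two_transitive hα G).resolve_left hG
  obtain ⟨e, t, s, b, hs, ht, hsb⟩ := PermGroups.exists_inversion_coordinates hp2 hα G P heven
  have hstab : ∀ a : α, Even (Nat.card (MulAction.stabilizer G a)) := by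
    intro a
    have h2 : (2 : ZMod p) ≠ 0 := by
      intro h
      have h' : ((2 : ℕ) : ZMod p) = 0 := by exact_mod_cast h
      rw [ZMod.natCast_eq_zero_iff] at h'
      exact hp2 ((Nat.prime_dvd_prime_iff_eq hp Nat.prime_two).1 h')
    have hfixed : s • e.symm (b / 2) = e.symm (b / 2) := e.injective (by
      rw [hsb, Equiv.apply_symm_apply]; field_simp; ring)
    have hd : 2 ∣ Nat.card (MulAction.stabilizer G (e.symm (b / 2))) :=
      hs ▸ Subgroup.orderOf_dvd_natCard _ (MulAction.mem_stabilizer_iff.2 hfixed)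
    have hidx : ∀ u : α, p * Nat.card (MulAction.stabilizer G u) = Nat.card G := fun u => by
      rw [← hα, ← Nat.card_eq_fintype_card (α := α), ← MulAction.index_stabilizer_of_transitive G u,
        Subgroup.index_mul_card]
    rw [Nat.eq_of_mul_eq_mul_left hp.pos ((hidx a).trans (hidx (e.symm (b / 2))).symm)]
    exact even_iff_two_dvd.2 hd
  refine Cfsg.Agent.S0672.result (K := ZMod p) (p := p) h2t (by rw [hα]) hstab fun f hf => ?_
  have h2K : (2 : ZMod p) ≠ 0 := by
    intro h
    have h' : ((2 : ℕ) : ZMod p) = 0 := by exact_mod_cast h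
    rw [ZMod.natCast_eq_zero_iff] at h'
    exact hp2 ((Nat.prime_dvd_prime_iff_eq hp Nat.prime_two).1 h')
  have hsum : ∑ z : α, e z = 0 := by
    rw [Equiv.sum_comp e (fun i : ZMod p => i)]
    have h := FiniteField.sum_pow_lt_card_sub_one (ZMod p) 1 (by
      rw [ZMod.card]; have := hp.two_le; omega)
    simpa using h
  let v₀ : (Cfsg.permSumZero (ZMod p) G α).toSubmodule := ⟨fun z => e z, hsum⟩
  have hone : (fun _ : α => (1 : ZMod p)) ∈ (Cfsg.permSumZero (ZMod p) G α).toSubmodule := by
    show ∑ _z : α, (1 : ZMod p) = 0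
    rw [Finset.sum_const, Finset.card_univ, hα, nsmul_one, ZMod.natCast_self]
  have hconst : ∀ c : ZMod p, f (c • (⟨fun _ => 1, hone⟩ : (Cfsg.permSumZero (ZMod p) G α).toSubmodule)) = 0 := fun c =>
    hf (c • (⟨fun _ => 1, hone⟩ : (Cfsg.permSumZero (ZMod p) G α).toSubmodule)) (Submodule.mem_span_singleton.2 ⟨c, rfl⟩)
  have hint : ∀ (g : G) (v : (Cfsg.permSumZero (ZMod p) G α).toSubmodule),
      f ((Cfsg.permSumZero (ZMod p) G α).toRepresentation g v) = Cfsg.permRep (ZMod p) G (Set.powersetCard α 2) g (f v) :=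
    fun g v => LinearMap.congr_fun (f.isIntertwining' g) v
  -- the image of the coordinate function is invariant and anti-invariant
  have hv₀t : ∀ n : ℕ, f ((Cfsg.permSumZero (ZMod p) G α).toRepresentation (t ^ n) v₀) = f v₀ := by
    intro n
    have e1 : (Cfsg.permSumZero (ZMod p) G α).toRepresentation (t ^ n) v₀ = v₀ + (-(n : ZMod p)) • ⟨fun _ => 1, hone⟩ := by
      refine Subtype.ext (funext fun z => ?_)
      show e ((t ^ n)⁻¹ • z) = e z + (-(n : ZMod p)) * 1
      have := ht n ((t ^ n)⁻¹ • z)
      rw [smul_inv_smul] at this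
      rw [this]; ring
    rw [e1, map_add, hconst, add_zero]
  have hv₀s : f ((Cfsg.permSumZero (ZMod p) G α).toRepresentation s v₀) = -f v₀ := by
    have e1 : (Cfsg.permSumZero (ZMod p) G α).toRepresentation s v₀ = -v₀ + b • ⟨fun _ => 1, hone⟩ := by
      refine Subtype.ext (funext fun z => ?_)
      show e (s⁻¹ • z) = -e z + b * 1
      have := hsb (s⁻¹ • z)
      rw [smul_inv_smul] at this
      rw [this]; ring
    rw [e1, map_add, hconst, add_zero, map_neg]
  have hv₀0 : f v₀ = 0 := by
    funext q
    obtain ⟨u, v, huv, hq⟩ := Finset.card_eq_two.1 q.2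
    set n : ℕ := (-e u - e v + b).val with hn
    have hmove : s • q = t ^ n • q := by
      refine Subtype.ext ?_
      show s • (q : Finset α) = t ^ n • (q : Finset α)
      rw [hq]
      have hu : s • u = t ^ n • v := e.injective (by
        rw [hsb, ht, hn, ZMod.natCast_zmod_val]; ring)
      have hv : s • v = t ^ n • u := e.injective (by
        rw [hsb, ht, hn, ZMod.natCast_zmod_val]; ring)
      simp only [Finset.smul_finset_insert, Finset.smul_finset_singleton, hu, hv]
      exact Finset.pair_comm _ _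
    have e1 := congrFun ((hint s v₀).symm.trans hv₀s) (s • q)
    have e2 := congrFun ((hint (t ^ n) v₀).symm.trans (hv₀t n)) (t ^ n • q)
    change f v₀ (s⁻¹ • s • q) = -(f v₀ (s • q)) at e1
    change f v₀ ((t ^ n)⁻¹ • t ^ n • q) = f v₀ (t ^ n • q) at e2
    rw [inv_smul_smul] at e1 e2
    rw [hmove, ← e2] at e1
    have : (2 : ZMod p) * f v₀ q = 0 := by linear_combination e1
    exact (mul_eq_zero.1 this).resolve_left h2K
  -- so the kernel is everything
  let W : Subrepresentation (Cfsg.permRep (ZMod p) G α) :=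
    { toSubmodule :=
        { carrier := {w | ∃ h : w ∈ (Cfsg.permSumZero (ZMod p) G α).toSubmodule, f ⟨w, h⟩ = 0}
          add_mem' := fun {w w'} ⟨h, hw⟩ ⟨h', hw'⟩ => ⟨add_mem h h', by
            rw [show (⟨w + w', add_mem h h'⟩ : (Cfsg.permSumZero (ZMod p) G α).toSubmodule) = ⟨w, h⟩ + ⟨w', h'⟩ from rfl, map_add, hw, hw',
              add_zero]⟩
          zero_mem' := ⟨zero_mem _, map_zero f⟩
          smul_mem' := fun c {w} ⟨h, hw⟩ => ⟨Submodule.smul_mem _ c h, by
            rw [show (⟨c • w, Submodule.smul_mem _ c h⟩ : (Cfsg.permSumZero (ZMod p) G α).toSubmodule) = c • ⟨w, h⟩ from rfl, map_smul, hw,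
              smul_zero]⟩ }
      apply_mem_toSubmodule := fun g {w} hw => by
        obtain ⟨h, hw⟩ := hw
        refine ⟨(Cfsg.permSumZero (ZMod p) G α).apply_mem_toSubmodule g h, ?_⟩
        show f ((Cfsg.permSumZero (ZMod p) G α).toRepresentation g ⟨w, h⟩) = 0
        rw [hint, hw, map_zero] }
  have hW₁ : (Cfsg.permConstants (ZMod p) G α).toSubmodule ≤ W.toSubmodule := by
    intro w hw
    obtain ⟨c, hc⟩ := Submodule.mem_span_singleton.1 hw
    have hwS : w ∈ (Cfsg.permSumZero (ZMod p) G α).toSubmodule := hc ▸ Submodule.smul_mem _ c hone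
    exact ⟨hwS, hf ⟨w, hwS⟩ hw⟩
  have hW₂ : W.toSubmodule ≤ (Cfsg.permSumZero (ZMod p) G α).toSubmodule := fun w hw => hw.1
  rcases PermGroups.heart_prime_degree hα G hG W hW₁ hW₂ with h | h
  · exfalso
    have hmem : (v₀ : α → ZMod p) ∈ W.toSubmodule := ⟨v₀.2, hv₀0⟩
    rw [h] at hmem
    obtain ⟨c, hc⟩ := Submodule.mem_span_singleton.1 hmem
    have h0 := congrFun hc (e.symm 0)
    have h1 := congrFun hc (e.symm 1)
    simp [v₀] at h0 h1
    exact zero_ne_one (α := ZMod p) (h0.symm.trans h1)
  · refine DFunLike.ext _ _ fun v => ?_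
    have hmem : (v : α → ZMod p) ∈ W.toSubmodule := by rw [h]; exact v.2
    exact hmem.2

end Cfsg.Agent.S0676
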