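import Cfsg.Statements.S0688
import Cfsg.Agent.PermGroups.RegularLinearStructure

set_option autoImplicit false
open Cfsg

namespace Cfsg.Agent.S0688

open FGS4.Zass in
theorem keys_commutator : ∀ k ∈ [kA, kB], ∃ x ∈ table.map Prod.fst, ∃ y ∈ table.map Prod.fst,
    kdet x = 1 ∧ kdet y = 1 ∧ kmul x y = kmul k (kmul y x) := by
  decide +kernel

open FGS4.Zass in
theorem not_isSolvable_T5 : ¬ Group.IsSolvable T5 := by
  have hcomm : ∀ k ∈ [kA, kB], ∀ g : T5, key g = k → g ∈ ⁅(⊤ : Subgroup T5), (⊤ : Subgroup T5)⁆ := by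
    intro k hk g hg
    obtain ⟨x, -, y, -, hdx, hdy, hxy⟩ := keys_commutator k hk
    let X : T5 := mkT x hdx
    let Y : T5 := mkT y hdy
    have h : X * Y = g * (Y * X) := key_injective (by
      rw [key_mul, key_mul, key_mul, hg, key_mkT, key_mkT, hxy])
    have : g = X * Y * X⁻¹ * Y⁻¹ := by rw [h]; group
    rw [this]
    exact Subgroup.commutator_mem_commutator (Subgroup.mem_top X) (Subgroup.mem_top Y)
  have hder : ∀ n, derivedSeries T5 n = ⊤ := by
    intro n
    induction n with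
    | zero => rfl
    | succ n ih =>
      rw [derivedSeries_succ, ih, eq_top_iff]
      conv_lhs => rw [← closure_AB]
      rw [Subgroup.closure_le]
      rintro g (rfl | rfl)
      · exact hcomm _ (by simp) _ key_A5
      · exact hcomm _ (by simp) _ key_B5
  rw [Group.isSolvable_def]
  rintro ⟨n, hn⟩
  have hA : (A5 : T5) ∈ (⊥ : Subgroup T5) := hn ▸ (hder n).symm ▸ Subgroup.mem_top _
  rw [Subgroup.mem_bot] at hA
  have := congrArg key hA
  rw [key_A5, key_one] at this
  revert this
  decide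


/-- Degrees of the soluble exceptional sharply doubly transitive groups: if a solvable linear group over the prime field is regular on the non-zero vectors of `V` and has no irreducible cyclic normal subgroup, then `V` has 25, 49, 121 or 529 elements. -/
theorem result {p : ℕ} [Fact p.Prime] {V : Type*} [AddCommGroup V] [Module (ZMod p) V] [Finite V] (H : Subgroup (V ≃ₗ[ZMod p] V)) (hreg : ∀ v w : V, v ≠ 0 → w ≠ 0 → ∃! h : H, (h : V ≃ₗ[ZMod p] V) v = w) (hI : ∀ A : Subgroup H, A.Normal → IsCyclic A → ∃ W : Submodule (ZMod p) V, W ≠ ⊥ ∧ W ≠ ⊤ ∧ ∀ a ∈ A, ∀ v ∈ W, ((a : H) : V ≃ₗ[ZMod p] V) v ∈ W) (hsolv : Group.IsSolvable H) : Nat.card V = 25 ∨ Nat.card V = 49 ∨ Nat.card V = 121 ∨ Nat.card V = 529 := by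
  obtain ⟨A, hA⟩ := PermGroups.RegLin.exists_isMaxAb H
  obtain ⟨N, hN⟩ := PermGroups.RegLin.exists_isMinNA hreg hI hA
  obtain ⟨-, -, hV, h⟩ := PermGroups.RegLin.structure_of_minNA hreg hI hA hN
  rcases h with ⟨-, -, hp⟩ | ⟨⟨e⟩, -⟩
  · rcases hp with rfl | rfl | rfl | rfl <;> simp [hV]
  · exfalso
    haveI := hsolv
    haveI := PermGroups.RegLin.finite_group H
    exact not_isSolvable_T5 (solvable_of_surjective (f := e.toMonoidHom) e.surjective)

end Cfsg.Agent.S0688
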