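import Cfsg.Statements.S0727
import Cfsg.Agent.PermGroups.SharplyThreePGL

set_option autoImplicit false
open Cfsg

namespace Cfsg.Agent.S0727

/-- A sharply triply transitive permutation group of degree `2^f + 1` is isomorphic to the projective general linear group of degree 2 over the field with `2^f` elements. -/
theorem result {α : Type*} [Fintype α] [DecidableEq α] {f : ℕ} (hf : 1 ≤ f) (hα : Fintype.card α = 2 ^ f + 1) (G : Subgroup (Equiv.Perm α)) (h3 : MulAction.IsMultiplyPretransitive G α 3) (hsharp : ∀ x : Fin 3 ↪ α, MulAction.stabilizer G x = ⊥) : ∃ (F : Type) (_ : Field F) (_ : Fintype F), Fintype.card F = 2 ^ f ∧ Nonempty (G ≃* Matrix.ProjGenLinGroup (Fin 2) F) := by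
  classical
  obtain ⟨m, rfl⟩ : ∃ m, f = m + 1 := ⟨f - 1, by omega⟩
  have hpow : 2 ^ (m + 1) = 2 * 2 ^ m := pow_succ' 2 m
  have hm0 : 0 < 2 ^ m := Nat.two_pow_pos m
  have hn : 3 ≤ Fintype.card α := by omega
  obtain ⟨a, b, hab⟩ := Fintype.exists_pair_of_one_lt_card (show 1 < Fintype.card α by omega)
  obtain ⟨c, hac, hbc⟩ := PermGroups.exists_third hn hab
  obtain ⟨s, hsa, hsb, hsc⟩ := PermGroups.exists_move_three h3 hab hac hbc hab.symm hbc hac
  set H := MulAction.stabilizer G a ⊓ MulAction.stabilizer G b with hH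
  have hcardH : Nat.card H = Fintype.card α - 2 := PermGroups.natCard_twoStabilizer h3 hsharp hab hac hbc
  -- an element interchanging the points fixes at most one point
  have hg : ∀ w : {w : α // w ≠ a ∧ w ≠ b}, ∃ g : G, g • a = b ∧ g • b = a ∧ g • w.1 = w.1 := fun w =>
    PermGroups.exists_move_three h3 hab w.2.1.symm w.2.2.symm hab.symm w.2.2.symm w.2.1.symm
  choose g hga hgb hgw using hg
  have hmem : ∀ w, s⁻¹ * g w ∈ H := fun w =>
    ⟨MulAction.mem_stabilizer_iff.2 (by rw [mul_smul, hga, inv_smul_eq_iff, hsa]),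
      MulAction.mem_stabilizer_iff.2 (by rw [mul_smul, hgb, inv_smul_eq_iff, hsb])⟩
  have hgg : ∀ w, g w * g w = 1 := fun w => PermGroups.eq_one_of_three_fixed hsharp hab w.2.1.symm w.2.2.symm
    (by rw [mul_smul, hga, hgb]) (by rw [mul_smul, hgb, hga]) (by rw [mul_smul, hgw, hgw])
  have hinj : Function.Injective (fun w => (⟨s⁻¹ * g w, hmem w⟩ : H)) := by
    intro w w' e
    have e' : g w = g w' := mul_left_cancel (congrArg Subtype.val e)
    by_contra hne
    have hww : w.1 ≠ w'.1 := fun h => hne (Subtype.ext h)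
    have hgH : g w ∈ MulAction.stabilizer G w.1 ⊓ MulAction.stabilizer G w'.1 :=
      ⟨MulAction.mem_stabilizer_iff.2 (hgw w), MulAction.mem_stabilizer_iff.2 (e' ▸ hgw w')⟩
    have hodd : Nat.card ↥(MulAction.stabilizer G w.1 ⊓ MulAction.stabilizer G w'.1) % 2 = 1 := by
      obtain ⟨u, hu, hu'⟩ := PermGroups.exists_third hn hww
      rw [PermGroups.natCard_twoStabilizer h3 hsharp hww hu hu']
      omega
    have ho : orderOf (g w) = 2 := orderOf_eq_prime (by rw [sq, hgg]) fun e1 => hab (by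
      have := hga w
      rwa [e1, one_smul] at this)
    have := ho ▸ Subgroup.orderOf_dvd_natCard _ hgH
    omega
  have hbij : Function.Bijective (fun w => (⟨s⁻¹ * g w, hmem w⟩ : H)) := by
    refine (Fintype.bijective_iff_injective_and_card _).2 ⟨hinj, ?_⟩
    rw [← Nat.card_eq_fintype_card (α := H), hcardH, Fintype.card_subtype,
      show (Finset.univ.filter fun w => w ≠ a ∧ w ≠ b) = ({a, b} : Finset α)ᶜ by ext; simp,
      Finset.card_compl, Finset.card_pair hab]
  have hinv : ∀ h ∈ H, s * h * s⁻¹ = h⁻¹ := by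
    intro h hh
    obtain ⟨w, hw⟩ := hbij.2 ⟨h, hh⟩
    have hw' : s⁻¹ * g w = h := congrArg Subtype.val hw
    have h1 := hgg w
    rw [show g w = s * h by rw [← hw', mul_inv_cancel_left]] at h1
    have hss : s * s = 1 := PermGroups.eq_one_of_three_fixed hsharp hab hac hbc
      (by rw [mul_smul, hsa, hsb]) (by rw [mul_smul, hsb, hsa]) (by rw [mul_smul, hsc, hsc])
    refine eq_inv_of_mul_eq_one_left ?_
    rw [inv_eq_of_mul_eq_one_right hss]
    simpa [mul_assoc] using h1
  have hHc : ∀ x ∈ H, ∀ y ∈ H, x * y = y * x := by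
    intro x hx y hy
    have h1 := hinv _ (mul_mem hx hy)
    rw [show s * (x * y) * s⁻¹ = (s * x * s⁻¹) * (s * y * s⁻¹) by group, hinv x hx, hinv y hy] at h1
    have h2 := congrArg Inv.inv h1
    simpa [mul_inv_rev] using h2.symm
  obtain ⟨K, fK, fintK, hK, hiso⟩ := PermGroups.nonempty_pgl h3 hsharp hab hac hbc hHc s hsa hsb hsc hinv
  exact ⟨K, fK, fintK, by omega, hiso⟩

end Cfsg.Agent.S0727
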