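import Cfsg.Statements.S0730
import Cfsg.Agent.PermGroups.SharplyThreePGL
import Cfsg.Agent.PermGroups.InvertedHalf
import Cfsg.Agent.PermGroups.RegularLinearIndexTwo
import Mathlib.NumberTheory.LegendreSymbol.QuadraticChar.Basic

set_option autoImplicit false
open Cfsg

namespace Cfsg.Agent.S0730

/-- A sharply triply transitive group of degree `p^f + 1`, `p` an odd prime and `f` odd, is isomorphic to the projective general linear group of degree 2 over the field with `p^f` elements (for even `f` there is a second, twisted, group). -/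
theorem result {α : Type*} [Fintype α] [DecidableEq α] {p f : ℕ} (hp : p.Prime) (hp2 : p ≠ 2) (hfo : Odd f) (hα : Fintype.card α = p ^ f + 1) (G : Subgroup (Equiv.Perm α)) (h3 : MulAction.IsMultiplyPretransitive G α 3) (hsharp : ∀ x : Fin 3 ↪ α, MulAction.stabilizer G x = ⊥) : ∃ (F : Type) (_ : Field F) (_ : Fintype F), Fintype.card F = p ^ f ∧ Nonempty (G ≃* Matrix.ProjGenLinGroup (Fin 2) F) := by
  classical
  have hpf1 : 3 ≤ p ^ f := by
    have h2 : 2 ≤ p := hp.two_le
    have hp3 : 3 ≤ p := by omega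
    exact hp3.trans (Nat.le_self_pow hfo.pos.ne' p)
  have hn : 3 ≤ Fintype.card α := by omega
  have hpodd : Odd (p ^ f) := (hp.odd_of_ne_two hp2).pow
  obtain ⟨a, b, hab⟩ := Fintype.exists_pair_of_one_lt_card (show 1 < Fintype.card α by omega)
  obtain ⟨c, hac, hbc⟩ := PermGroups.exists_third hn hab
  obtain ⟨s, hsa, hsb, hsc⟩ := PermGroups.exists_move_three h3 hab hac hbc hab.symm hbc hac
  have hss : s * s = 1 := PermGroups.eq_one_of_three_fixed hsharp hab hac hbc
    (by rw [mul_smul, hsa, hsb]) (by rw [mul_smul, hsb, hsa]) (by rw [mul_smul, hsc, hsc])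
  have hsi : s⁻¹ = s := inv_eq_of_mul_eq_one_right hss
  set H := MulAction.stabilizer G a ⊓ MulAction.stabilizer G b with hH
  have hfa : ∀ {h : G}, h ∈ H → h • a = a := fun hh => MulAction.mem_stabilizer_iff.1 hh.1
  have hfb : ∀ {h : G}, h ∈ H → h • b = b := fun hh => MulAction.mem_stabilizer_iff.1 hh.2
  have hcardH : Nat.card H = Fintype.card α - 2 := PermGroups.natCard_twoStabilizer h3 hsharp hab hac hbc
  have hconj : ∀ h ∈ H, s * h * s⁻¹ ∈ H := by
    intro h hh
    refine ⟨MulAction.mem_stabilizer_iff.2 ?_, MulAction.mem_stabilizer_iff.2 ?_⟩ <;>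
      rw [hsi, mul_smul, mul_smul]
    · rw [hsa, hfb hh, hsb]
    · rw [hsb, hfa hh, hsa]
  have hssc : ∀ x : G, s * (s * x * s⁻¹) * s⁻¹ = x := fun x => by
    rw [hsi, ← mul_assoc, ← mul_assoc, hss, one_mul, mul_assoc, hss, mul_one]
  let σ : H ≃* H :=
    { toFun := fun h => ⟨s * h * s⁻¹, hconj h h.2⟩
      invFun := fun h => ⟨s * h * s⁻¹, hconj h h.2⟩
      left_inv := fun h => Subtype.ext (hssc h)
      right_inv := fun h => Subtype.ext (hssc h)
      map_mul' := fun x y => Subtype.ext (by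
        show s * (x * y : G) * s⁻¹ = s * x * s⁻¹ * (s * y * s⁻¹)
        group) }
  -- the two-elements of the two-point stabiliser are central
  have hcen : ∀ (x : H) (k : ℕ), x ^ 2 ^ k = 1 → ∀ y, x * y = y * x := by
    obtain ⟨p', j, N, hp', hj, hcard, hcN, hNb, hNn, hNc, hexp, hNreg⟩ := PermGroups.exists_translations h3 hsharp hn b
    haveI : Fact p'.Prime := ⟨hp'⟩
    haveI : Fact (Nat.Prime 2) := ⟨Nat.prime_two⟩
    have hpp : p' = p ∧ j = f := by
      have h := Nat.add_right_cancel (hcard.symm.trans hα)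
      obtain ⟨j, rfl⟩ : ∃ i, j = i + 1 := ⟨j - 1, by omega⟩
      obtain ⟨f, rfl⟩ : ∃ i, f = i + 1 := ⟨f - 1, by have := hfo.pos; omega⟩
      obtain ⟨h1, h2⟩ := Nat.Prime.pow_inj hp' hp h
      exact ⟨h1, by omega⟩
    obtain ⟨rfl, rfl⟩ := hpp
    obtain ⟨_, _, L, ⟨e⟩, hreg⟩ := PermGroups.exists_regLin hsharp hab hNb hNn hNc hNreg hexp h3
    haveI : Nontrivial (Additive N) := by
      obtain ⟨n, ⟨hn, hna⟩, -⟩ := hNreg a c hab hbc.symm
      refine ⟨⟨Additive.ofMul ⟨n, hn⟩, 0, fun h => ?_⟩⟩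
      have : n = 1 := congrArg (fun v : Additive N => (v.toMul : G)) h
      rw [this, one_smul] at hna
      exact hac hna
    haveI := PermGroups.RegLin.finite_group L
    have hV : Nat.card (Additive N) = p' ^ j := (Nat.card_congr Additive.toMul).trans hcN
    have hnI : ¬ PermGroups.RegLin.NoIrrCyclic L := by
      intro hI
      obtain ⟨A, hA⟩ := PermGroups.RegLin.exists_isMaxAb L
      obtain ⟨N', hN'⟩ := PermGroups.RegLin.exists_isMinNA hreg hI hA
      obtain ⟨-, -, hV2, -⟩ := PermGroups.RegLin.structure_of_minNA hreg hI hA hN'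
      rw [hV] at hV2
      have := Nat.pow_right_injective hp'.two_le hV2
      subst this
      exact Nat.not_odd_iff_even.2 even_two hfo
    unfold PermGroups.RegLin.NoIrrCyclic at hnI
    push Not at hnI
    obtain ⟨A, hAn, hAc, hirr⟩ := hnI
    haveI := hAn
    have hAcomm : IsMulCommutative A := inferInstance
    have hcomm := hreg.centralizer_comm_of_irreducible (A := A) (fun W hW => by
      by_contra hcon
      push Not at hcon
      obtain ⟨z, hz, v, hv, hnot⟩ := hirr W hcon.1 hcon.2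
      exact hnot (hW z hz v hv))
    set C := Subgroup.centralizer (A : Set L) with hC
    have hCc : IsMulCommutative C := ⟨⟨fun u v => Subtype.ext (hcomm u v u.2 v.2 hAcomm)⟩⟩
    have hCcyc : IsCyclic C := (hreg.isCyclic_and_dvd hCc).1
    -- the index is odd
    have hidx : ¬ 2 ∣ C.index := by
      intro h2
      obtain ⟨d, hd, -⟩ := hreg.exists_card_eq_pow hAcomm
      rw [hV, PermGroups.RegLin.card_genAlg, ← pow_mul] at hd
      have hjk := Nat.pow_right_injective hp'.two_le hd
      rw [hjk] at hfo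
      exact (Nat.odd_mul.1 hfo).1.not_two_dvd_nat (h2.trans (hreg.index_centralizer_dvd hAcomm).1)
    let P : Sylow 2 L := default
    have hPC : (P : Subgroup L) ≤ C := by
      intro x hx
      rw [← QuotientGroup.eq_one_iff, ← orderOf_eq_one_iff]
      obtain ⟨k, hk⟩ := P.isPGroup' ⟨x, hx⟩
      have h1 : orderOf (QuotientGroup.mk' C x) ∣ 2 ^ k := orderOf_dvd_of_pow_eq_one (by
        rw [← map_pow, show x ^ 2 ^ k = 1 from congrArg Subtype.val hk, map_one])
      have h2 : orderOf (QuotientGroup.mk' C x) ∣ C.index := orderOf_dvd_natCard _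
      exact Nat.eq_one_of_dvd_coprimes ((Nat.Prime.coprime_iff_not_dvd Nat.prime_two).2 hidx |>.pow_left k) h1 h2
    haveI hPcyc : IsCyclic (P : Subgroup L) :=
      isCyclic_of_injective (Subgroup.inclusion hPC) (Subgroup.inclusion_injective hPC)
    have hPn : Subgroup.normalizer ((P : Subgroup L) : Set L) = ⊤ := by
      have h1 := Sylow.normalizer_sup_eq_top (N := C) (P.subtype hPC)
      rw [Sylow.coe_subtype, Subgroup.map_subgroupOf_eq_of_le hPC] at h1
      refine top_le_iff.1 (h1 ▸ sup_le le_rfl fun g hg => ?_)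
      rw [Subgroup.mem_normalizer_iff]
      intro x
      refine ⟨fun hx => ?_, fun hx => ?_⟩
      · rwa [hcomm g x hg (hPC hx) hAcomm, mul_inv_cancel_right]
      · have e1 := hcomm g _ hg (hPC hx) hAcomm
        rw [show g * (g * x * g⁻¹) = g * (g * x * g⁻¹) from rfl] at e1
        have : x = g * x * g⁻¹ := mul_left_cancel (a := g) (by rw [e1]; group)
        exact this ▸ hx
    haveI : (P : Subgroup L).Normal := Subgroup.normalizer_eq_top_iff.1 hPn
    haveI := Sylow.unique_of_normal P inferInstance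
    have hPcen : ∀ x ∈ (P : Subgroup L), ∀ y, x * y = y * x := by
      intro x hx y
      have h2L : 2 ∣ Nat.card L := by
        rw [← Nat.card_congr e.toEquiv, hcardH, hα]
        obtain ⟨r, hr⟩ := hpodd
        exact ⟨r, by omega⟩
      have hy : y ∈ Subgroup.centralizer ((P : Subgroup L) : Set L) :=
        IsCyclic.normalizer_le_centralizer ((Nat.minFac_eq_two_iff _).2 h2L) hPcyc (hPn ▸ Subgroup.mem_top y)
      exact Subgroup.mem_centralizer_iff.1 hy x hx
    intro x k hx y
    apply e.injective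
    rw [map_mul, map_mul]
    refine hPcen _ ?_ _
    have hpg : IsPGroup 2 (Subgroup.zpowers (e x)) := by
      obtain ⟨i, -, hi⟩ := (Nat.dvd_prime_pow Nat.prime_two).1
        (orderOf_dvd_of_pow_eq_one (show e x ^ 2 ^ k = 1 by rw [← map_pow, hx, map_one]))
      exact IsPGroup.of_card (n := i) (by rw [Nat.card_zpowers, hi])
    obtain ⟨Q, hQ⟩ := hpg.exists_le_sylow
    exact (Subsingleton.elim Q P) ▸ hQ (Subgroup.mem_zpowers _)
  -- at least half of the elements are inverted
  have hg : ∀ w : {w : α // w ≠ a ∧ w ≠ b}, ∃ g : G, g • a = b ∧ g • b = a ∧ g • w.1 = w.1 := fun w =>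
    PermGroups.exists_move_three h3 hab w.2.1.symm w.2.2.symm hab.symm w.2.2.symm w.2.1.symm
  choose g hga hgb hgw using hg
  have hmem : ∀ w, s⁻¹ * g w ∈ H := fun w =>
    ⟨MulAction.mem_stabilizer_iff.2 (by rw [mul_smul, hga, inv_smul_eq_iff, hsa]),
      MulAction.mem_stabilizer_iff.2 (by rw [mul_smul, hgb, inv_smul_eq_iff, hsb])⟩
  have hgg : ∀ w, g w * g w = 1 := fun w => PermGroups.eq_one_of_three_fixed hsharp hab w.2.1.symm w.2.2.symm
    (by rw [mul_smul, hga, hgb]) (by rw [mul_smul, hgb, hga]) (by rw [mul_smul, hgw, hgw])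
  have hσg : ∀ w, σ ⟨_, hmem w⟩ = (⟨_, hmem w⟩ : H)⁻¹ := fun w => Subtype.ext (by
    show s * (s⁻¹ * g w) * s⁻¹ = (s⁻¹ * g w)⁻¹
    rw [mul_inv_rev, inv_inv, hsi, ← mul_assoc, hss, one_mul, inv_eq_of_mul_eq_one_right (hgg w)])
  have hI : Nat.card H ≤ 2 * Nat.card {x : H // σ x = x⁻¹} := by
    haveI := Fintype.ofFinite {x : H // σ x = x⁻¹}
    let Ψ : {w : α // w ≠ a ∧ w ≠ b} → {x : H // σ x = x⁻¹} := fun w => ⟨⟨_, hmem w⟩, hσg w⟩
    rw [Nat.card_eq_fintype_card (α := {x : H // σ x = x⁻¹}), mul_comm, ← Finset.card_univ,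
      show Nat.card H = (Finset.univ : Finset {w : α // w ≠ a ∧ w ≠ b}).card by
        rw [hcardH, Finset.card_univ, Fintype.card_subtype,
          show (Finset.univ.filter fun w => w ≠ a ∧ w ≠ b) = ({a, b} : Finset α)ᶜ by ext; simp,
          Finset.card_compl, Finset.card_pair hab]]
    refine (Finset.card_le_mul_card_image (f := Ψ) _ 2 fun h _ => ?_).trans
      (le_trans (le_of_eq (mul_comm _ _)) (Nat.mul_le_mul_right 2 (Finset.card_le_univ _)))
    by_contra hlt
    push Not at hlt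
    obtain ⟨u, hu, v, hv, w, hw, huv, huw, hvw⟩ := Finset.two_lt_card.1 hlt
    simp only [Finset.mem_filter, Finset.mem_univ, true_and] at hu hv hw
    have e : ∀ {u v}, Ψ u = h → Ψ v = h → g v = g u := fun {u v} hu hv =>
      mul_left_cancel (congrArg (fun x : {x : H // σ x = x⁻¹} => ((x : H) : G)) (hv.trans hu.symm))
    have h1 := PermGroups.eq_one_of_three_fixed hsharp (fun e' => huv (Subtype.ext e'))
      (fun e' => huw (Subtype.ext e')) (fun e' => hvw (Subtype.ext e')) (hgw u)
      (e hu hv ▸ hgw v) (e hu hw ▸ hgw w)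
    have := hga u
    rw [h1, one_smul] at this
    exact hab this
  have hcomm := PermGroups.commutative_of_half_inverted σ (fun x => Subtype.ext (hssc x)) hcen hI
  have hHc : ∀ x ∈ H, ∀ y ∈ H, x * y = y * x := fun x hx y hy =>
    congrArg Subtype.val (hcomm ⟨x, hx⟩ ⟨y, hy⟩)
  -- squares are inverted
  have hsq : ∀ x : H, σ (x * x) = (x * x)⁻¹ := by
    intro x
    let J : Subgroup H :=
      { carrier := {y | σ y = y⁻¹}
        one_mem' := by simp
        mul_mem' := fun {y z} hy hz => by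
          show σ (y * z) = (y * z)⁻¹
          rw [map_mul, hy, hz, mul_inv_rev, hcomm]
        inv_mem' := fun {y} hy => by
          show σ y⁻¹ = y⁻¹⁻¹
          rw [map_inv, hy] }
    show x * x ∈ J
    have hJ : Nat.card H ≤ 2 * Nat.card J := hI
    have hidx : J.index ≤ 2 := by
      refine Nat.le_of_mul_le_mul_right ?_ (Nat.card_pos (α := J))
      rw [Subgroup.index_mul_card]; exact hJ
    rcases Nat.lt_or_ge J.index 2 with h | h
    · have : J.index = 1 := by have := Subgroup.index_ne_zero_of_finite (H := J); omega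
      rw [Subgroup.index_eq_one.1 this]; exact Subgroup.mem_top _
    · rw [← sq]; exact Subgroup.sq_mem_of_index_two (le_antisymm hidx h) x
  -- coordinates
  obtain ⟨K, fK, fintK, τ, hcard, τb, hadd, finj, fsurj, hone, hscal⟩ :=
    PermGroups.exists_coordinates_sharp h3 hsharp hab hac hbc hHc
  have hKc : Fintype.card K = p ^ f := by omega
  have hτ0 : τ 0 = 1 := mul_eq_left.mp ((hadd 0 0).symm.trans (by rw [add_zero]))
  choose! d hdH hd using hscal
  have hdc : ∀ x, x ≠ 0 → d x • c = τ x • a := fun x hx => by rw [← hone, hd x hx, mul_one]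
  have huniq : ∀ {h h' : G}, h ∈ H → h' ∈ H → h • c = h' • c → h = h' := fun {h h'} hh hh' e =>
    inv_mul_eq_one.1 (PermGroups.eq_one_of_three_fixed hsharp hab hac hbc
      (MulAction.mem_stabilizer_iff.1 (mul_mem (inv_mem hh) hh').1)
      (MulAction.mem_stabilizer_iff.1 (mul_mem (inv_mem hh) hh').2) (by rw [mul_smul, ← e, inv_smul_smul]))
  have hdm : ∀ x y, x ≠ 0 → y ≠ 0 → d (x * y) = d x * d y := fun x y hx hy =>
    huniq (hdH _ (mul_ne_zero hx hy)) (mul_mem (hdH x hx) (hdH y hy))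
      (by rw [hdc _ (mul_ne_zero hx hy), mul_smul, hdc y hy, hd x hx])
  have hdsurj : ∀ h ∈ H, ∃ x, x ≠ 0 ∧ d x = h := by
    intro h hh
    obtain ⟨x, hx⟩ := fsurj (h • c) fun e => hbc (smul_left_cancel h ((hfb hh).trans e.symm))
    have hx0 : x ≠ 0 := by
      rintro rfl
      rw [hτ0, one_smul] at hx
      exact hac (smul_left_cancel h ((hfa hh).trans hx))
    exact ⟨x, hx0, huniq (hdH x hx0) hh ((hdc x hx0).trans hx)⟩
  have hd1 : d 1 = 1 := huniq (hdH 1 one_ne_zero) (one_mem H) (by rw [hdc 1 one_ne_zero, hone, one_smul])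
  have hdi : ∀ x, x ≠ 0 → (d x)⁻¹ = d x⁻¹ := fun x hx =>
    inv_eq_of_mul_eq_one_right (by rw [← hdm _ _ hx (inv_ne_zero hx), mul_inv_cancel₀ hx, hd1])
  have hdinj : ∀ x y, x ≠ 0 → y ≠ 0 → d x = d y → x = y := fun x y hx hy e =>
    finj _ _ (by rw [← hdc x hx, ← hdc y hy, e])
  have hφ : ∀ x, x ≠ 0 → ∃ y, y ≠ 0 ∧ s * d x * s⁻¹ = d y := fun x hx => by
    obtain ⟨y, hy, e⟩ := hdsurj _ (hconj _ (hdH x hx))
    exact ⟨y, hy, e.symm⟩
  choose! φ hφ0 hφd using hφ
  have hsf : ∀ x, x ≠ 0 → s • τ x • a = τ (φ x) • a := fun x hx => by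
    rw [← hdc x hx, ← hdc _ (hφ0 x hx), ← hφd x hx, mul_smul, mul_smul, inv_smul_eq_iff.2 hsc.symm]
  have hφm : ∀ x y, x ≠ 0 → y ≠ 0 → φ (x * y) = φ x * φ y := fun x y hx hy =>
    hdinj _ _ (hφ0 _ (mul_ne_zero hx hy)) (mul_ne_zero (hφ0 x hx) (hφ0 y hy)) (by
      rw [hdm _ _ (hφ0 x hx) (hφ0 y hy), ← hφd x hx, ← hφd y hy, ← hφd _ (mul_ne_zero hx hy), hdm x y hx hy]
      group)
  have hφφ : ∀ x, x ≠ 0 → φ (φ x) = x := fun x hx =>
    hdinj _ _ (hφ0 _ (hφ0 x hx)) hx (by rw [← hφd _ (hφ0 x hx), ← hφd x hx, hssc])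
  have hφsq : ∀ x, x ≠ 0 → IsSquare x → φ x = x⁻¹ := by
    rintro x hx ⟨u, rfl⟩
    have hu : u ≠ 0 := fun e => hx (by rw [e, zero_mul])
    have h1 : σ (⟨d u, hdH u hu⟩ * ⟨d u, hdH u hu⟩) = (⟨d u, hdH u hu⟩ * ⟨d u, hdH u hu⟩ : H)⁻¹ := hsq _
    have h2 : s * (d u * d u) * s⁻¹ = (d u * d u)⁻¹ := congrArg Subtype.val h1
    rw [← hdm u u hu hu, hφd _ hx, hdi _ hx] at h2
    exact hdinj _ _ (hφ0 _ hx) (inv_ne_zero hx) h2
  have hchar : ringChar K ≠ 2 := by
    intro h
    obtain ⟨r, hr⟩ := (FiniteField.even_card_iff_char_two (F := K)).1 h |> Nat.even_iff.2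
    rw [hKc] at hr
    exact Nat.not_even_iff_odd.2 hpodd ⟨r, hr⟩
  have two0 : (2 : K) ≠ 0 := Ring.two_ne_zero hchar
  -- every element is inverted
  have hφinv : ∀ x, x ≠ 0 → φ x = x⁻¹ := by
    by_contra hcon
    push Not at hcon
    obtain ⟨ε, hε, hεne⟩ := hcon
    have hεns : ¬ IsSquare ε := fun h => hεne (hφsq ε hε h)
    have hns : ∀ y, y ≠ 0 → ¬ IsSquare y → φ y = -y⁻¹ := by
      intro y hy hys
      have hεy : IsSquare (ε * y) := by
        rw [← quadraticChar_one_iff_isSquare (mul_ne_zero hε hy), map_mul,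
          quadraticChar_neg_one_iff_not_isSquare.2 hεns, quadraticChar_neg_one_iff_not_isSquare.2 hys]
        norm_num
      have hεε : φ ε = -ε⁻¹ := by
        have h1 : φ ε * φ ε = ε⁻¹ * ε⁻¹ := by
          rw [← hφm ε ε hε hε, hφsq _ (mul_ne_zero hε hε) ⟨ε, rfl⟩, mul_inv]
        exact ((mul_self_eq_mul_self_iff).1 h1).resolve_left hεne
      have h2 := hφm ε y hε hy
      rw [hφsq _ (mul_ne_zero hε hy) hεy, hεε] at h2
      rw [mul_inv] at h2
      exact mul_left_cancel₀ (inv_ne_zero hε) (by linear_combination h2)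
    have hm1 : IsSquare (-1 : K) := by
      by_contra h1
      have h2 := hφφ ε hε
      rw [hns ε hε hεns] at h2
      have hsq' : IsSquare (-ε⁻¹) := by
        rw [← quadraticChar_one_iff_isSquare (neg_ne_zero.2 (inv_ne_zero hε)), ← neg_one_mul, map_mul,
          quadraticChar_neg_one_iff_not_isSquare.2 h1,
          quadraticChar_neg_one_iff_not_isSquare.2 (fun h => hεns (isSquare_inv.1 h))]
        norm_num
      rw [hφsq _ (neg_ne_zero.2 (inv_ne_zero hε)) hsq', inv_neg, inv_inv] at h2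
      exact hε ((mul_eq_zero.1 (show (2 : K) * ε = 0 by linear_combination -h2)).resolve_left two0)
    -- the element fixing `b` and exchanging `a` and `c`
    set r : G := τ 1 * d (-1) with hr
    have hm10 : (-1 : K) ≠ 0 := neg_ne_zero.2 one_ne_zero
    have hrf : ∀ x, r • τ x • a = τ (1 - x) • a := fun x => by
      rw [hr, mul_smul, hd _ hm10, ← mul_smul (τ 1), ← hadd, show (1 : K) + -1 * x = 1 - x by ring]
    have hrb : r • b = b := by rw [hr, mul_smul, hfb (hdH _ hm10), τb]
    have hra : r • a = c := by rw [hr, mul_smul, hfa (hdH _ hm10), hone]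
    have hrc : r • c = a := by
      have := hrf 1
      rwa [sub_self, hτ0, one_smul, hone] at this
    have hrr : r * r = 1 := PermGroups.eq_one_of_three_fixed hsharp hab hac hbc (by rw [mul_smul, hra, hrc])
      (by rw [mul_smul, hrb, hrb]) (by rw [mul_smul, hrc, hra])
    have hbraid : r * s * (r * s) * (r * s) = 1 := PermGroups.eq_one_of_three_fixed hsharp hab hac hbc
      (by simp only [mul_smul, hsa, hrb, hsb, hra, hsc, hrc])
      (by simp only [mul_smul, hsb, hra, hsc, hrc, hsa, hrb])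
      (by simp only [mul_smul, hsc, hrc, hsa, hrb, hsb, hra])
    have hrs : r * s * r = s * r * s := by
      calc r * s * r = r * s * r * (s * r * s * (s * r * s)⁻¹) := by rw [mul_inv_cancel, mul_one]
        _ = (r * s * (r * s) * (r * s)) * (s * r * s)⁻¹ := by group
        _ = s * r * s := by
          rw [hbraid, one_mul, mul_inv_rev, mul_inv_rev, hsi, inv_eq_of_mul_eq_one_right hrr, ← mul_assoc]
    -- squares other than one differ from one by a square
    have hkey : ∀ x : K, x ≠ 0 → x ≠ 1 → IsSquare x → IsSquare (1 - x) := by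
      intro x hx hx1 hxs
      by_contra hys
      have hy : 1 - x ≠ 0 := sub_ne_zero.2 (Ne.symm hx1)
      have h1 := congrArg (fun z : G => z • τ x • a) hrs
      simp only [mul_smul] at h1
      rw [hrf, hsf _ hy, hrf, hsf x hx, hrf] at h1
      have hz : 1 - φ x ≠ 0 := by
        rw [hφsq x hx hxs]
        intro h
        refine hx1 (inv_eq_one.1 (sub_eq_zero.1 h).symm)
      rw [hsf _ hz] at h1
      have hzs : ¬ IsSquare (1 - φ x) := by
        intro h
        refine hys ?_
        have : 1 - x = (1 - φ x) * (-1) * x := by rw [hφsq x hx hxs]; field_simp; ring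
        rw [this]
        exact (h.mul hm1).mul hxs
      have h2 := finj _ _ h1
      rw [hns _ hz hzs, hns _ hy hys, hφsq x hx hxs] at h2
      have hx1' : x - 1 ≠ 0 := sub_ne_zero.2 hx1
      field_simp at h2
      have h3 : (2 : K) * ((1 - x) * (1 - x)) = 0 := by grind
      exact hy (mul_self_eq_zero.1 ((mul_eq_zero.1 h3).resolve_left two0))
    -- so the squares form an additive group
    have hsubsq : ∀ u v : K, IsSquare u → IsSquare v → IsSquare (u + v) := by
      intro u v hu hv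
      by_cases hu0 : u = 0
      · rwa [hu0, zero_add]
      by_cases hv0 : v = 0
      · rwa [hv0, add_zero]
      by_cases huv : u + v = 0
      · exact ⟨0, by rw [huv, mul_zero]⟩
      have hx : IsSquare (-(v / u)) := by rw [← neg_one_mul]; exact hm1.mul (hv.div hu)
      have := hkey _ (neg_ne_zero.2 (div_ne_zero hv0 hu0)) (fun h => huv (by field_simp at h; linear_combination -h)) hx
      rw [show u + v = u * (1 - -(v / u)) by field_simp; ring]
      exact hu.mul this
    obtain ⟨z, hz⟩ := FiniteField.exists_nonsquare hchar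
    obtain ⟨u, v, huv⟩ := FiniteField.exists_root_sum_quadratic (R := K)
      (f := Polynomial.X ^ 2) (g := Polynomial.X ^ 2 - Polynomial.C z)
      (Polynomial.degree_X_pow 2) (Polynomial.degree_X_pow_sub_C (by norm_num) z)
      (FiniteField.odd_card_of_char_ne_two hchar)
    simp only [Polynomial.eval_pow, Polynomial.eval_X, Polynomial.eval_sub, Polynomial.eval_C] at huv
    exact hz (by
      rw [show z = u * u + v * v by linear_combination -huv]
      exact hsubsq _ _ ⟨u, rfl⟩ ⟨v, rfl⟩)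
  have hinv : ∀ h ∈ H, s * h * s⁻¹ = h⁻¹ := by
    intro h hh
    obtain ⟨x, hx, rfl⟩ := hdsurj h hh
    rw [hφd x hx, hφinv x hx, hdi x hx]
  obtain ⟨K', fK', fintK', hK', hiso⟩ := PermGroups.nonempty_pgl h3 hsharp hab hac hbc hHc s hsa hsb hsc hinv
  exact ⟨K', fK', fintK', by omega, hiso⟩

end Cfsg.Agent.S0730
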