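import Cfsg.Statements.S0732
import Cfsg.Agent.PermGroups.DegreeSucc
import Cfsg.Agent.PermGroups.DegreeSuccAffine
import Cfsg.Agent.PermGroups.ZassenhausAbelian
import Cfsg.Agent.PermGroups.ZassenhausNotSimple
import Cfsg.Agent.PermGroups.SharplyTwo
import Cfsg.Agent.PermGroups.RegularNormal
import Cfsg.Agent.PermGroups.PGLCongr
import Cfsg.Agent.Linear.Congr
import Cfsg.Agent.S0727
import Cfsg.Agent.S0730

set_option autoImplicit false
open Cfsg

namespace Cfsg.Agent.S0732

/-- A transitive permutation group on `p + 1` points (`p` prime) of order `(p+1) p d` with `d < p` is isomorphic to `PGL(2,p)` with `d = p - 1`, or to `PSL(2,p)` with `2d = p - 1`, or else `p + 1 = 2^q` for a prime `q`, `d = 1` or `d = q`, and the group is permutation-isomorphic to a group of semi-affine maps `x ↦ a φ(x) + b` of the field with `2^q` elements. -/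
theorem result {α : Type*} [Fintype α] [DecidableEq α] {p d : ℕ} (hp : p.Prime) (hα : Fintype.card α = p + 1) (G : Subgroup (Equiv.Perm α)) [MulAction.IsPretransitive G α] (hG : Nat.card G = (p + 1) * p * d) (hd : d < p) : (d = p - 1 ∧ Nonempty (G ≃* Matrix.ProjGenLinGroup (Fin 2) (ZMod p))) ∨ (2 * d = p - 1 ∧ Nonempty (G ≃* Matrix.ProjectiveSpecialLinearGroup (Fin 2) (ZMod p))) ∨ (∃ q : ℕ, q.Prime ∧ p + 1 = 2 ^ q ∧ (d = 1 ∨ d = q) ∧ ∃ e : α ≃ GaloisField 2 q, ∀ g : G, (e.symm.trans (((g : Equiv.Perm α)).trans e)) ∈ Cfsg.semiaffineGroup (GaloisField 2 q)) := by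
  classical
  have : Fact p.Prime := ⟨hp⟩
  obtain ⟨h2, hthree, hstab, hH, hdvd⟩ := PermGroups.degree_succ_setup hp hα G hG hd
  have hn3 : 3 ≤ Fintype.card α := by have := hp.two_le; omega
  obtain ⟨a, b, hab⟩ := Fintype.exists_pair_of_one_lt_card (show 1 < Fintype.card α by omega)
  rcases eq_or_ne d (p - 1) with hdp | hdp
  · refine Or.inl ⟨hdp, ?_⟩
    obtain ⟨h3, hsharp⟩ := PermGroups.sharplyThree_of_card h2 hthree hab (by rw [hH a b hab]; omega)
    rcases hp.eq_two_or_odd with rfl | hodd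
    · obtain ⟨F, fF, fintF, hF, ⟨iso⟩⟩ := S0727.result le_rfl hα G h3 hsharp
      obtain ⟨e⟩ := PermGroups.nonempty_pgl_congr (n := Fin 2) (ZMod.ringEquivOfPrime F hp (by rw [hF, pow_one]))
      exact ⟨iso.trans e.symm⟩
    · obtain ⟨F, fF, fintF, hF, ⟨iso⟩⟩ :=
        S0730.result hp (by omega) odd_one (by rw [pow_one]; exact hα) G h3 hsharp
      obtain ⟨e⟩ := PermGroups.nonempty_pgl_congr (n := Fin 2) (ZMod.ringEquivOfPrime F hp (by rw [hF, pow_one]))
      exact ⟨iso.trans e.symm⟩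
  right
  have hd0 : 0 < d := Nat.card_pos.trans_le (hH a b hab).le
  have hpm1 : 0 < p - 1 := by have := hp.two_le; omega
  have hdlt : 2 * d ≤ p - 1 := by
    obtain ⟨k, hk⟩ := hdvd
    rcases Nat.lt_or_ge k 2 with hk2 | hk2
    · interval_cases k <;> omega
    · calc 2 * d = d * 2 := mul_comm _ _
        _ ≤ d * k := Nat.mul_le_mul_left d hk2
        _ = p - 1 := hk.symm
  obtain ⟨hcardA, P, hPle, hPn, hPp, hPc, hPreg⟩ := hstab a
  by_cases hreg : ∃ N : Subgroup G, N.Normal ∧ MulAction.IsPretransitive N α ∧ ∀ x : α, MulAction.stabilizer N x = ⊥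
  · right
    obtain ⟨N, hN, hNt, hNr⟩ := hreg
    haveI : Nontrivial α := Fintype.one_lt_card_iff_nontrivial.1 (by omega)
    obtain ⟨r, q, hr, hq1, -, hcard, hNc, -⟩ := PermGroups.regular_normal_elementaryAbelian h2 N hNt hNr
    rw [Nat.card_eq_fintype_card, hα] at hcard
    have hr2 : r = 2 := by
      have h2dvd : 2 ∣ r ^ q := by
        rw [← hcard]
        rcases hp.eq_two_or_odd with h | h <;> omega
      exact ((Nat.prime_dvd_prime_iff_eq Nat.prime_two hr).1 (Nat.prime_two.dvd_of_dvd_pow h2dvd)).symm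
    subst hr2
    have hq : q.Prime := by
      have hq' : q ≠ 1 := by
        rintro rfl
        omega
      exact (Nat.prime_of_pow_sub_one_prime (a := 2) hq' (by rw [← hcard, Nat.add_sub_cancel]; exact hp)).2
    obtain ⟨⟨m, hm, hmd⟩, he⟩ := PermGroups.exists_semiaffine_coordinates G (by omega : q ≠ 0)
      (hα.trans hcard) N hNc hNt hNr a P hPle hPn hPc hPreg b hab.symm
    refine ⟨q, hq, hcard, ?_, he⟩
    rw [hcardA, hPp] at hmd
    exact (Nat.dvd_prime hq).1 ((Nat.dvd_of_mul_dvd_mul_left hp.pos hmd).trans hm)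
  left
  have hd1 : d ≠ 1 := by
    intro h1
    apply hreg
    have hsharp : ∀ x : Fin 2 ↪ α, MulAction.stabilizer G x = ⊥ := by
      intro x
      rw [Subgroup.eq_bot_iff_forall]
      intro g hg
      have hx : x 0 ≠ x 1 := fun e => absurd (x.injective e) (by decide)
      have h : g ∈ MulAction.stabilizer G (x 0) ⊓ MulAction.stabilizer G (x 1) :=
        ⟨congrArg (fun y : Fin 2 ↪ α => y 0) hg, congrArg (fun y : Fin 2 ↪ α => y 1) hg⟩
      rwa [Subgroup.card_eq_one.1 ((hH _ _ hx).trans h1), Subgroup.mem_bot] at h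
    obtain ⟨_, _, K, -, -, -, hK, -, -, hKt, hKr, -⟩ :=
      PermGroups.exists_regular_kernel h2 hsharp (by omega)
    exact ⟨K, hK, hKt, hKr⟩
  have hZ : Cfsg.IsZassenhausGroup G α := by
    refine ⟨inferInstance, h2, hthree, ?_, fun N hN hNt => ?_⟩
    · obtain ⟨g, hg, hg1⟩ : ∃ g ∈ MulAction.stabilizer G a ⊓ MulAction.stabilizer G b, g ≠ 1 := by
        by_contra hcon
        push Not at hcon
        have := hH a b hab
        rw [(Subgroup.eq_bot_iff_forall _).2 hcon, Subgroup.card_bot] at this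
        exact hd1 this.symm
      exact ⟨g, hg1, a, b, hab, hg.1, hg.2⟩
    · by_contra hcon
      push Not at hcon
      exact hreg ⟨N, hN, hNt, hcon⟩
  obtain ⟨-, P', hP'le, hP'n, -, hP'c, hP'reg⟩ := hstab b
  rcases PermGroups.zassenhaus_abelian_translations hZ hab P' hP'le
      ⟨fun u hu g => hP'n g g.2 u hu⟩ hP'c hP'reg with h | ⟨K, fK, fintK, -, hK, hd2, ⟨iso⟩⟩
  · rw [hH a b hab] at h
    omega
  · rw [hH a b hab] at hd2
    exact ⟨by omega, ⟨iso.trans (Linear.pslCongr (ZMod.ringEquivOfPrime K hp (by omega)).symm)⟩⟩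

end Cfsg.Agent.S0732
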