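import Cfsg.Statements.S0910
import Cfsg.Agent.Blocks.SimpleAux
import Cfsg.Agent.Blocks.Basic
-- import your own Cfsg.Agent.* helpers here

set_option autoImplicit false
open Cfsg

namespace Cfsg.Agent.S0910

/-- Let G be a non-abelian finite simple group and p a prime. If an irreducible character χ lies in the principal block (relative to a maximal ideal of the algebraic integers containing p) and χ 1 is a power of p, then χ is the principal character. -/
theorem result {G : Type*} [Group G] [Finite G] (p : ℕ) [Fact p.Prime] (M : Ideal Cfsg.AlgInt) (hM : Cfsg.IsPModular p M) [IsSimpleGroup G] (hna : ∃ a b : G, a * b ≠ b * a) (χ : Cfsg.IrrCharacter G) (hχ : χ ∈ Cfsg.principalBlock M G) (k : ℕ) (hdeg : (χ : G → ℂ) 1 = (p : ℂ) ^ k) : (χ : G → ℂ) = fun _ => 1 := by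
  classical
  haveI : Fintype G := Fintype.ofFinite G
  haveI := hM.2.1
  have hp := (Fact.out : p.Prime)
  have hd : charDegree (χ : G → ℂ) = p ^ k := by
    have := (Blocks.charDegree_eq χ.2).1
    rw [hdeg] at this
    exact_mod_cast this.symm
  rcases Nat.eq_zero_or_pos k with rfl | hk
  · exact Blocks.eq_one_of_degree_one hna (Chars.isCharacter_of_isIrr χ.2) (by rw [hdeg, pow_zero])
  by_contra hne
  let P : Sylow p G := default
  have hPne : (P : Subgroup G) ≠ ⊥ := P.ne_bot_of_dvd_card
    ((dvd_pow_self p hk.ne').trans (hd ▸ Blocks.charDegree_dvd χ.2))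
  haveI : Nontrivial (P : Subgroup G) := (Subgroup.nontrivial_iff_ne_bot _).2 hPne
  haveI : Nontrivial (Subgroup.center (P : Subgroup G)) := P.isPGroup'.center_nontrivial
  obtain ⟨⟨⟨z, hzP⟩, hzc⟩, hz1⟩ := exists_ne (1 : Subgroup.center (P : Subgroup G))
  have hzne : z ≠ 1 := fun h => hz1 (Subtype.ext (Subtype.ext h))
  have hPC : (P : Subgroup G) ≤ Subgroup.centralizer ({z} : Set G) := fun w hw =>
    Subgroup.mem_centralizer_singleton_iff.2
      (congrArg Subtype.val (Subgroup.mem_center_iff.1 hzc ⟨w, hw⟩))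
  have hidx : ¬ p ∣ (Subgroup.centralizer ({z} : Set G)).index := fun h =>
    P.not_dvd_index (h.trans (Subgroup.index_dvd_of_le hPC))
  have h0 : (χ : G → ℂ) z = 0 := Blocks.eq_zero_of_coprime_class hna χ hne hzne (by
    rw [hd]; exact (hp.coprime_iff_not_dvd.2 hidx).pow_left k)
  have h := hχ z
  simp only [centralChar, h0, mul_zero, zero_div, div_one, mul_one, sub_zero] at h
  exact hidx ((Blocks.memI_natCast_iff hM.2.2 _).1 h)

end Cfsg.Agent.S0910
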