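import Cfsg.Statements.S0904
import Cfsg.Agent.Blocks.SimpleAux
import Cfsg.Agent.Blocks.Basic
import Cfsg.Agent.Blocks.Orth
import Cfsg.Agent.DegreeGraph.AbelianNormal
import Cfsg.Agent.BlockChar.CharCount
import Cfsg.Agent.S0910
import Cfsg.Agent.S0165
-- import your own Cfsg.Agent.* helpers here

set_option autoImplicit false
open Cfsg

namespace Cfsg.Agent.S0904

/-- Let G be a finite simple group of order p ^ a * q ^ b * r with p, q, r distinct primes. Then every Sylow r-subgroup S of G satisfies C_G(S) = S. -/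
theorem result {G : Type*} [Group G] [Finite G] [IsSimpleGroup G] (p q r a b : ℕ) (hp : p.Prime) (hq : q.Prime) [Fact r.Prime] (hpq : p ≠ q) (hpr : p ≠ r) (hqr : q ≠ r) (hcard : Nat.card G = p ^ a * q ^ b * r) (S : Sylow r G) : Subgroup.centralizer (S : Set G) = (S : Subgroup G) := by
  classical
  haveI : Fintype G := Fintype.ofFinite G
  have hr := (Fact.out : r.Prime)
  have hprimeS : ∀ S : Sylow r G, Nat.card (S : Subgroup G) = r := by
    intro S
    rw [S.card_eq_multiplicity, hcard]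
    have h1 : ((p ^ a * q ^ b * r) : ℕ).factorization r = 1 := by
      rw [Nat.factorization_mul (mul_ne_zero (pow_ne_zero _ hp.ne_zero) (pow_ne_zero _ hq.ne_zero)) hr.ne_zero,
        Nat.factorization_mul (pow_ne_zero _ hp.ne_zero) (pow_ne_zero _ hq.ne_zero), hp.factorization_pow,
        hq.factorization_pow, hr.factorization, Finsupp.add_apply, Finsupp.add_apply]
      simp [hpr, hqr, Finsupp.single_apply]
    rw [h1, pow_one]
  have hSc : IsCyclic (S : Subgroup G) := isCyclic_of_prime_card (hprimeS S)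
  have hSC : (S : Subgroup G) ≤ Subgroup.centralizer (S : Set G) := fun x hx =>
    Subgroup.mem_centralizer_iff.2 fun y hy =>
      congrArg Subtype.val ((IsCyclic.commGroup (α := (S : Subgroup G))).mul_comm ⟨y, hy⟩ ⟨x, hx⟩)
  refine le_antisymm ?_ hSC
  by_cases hna : ∃ x y : G, x * y ≠ y * x
  swap
  · push Not at hna
    let _ : CommGroup G := { mul_comm := hna }
    have hP : (Nat.card G).Prime := IsSimpleGroup.prime_card
    have : Nat.card G = r := ((Nat.prime_dvd_prime_iff_eq hr hP).1 (hcard ▸ dvd_mul_left r _)).symm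
    rw [show (S : Subgroup G) = ⊤ from Subgroup.eq_top_of_card_eq _ (by rw [hprimeS S, this])]
    exact le_top
  by_contra hnle
  -- an element of prime order `ℓ ≠ r` centralizing `S`
  obtain ⟨ℓ, hℓ, hℓr, hℓC⟩ : ∃ ℓ, ℓ.Prime ∧ ℓ ≠ r ∧ ℓ ∣ Nat.card (Subgroup.centralizer (S : Set G)) := by
    have hlt : (S : Subgroup G) < Subgroup.centralizer (S : Set G) :=
      lt_of_le_of_ne hSC fun h => hnle h.ge
    have hne : ((S : Subgroup G).subgroupOf (Subgroup.centralizer (S : Set G))).index ≠ 1 := by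
      rw [Ne, Subgroup.index_eq_one, Subgroup.subgroupOf_eq_top]; exact hnle
    obtain ⟨ℓ, hℓ, hℓd⟩ := Nat.exists_prime_and_dvd hne
    refine ⟨ℓ, hℓ, ?_, hℓd.trans (Subgroup.index_dvd_card _)⟩
    rintro rfl
    have h1 := ((S : Subgroup G).subgroupOf (Subgroup.centralizer (S : Set G))).card_mul_index
    rw [Nat.card_congr (Subgroup.subgroupOfEquivOfLe hSC).toEquiv, hprimeS S] at h1
    have h2 : ℓ * ℓ ∣ Nat.card G :=
      (mul_dvd_mul_left ℓ hℓd).trans (h1 ▸ Subgroup.card_subgroup_dvd_card _)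
    rw [hcard] at h2
    have h3 : ℓ ∣ p ^ a * q ^ b := Nat.dvd_of_mul_dvd_mul_right hℓ.pos h2
    rcases hℓ.dvd_mul.1 h3 with h | h
    · exact hpr ((Nat.prime_dvd_prime_iff_eq hℓ hp).1 (hℓ.dvd_of_dvd_pow h)).symm
    · exact hqr ((Nat.prime_dvd_prime_iff_eq hℓ hq).1 (hℓ.dvd_of_dvd_pow h)).symm
  haveI := Fact.mk hℓ
  obtain ⟨⟨x, hxC⟩, hx⟩ := exists_prime_orderOf_dvd_card' ℓ hℓC
  rw [Subgroup.orderOf_mk] at hx
  obtain ⟨⟨s, hsS⟩, hs⟩ := exists_prime_orderOf_dvd_card' r (G := (S : Subgroup G)) (by rw [hprimeS S])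
  rw [Subgroup.orderOf_mk] at hs
  have hxs : orderOf (x * s) = ℓ * r := by
    have hc : Commute x s := (Subgroup.mem_centralizer_iff.1 hxC s hsS).symm
    rw [hc.orderOf_mul_eq_mul_orderOf_of_coprime, hx, hs]
    rw [hx, hs]; exact (Nat.coprime_primes hℓ hr).2 hℓr
  obtain ⟨M, hMmax, hℓM⟩ := DegreeGraph.exists_isMaximal_mem ℓ
  haveI := hMmax
  have horth := Blocks.block_orth_weak hℓM (Blocks.isPBlock_principal (G := G) (M := M)) (x := (1 : G))
    (y := x * s) (by rw [orderOf_one]; exact hℓ.not_dvd_one) (by rw [hxs]; exact dvd_mul_right ℓ r)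
  rw [← Finset.add_sum_erase _ _ (Finset.mem_filter.2 ⟨Finset.mem_univ _, Blocks.one_mem_principal⟩)] at horth
  obtain ⟨m, hm, hmℓ, hm'⟩ : ∃ m : ℕ, m.Prime ∧ m ≠ ℓ ∧
      ∀ d, d ∣ Nat.card G → (∀ k, d ≠ ℓ ^ k) → ¬ r ∣ d → m ∣ d := by
    have hℓG : ℓ ∣ Nat.card G := hℓC.trans (Subgroup.card_subgroup_dvd_card _)
    have hcase : ℓ = p ∨ ℓ = q := by
      rw [hcard] at hℓG
      rcases hℓ.dvd_mul.1 hℓG with h | h
      · rcases hℓ.dvd_mul.1 h with h | h
        · exact .inl ((Nat.prime_dvd_prime_iff_eq hℓ hp).1 (hℓ.dvd_of_dvd_pow h))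
        · exact .inr ((Nat.prime_dvd_prime_iff_eq hℓ hq).1 (hℓ.dvd_of_dvd_pow h))
      · exact absurd ((Nat.prime_dvd_prime_iff_eq hℓ hr).1 h) hℓr
    have key : ∀ (u v i j : ℕ), u.Prime → v.Prime → ∀ d, d ∣ u ^ i * v ^ j * r → (∀ k, d ≠ u ^ k) →
        ¬ r ∣ d → v ∣ d := by
      intro u v i j hu hv d hd hne hrd
      have h1 : d ∣ u ^ i * v ^ j := Nat.Coprime.dvd_of_dvd_mul_right
        ((hr.coprime_iff_not_dvd.2 hrd).symm) hd
      by_contra hvd
      obtain ⟨k, -, hk⟩ := (Nat.dvd_prime_pow hu).1 (Nat.Coprime.dvd_of_dvd_mul_right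
        (((hv.coprime_iff_not_dvd.2 hvd).symm).pow_right j) h1)
      exact hne k hk
    rcases hcase with rfl | rfl
    · exact ⟨q, hq, hpq.symm, fun d hd => key ℓ q a b hp hq d (hcard ▸ hd)⟩
    · exact ⟨p, hp, hpq, fun d hd => key ℓ p b a hq hp d (by rw [mul_comm (ℓ ^ b)]; exact hcard ▸ hd)⟩
  have hterm : ∀ χ ∈ (Finset.univ.filter (· ∈ principalBlock M G)).erase (Blocks.oneChar G),
      ∃ t : ℂ, IsIntegral ℤ t ∧
        (χ : G → ℂ) 1 * (starRingEnd ℂ) ((χ : G → ℂ) (x * s)) = (m : ℂ) * t := by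
    intro χ hχ
    obtain ⟨hne, hχB⟩ := Finset.mem_erase.1 hχ
    have hχB' := (Finset.mem_filter.1 hχB).2
    obtain ⟨hd1, -⟩ := Blocks.charDegree_eq χ.2
    have hint : IsIntegral ℤ ((starRingEnd ℂ) ((χ : G → ℂ) (x * s))) :=
      (Chars.isIntegral_of_isCharacter (Chars.isCharacter_of_isIrr χ.2) _).map
        ((starRingEnd ℂ).toIntAlgHom)
    by_cases hrd : r ∣ charDegree (χ : G → ℂ)
    · refine ⟨0, isIntegral_zero, ?_⟩
      obtain ⟨n, ρ, hρ, hρχ⟩ := BlockChar.exists_rep χ.2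
      haveI := hρ
      have hfin : Module.finrank ℂ (Fin n → ℂ) = charDegree (χ : G → ℂ) := by
        simp [charDegree, ← hρχ, Representation.char_one]
      have h0 := S0165.result ρ r 1 hr (by rw [pow_one, hcard]; exact dvd_mul_left r _) (by
          rw [hcard]
          intro h
          rw [pow_succ, pow_one] at h
          rcases hr.dvd_mul.1 (Nat.dvd_of_mul_dvd_mul_right hr.pos h) with h | h
          · exact hpr ((Nat.prime_dvd_prime_iff_eq hr hp).1 (hr.dvd_of_dvd_pow h)).symm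
          · exact hqr ((Nat.prime_dvd_prime_iff_eq hr hq).1 (hr.dvd_of_dvd_pow h)).symm)
        (by rw [pow_one, hfin]; exact hrd) (x * s) (by rw [hxs]; exact dvd_mul_left r ℓ)
      rw [← hρχ, h0, map_zero, mul_zero, mul_zero]
    · obtain ⟨e, he⟩ := hm' _ (Blocks.charDegree_dvd χ.2) (fun k hk => hne (Subtype.ext
        (S0910.result ℓ M ⟨hℓ, hMmax, hℓM⟩ hna χ hχB' k (by rw [hd1, hk, Nat.cast_pow])))) hrd
      exact ⟨(e : ℂ) * _, (isIntegral_natCast e).mul hint, by rw [hd1, he, Nat.cast_mul, mul_assoc]⟩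
  choose! f hf1 hf2 using hterm
  rw [Finset.sum_congr rfl hf2, ← Finset.mul_sum] at horth
  refine FGS2.isIntegral_not_neg_inv m hm _ (IsIntegral.sum _ hf1) ?_
  simpa [Blocks.oneChar] using horth

end Cfsg.Agent.S0904
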