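import Cfsg.Statements.S0994
import Cfsg.Agent.SmallOrder.Exclude

set_option autoImplicit false
open Cfsg

namespace Cfsg.Agent.S0994

/-- No finite simple group has order 1188 = 2^2 * 3^3 * 11. -/
theorem result {G : Type*} [Group G] [Finite G] [IsSimpleGroup G] : Nat.card G ≠ 1188 := by
  intro h
  have hG : ¬ IsMulCommutative G := SmallOrder.not_comm_of_not_prime (by rw [h]; norm_num)
  have : Fact (Nat.Prime 11) := ⟨by norm_num⟩
  obtain ⟨P⟩ := (inferInstance : Nonempty (Sylow 11 G))
  obtain ⟨hP, -, hd, hm⟩ := SmallOrder.sylow_arith P (a := 1) (m := 108) (by rw [h]; norm_num) (by norm_num)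
  have hne := SmallOrder.card_sylow_ne_one (p := 11) hG (by rw [h]; norm_num)
  have hn : Nat.card (Sylow 11 G) = 12 :=
    (by decide : ∀ n ∈ Nat.divisors 108, n % 11 = 1 → n ≠ 1 → n = 12) _
      (Nat.mem_divisors.mpr ⟨hd, by norm_num⟩) hm hne
  exact SmallOrder.false_of_prime_card_sylow hG P (by simpa using hP) hn (by norm_num) (r := 9)
    (by rw [h]) (by norm_num)

end Cfsg.Agent.S0994
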