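import Cfsg.Statements.S1158
import Cfsg.Agent.Suzuki.ReeSpectrum

set_option autoImplicit false
open Cfsg Cfsg.Agent.Suzuki.Ree

namespace Cfsg.Agent.S1158

/-- In the small Ree group ²G₂(q), q = 3^(2m+1) with m ≥ 1, realised as G¹ inside the Chevalley group G₂ over the field with q elements (θ the 3^m-th power map), with `r = 3^(m+1)` (so `r² = 3q`): for each `k ∈ {(q-1)/2, (q+1)/4, q - r + 1, q + r + 1}` there is a cyclic subgroup `A` of order `k` whose normaliser has order `2(q-1)`, `6(q+1)`, `6(q-r+1)`, `6(q+r+1)` respectively, and `N(A₀) = N(A)` for every non-trivial `A₀ ≤ A`. -/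
theorem result {K : Type*} [Field K] [Fintype K] {m : ℕ} (hm : 1 ≤ m) (hK : Fintype.card K = 3 ^ (2 * m + 1)) :
    ∀ kn ∈ ({((3 ^ (2 * m + 1) - 1) / 2, 2 * (3 ^ (2 * m + 1) - 1)), ((3 ^ (2 * m + 1) + 1) / 4, 6 * (3 ^ (2 * m + 1) + 1)),
        (3 ^ (2 * m + 1) - 3 ^ (m + 1) + 1, 6 * (3 ^ (2 * m + 1) - 3 ^ (m + 1) + 1)),
        (3 ^ (2 * m + 1) + 3 ^ (m + 1) + 1, 6 * (3 ^ (2 * m + 1) + 3 ^ (m + 1) + 1))} : Set (ℕ × ℕ)),
      ∃ A : Subgroup ↥(Cfsg.Lie.twistedG2 K (3 ^ m)), IsCyclic A ∧ Nat.card A = kn.1 ∧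
        Nat.card (Subgroup.normalizer (A : Set ↥(Cfsg.Lie.twistedG2 K (3 ^ m)))) = kn.2 ∧
        ∀ A₀ : Subgroup ↥(Cfsg.Lie.twistedG2 K (3 ^ m)), A₀ ≤ A → A₀ ≠ ⊥ →
          Subgroup.normalizer (A₀ : Set ↥(Cfsg.Lie.twistedG2 K (3 ^ m))) = Subgroup.normalizer (A : Set ↥(Cfsg.Lie.twistedG2 K (3 ^ m))) := by
  intro kn hkn
  have h := ctx_of hK
  rcases hkn with rfl | rfl | rfl | rfl
  · obtain ⟨y, hy1, hy⟩ := exists_of_prime h (n := nSplit m) (by have := (nSplit_ge hm).1; omega)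
      (dvd_card h _ (Or.inl rfl))
    have hc := fun z (h1 : z ≠ 1) h2 => (split_centralizer h (y := z) h1 h2).1
    obtain ⟨A, hA⟩ := exists_torusOf hc hy1 hy
    obtain ⟨hcyc, hcard, hnorm⟩ := split_data h hm hy1 hy hA
    exact ⟨A, hcyc, hcard, hnorm, (normalizer_torus hc hy1 hy hA hcyc).1⟩
  · obtain ⟨y, hy1, hy⟩ := exists_of_prime h (n := nEll m) (by have := (nSplit_ge hm).2.1; omega)
      (dvd_card h _ (Or.inr (Or.inl rfl)))
    have hc := fun z (h1 : z ≠ 1) h2 => (ell_centralizer h hm (y := z) h1 h2).1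
    obtain ⟨A, hA⟩ := exists_torusOf hc hy1 hy
    obtain ⟨hcyc, hcard⟩ := ell_data h hm hy1 hy hA
    exact ⟨A, hcyc, hcard, card_normalizer_ell h hm hy1 hy hA, (normalizer_torus hc hy1 hy hA hcyc).1⟩
  · obtain ⟨x₁, x₂, a1, a2, -, -, e1, -, n1, -⟩ := cox_tori h hm
    exact ⟨_, (cox_centralizer h hm a1 a2).2.1, e1, n1, (cox_normalizer h hm a1 a2).1⟩
  · obtain ⟨x₁, x₂, -, -, a1, a2, -, e2, -, n2, -⟩ := cox_tori h hm
    exact ⟨_, (cox_centralizer h hm a1 a2).2.1, e2, n2, (cox_normalizer h hm a1 a2).1⟩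

end Cfsg.Agent.S1158
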