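import Cfsg.Statements.S1246
import Cfsg.Agent.S2922
import Cfsg.Agent.LocalEven.FrakH
import Cfsg.Agent.Transfer.Complement

set_option autoImplicit false
open Cfsg

namespace Cfsg.Agent.S1246

open Cfsg in
theorem charP_of_isPGroup {H : Type*} [Group H] [Finite H] {p : ℕ} [Fact p.Prime]
    (h : IsPGroup p ↥(Cfsg.generalizedFittingSubgroup H)) :
    Cfsg.generalizedFittingSubgroup H = Cfsg.pCore p H := by
  refine le_antisymm (Cfsg.Agent.Core.le_pCore inferInstance h) ?_
  exact (Cfsg.Agent.Core.pCore_le_fittingSubgroup p H).trans le_sup_right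

theorem step {G : Type*} [Group G] [Finite G] {p : ℕ} [Fact p.Prime] {U : Subgroup G} (hU : IsPGroup p U) :
    ∀ (n : ℕ) (V : Subgroup G), V ≤ U → Nat.card U - Nat.card V = n →
      Cfsg.generalizedFittingSubgroup ↥(Subgroup.centralizer (V : Set G)) =
        Cfsg.pCore p ↥(Subgroup.centralizer (V : Set G)) →
      Cfsg.generalizedFittingSubgroup ↥(Subgroup.centralizer (U : Set G)) =
        Cfsg.pCore p ↥(Subgroup.centralizer (U : Set G)) := by
  intro n
  induction n using Nat.strong_induction_on with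
  | _ n ih =>
  intro V hVU hn hV
  rcases eq_or_lt_of_le hVU with rfl | hlt
  · exact hV
  haveI : Group.IsNilpotent U := hU.isNilpotent
  have hlt' : V.subgroupOf U < ⊤ := lt_top_iff_ne_top.mpr fun e =>
    not_le_of_gt hlt (Subgroup.subgroupOf_eq_top.mp e)
  obtain ⟨⟨u, hu⟩, huN, huV⟩ := SetLike.exists_of_lt (Group.normalizerCondition_of_isNilpotent _ hlt')
  set W := U ⊓ Subgroup.normalizer (V : Set G)
  have huW : u ∈ W := by
    refine Subgroup.mem_inf.mpr ⟨hu, ?_⟩
    rw [Cfsg.Agent.Transfer.mem_normalizer_iff_map_conj]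
    refine Subgroup.eq_of_le_of_card_ge ?_ (Cfsg.Agent.Transfer.card_map_conj _ _).ge
    rintro _ ⟨v, hv, rfl⟩
    exact (Subgroup.mem_normalizer_iff.mp huN ⟨v, hVU hv⟩).mp hv
  have hVW : V ≤ W := le_inf hVU Subgroup.le_normalizer
  have hcard : Nat.card V < Nat.card W := by
    refine lt_of_le_of_ne (Subgroup.card_le_of_le hVW) fun e => huV ?_
    have h' := (Subgroup.eq_of_le_of_card_ge hVW e.ge).ge huW
    exact Subgroup.mem_subgroupOf.mpr h'
  have hN : Cfsg.generalizedFittingSubgroup ↥(Subgroup.normalizer (V : Set G)) =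
      Cfsg.pCore p ↥(Subgroup.normalizer (V : Set G)) := by
    rw [Cfsg.Agent.LocalEven.generalizedFitting_eq_pCore_iff, Cfsg.Agent.LocalEven.charP_iff]
    have hC := (Cfsg.Agent.LocalEven.charP_iff _).mp (Cfsg.Agent.LocalEven.generalizedFitting_eq_pCore_iff.mp hV)
    set C := Subgroup.centralizer (V : Set G)
    set N := Subgroup.normalizer (V : Set G)
    have hop : Cfsg.Agent.LocalEven.op p C ≤ Cfsg.Agent.LocalEven.op p N :=
      Cfsg.Agent.LocalEven.op_le_op_of_normalized (Subgroup.centralizer_le_normalizer _)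
        (Cfsg.Agent.LocalEven.normalizer_le_normalizer_cent V)
    have hVop : V ≤ Cfsg.Agent.LocalEven.op p N :=
      Cfsg.Agent.LocalEven.le_op Subgroup.le_normalizer le_rfl (hU.to_le hVU)
    intro c hc
    have hcV : c ∈ C := Subgroup.centralizer_le (SetLike.coe_subset_coe.mpr hVop) hc.2
    exact hop (hC ⟨hcV, Subgroup.centralizer_le (SetLike.coe_subset_coe.mpr hop) hc.2⟩)
  refine ih _ ?_ W inf_le_left rfl
    (Cfsg.Agent.S2922.result W V (hU.to_le inf_le_left) hVW ?_ hN).2
  · have := Subgroup.card_le_of_le (inf_le_left : W ≤ U)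
    change Nat.card W ≤ _ at this; omega
  · exact Subgroup.normal_subgroupOf_of_le_normalizer inf_le_right

/-- Let V ≤ U be p-subgroups of the finite group G. If the generalized Fitting subgroup of C_G(V) is a p-group, then so is that of C_G(U). -/
theorem result {G : Type*} [Group G] [Finite G] {p : ℕ} [Fact p.Prime] (U V : Subgroup G) (hVU : V ≤ U) (hU : IsPGroup p U) (hV : IsPGroup p ↥(Cfsg.generalizedFittingSubgroup ↥(Subgroup.centralizer (V : Set G)))) : IsPGroup p ↥(Cfsg.generalizedFittingSubgroup ↥(Subgroup.centralizer (U : Set G))) := by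
  have h := step hU _ V hVU rfl (charP_of_isPGroup hV)
  rw [h]
  exact Cfsg.Agent.Core.isPGroup_pCore p _

end Cfsg.Agent.S1246
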