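import Cfsg.Statements.S1249
import Cfsg.Agent.TwoGroups.Closed

set_option autoImplicit false
open Cfsg

namespace Cfsg.Agent.S1249

/-- Let P and Q be Sylow p-subgroups of the finite group G both containing the subgroup A. If A is strongly closed in P, then A is strongly closed in Q. -/
theorem result {G : Type*} [Group G] [Finite G] {p : ℕ} [Fact p.Prime] (P Q : Sylow p G) (A : Subgroup G) (hAQ : A ≤ Q) (hA : Cfsg.IsStronglyClosed A (P : Subgroup G)) : Cfsg.IsStronglyClosed A (Q : Subgroup G) := by
  refine ⟨hAQ, ?_⟩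
  obtain ⟨x, hx⟩ := TwoGroups.sylow_conj P Q
  have hw := TwoGroups.weaklyClosed_of_stronglyClosed hA
  have hfix : A.map (MulAut.conj x).toMonoidHom = A := by
    apply TwoGroups.weaklyClosed_eq_self hw Q hAQ
    rw [hx]; exact Subgroup.map_mono hA.1
  intro a ha g hg
  rw [hx, TwoGroups.mem_map_conj] at hg
  have := hA.2 a ha (x⁻¹ * g) (by simpa [mul_assoc] using hg)
  rw [← hfix, TwoGroups.mem_map_conj]
  simpa [mul_assoc] using this

end Cfsg.Agent.S1249
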