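import Cfsg.Statements.S1250
import Cfsg.Agent.TwoGroups.Closed

set_option autoImplicit false
open Cfsg

namespace Cfsg.Agent.S1250

/-- Let S be a Sylow p-subgroup of the finite group G, A ≤ S strongly closed in S, and N a normal subgroup. Then the image of A in G ⧸ N is strongly closed in the image of S (which is a Sylow p-subgroup of G ⧸ N). -/
theorem result {G : Type*} [Group G] [Finite G] {p : ℕ} [Fact p.Prime] (S : Sylow p G) (A : Subgroup G) (hA : Cfsg.IsStronglyClosed A (S : Subgroup G)) (N : Subgroup G) [N.Normal] : Cfsg.IsStronglyClosed (A.map (QuotientGroup.mk' N)) ((S : Subgroup G).map (QuotientGroup.mk' N)) := by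
  refine ⟨Subgroup.map_mono hA.1, ?_⟩
  rintro _ ⟨a, ha, rfl⟩ gq hg
  obtain ⟨g, rfl⟩ := QuotientGroup.mk_surjective gq
  obtain ⟨s, hs, hse⟩ := hg
  set x := g * a * g⁻¹ with hx
  have hxs : x ∈ (S : Subgroup G) ⊔ N := by
    have : s⁻¹ * x ∈ N := by
      apply QuotientGroup.eq.mp
      simpa [hx] using hse
    rw [← mul_inv_cancel_left s x]
    exact mul_mem ((le_sup_left : _ ≤ (S : Subgroup G) ⊔ N) hs) ((le_sup_right : _ ≤ (S : Subgroup G) ⊔ N) this)
  set H := (S : Subgroup G) ⊔ N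
  have hxp : IsPGroup p (Subgroup.zpowers (⟨x, hxs⟩ : H)) := by
    obtain ⟨k, hk⟩ := S.2 ⟨a, hA.1 ha⟩
    have hdvd : Nat.card (Subgroup.zpowers (⟨x, hxs⟩ : H)) ∣ p ^ k := by
      rw [Nat.card_zpowers]
      refine orderOf_dvd_of_pow_eq_one (Subtype.ext ?_)
      have h1 : a ^ p ^ k = 1 := congrArg Subtype.val hk
      simp [hx, conj_pow, h1]
    obtain ⟨j, -, hj⟩ := (Nat.dvd_prime_pow Fact.out).1 hdvd
    exact IsPGroup.of_card hj
  obtain ⟨R, hR⟩ := hxp.exists_le_sylow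
  obtain ⟨c, hc⟩ := TwoGroups.sylow_conj (S.subtype le_sup_left : Sylow p H) R
  have h1 := hR (Subgroup.mem_zpowers _)
  rw [hc, TwoGroups.mem_map_conj, Sylow.coe_subtype, Subgroup.mem_subgroupOf] at h1
  obtain ⟨t, ht, n, hn, htn⟩ := (Subgroup.mem_sup_of_normal_right (s := (S : Subgroup G)) (t := N)).mp c.2
  have htn' : n⁻¹ * t⁻¹ * x * (t * n) ∈ (S : Subgroup G) := by
    have : ((c⁻¹ * ⟨x, hxs⟩ * c : H) : G) = n⁻¹ * t⁻¹ * x * (t * n) := by simp [← htn, mul_assoc]
    rwa [← this]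
  -- move the conjugating element into `N`
  have hn' : t * n * t⁻¹ ∈ N := Subgroup.Normal.conj_mem inferInstance n hn t
  set m := t * n * t⁻¹ with hm
  have h2 : m⁻¹ * x * m ∈ (S : Subgroup G) := by
    have := mul_mem (mul_mem ht htn') (inv_mem ht)
    rw [hm]
    simpa [mul_assoc] using this
  have h3 := hA.2 a ha (m⁻¹ * g) (by simpa [hx, mul_assoc] using h2)
  refine ⟨_, h3, ?_⟩
  have hm1 : (QuotientGroup.mk m : G ⧸ N) = 1 := (QuotientGroup.eq_one_iff m).mpr hn'
  simp [hx, hm1]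

end Cfsg.Agent.S1250
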