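import Cfsg.Statements.S1251
import Cfsg.Agent.TwoGroups.Isolated

set_option autoImplicit false
open Cfsg

namespace Cfsg.Agent.S1251

/-- Let S be a Sylow 2-subgroup of the finite group G and A ≤ S strongly closed in S. If H is a subgroup normalized by A with no nontrivial normal subgroup of odd order and A ∩ H = 1, then A ≤ C_G(H). -/
theorem result {G : Type*} [Group G] [Finite G] (S : Sylow 2 G) (A : Subgroup G) (hA : Cfsg.IsStronglyClosed A (S : Subgroup G)) (H : Subgroup G) (hAH : A ≤ Subgroup.normalizer (H : Set G)) (hO : Cfsg.oddCore ↥H = ⊥) (hdisj : A ⊓ H = ⊥) : A ≤ Subgroup.centralizer (H : Set G) := by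
  set X := H ⊔ A
  obtain ⟨T, hT⟩ := ((S.isPGroup'.to_le hA.1).comap_subtype (K := X)).exists_le_sylow
  obtain ⟨R, hR⟩ := (T.isPGroup'.map X.subtype).exists_le_sylow
  obtain ⟨c, rfl⟩ := MulAction.exists_smul_eq G S R
  have hA' : ∀ a ∈ A, c⁻¹ * a * c ∈ A := fun a ha => by
    have h1 : a ∈ ((c • S : Sylow 2 G) : Subgroup G) :=
      hR ⟨⟨a, Subgroup.mem_sup_right ha⟩, hT (Subgroup.mem_subgroupOf.mpr ha), rfl⟩
    rw [Sylow.coe_subgroup_smul, Subgroup.mem_pointwise_smul_iff_inv_smul_mem] at h1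
    have h2 : c⁻¹ * a * c ∈ (S : Subgroup G) := by simpa [MulAut.smul_def] using h1
    simpa using hA.2 a ha c⁻¹ (by simpa using h2)
  have hcA : c⁻¹ ∈ Subgroup.normalizer (A : Set G) := by
    rw [Cfsg.Agent.Transfer.mem_normalizer_iff_map_conj]
    refine Subgroup.eq_of_le_of_card_ge ?_ (Cfsg.Agent.Transfer.card_map_conj _ _).ge
    rintro _ ⟨a, ha, rfl⟩
    simpa using hA' a ha
  haveI : (H.subgroupOf X).Normal := Subgroup.normal_subgroupOf_iff_le_normalizer le_sup_left |>.mpr
    (sup_le Subgroup.le_normalizer hAH)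
  have hsc : Cfsg.IsStronglyClosed (A.subgroupOf X) (T : Subgroup X) := by
    refine ⟨hT, fun x hx g hg => ?_⟩
    have h1 : (g : G) * x * (g : G)⁻¹ ∈ ((c • S : Sylow 2 G) : Subgroup G) := hR ⟨_, hg, rfl⟩
    rw [Sylow.coe_subgroup_smul, Subgroup.mem_pointwise_smul_iff_inv_smul_mem] at h1
    have h2 : c⁻¹ * ((g : G) * x * (g : G)⁻¹) * c ∈ (S : Subgroup G) := by
      rwa [← map_inv, MulAut.smul_def, MulAut.conj_apply, inv_inv] at h1
    have h3 := hA.2 x hx (c⁻¹ * g) (by simpa [mul_assoc] using h2)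
    show (g : G) * x * (g : G)⁻¹ ∈ A
    have := (Subgroup.mem_normalizer_iff''.mp hcA _).mp h3
    simpa [mul_assoc] using this
  have key := Cfsg.Agent.TwoGroups.commute_of_strongly_closed T (A.subgroupOf X) (H.subgroupOf X) hsc
    (by rw [← Subgroup.subgroupOf_sup le_sup_left le_sup_right, Subgroup.subgroupOf_self])
    (by rw [eq_bot_iff]
        intro x hx
        have : (x : G) ∈ A ⊓ H := ⟨hx.1, hx.2⟩
        rw [hdisj, Subgroup.mem_bot] at this
        exact Subgroup.mem_bot.mpr (Subtype.ext this))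
    (by
      have e := Subgroup.subgroupOfEquivOfLe (le_sup_left : H ≤ X)
      refine le_bot_iff.mp fun x hx => ?_
      have h1 : e x ∈ (Cfsg.oddCore ↥(H.subgroupOf X)).map e.toMonoidHom := ⟨x, hx, rfl⟩
      have h2 := Cfsg.Agent.Blocks.le_oddCore (G := H)
        (Subgroup.Normal.map inferInstance e.toMonoidHom e.surjective)
        (by rw [Subgroup.card_map_of_injective e.injective]; exact Cfsg.Agent.Blocks.odd_card_oddCore _) h1
      rw [hO, Subgroup.mem_bot] at h2
      exact Subgroup.mem_bot.mpr (e.injective (h2.trans (map_one e).symm)))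
  intro a ha
  exact Subgroup.mem_centralizer_iff.mpr fun k hk => congrArg Subtype.val
    (Subgroup.mem_centralizer_iff.mp (key (Subgroup.mem_subgroupOf.mpr ha : (⟨a, Subgroup.mem_sup_right ha⟩ : X) ∈ A.subgroupOf X))
      ⟨k, Subgroup.mem_sup_left hk⟩ hk)

end Cfsg.Agent.S1251
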