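import Cfsg.Statements.S1292
import Cfsg.Agent.Components.Local

set_option autoImplicit false
open Cfsg

namespace Cfsg.Agent.S1292

/-- Let G be a finite group such that F*(C_G(t)) = O_2(C_G(t)) for every involution t. Then F*(N_G(T)) = O_2(N_G(T)) for every nontrivial 2-subgroup T of G. -/
theorem result {G : Type*} [Group G] [Finite G] (h : ∀ t : G, orderOf t = 2 → Cfsg.generalizedFittingSubgroup ↥(Subgroup.centralizer ({t} : Set G)) = Cfsg.pCore 2 ↥(Subgroup.centralizer ({t} : Set G))) (T : Subgroup G) (hT : IsPGroup 2 ↥T) (hT1 : T ≠ ⊥) : Cfsg.generalizedFittingSubgroup ↥(Subgroup.normalizer (T : Set G)) = Cfsg.pCore 2 ↥(Subgroup.normalizer (T : Set G)) := by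
  haveI : Fact (Nat.Prime 2) := ⟨Nat.prime_two⟩
  haveI : Nontrivial ↥T := T.nontrivial_iff_ne_bot.mpr hT1
  haveI := hT.center_nontrivial
  obtain ⟨z, hz⟩ := exists_prime_orderOf_dvd_card' (G := Subgroup.center ↥T) 2
    (((hT.to_subgroup (Subgroup.center ↥T)).card_eq_or_dvd).resolve_left
      (Finite.one_lt_card (α := Subgroup.center ↥T)).ne')
  set t : G := ((z : ↥T) : G)
  have ht : orderOf t = 2 := by rw [Subgroup.orderOf_coe, Subgroup.orderOf_coe, hz]
  set C := Subgroup.centralizer ({t} : Set G)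
  have hTC : T ≤ C := fun x hx => by
    rw [Subgroup.mem_centralizer_iff]
    rintro _ rfl
    exact (congrArg Subtype.val (Subgroup.mem_center_iff.mp z.2 ⟨x, hx⟩)).symm
  set N := Subgroup.normalizer (T : Set G) with hNdef
  set T' := T.subgroupOf C with hT'
  set M := Subgroup.normalizer (T' : Set ↥C) with hM
  have hT'p : IsPGroup 2 T' := hT.comap_of_injective _ C.subtype_injective
  have hF := Cfsg.Agent.Components.fstar_normalizer_eq_pCore (h t ht) hT'p
  rw [Cfsg.Agent.Components.generalizedFitting_eq_pCore_iff] at hF ⊢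
  have hmem : ∀ x : ↥C, x ∈ M → (x : G) ∈ N := fun x hx =>
    Cfsg.Agent.Coprime.mem_normalizer_of_conj_mem fun y hy =>
      (Subgroup.mem_normalizer_iff.mp hx ⟨y, hTC hy⟩).mp hy
  let i : ↥M →* ↥N :=
    { toFun := fun x => ⟨((x : ↥C) : G), hmem x x.2⟩
      map_one' := rfl
      map_mul' := fun _ _ => rfl }
  have hi : Function.Injective i := fun a b hab =>
    Subtype.ext (Subtype.ext (congrArg Subtype.val hab :))
  have hrange : ∀ x : ↥N, (x : G) ∈ Subgroup.centralizer (T : Set G) → x ∈ i.range := fun x hx =>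
    ⟨⟨⟨x, Subgroup.mem_centralizer_iff.mpr (by
      rintro _ rfl
      exact Subgroup.mem_centralizer_iff.mp hx t (z : ↥T).2)⟩,
      Subgroup.centralizer_le_normalizer _ (Subgroup.mem_centralizer_iff.mpr fun y hy =>
        Subtype.ext (Subgroup.mem_centralizer_iff.mp hx y hy))⟩, rfl⟩
  refine ⟨?_, ?_⟩
  · rw [Cfsg.Agent.Components.layer_eq_bot_iff]
    intro L hL
    have hTn : (T.subgroupOf N).Normal := Subgroup.normal_in_normalizer
    have hLT := Cfsg.Agent.Components.component_centralizes_solvable_normal (S := T.subgroupOf N) hL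
      (Cfsg.Agent.Coprime.isSolvable_of_isPGroup (hT.comap_of_injective _ N.subtype_injective))
    have hLr : L ≤ i.range := fun x hx => hrange x (Subgroup.mem_centralizer_iff.mpr fun y hy =>
      congrArg Subtype.val (Subgroup.mem_centralizer_iff.mp (hLT hx) ⟨y, Subgroup.le_normalizer hy⟩ hy))
    have hmap : (L.comap i).map i = L := Subgroup.map_comap_eq_self hLr
    have hc : Cfsg.IsComponent (L.comap i) := ⟨hL.1.comap i,
      Cfsg.Agent.Components.isQuasisimple_of_equiv
        (((Subgroup.equivMapOfInjective (L.comap i) i hi).trans (MulEquiv.subgroupCongr hmap)).symm) hL.2⟩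
    exact (Cfsg.Agent.Components.layer_eq_bot_iff.mp hF.1) _ hc
  · set O := Cfsg.pPrimeCore 2 ↥N
    have hTn : (T.subgroupOf N).Normal := Subgroup.normal_in_normalizer
    have hOT : ⁅O, T.subgroupOf N⁆ = ⊥ := le_bot_iff.mp
      ((Subgroup.commutator_le_inf O (T.subgroupOf N)).trans (le_of_eq (by
        rw [inf_comm]
        exact Cfsg.Agent.Coprime.inf_eq_bot_of_coprime (by
          obtain ⟨k, hk⟩ := (show IsPGroup 2 (T.subgroupOf N) from hT.comap_of_injective _ N.subtype_injective).exists_card_eq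
          rw [hk]
          exact ((Cfsg.Agent.Core.card_pPrimeCore_coprime 2 ↥N).pow_right k)))))
    rw [Subgroup.commutator_eq_bot_iff_le_centralizer] at hOT
    have hOr : O ≤ i.range := fun x hx => hrange x (Subgroup.mem_centralizer_iff.mpr fun y hy =>
      congrArg Subtype.val (Subgroup.mem_centralizer_iff.mp (hOT hx) ⟨y, Subgroup.le_normalizer hy⟩ hy))
    have hb : O.comap i = ⊥ := by
      rw [← le_bot_iff, ← hF.2]
      exact Cfsg.Agent.Core.le_pPrimeCore inferInstance
        ((Cfsg.Agent.Core.card_pPrimeCore_coprime 2 ↥N).coprime_dvd_left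
          (Subgroup.card_comap_dvd_of_injective _ _ hi))
    rw [← Subgroup.map_comap_eq_self hOr, hb, Subgroup.map_bot]

end Cfsg.Agent.S1292
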