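import Cfsg.Statements.S1295
import Cfsg.Agent.Components.SFT.Equivariant

set_option autoImplicit false
open Cfsg

namespace Cfsg.Agent.S1295

/-- Let G be finite with O_{p'}(G) = 1 and p-rank at least 3, whose reduced rank-2 commuting graph for p is connected. Suppose that for every element a of order p with m_p(C_G(a)) ≥ 3 the p-layer of C_G(a) is trivial and O_{p'}(C_G(a)) is solvable. Then F*(C_G(a)) = O_p(C_G(a)) for every such a. -/
theorem result {G : Type*} [Group G] [Finite G] (p : ℕ) [Fact p.Prime] (hO : Cfsg.pPrimeCore p G = ⊥) (hrk : ¬ Cfsg.PRankLE p 2 G) (hconn : Cfsg.IsRankGraphConnected p 2 G) (hL : ∀ a : G, (orderOf a = p ∧ ¬ Cfsg.PRankLE p 2 ↥(Subgroup.centralizer ({a} : Set G))) → Cfsg.pLayer p ↥(Subgroup.centralizer ({a} : Set G)) = ⊥ ∧ Group.IsSolvable ↥(Cfsg.centralizerPPrimeCore p a)) (a : G) (ha : (orderOf a = p ∧ ¬ Cfsg.PRankLE p 2 ↥(Subgroup.centralizer ({a} : Set G)))) : Cfsg.generalizedFittingSubgroup ↥(Subgroup.centralizer ({a} : Set G)) = Cfsg.pCore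 p ↥(Subgroup.centralizer ({a} : Set G)) := by
  have hcore : Cfsg.centralizerPPrimeCore p a = ⊥ := by
    refine Cfsg.Agent.Components.SFT.equivariant_trivial hO hconn (fun x => Cfsg.centralizerPPrimeCore p x)
      (fun x hx => ⟨Subgroup.map_subtype_le _, fun h => ?_, (hL x hx).2⟩)
      (fun x g _ => Cfsg.Agent.Components.SFT.centralizerPPrimeCore_conj_eq x g)
      (fun x y hx hy hxy =>
        Cfsg.Agent.Components.SFT.core_balance_of_trivial_pLayer hxy hx.1 (hL y hy).1) ha
    rw [Cfsg.centralizerPPrimeCore, Cfsg.Agent.Core.card_map_subtype] at h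
    exact Cfsg.Agent.Core.not_dvd_card_pPrimeCore p _ h
  refine Cfsg.Agent.Components.SFT.fstar_eq_pCore_of_trivial (hL a ha).1 ?_
  rwa [Cfsg.centralizerPPrimeCore, Subgroup.map_eq_bot_iff_of_injective _ (Subgroup.subtype_injective _)] at hcore

end Cfsg.Agent.S1295
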