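import Cfsg.Statements.S1323
import Cfsg.Agent.Components.AltStandard

set_option autoImplicit false
open Cfsg

namespace Cfsg.Agent.S1323

/-- For n ≥ 9, the subgroup of the alternating group on Fin n fixing each of the points 0, 1, 2, 3 is a standard subgroup. -/
theorem result (n : ℕ) (h4 : 4 ≤ n) (hn : 9 ≤ n) : Cfsg.IsStandardSubgroup (⨅ i : Fin 4, MulAction.stabilizer ↥(alternatingGroup (Fin n)) (Fin.castLE h4 i : Fin n)) := by
  classical
  set s : Finset (Fin n) := Finset.univ.filter (fun x => 4 ≤ x.val) with hsdef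
  have hc : sᶜ = Finset.univ.map (Fin.castLEEmb h4) := by
    ext x
    simp only [hsdef, Finset.mem_compl, Finset.mem_filter, Finset.mem_univ, true_and,
      Finset.mem_map, Fin.castLEEmb_apply, not_le]
    constructor
    · intro h
      exact ⟨⟨x.val, h⟩, Fin.ext rfl⟩
    · rintro ⟨i, rfl⟩
      exact i.isLt
  have hc4 : sᶜ.card = 4 := by rw [hc, Finset.card_map, Finset.card_univ, Fintype.card_fin]
  have hs : s.card = n - 4 := by
    have h := Finset.card_compl_add_card s
    rw [Fintype.card_fin] at h
    omega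
  have heq : (⨅ i : Fin 4, MulAction.stabilizer ↥(alternatingGroup (Fin n)) (Fin.castLE h4 i : Fin n))
      = Cfsg.Agent.Components.AltStd.onSet s := by
    ext k
    rw [Subgroup.mem_iInf, Cfsg.Agent.Components.AltStd.mem_onSet]
    constructor
    · intro h x hx
      by_contra hxs
      have hx' : x ∈ sᶜ := Finset.mem_compl.mpr hxs
      rw [hc, Finset.mem_map] at hx'
      obtain ⟨i, -, rfl⟩ := hx'
      exact Equiv.Perm.mem_support.mp hx (h i)
    · intro h i
      rw [MulAction.mem_stabilizer_iff]
      by_contra hne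
      have hm : Fin.castLE h4 i ∈ s := h (Equiv.Perm.mem_support.mpr hne)
      have hm' : Fin.castLE h4 i ∈ sᶜ := hc ▸ Finset.mem_map_of_mem _ (Finset.mem_univ i)
      exact Finset.mem_compl.mp hm' hm
  rw [heq]
  exact Cfsg.Agent.Components.AltStd.isStandard_onSet s (by omega) hc4
    (by rw [Fintype.card_fin]; omega)

end Cfsg.Agent.S1323
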