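import Cfsg.Statements.S1352
import Cfsg.Agent.OddLocal.Sigma.Decomp
import Cfsg.Agent.OddLocal.Sigma.PLengthProper

set_option autoImplicit false
open Cfsg

namespace Cfsg.Agent.S1352

/-- Let G be a minimal simple group of odd order, M a maximal subgroup and K a cyclic Hall κ(M)-subgroup of M. Then there is a subgroup U of M, normalized by K, with U ∩ K M_σ = 1 and M = U K M_σ; moreover U M_σ is normal in M for any such U. -/
theorem result {G : Type*} [Group G] [Finite G] (hG : Cfsg.IsMinSimpleOddOrder G)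
    (M : Subgroup G) (hM : IsCoatom M) (K : Subgroup G)
    (hKc : IsCyclic K) (hK : Cfsg.IsPiHallOf (Cfsg.kappa M) K M) :
    (∃ U : Subgroup G, Cfsg.IsSigmaDecomposition M K U) ∧
      ∀ U : Subgroup G, Cfsg.IsSigmaDecomposition M K U → M ≤ Subgroup.normalizer ((U ⊔ Cfsg.sigmaCore M : Subgroup G) : Set G) := by
  have hpl := fun (r : ℕ) [Fact r.Prime] (H : Subgroup G) hH => OddLocal.Sigma.pLengthLE_proper hG r H hH
  refine ⟨OddLocal.Sigma.exists_decomp hG hpl hM hKc hK, fun U hU m hm => ?_⟩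
  obtain ⟨u, hu, b, hb, rfl⟩ := hU.compl.2.2.2 m hm
  refine mul_mem (Subgroup.le_normalizer (Subgroup.mem_sup_left hu)) ?_
  suffices h : K ≤ Subgroup.normalizer ((U ⊔ Cfsg.sigmaCore M : Subgroup G) : Set G) from
    (sup_le h (le_sup_right.trans Subgroup.le_normalizer)) hb
  intro k hk
  refine OddLocal.Sigma.cj_eq_iff.mp ?_
  show (U ⊔ Cfsg.sigmaCore M).map (MulAut.conj k).toMonoidHom = _
  rw [Subgroup.map_sup]
  exact congrArg₂ (· ⊔ ·) (OddLocal.Sigma.cj_eq_iff.mpr (hU.normal hk))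
    (OddLocal.Sigma.cj_eq_iff.mpr (OddLocal.Sigma.le_normalizer_sigmaCore M (hU.hall.1 hk)))

end Cfsg.Agent.S1352
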