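import Cfsg.Statements.S1354
import Cfsg.Agent.OddLocal.Sigma.Decomp
import Cfsg.Agent.OddLocal.Sigma.PLengthProper

set_option autoImplicit false
open Cfsg

namespace Cfsg.Agent.S1354

/-- Let G be a minimal simple group of odd order, M a maximal subgroup and K a cyclic Hall κ(M)-subgroup of M, and put K* = M_σ ∩ C_G(K). Then K* ≠ 1, and if K ≠ 1 then for every non-identity k ∈ K the centralizer C_M(k) is the subgroup generated by K and K* (an internal direct product, as K ∩ M_σ = 1 and K* centralizes K). -/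
theorem result {G : Type*} [Group G] [Finite G] (hG : Cfsg.IsMinSimpleOddOrder G)
    (M : Subgroup G) (hM : IsCoatom M) (K : Subgroup G)
    (hKc : IsCyclic K) (hK : Cfsg.IsPiHallOf (Cfsg.kappa M) K M) :
    Cfsg.sigmaCore M ⊓ Subgroup.centralizer (K : Set G) ≠ ⊥ ∧
      (K ≠ ⊥ → ∀ k ∈ K, k ≠ 1 →
        M ⊓ Subgroup.centralizer ({k} : Set G) = K ⊔ (Cfsg.sigmaCore M ⊓ Subgroup.centralizer (K : Set G))) := by
  have hpl := fun (r : ℕ) [Fact r.Prime] (H : Subgroup G) hH => OddLocal.Sigma.pLengthLE_proper hG r H hH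
  refine ⟨?_, fun _ k hk hk1 => OddLocal.Sigma.inf_centralizer_kappa hG hpl hM hK hk hk1⟩
  by_cases hK1 : K = ⊥
  · subst hK1
    exact fun e => OddLocal.Sigma.sigmaCore_ne_bot hG hM (le_bot_iff.mp (e ▸ le_inf le_rfl fun x _ =>
      Subgroup.mem_centralizer_iff.mpr fun g hg => by rw [Subgroup.mem_bot.mp hg, one_mul, mul_one]))
  exact (OddLocal.Sigma.kappa_hall_facts hG hpl hM hK hK1).2.1

end Cfsg.Agent.S1354
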