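import Cfsg.Statements.S1357
import Cfsg.Agent.OddLocal.Sigma.NonTI
import Cfsg.Agent.OddLocal.Sigma.PLengthProper

set_option autoImplicit false
open Cfsg

namespace Cfsg.Agent.S1357

/-- Let G be a minimal simple group of odd order and M a maximal subgroup with standard factorisation M = K U M_σ. If M_F ≠ M_σ then U = 1, the Fitting subgroup F(M) meets its conjugates by elements outside its normalizer trivially, and K has prime order. -/
theorem result {G : Type*} [Group G] [Finite G] (hG : Cfsg.IsMinSimpleOddOrder G)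
    (M : Subgroup G) (hM : IsCoatom M) (K U : Subgroup G) (hKU : Cfsg.IsSigmaDecomposition M K U) (hne : Cfsg.fittingHallOf M ≠ Cfsg.sigmaCore M) :
    U = ⊥ ∧ Cfsg.IsTISubset (Cfsg.fittingOf M : Set G) ∧ (Nat.card K).Prime := by
  have hpl := fun (r : ℕ) [Fact r.Prime] (H : Subgroup G) hH => OddLocal.Sigma.pLengthLE_proper hG r H hH
  have hn := OddLocal.Sigma.not_nilpotent_of_ne hG hpl hM hne
  obtain ⟨hU, hK1⟩ := OddLocal.Sigma.decomp_of_not_nilpotent hG hpl hM hKU hn
  refine ⟨hU, OddLocal.Sigma.fitting_isTI_of_ne hG hpl hM hne, ?_⟩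
  obtain ⟨Q, hQ⟩ := OddLocal.Sigma.exists_qData hG hpl hM hKU hn
  have hσQ : (Q.subgroupOf (Cfsg.sigmaCore M)).Normal :=
    (Subgroup.normal_subgroupOf_iff_le_normalizer hQ.le).mpr ((OddLocal.Sigma.sigmaCore_le M).trans hQ.normal)
  haveI := Fact.mk hQ.prime
  obtain ⟨N, hN⟩ := Subgroup.exists_right_complement'_of_coprime (N := Q.subgroupOf (Cfsg.sigmaCore M)) (by
    obtain ⟨k, hk⟩ := IsPGroup.iff_card.mp hQ.pgroup
    rw [OddLocal.Sigma.card_subgroupOf_eq hQ.le, hk]
    exact (hQ.prime.coprime_iff_not_dvd.mpr hQ.sylow).pow_left k)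
  exact (OddLocal.Sigma.qStructure hG hpl hM hKU hn hQ (OddLocal.Sigma.complIn_of_complement' hQ.le hN)).kappa_prime

end Cfsg.Agent.S1357
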