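import Cfsg.Statements.S1358
import Cfsg.Agent.OddLocal.Sigma.Decomp
import Cfsg.Agent.OddLocal.Sigma.PLengthProper

set_option autoImplicit false
open Cfsg

namespace Cfsg.Agent.S1358

/-- Let G be a minimal simple group of odd order and M a maximal subgroup with standard factorisation M = K U M_σ. Then for every prime p, every Sylow p-subgroup of U is abelian and has no elementary abelian subgroup of order p ^ 3. -/
theorem result {G : Type*} [Group G] [Finite G] (hG : Cfsg.IsMinSimpleOddOrder G)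
    (M : Subgroup G) (hM : IsCoatom M) (K U : Subgroup G) (hKU : Cfsg.IsSigmaDecomposition M K U) :
    ∀ (p : ℕ), p.Prime → ∀ P : Sylow p U, IsMulCommutative (P : Subgroup U) ∧ Cfsg.PRankLE p 2 (P : Subgroup U) := by
  have hpl := fun (r : ℕ) [Fact r.Prime] (H : Subgroup G) hH => OddLocal.Sigma.pLengthLE_proper hG r H hH
  intro p hp P
  haveI := Fact.mk hp
  by_cases hd : p ∣ Nat.card U
  swap
  · have hP : (P : Subgroup U) = ⊥ := Subgroup.card_eq_one.mp (by
      rw [P.card_eq_multiplicity, Nat.factorization_eq_zero_of_not_dvd hd, pow_zero])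
    rw [hP]
    refine ⟨⟨⟨fun a b => Subsingleton.elim _ _⟩⟩, fun E _ _ => ?_⟩
    rw [Nat.card_unique]
    exact Nat.one_le_pow _ _ hp.pos
  have hσ := ((OddLocal.Sigma.decomp_facts hG hpl hM hKU).2.1 p hp hd).1
  obtain ⟨Q, hQ⟩ := OddLocal.Sigma.exists_sylow_map_ge (P.isPGroup'.map U.subtype)
    ((Subgroup.map_subtype_le _).trans hKU.compl.1)
  haveI := OddLocal.Sigma.isMulCommutative_sylow_of_notMem_sigma hG hpl hM hσ Q
  refine ⟨⟨⟨fun a b => Subtype.ext (Subtype.ext ?_)⟩⟩, ?_⟩
  · obtain ⟨a', ha', hae⟩ := hQ ⟨(a : U), a.2, rfl⟩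
    obtain ⟨b', hb', hbe⟩ := hQ ⟨(b : U), b.2, rfl⟩
    show ((a : U) : G) * (b : U) = (b : U) * (a : U)
    simp only [Subgroup.coe_subtype] at hae hbe
    rw [← hae, ← hbe]
    exact congrArg (fun z : (Q : Subgroup M) => ((z : M) : G))
      (IsMulCommutative.is_comm.comm (⟨a', ha'⟩ : (Q : Subgroup M)) ⟨b', hb'⟩)
  · exact Components.pRankLE_of_injective (f := (Subgroup.inclusion hKU.compl.1).comp (P : Subgroup U).subtype)
      ((Subgroup.inclusion_injective hKU.compl.1).comp (Subgroup.subtype_injective _))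
      (OddLocal.Sigma.pRankLE_two_of_notMem_sigma hG hM hp hσ)

end Cfsg.Agent.S1358
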