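import Cfsg.Statements.S1359
import Cfsg.Agent.OddLocal.Sigma.KappaTau2
import Cfsg.Agent.OddLocal.Sigma.PLengthProper

set_option autoImplicit false
open Cfsg

namespace Cfsg.Agent.S1359

/-- Let G be a minimal simple group of odd order and M a maximal subgroup with standard factorisation M = K U M_σ. Then the subgroup generated by those elements of U which centralize some non-identity element of M_σ is abelian. -/
theorem result {G : Type*} [Group G] [Finite G] (hG : Cfsg.IsMinSimpleOddOrder G)
    (M : Subgroup G) (hM : IsCoatom M) (K U : Subgroup G) (hKU : Cfsg.IsSigmaDecomposition M K U) :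
    IsMulCommutative (Subgroup.closure ((U : Set G) ∩ Cfsg.sigmaHat M)) := by
  have hpl := fun (r : ℕ) [Fact r.Prime] (H : Subgroup G) hH => OddLocal.Sigma.pLengthLE_proper hG r H hH
  obtain ⟨hE, -, -⟩ := OddLocal.Sigma.decomp_facts hG hpl hM hKU
  have key : ∃ A : Subgroup G, IsMulCommutative A ∧ (U : Set G) ∩ Cfsg.sigmaHat M ⊆ A := by
    by_cases hK1 : K = ⊥
    · have hκ := OddLocal.Sigma.decomp_kappa_empty hG hpl hKU hK1
      subst hK1
      rw [sup_bot_eq] at hE
      obtain ⟨⟨A, -, -, hA, hfix⟩, -⟩ := OddLocal.Sigma.frobenius_type_criterion hG hpl hM hE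
        fun e he he1 hp => OddLocal.Sigma.regular_of_kappa_empty hG hpl hM hκ (hE.1 he) he1 hp
      refine ⟨A, hA, ?_⟩
      rintro u ⟨hu, -, y, hy, hy1, huy⟩
      exact hfix y hy hy1 (Subgroup.mem_inf.mpr ⟨hu, Subgroup.mem_centralizer_singleton_iff.mpr huy⟩)
    · exact ⟨U, OddLocal.Sigma.decomp_abelian hG hpl hM hKU hK1, Set.inter_subset_left⟩
  obtain ⟨A, hA, hsub⟩ := key
  haveI := hA
  exact OddLocal.Sigma.isMulCommutative_of_le ((Subgroup.closure_le A).mpr hsub)

end Cfsg.Agent.S1359
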