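import Cfsg.Statements.S1361
import Cfsg.Agent.OddLocal.Sigma.KappaTau2
import Cfsg.Agent.OddLocal.Sigma.PLengthProper

set_option autoImplicit false
open Cfsg

namespace Cfsg.Agent.S1361

/-- Let G be a minimal simple group of odd order and M a maximal subgroup with standard factorisation M = K U M_σ. If X is a nontrivial subgroup of U centralizing some non-identity element of M_σ, then C_G(X) ≤ M and M is the unique maximal subgroup of G containing C_G(X). -/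
theorem result {G : Type*} [Group G] [Finite G] (hG : Cfsg.IsMinSimpleOddOrder G)
    (M : Subgroup G) (hM : IsCoatom M) (K U : Subgroup G) (hKU : Cfsg.IsSigmaDecomposition M K U) (X : Subgroup G) (hXU : X ≤ U) (hX : X ≠ ⊥)
    (hXc : Cfsg.sigmaCore M ⊓ Subgroup.centralizer (X : Set G) ≠ ⊥) :
    Subgroup.centralizer (X : Set G) ≤ M ∧ ∀ L : Subgroup G, IsCoatom L → Subgroup.centralizer (X : Set G) ≤ L → L = M := by
  have hpl := fun (r : ℕ) [Fact r.Prime] (H : Subgroup G) hH => OddLocal.Sigma.pLengthLE_proper hG r H hH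
  obtain ⟨hE, hUp, -⟩ := OddLocal.Sigma.decomp_facts hG hpl hM hKU
  obtain ⟨y, ⟨hy, hyX⟩, hy1⟩ := Subgroup.bot_or_exists_ne_one _ |>.resolve_left hXc
  have hXE : X ≤ U ⊔ K := hXU.trans le_sup_left
  have hXy : ∀ x ∈ X, x * y = y * x := fun x hx => Subgroup.mem_centralizer_iff.mp hyX x hx
  have hτ : ∀ x ∈ X, ∀ q : ℕ, q.Prime → q ∣ orderOf x → q ∈ Cfsg.tau2 M := fun x hx q hq hd => by
    obtain ⟨hσ, hκ⟩ := hUp q hq (hd.trans (Subgroup.orderOf_dvd_natCard U (hXU hx)))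
    exact (OddLocal.Sigma.fixed_elt_classes hG hpl hM (hKU.compl.1 (hXU hx)) hy hy1 (hXy x hx) hq hd hσ).resolve_left hκ
  obtain ⟨x, hx, hx1⟩ := X.bot_or_exists_ne_one.resolve_left hX
  have hCx := (OddLocal.Sigma.only_centralizer_of_tau2 hG hpl hM hE (hKU.compl.1 (hXU hx)) hx1 (hτ x hx)
    ⟨hKU.compl.1 (hXU hx), y, hy, hy1, hXy x hx⟩).1
  refine ⟨(Subgroup.centralizer_le (Set.singleton_subset_iff.mpr hx)).trans hCx, fun L hL hCL => ?_⟩
  obtain ⟨p, hp, hd⟩ := Nat.exists_prime_and_dvd (show orderOf x ≠ 1 by rwa [ne_eq, orderOf_eq_one_iff])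
  haveI := Fact.mk hp
  have hpτ := hτ x hx p hp hd
  obtain ⟨A, hAE, hAe, hA2⟩ := OddLocal.Sigma.exists_ea_le_compl hG hE hpτ
  obtain ⟨A0, hexc⟩ := OddLocal.Sigma.exists_exc hG hpl hM hpτ.2.1 (hAE.trans hE.1) hAe hA2
  have hXA : X ≤ Subgroup.centralizer (A : Set G) := fun z hz =>
    OddLocal.Sigma.le_centralizer_of_tau2 hG hpl hM hE hpτ ⟨hAE, hAe, hA2⟩ (Subgroup.zpowers_le.mpr (hXE hz))
      (fun q hq hd => hτ z hz q hq (by rwa [Nat.card_zpowers] at hd)) (Subgroup.mem_zpowers z)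
  by_contra hne
  refine hy1 (Subgroup.mem_bot.mp ?_)
  rw [← hexc.inf_other_eq_bot hG hpl hL hne ((Subgroup.le_centralizer_iff.mp hXA).trans hCL)]
  exact ⟨hy, hCL hyX⟩

end Cfsg.Agent.S1361
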