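import Cfsg.Statements.S1374
import Cfsg.Agent.OddLocal.Sigma.RGroup
import Cfsg.Agent.OddLocal.Sigma.PLengthProper

set_option autoImplicit false
open Cfsg

namespace Cfsg.Agent.S1374

/-- Let G be a minimal simple group of odd order, M a maximal subgroup and x a non-identity element of M_σ. Then C_M(x) has order coprime to its index in C_G(x), and C_G(x) has a normal subgroup R complementing C_M(x) such that for every conjugate gMg⁻¹ containing x there is exactly one r ∈ R with rMr⁻¹ = gMg⁻¹. -/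
theorem result {G : Type*} [Group G] [Finite G] (hG : Cfsg.IsMinSimpleOddOrder G)
    (M : Subgroup G) (hM : IsCoatom M) (x : G) (hx : x ∈ Cfsg.sigmaCore M) (hx1 : x ≠ 1) :
    (Nat.card ↥(M ⊓ Subgroup.centralizer ({x} : Set G))).Coprime ((M ⊓ Subgroup.centralizer ({x} : Set G)).relIndex (Subgroup.centralizer ({x} : Set G))) ∧
      ∃ R : Subgroup G, Subgroup.centralizer ({x} : Set G) ≤ Subgroup.normalizer (R : Set G) ∧ Cfsg.IsComplIn (M ⊓ Subgroup.centralizer ({x} : Set G)) R (Subgroup.centralizer ({x} : Set G)) ∧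
        ∀ g : G, x ∈ M.map (MulAut.conj g).toMonoidHom → ∃! r : G, r ∈ R ∧ M.map (MulAut.conj r).toMonoidHom = M.map (MulAut.conj g).toMonoidHom := by
  have hpl := fun (r : ℕ) [Fact r.Prime] (H : Subgroup G) hH => OddLocal.Sigma.pLengthLE_proper hG r H hH
  obtain ⟨hn, hc, hRM, htr, -, hco⟩ := OddLocal.Sigma.supportR_facts hG hpl hM hx hx1
  refine ⟨?_, Cfsg.supportR M x, hn, hc, fun g hg => ?_⟩
  · have hcard : (M ⊓ Subgroup.centralizer ({x} : Set G)).relIndex (Subgroup.centralizer ({x} : Set G)) = Nat.card (Cfsg.supportR M x) := by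
      refine Nat.eq_of_mul_eq_mul_left (Nat.card_pos (α := ↥(M ⊓ Subgroup.centralizer ({x} : Set G)))) ?_
      rw [Cfsg.Agent.Core.card_mul_relIndex inf_le_right, ← Nat.card_prod]
      refine (Nat.card_eq_of_bijective (fun z : ↥(M ⊓ Subgroup.centralizer ({x} : Set G)) × ↥(Cfsg.supportR M x) =>
        (⟨(z.1 : G) * z.2, mul_mem z.1.2.2 (hc.2.1 z.2.2)⟩ : ↥(Subgroup.centralizer ({x} : Set G)))) ⟨?_, ?_⟩).symm
      · rintro ⟨a, b⟩ ⟨a', b'⟩ e
        have e' : (a : G) * b = a' * b' := congrArg Subtype.val e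
        have h1 : (b' : G) * (b : G)⁻¹ ∈ Cfsg.supportR M x ⊓ M := Subgroup.mem_inf.mpr ⟨mul_mem b'.2 (inv_mem b.2), by
          rw [show (b' : G) * (b : G)⁻¹ = (a' : G)⁻¹ * a by
            rw [eq_inv_mul_iff_mul_eq, ← mul_assoc, ← e', mul_inv_cancel_right]]
          exact M.mul_mem (M.inv_mem a'.2.1) a.2.1⟩
        rw [hRM, Subgroup.mem_bot, mul_inv_eq_one] at h1
        rw [h1] at e'
        exact Prod.ext (Subtype.ext (mul_right_cancel e')) (Subtype.ext h1.symm)
      · rintro ⟨c, hcc⟩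
        obtain ⟨a, ha, b, hb, rfl⟩ := hc.2.2.2 c hcc
        exact ⟨(⟨a, ha⟩, ⟨b, hb⟩), rfl⟩
    rw [hcard]
    exact Nat.coprime_of_dvd fun q hq h1 h2 => hco q hq h1 h2
  · obtain ⟨r, hr, e⟩ := htr g hg
    exact ⟨r, ⟨hr, e⟩, fun r' hr' => OddLocal.Sigma.eq_of_cj_eq_of_inf hG hM hRM hr'.1 hr (hr'.2.trans e.symm)⟩

end Cfsg.Agent.S1374
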