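import Cfsg.Statements.S1376
import Cfsg.Agent.OddLocal.Sigma.SupportKappa
import Cfsg.Agent.OddLocal.Sigma.PLengthProper

set_option autoImplicit false
open Cfsg

namespace Cfsg.Agent.S1376

/-- Let G be a minimal simple group of odd order, M a maximal subgroup, x ≠ 1 in M_σ with C_G(x) not contained in M, and N a maximal subgroup containing C_G(x) with κ(N) nonempty. Then κ(M) is empty, M has a cyclic Frobenius complement (M is a Frobenius group), and M_F is not a TI-subset of G. -/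
theorem result {G : Type*} [Group G] [Finite G] (hG : Cfsg.IsMinSimpleOddOrder G)
    (M : Subgroup G) (hM : IsCoatom M) (x : G) (hx : x ∈ Cfsg.sigmaCore M) (hx1 : x ≠ 1) (hxM : ¬ Subgroup.centralizer ({x} : Set G) ≤ M)
    (N : Subgroup G) (hN : IsCoatom N) (hxN : Subgroup.centralizer ({x} : Set G) ≤ N) (hkN : (Cfsg.kappa N).Nonempty) :
    Cfsg.kappa M = ∅ ∧ (∃ E : Subgroup ↥M, Cfsg.IsFrobeniusComplement E ∧ IsCyclic E) ∧ ¬ Cfsg.IsTISubset (Cfsg.fittingHallOf M : Set G) := by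
  have hpl := fun (r : ℕ) [Fact r.Prime] (H : Subgroup G) hH => OddLocal.Sigma.pLengthLE_proper hG r H hH
  obtain ⟨N', h⟩ := OddLocal.Sigma.exists_support hG hpl hM hx hx1 hxM
  obtain rfl := h.only N hN hxN
  obtain ⟨hκ, hτ, E, hE, hE1, hEc⟩ := h.kappa_facts hG hpl hM hx1 hkN
  haveI := hEc
  have hreg : ∀ e ∈ E, e ≠ 1 → Cfsg.sigmaCore M ⊓ Subgroup.centralizer ({e} : Set G) = ⊥ := by
    intro e he he1
    refine OddLocal.Sigma.regular_of_kappa_empty hG hpl hM hκ (hE.1 he) he1 fun q hq hd => ?_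
    have hσ := OddLocal.Sigma.complIn_notMem_sigma hG hM hE hq (hd.trans (Subgroup.orderOf_dvd_natCard _ he))
    rcases OddLocal.Sigma.mem_classes hG hM hq (hd.trans (Subgroup.orderOf_dvd_natCard _ (hE.1 he))) with
      h' | h' | h' | h'
    · exact absurd h' hσ
    · exact Or.inl h'
    · exact absurd h' (by rw [hτ]; exact id)
    · exact Or.inr h'
  have hcyc : IsCyclic E := by
    by_contra hnc
    obtain ⟨r, hr, B, hBE, hB2, hBe⟩ := Cfsg.Agent.Coprime.exists_prime_sq_subgroup hnc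
    haveI := Fact.mk hr
    have hrd : r ∣ Nat.card E := (dvd_pow_self r two_ne_zero).trans (hB2 ▸ Subgroup.card_dvd_of_le hBE)
    have hσ := OddLocal.Sigma.complIn_notMem_sigma hG hM hE hr hrd
    have h1 : ¬ Cfsg.PRankLE r 1 M := fun h1 => by
      have hBM : B ≤ M := hBE.trans hE.1
      have hB : Cfsg.IsElementaryAbelian r B := ⟨⟨⟨fun a b => Subtype.ext (congrArg Subtype.val
        (hEc.is_comm.comm ⟨a, hBE a.2⟩ ⟨b, hBE b.2⟩) :)⟩⟩, hBe⟩
      refine OddLocal.Sigma.not_isCyclic_ea_sq hB hB2 ?_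
      obtain ⟨S, hS⟩ := OddLocal.Sigma.exists_sylow_map_ge (IsPGroup.of_card hB2) hBM
      haveI := OddLocal.Sigma.sylow_isCyclic_of_rankOne hG h1 le_rfl S
      haveI : IsCyclic ((S : Subgroup M).map M.subtype) := isCyclic_of_surjective _
        ((S : Subgroup M).equivMapOfInjective _ M.subtype_injective).surjective
      exact isCyclic_of_injective (Subgroup.inclusion hS) (Subgroup.inclusion_injective _)
    have : r ∈ Cfsg.tau2 M := ⟨hr, hσ, OddLocal.Sigma.pRankLE_two_of_notMem_sigma hG hM hr hσ, h1⟩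
    rw [hτ] at this
    exact this
  have hn : Group.IsNilpotent (Cfsg.sigmaCore M) := OddLocal.Sigma.isNilpotent_sigmaCore_of_ne_bot hG hpl hM
    (K := ⊥) (U := E) ⟨inferInstance, ⟨bot_le, fun t ht hdt => by
      rw [Subgroup.card_bot] at hdt; exact absurd hdt ht.not_dvd_one,
      fun t _ ht => absurd ht (by rw [hκ]; exact id)⟩, by rw [bot_sup_eq]; exact hE, bot_le⟩ hE1
  have hF : Cfsg.fittingHallOf M = Cfsg.sigmaCore M := le_antisymm
    (OddLocal.Sigma.fittingHallOf_le_sigmaCore hG hpl hM) (OddLocal.Sigma.sigmaCore_le_fittingHallOf hG hpl hM hn)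
  have hσ1 : Cfsg.sigmaCore M ≠ ⊥ := OddLocal.Sigma.sigmaCore_ne_bot hG hM
  refine ⟨hκ, ⟨E.subgroupOf M, ⟨?_, ?_, ?_⟩, ?_⟩, ?_⟩
  · exact fun e => hE1 (by
      rw [Subgroup.subgroupOf_eq_bot, disjoint_iff, inf_eq_left.mpr hE.1] at e; exact e)
  · exact fun e => hσ1 (by
      rw [Subgroup.subgroupOf_eq_top] at e
      rw [eq_bot_iff, ← hE.2.2.1]; exact le_inf ((OddLocal.Sigma.sigmaCore_le M).trans e) le_rfl)
  · intro g hg
    rw [eq_bot_iff]
    intro a ha
    obtain ⟨haE, hag⟩ := Subgroup.mem_inf.mp ha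
    obtain ⟨b, hb, rfl⟩ := hag
    obtain ⟨e, he, s, hs, hgs⟩ := hE.2.2.2 (g : G) g.2
    have hbE : (b : G) ∈ E := Subgroup.mem_subgroupOf.mp hb
    have hgE : (g : G) * b * (g : G)⁻¹ ∈ E := Subgroup.mem_subgroupOf.mp haE
    have h1 : s * b * s⁻¹ ∈ E := by
      have := E.mul_mem (E.mul_mem (E.inv_mem he) hgE) he
      rwa [hgs, show e⁻¹ * (e * s * b * (e * s)⁻¹) * e = s * b * s⁻¹ by group] at this
    have h2 : s * b * s⁻¹ * (b : G)⁻¹ ∈ E ⊓ Cfsg.sigmaCore M := by
      refine ⟨E.mul_mem h1 (E.inv_mem hbE), ?_⟩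
      rw [show s * b * s⁻¹ * (b : G)⁻¹ = s * ((b : G) * s⁻¹ * (b : G)⁻¹) by group]
      exact (Cfsg.sigmaCore M).mul_mem hs ((Subgroup.mem_normalizer_iff.mp
        (OddLocal.Sigma.le_normalizer_sigmaCore M b.2) _).mp ((Cfsg.sigmaCore M).inv_mem hs))
    rw [hE.2.2.1, Subgroup.mem_bot, mul_inv_eq_one, mul_inv_eq_iff_eq_mul] at h2
    have hb1 : b = 1 := by
      by_contra hb1
      have hs1 : s ≠ 1 := fun e1 => hg (Subgroup.mem_subgroupOf.mpr (by rw [hgs, e1, mul_one]; exact he))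
      have h3 : s ∈ Cfsg.sigmaCore M ⊓ Subgroup.centralizer ({(b : G)} : Set G) :=
        ⟨hs, Subgroup.mem_centralizer_singleton_iff.mpr h2⟩
      rw [hreg b hbE (fun e1 => hb1 (Subtype.ext e1)), Subgroup.mem_bot] at h3
      exact hs1 h3
    rw [Subgroup.mem_bot, hb1]
    exact map_one _
  · exact isCyclic_of_surjective _ (Subgroup.subgroupOfEquivOfLe hE.1).symm.surjective
  · intro hTI
    rw [hF] at hTI
    obtain ⟨c, hc, hcM⟩ := SetLike.not_le_iff_exists.mp hxM
    refine hx1 (hTI c (fun hn' => hcM ?_) x hx ?_)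
    · have hN' : Subgroup.normalizer (Cfsg.sigmaCore M : Set G) = M :=
        (hM.le_iff.mp (OddLocal.Sigma.le_normalizer_sigmaCore M)).resolve_left (Cfsg.Agent.Core.BG.normalizer_ne_top hG
          hσ1 fun e => hM.1 (top_le_iff.mp (e.ge.trans (OddLocal.Sigma.sigmaCore_le M))))
      exact hN'.le hn'
    · rw [Subgroup.mem_centralizer_singleton_iff.mp hc, mul_inv_cancel_right]
      exact hx

end Cfsg.Agent.S1376
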