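import Cfsg.Statements.S1378
import Cfsg.Agent.OddLocal.Sigma.SigmaDisjoint
import Cfsg.Agent.OddLocal.Sigma.PLengthProper

set_option autoImplicit false
open Cfsg

namespace Cfsg.Agent.S1378

/-- Let G be a minimal simple group of odd order. Then every prime dividing the order of G belongs to σ(M) for some maximal subgroup M, and if σ(M) and σ(N) have a prime in common for maximal subgroups M, N then N is conjugate to M; so the sets σ(M_i) over representatives of the conjugacy classes of maximal subgroups partition the prime divisors of #G. -/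
theorem result {G : Type*} [Group G] [Finite G] (hG : Cfsg.IsMinSimpleOddOrder G) :
    (∀ p : ℕ, p.Prime → p ∣ Nat.card G → ∃ M : Subgroup G, IsCoatom M ∧ p ∈ Cfsg.sigma M) ∧
      ∀ M N : Subgroup G, IsCoatom M → IsCoatom N → (Cfsg.sigma M ∩ Cfsg.sigma N).Nonempty → ∃ g : G, N = M.map (MulAut.conj g).toMonoidHom := by
  have hpl := fun (r : ℕ) [Fact r.Prime] (H : Subgroup G) hH => OddLocal.Sigma.pLengthLE_proper hG r H hH
  refine ⟨fun p hp hd => ?_, fun M N hM hN hne => ?_⟩
  · haveI := Fact.mk hp
    obtain ⟨P⟩ := (inferInstance : Nonempty (Sylow p G))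
    have hP1 : (P : Subgroup G) ≠ ⊥ := fun e => P.not_dvd_index (by rw [e, Subgroup.index_bot]; exact hd)
    obtain ⟨M, hM, hle⟩ := (eq_top_or_exists_le_coatom (Subgroup.normalizer ((P : Subgroup G) : Set G))).resolve_left
      (Core.BG.normalizer_ne_top_of_isPGroup hG hP1 P.isPGroup')
    refine ⟨M, hM, OddLocal.Sigma.mem_sigma_of_normalizer_le hG hpl P.isPGroup' hP1
      (Subgroup.le_normalizer.trans hle) (fun h => P.not_dvd_index (h.trans
        ⟨_, (Subgroup.relIndex_mul_index (Subgroup.le_normalizer.trans hle : (P : Subgroup G) ≤ M)).symm⟩)) hle⟩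
  · obtain ⟨p, hpM, hpN⟩ := hne
    haveI := Fact.mk (OddLocal.Sigma.sigma_prime hpM)
    by_contra hno
    push Not at hno
    exact OddLocal.Sigma.sigma_disjoint hG hpl hM hN hno hpM hpN

end Cfsg.Agent.S1378
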