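import Cfsg.Statements.S1384
import Cfsg.Agent.OddLocal.Sigma.Cover
import Cfsg.Agent.OddLocal.Sigma.HallFusion
import Cfsg.Agent.OddLocal.Sigma.NonTI
import Cfsg.Agent.OddLocal.Sigma.PLengthProper

set_option autoImplicit false
open Cfsg

namespace Cfsg.Agent.S1384

/-- Let G be a minimal simple group of odd order and H a nilpotent subgroup whose order is coprime to its index. If x ∈ H and gxg⁻¹ ∈ H for some g ∈ G, then nxn⁻¹ = gxg⁻¹ for some n in the normalizer of H. -/
theorem result {G : Type*} [Group G] [Finite G] (hG : Cfsg.IsMinSimpleOddOrder G)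
    (H : Subgroup G) (hHn : Group.IsNilpotent H) (hHall : (Nat.card H).Coprime H.index) :
    ∀ x ∈ H, ∀ g : G, g * x * g⁻¹ ∈ H → ∃ n ∈ Subgroup.normalizer (H : Set G), n * x * n⁻¹ = g * x * g⁻¹ := by
  have hpl := fun (r : ℕ) [Fact r.Prime] (H : Subgroup G) hH => OddLocal.Sigma.pLengthLE_proper hG r H hH
  intro x hx g hg
  by_cases hx1 : x = 1
  · exact ⟨1, one_mem _, by simp [hx1]⟩
  obtain ⟨p, hp, hd⟩ := Nat.exists_prime_and_dvd (show Nat.card H ≠ 1 from fun e =>
    hx1 (Subgroup.mem_bot.mp (Subgroup.eq_bot_of_card_eq _ e ▸ hx)))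
  haveI := Fact.mk hp
  obtain ⟨M, hM, hpM⟩ := OddLocal.Sigma.exists_mem_sigma hG (p := p) (hd.trans (Subgroup.card_subgroup_dvd_card H))
  -- every Sylow subgroup of `H` is one of `G`
  have hsyl : ∀ q : ℕ, q.Prime → ∀ Q : Sylow q H, ¬ q ∣ (((Q : Subgroup H).map H.subtype).index) ∨ ¬ q ∣ Nat.card H :=
    fun q hq Q => by
      haveI := Fact.mk hq
      by_cases hqH : q ∣ Nat.card H
      · refine Or.inl fun hdd => ?_
        rw [Subgroup.index_map_subtype] at hdd
        rcases hq.dvd_mul.mp hdd with h | h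
        · exact Q.not_dvd_index h
        · exact hq.not_dvd_one (hHall ▸ Nat.dvd_gcd hqH h)
      · exact Or.inr hqH
  obtain ⟨P⟩ := (inferInstance : Nonempty (Sylow p H))
  set P' := (P : Subgroup H).map H.subtype with hP'
  have hPi : ¬ p ∣ P'.index := (hsyl p hp P).resolve_right (fun h => h hd)
  have hPp : IsPGroup p P' := P.isPGroup'.map _
  obtain ⟨c, hc⟩ := OddLocal.Sigma.exists_cj_le hpM hPp
  have hMc := OddLocal.Sigma.isCoatom_cj hM c
  have hPσ : P' ≤ Cfsg.sigmaCore (OddLocal.Sigma.cj c M) :=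
    OddLocal.Sigma.le_sigmaCore hG hMc hc (by
      rw [OddLocal.Sigma.sigma_eq_of_cj]
      exact OddLocal.Sigma.mem_of_pGroup hPp hpM)
  set M' := OddLocal.Sigma.cj c M with hM'
  have hpM' : p ∈ Cfsg.sigma M' := by rw [hM', OddLocal.Sigma.sigma_eq_of_cj]; exact hpM
  have hPdvd : p ∣ Nat.card P' := by
    rw [hP', Cfsg.Agent.Core.card_map_subtype]
    exact P.dvd_card_of_dvd_card hd
  have hP1 : P' ≠ ⊥ := fun e => hp.not_dvd_one (by rwa [e, Subgroup.card_bot] at hPdvd)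
  have hNP : Subgroup.normalizer (P' : Set G) ≤ M' := by
    let S : Sylow p G := hPp.toSylow hPi
    obtain ⟨T, hT⟩ : ∃ T : Sylow p M', (T : Subgroup M').map M'.subtype = P' :=
      ⟨S.subtype (hPσ.trans (OddLocal.Sigma.sigmaCore_le M')), by
        show ((S : Subgroup G).subgroupOf M').map M'.subtype = P'
        rw [Subgroup.subgroupOf_map_subtype]
        exact inf_eq_left.mpr (hPσ.trans (OddLocal.Sigma.sigmaCore_le M'))⟩
    exact hT ▸ OddLocal.Sigma.normalizer_sylow_le hpM' T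
  have hHn : (P : Subgroup H).Normal := by
    haveI := hHn
    refine OddLocal.Sigma.hall_normal_of_isNilpotent ?_
    obtain ⟨k, hk⟩ := IsPGroup.iff_card.mp P.isPGroup'
    rw [hk]
    exact (hp.coprime_iff_not_dvd.mpr P.not_dvd_index).pow_left k
  have hHM : H ≤ M' := le_trans (fun h hh => Cfsg.Agent.Coprime.mem_normalizer_of_conj_mem fun a ha => by
    obtain ⟨z, hz, rfl⟩ := ha
    exact ⟨⟨h, hh⟩ * z * ⟨h, hh⟩⁻¹, hHn.conj_mem z hz _, rfl⟩) hNP
  have hHσ : H ≤ Cfsg.sigmaCore M' := by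
    refine OddLocal.Sigma.le_sigmaCore hG hMc hHM fun q hq hqd => ?_
    haveI := Fact.mk hq
    by_contra hqσ
    obtain ⟨Q⟩ := (inferInstance : Nonempty (Sylow q H))
    set Q' := (Q : Subgroup H).map H.subtype with hQ'
    have hQp : IsPGroup q Q' := Q.isPGroup'.map _
    have hQd : q ∣ Nat.card Q' := by rw [hQ', Cfsg.Agent.Core.card_map_subtype]; exact Q.dvd_card_of_dvd_card hqd
    have hQσ : ∀ t : ℕ, t.Prime → t ∣ Nat.card Q' → t ∉ Cfsg.sigma M' := fun t ht htd =>
      OddLocal.Sigma.mem_of_pGroup (π := (Cfsg.sigma M')ᶜ) hQp hqσ t ht htd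
    have hQC : Q' ≤ Subgroup.centralizer (P' : Set G) := fun a ha => Subgroup.mem_centralizer_iff.mpr fun b hb => by
      obtain ⟨k, hk⟩ := IsPGroup.iff_card.mp hQp
      obtain ⟨l, hl⟩ := IsPGroup.iff_card.mp hPp
      refine (OddLocal.Sigma.commute_of_mem_nilpotent (by assumption : Group.IsNilpotent H)
        (Subgroup.map_subtype_le _ ha) (Subgroup.map_subtype_le _ hb) ?_).eq.symm
      refine Nat.Coprime.of_dvd (hk ▸ Subgroup.orderOf_dvd_natCard Q' ha) (hl ▸ Subgroup.orderOf_dvd_natCard P' hb) ?_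
      exact Nat.Coprime.pow k l ((Nat.coprime_primes hq hp).mpr fun e => hqσ (e ▸ hpM'))
    have hPhall : (Nat.card P').Coprime (P'.relIndex (Cfsg.sigmaCore M')) := by
      obtain ⟨l, hl⟩ := IsPGroup.iff_card.mp hPp
      rw [hl]
      exact (hp.coprime_iff_not_dvd.mpr fun h => hPi (h.trans
        (P'.relIndex_dvd_index_of_le hPσ))).pow_left l
    obtain ⟨hcyc, hτ⟩ := OddLocal.Sigma.centralizing_cyclic hG hpl hMc hPσ hP1 hPhall
      ((Subgroup.map_subtype_le _).trans hHM) hQσ hQC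
    obtain ⟨B, -, hB, hB2⟩ := OddLocal.Sigma.exists_ea_sq_of_rank (hτ q hq hQd).2.2.1 (hτ q hq hQd).2.2.2
    let S : Sylow q G := hQp.toSylow ((hsyl q hq Q).resolve_right (fun h => h hqd))
    obtain ⟨d, hd'⟩ := Cfsg.Agent.Transfer.exists_map_conj_le_sylow S (Cfsg.Agent.Components.ea_isPGroup hB)
    refine OddLocal.Sigma.not_isCyclic_ea_sq (Cfsg.Agent.PLocal.isEA_map hB (MulAut.conj d).toMonoidHom) ?_
      (by
        haveI := hcyc
        have hd2 : B.map (MulAut.conj d).toMonoidHom ≤ Q' := hd'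
        exact isCyclic_of_surjective _ (Subgroup.subgroupOfEquivOfLe hd2).surjective)
    exact (OddLocal.Sigma.card_cj d B).trans hB2
  have hHallrel : (Nat.card H).Coprime (H.relIndex (Cfsg.sigmaCore M')) :=
    hHall.coprime_dvd_right (H.relIndex_dvd_index_of_le hHσ)
  obtain ⟨n, hn, e⟩ := OddLocal.Sigma.hall_fusion hG hpl hMc hHσ hHallrel x hx g hg
  exact ⟨n, hn.2, e⟩

end Cfsg.Agent.S1384
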