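import Cfsg.Statements.S1385
import Cfsg.Agent.OddChar.Frob.TypeIConverse
import Cfsg.Agent.OddLocal.Sigma.TypeDichotomy
-- import your own Cfsg.Agent.* helpers here

set_option autoImplicit false
open Cfsg

namespace Cfsg.Agent.S1385

/-- Let G be a minimal simple group of odd order. Then either every maximal subgroup of G is of Type I, or there are nontrivial subgroups W₁, W₂ generating a cyclic group W that is the normalizer of every nonempty subset of W outside W₁ ∪ W₂, and maximal subgroups S, T with W₁ a complement to S' in S, W₂ a complement to T' in T, S ∩ T = W, S or T of Type II, each of S, T of Type II, III, IV or V, and every maximal subgroup of G of Type I or conjugate to S or to T. -/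
theorem result {G : Type*} [Group G] [Finite G] (hG : Cfsg.IsMinSimpleOddOrder G) :
    (∀ M : Subgroup G, IsCoatom M → Cfsg.IsOfTypeI M) ∨
      ∃ W₁ W₂ S T : Subgroup G, Cfsg.IsSelfNormalizingCyclic W₁ W₂ ∧ IsCoatom S ∧ IsCoatom T ∧
        Cfsg.IsComplIn ⁅S, S⁆ W₁ S ∧ Cfsg.IsComplIn ⁅T, T⁆ W₂ T ∧ S ⊓ T = W₁ ⊔ W₂ ∧
        (Cfsg.IsOfTypeII S ∨ Cfsg.IsOfTypeII T) ∧
        (Cfsg.IsOfTypeII S ∨ Cfsg.IsOfTypeIII S ∨ Cfsg.IsOfTypeIV S ∨ Cfsg.IsOfTypeV S) ∧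
        (Cfsg.IsOfTypeII T ∨ Cfsg.IsOfTypeIII T ∨ Cfsg.IsOfTypeIV T ∨ Cfsg.IsOfTypeV T) ∧
        ∀ M : Subgroup G, IsCoatom M → Cfsg.IsOfTypeI M ∨ ∃ g : G, M = S.map (MulAut.conj g).toMonoidHom ∨ M = T.map (MulAut.conj g).toMonoidHom := by
  have hpl := OddChar.Support.plen hG
  have hI : ∀ M : Subgroup G, IsCoatom M → Cfsg.kappa M = ∅ → Cfsg.IsOfTypeI M := fun M hM hκ =>
    OddChar.Frob.typeI_of_kappa_empty hG hM hκ
  by_cases hall : ∀ M : Subgroup G, IsCoatom M → Cfsg.kappa M = ∅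
  · exact Or.inl fun M hM => hI M hM (hall M hM)
  push Not at hall
  obtain ⟨S, hS, hne⟩ := hall
  obtain ⟨⟨K, hK⟩, hc⟩ := OddLocal.Sigma.kappa_hall hG hpl hS
  obtain ⟨U, h⟩ := OddLocal.Sigma.exists_decomp hG hpl hS (hc K hK) hK
  have hK1 : K ≠ ⊥ := OddLocal.Sigma.kappa_hall_ne hG hK hne
  obtain ⟨L, hL⟩ := OddLocal.Sigma.exists_partner hG hpl hS hK hK1
  obtain ⟨U', hd'⟩ := OddLocal.Sigma.exists_decomp hG hpl hL.coatom
    ((OddLocal.Sigma.kappa_hall hG hpl hL.coatom).2 _ hL.hall) hL.hall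
  have hY1 : Cfsg.sigmaCore S ⊓ Subgroup.centralizer (K : Set G) ≠ ⊥ :=
    OddLocal.Sigma.IsPartner.kst_ne hG hpl hS hK hK1
  refine Or.inr ⟨K, _, S, L, OddLocal.Sigma.selfNormalizing_partner hG hpl hS hK hK1 hL, hS, hL.coatom,
    OddLocal.Sigma.derived_compl hG hpl hS h hK1, OddLocal.Sigma.derived_compl hG hpl hL.coatom hd' hY1, hL.inter, ?_,
    OddLocal.Sigma.typeP_kind hG hpl hS h hK1, OddLocal.Sigma.typeP_kind hG hpl hL.coatom hd' hY1, fun M hM => ?_⟩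
  · by_cases hU : U = ⊥
    · exact Or.inr ((Cfsg.Agent.S1381.result hG L hL.coatom _ U' hd').mpr
        ⟨hY1, hL.partner_compl_ne_bot hG hpl hS h hU hd'⟩)
    · exact Or.inl ((Cfsg.Agent.S1381.result hG S hS K U h).mpr ⟨hK1, hU⟩)
  · by_cases hM0 : Cfsg.kappa M = ∅
    · exact Or.inl (hI M hM hM0)
    · exact Or.inr (hL.classes hG hpl hS hK hK1 hM (Set.nonempty_iff_ne_empty.mpr hM0))

end Cfsg.Agent.S1385
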