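import Cfsg.Statements.S1389
import Cfsg.Agent.S1382

set_option autoImplicit false
open Cfsg

namespace Cfsg.Agent.S1389

/-- Let G be a minimal simple group of odd order and M a maximal subgroup, and let M_s be M' if M is of Type III or IV and M_F otherwise. Then N_G(P) ≤ M for every nontrivial Sylow subgroup P of M_s, and both M_F and M_s have order coprime to their index in G. -/
theorem result {G : Type*} [Group G] [Finite G] (hG : Cfsg.IsMinSimpleOddOrder G)
    (M : Subgroup G) (hM : IsCoatom M) :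
    (∀ (p : ℕ), p.Prime → ∀ (P : Sylow p ↥(Cfsg.typeCore M)), (P : Subgroup ↥(Cfsg.typeCore M)) ≠ ⊥ →
        Subgroup.normalizer ((((P : Subgroup ↥(Cfsg.typeCore M)).map (Cfsg.typeCore M).subtype : Subgroup G)) : Set G) ≤ M) ∧
      (Nat.card (Cfsg.fittingHallOf M)).Coprime (Cfsg.fittingHallOf M).index ∧
      (Nat.card (Cfsg.typeCore M)).Coprime (Cfsg.typeCore M).index := by
  have hpl := fun (r : ℕ) [Fact r.Prime] (H : Subgroup G) hH => OddLocal.Sigma.pLengthLE_proper hG r H hH
  obtain ⟨⟨K, hK⟩, hcyc⟩ := OddLocal.Sigma.kappa_hall hG hpl hM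
  obtain ⟨U, hKU⟩ := OddLocal.Sigma.exists_decomp hG hpl hM (hcyc K hK) hK
  -- Hall subgroups of `M` inside `M_σ`
  have key : ∀ H : Subgroup G, H ≤ Cfsg.sigmaCore M → (Nat.card H).Coprime (H.relIndex M) →
      (∀ p : ℕ, p.Prime → ∀ P : Sylow p H, (P : Subgroup H) ≠ ⊥ →
        Subgroup.normalizer (((P : Subgroup H).map H.subtype : Subgroup G) : Set G) ≤ M) ∧
      (Nat.card H).Coprime H.index := by
    intro H hH hco
    have hHM := hH.trans (OddLocal.Sigma.sigmaCore_le M)
    have hσ : ∀ q : ℕ, q.Prime → q ∣ Nat.card H → q ∈ Cfsg.sigma M := fun q hq hd =>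
      OddLocal.Sigma.mem_sigma_of_dvd hq (hd.trans (Subgroup.card_dvd_of_le hH))
    have hndvd : ∀ q : ℕ, q.Prime → q ∣ Nat.card H → ¬ q ∣ H.index := by
      intro q hq hd hd'
      haveI := Fact.mk hq
      rw [← Subgroup.relIndex_mul_index hHM] at hd'
      rcases hq.dvd_mul.mp hd' with h' | h'
      · exact hq.not_dvd_one (hco.gcd_eq_one ▸ Nat.dvd_gcd hd h')
      · obtain ⟨S, hS, -⟩ := OddLocal.Sigma.exists_sylow_le (hσ q hq hd)
        exact S.not_dvd_index (h'.trans (Subgroup.index_dvd_of_le hS))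
    refine ⟨fun p hp P hP => ?_, Nat.coprime_of_dvd hndvd⟩
    haveI := Fact.mk hp
    have hd : p ∣ Nat.card H := by
      by_contra hn
      exact hP (Subgroup.eq_bot_of_card_eq _ (by
        rw [P.card_eq_multiplicity, Nat.factorization_eq_zero_of_not_dvd hn, pow_zero]))
    have hi : ¬ p ∣ ((P : Subgroup H).map H.subtype).index := by
      rw [Subgroup.index_map_subtype]
      intro h'
      rcases hp.dvd_mul.mp h' with h' | h'
      · exact P.not_dvd_index h'
      · exact hndvd p hp hd h'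
    exact OddLocal.Sigma.normalizer_sylow_le' hG (hσ p hp hd) ((P.isPGroup'.map H.subtype).toSylow hi)
      ((Subgroup.map_subtype_le _).trans hHM)
  have hF := key _ (OddLocal.Sigma.fittingHallOf_le_sigmaCore hG hpl hM) (OddLocal.coprime_fittingHallOf M)
  by_cases h : Cfsg.IsOfTypeIII M ∨ Cfsg.IsOfTypeIV M
  · have e : Cfsg.typeCore M = ⁅M, M⁆ := if_pos h
    rw [e]
    obtain ⟨hK1, hU, -⟩ := (Cfsg.Agent.S1382.result hG M hM K U hKU).mp h
    have hD := (OddLocal.Sigma.derived_eq_and_fixed_le hG hpl hM hKU hK1).1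
    rw [hU, bot_sup_eq] at hD
    have hD' := key ⁅M, M⁆ hD.le (by
      have h1 := OddLocal.Sigma.sigmaCore_hallOf hG hM
      rw [hD]
      exact Nat.coprime_of_dvd fun q hq a b => h1.2.2 q hq (h1.2.1 q hq a) b)
    exact ⟨hD'.1, hF.2, hD'.2⟩
  · have e : Cfsg.typeCore M = Cfsg.fittingHallOf M := if_neg h
    rw [e]
    exact ⟨hF.1, hF.2, hF.2⟩

end Cfsg.Agent.S1389
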