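import Cfsg.Statements.S1395
import Cfsg.Agent.Core.BG.Transitivity

set_option autoImplicit false
open Cfsg

namespace Cfsg.Agent.S1395

/-- Let G be a minimal simple group of odd order, A a subgroup satisfying the transitivity hypothesis with K = O_{π(A)'}(C_G(A)), q a prime not dividing the order of A, and P a proper subgroup all of whose prime divisors divide the order of A, containing A as a subnormal subgroup, such that any two maximal A-invariant q-subgroups are conjugate under K. Then (a) K ∩ C_G(P) = O_{π(A)'}(C_G(P)); (b) any two maximal P-invariant q-subgroups are conjugate under O_{π(A)'}(C_G(P)); (c) every maximal P-invariant q-subgroup is a maximal A-invariant q-subgroup; (d) for every maximal P-invariant q-subgroup Q, P ∩ N_G(P)' ≤ N_G(Q)' and N_G(P) is generated by O_{π(A)'}(C_G(P)) and N_G(P) ∩ N_G(Q). -/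
theorem result {G : Type*} [Group G] [Finite G] (hG : Cfsg.IsMinSimpleOddOrder G)
    (A : Subgroup G) (hA : Cfsg.TransitivityHypothesis A) (q : ℕ) (hq : q.Prime) (hqA : ¬ q ∣ Nat.card A)
    (P : Subgroup G) (hP : P ≠ ⊤) (hPπ : (∀ r : ℕ, r.Prime → r ∣ Nat.card P → r ∣ Nat.card A)) (hAP : A ≤ P) (hsn : (A.subgroupOf P).IsSubnormal)
    (htr : ∀ Q₁ ∈ Cfsg.maxInvSubgroups ⊤ A {q}, ∀ Q₂ ∈ Cfsg.maxInvSubgroups ⊤ A {q}, ∃ k ∈ Cfsg.piCoreOf (Cfsg.primesNotDvd (Nat.card A)) (Subgroup.centralizer (A : Set G)), Q₂ = Q₁.map (MulAut.conj k).toMonoidHom) :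
    Cfsg.piCoreOf (Cfsg.primesNotDvd (Nat.card A)) (Subgroup.centralizer (A : Set G)) ⊓ Subgroup.centralizer (P : Set G) = Cfsg.piCoreOf (Cfsg.primesNotDvd (Nat.card A)) (Subgroup.centralizer (P : Set G)) ∧
      (∀ Q₁ ∈ Cfsg.maxInvSubgroups ⊤ P {q}, ∀ Q₂ ∈ Cfsg.maxInvSubgroups ⊤ P {q}, ∃ k ∈ Cfsg.piCoreOf (Cfsg.primesNotDvd (Nat.card A)) (Subgroup.centralizer (P : Set G)), Q₂ = Q₁.map (MulAut.conj k).toMonoidHom) ∧
      Cfsg.maxInvSubgroups ⊤ P {q} ⊆ Cfsg.maxInvSubgroups ⊤ A {q} ∧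
      ∀ Q ∈ Cfsg.maxInvSubgroups ⊤ P {q},
        P ⊓ ⁅Subgroup.normalizer (P : Set G), Subgroup.normalizer (P : Set G)⁆ ≤ ⁅Subgroup.normalizer (Q : Set G), Subgroup.normalizer (Q : Set G)⁆ ∧
        Subgroup.normalizer (P : Set G) = Cfsg.piCoreOf (Cfsg.primesNotDvd (Nat.card A)) (Subgroup.centralizer (P : Set G)) ⊔ (Subgroup.normalizer (P : Set G) ⊓ Subgroup.normalizer (Q : Set G)) :=
  by
  obtain ⟨hPT, hset⟩ := Core.BG.transitivityHypothesis_overgroup hA hP hAP hPπ
  obtain ⟨hsub, hconj⟩ :=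
    Core.BG.descends_subnormal hG hA hq hqA htr (Nat.card P) P le_rfl hP hAP hsn hPπ
  rw [hset] at hconj
  have hCC : Subgroup.centralizer (P : Set G) ≤ Subgroup.centralizer (A : Set G) :=
    Subgroup.centralizer_le hAP
  refine ⟨le_antisymm ?_ ?_, hconj, hsub, fun Q hQ => ?_⟩
  · exact Core.BG.le_piCoreOf inf_le_right
      ((le_inf (hCC.trans (Core.BG.le_normalizer_piCoreOf _ _)) Subgroup.le_normalizer).trans
        Subgroup.inf_normalizer_le_normalizer_inf)
      ((Core.BG.isPiNat_piCoreOf _ _).of_dvd (Subgroup.card_dvd_of_le inf_le_left))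
  · exact le_inf (Core.BG.inv_le_K hG hA ((Core.BG.piCoreOf_le _ _).trans hCC) (Core.BG.isPiNat_piCoreOf _ _))
      (Core.BG.piCoreOf_le _ _)
  · refine Core.BG.normalizer_factorization (Core.BG.piCoreOf_le _ _) ?_ ?_ hQ.1.2.2 fun g hg => ?_
    · refine le_trans ?_ (Core.BG.normalizer_le_normalizer_piCoreOf _ _)
      intro n hn
      refine Coprime.mem_normalizer_of_conj_mem fun y hy => ?_
      rw [Coprime.mem_centralizer_iff_conj] at hy ⊢
      intro a ha
      have h1 : n⁻¹ * a * n ∈ P := (Subgroup.mem_normalizer_iff.mp hn _).mpr (by simpa [mul_assoc] using ha)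
      calc n * y * n⁻¹ * a * (n * y * n⁻¹)⁻¹ = n * (y * (n⁻¹ * a * n) * y⁻¹) * n⁻¹ := by group
        _ = a := by rw [hy _ h1]; group
    · exact Core.BG.coprime_of_isPiNat (by rw [hset]; exact Core.BG.isPiNat_piCoreOf _ _)
    · obtain ⟨k, hk, hke⟩ := hconj Q hQ _ (Core.BG.conj_maxInv hq hg hQ)
      refine ⟨k, hk, Subgroup.mem_normalizer_iff_map_conj_eq.mpr ?_⟩
      refine (Components.map_conj_map_conj Q g k⁻¹).symm.trans ?_
      rw [hke, Components.map_conj_map_conj, inv_mul_cancel, Core.BG.conj_one_map]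

end Cfsg.Agent.S1395
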