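import Cfsg.Statements.S1396
import Cfsg.Agent.Core.BG.Transitivity

set_option autoImplicit false
open Cfsg

namespace Cfsg.Agent.S1396

/-- Let G be a minimal simple group of odd order, p a prime dividing the order of G and A an abelian p-subgroup. Suppose either (1) A consists exactly of the elements x of C_G(A) with x^p = 1, and every proper subgroup of G has p-length at most one, or (2) A is normal and self-centralizing in some Sylow p-subgroup of G and has rank at least 2. Then A satisfies the transitivity hypothesis. -/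
theorem result {G : Type*} [Group G] [Finite G] (hG : Cfsg.IsMinSimpleOddOrder G)
    (p : ℕ) [Fact p.Prime] (hp : p ∣ Nat.card G) (A : Subgroup G) (hAp : IsPGroup p A) (hAc : IsMulCommutative A)
    (h : (∀ x ∈ Subgroup.centralizer (A : Set G), x ^ p = 1 ↔ x ∈ A) ∧ (∀ H : Subgroup G, H ≠ ⊤ → Cfsg.PLengthLE p 1 H) ∨
      ∃ P : Sylow p G, Cfsg.IsSCN (P : Subgroup G) A ∧ ¬ Cfsg.PRankLE p 1 A) :
    Cfsg.TransitivityHypothesis A :=
  by
  have hAp' := hAp
  rcases h with ⟨hΩ, -⟩ | ⟨P, hscn, hr⟩
  · refine Core.BG.transitivityHypothesis_of_full hG hp hAp ?_ fun x hx hxp => (hΩ x hx).mp hxp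
    intro h0
    subst h0
    obtain ⟨g, hg⟩ := exists_prime_orderOf_dvd_card' p hp
    have hgC : g ∈ Subgroup.centralizer ((⊥ : Subgroup G) : Set G) :=
      Subgroup.mem_centralizer_iff.mpr fun y hy => by
        rw [Subgroup.mem_bot.mp hy, one_mul, mul_one]
    have := Subgroup.mem_bot.mp ((hΩ g hgC).mp (hg ▸ pow_orderOf_eq_one g))
    rw [this, orderOf_one] at hg
    exact (Fact.out : p.Prime).one_lt.ne hg
  · refine Core.BG.transitivityHypothesis_of_full hG hp hAp ?_ fun x hx hxp =>
      OddChar.mem_of_mem_centralizer_pElement P hscn.2.1 hscn.2.2 hx ⟨1, by rw [pow_one]; exact hxp⟩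
    intro h0
    subst h0
    refine hr fun B _ _ => ?_
    have h1 : Nat.card B ≤ Nat.card (⊥ : Subgroup G) := Subgroup.card_le_card_group B
    rw [Subgroup.card_bot] at h1
    exact h1.trans (Nat.one_le_pow _ _ (Fact.out : p.Prime).pos)

end Cfsg.Agent.S1396
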