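import Cfsg.Statements.S1425
import Cfsg.Agent.OddLocal.Sigma.SigmaConj
import Cfsg.Agent.OddLocal.Sigma.PLengthProper

set_option autoImplicit false
open Cfsg

namespace Cfsg.Agent.S1425

/-- Let G be a minimal simple group of odd order, M a maximal subgroup and Y a nontrivial subgroup of G all of whose prime divisors lie in σ(M). Then gYg⁻¹ ≤ M_σ for some g ∈ G. -/
theorem result {G : Type*} [Group G] [Finite G] (hG : Cfsg.IsMinSimpleOddOrder G)
    (M : Subgroup G) (hM : IsCoatom M) (Y : Subgroup G) (hY1 : Y ≠ ⊥) (hY : ∀ p : ℕ, p.Prime → p ∣ Nat.card Y → p ∈ Cfsg.sigma M) :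
    ∃ g : G, Y.map (MulAut.conj g).toMonoidHom ≤ Cfsg.sigmaCore M := by
  have hpl := fun (r : ℕ) [Fact r.Prime] (H : Subgroup G) hH => OddLocal.Sigma.pLengthLE_proper hG r H hH
  obtain ⟨g, hg⟩ := OddLocal.Sigma.exists_cj_le_of_sigma hG hpl hM hY1 hY
  exact ⟨g, OddLocal.Sigma.le_sigmaCore hG hM hg (fun q hq hd => hY q hq (by rwa [OddLocal.Sigma.card_cj] at hd))⟩

end Cfsg.Agent.S1425
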