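import Cfsg.Statements.S1429
import Cfsg.Agent.OddLocal.Sigma.KappaTau2
import Cfsg.Agent.OddLocal.Sigma.PLengthProper

set_option autoImplicit false
open Cfsg

namespace Cfsg.Agent.S1429

/-- Let G be a minimal simple group of odd order and M a maximal subgroup such that κ(M) is not the whole of the primes of M outside σ(M) (M is not of type P₁). Let p divide the order of M with p ∉ σ(M) ∪ κ(M), S a Sylow p-subgroup of M, and A the subgroup generated by the elements of S of order dividing p. Then A has order at most p ^ 2, M_σ ∩ C_G(A) = 1, and M_σ is nilpotent. -/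
theorem result {G : Type*} [Group G] [Finite G] (hG : Cfsg.IsMinSimpleOddOrder G)
    (M : Subgroup G) (hM : IsCoatom M) (hP1 : ¬ (∀ q : ℕ, q.Prime → q ∣ Nat.card M → q ∉ Cfsg.sigma M → q ∈ Cfsg.kappa M))
    (p : ℕ) [Fact p.Prime] (hpM : p ∣ Nat.card M) (hp : p ∉ Cfsg.sigma M ∪ Cfsg.kappa M) (S : Sylow p M) :
    Nat.card ↥(Subgroup.closure {x : G | x ∈ (S : Subgroup M).map M.subtype ∧ x ^ p = 1}) ≤ p ^ 2 ∧
      Cfsg.sigmaCore M ⊓ Subgroup.centralizer ((Subgroup.closure {x : G | x ∈ (S : Subgroup M).map M.subtype ∧ x ^ p = 1} : Subgroup G) : Set G) = ⊥ ∧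
      Group.IsNilpotent (Cfsg.sigmaCore M) := by
  have hpl := fun (r : ℕ) [Fact r.Prime] (H : Subgroup G) hH => OddLocal.Sigma.pLengthLE_proper hG r H hH
  have hp' : p ∉ Cfsg.sigma M := fun h => hp (Or.inl h)
  have hpκ : p ∉ Cfsg.kappa M := fun h => hp (Or.inr h)
  set S' := (S : Subgroup M).map M.subtype with hS'
  have hS'M : S' ≤ M := Subgroup.map_subtype_le _
  haveI := OddLocal.Sigma.isMulCommutative_sylow_of_notMem_sigma hG hpl hM hp' S
  have hcomm : ∀ {a b : G}, a ∈ S' → b ∈ S' → Commute a b := by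
    rintro _ _ ⟨a, ha, rfl⟩ ⟨b, hb, rfl⟩
    exact congrArg (fun z : (S : Subgroup M) => ((z : M) : G))
      (IsMulCommutative.is_comm.comm (⟨a, ha⟩ : (S : Subgroup M)) ⟨b, hb⟩)
  set W : Subgroup G := Subgroup.closure {x : G | x ∈ S' ∧ x ^ p = 1}
  let Ω : Subgroup G :=
    { carrier := {x | x ∈ S' ∧ x ^ p = 1}
      one_mem' := ⟨one_mem _, one_pow p⟩
      mul_mem' := fun {a b} ha hb => ⟨mul_mem ha.1 hb.1, by rw [(hcomm ha.1 hb.1).mul_pow, ha.2, hb.2, mul_one]⟩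
      inv_mem' := fun {a} ha => ⟨inv_mem ha.1, by rw [inv_pow, ha.2, inv_one]⟩ }
  have hW : W = Ω := le_antisymm ((Subgroup.closure_le Ω).mpr fun x hx => hx)
    fun x hx => Subgroup.subset_closure hx
  have hea : Cfsg.IsElementaryAbelian p Ω :=
    ⟨⟨⟨fun a b => Subtype.ext (hcomm a.2.1 b.2.1)⟩⟩, fun a ha => ha.2⟩
  obtain ⟨v, hv⟩ := exists_prime_orderOf_dvd_card' p hpM
  have hQ0 : Nat.card (Subgroup.zpowers (v : G)) = p := by rw [Nat.card_zpowers, Subgroup.orderOf_coe, hv]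
  obtain ⟨m, hm, hQS⟩ := OddLocal.Sigma.exists_conj_zpowers_le hG S hQ0 (Subgroup.zpowers_le.mpr v.2)
  set Q := OddLocal.Sigma.cj m (Subgroup.zpowers (v : G))
  have hQ : Nat.card Q = p := by rw [OddLocal.Sigma.card_cj, hQ0]
  have hQΩ : Q ≤ Ω := fun x hx => ⟨hQS hx, OddLocal.Sigma.pow_card_prime_eq_one hQ hx⟩
  have hQM : Q ≤ M := hQS.trans hS'M
  have hrest : p ∉ Cfsg.tau2 M → Cfsg.sigmaCore M ⊓ Subgroup.centralizer (Q : Set G) = ⊥ := fun h2 => by
    by_contra hne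
    rcases OddLocal.Sigma.fixed_classes hG hpl hM hQ hQM hp' hne with h | h
    exacts [hpκ h, h2 h]
  rw [hW]
  refine ⟨?_, ?_, ?_⟩
  · by_contra hlt
    exact OddLocal.Sigma.not_pRankLE_of_ea hea (fun x hx => hS'M hx.1) (not_le.mp hlt)
      (OddLocal.Sigma.pRankLE_two_of_notMem_sigma hG hM Fact.out hp')
  · by_cases h2 : p ∈ Cfsg.tau2 M
    · obtain ⟨A, hAM, hAe, hA2⟩ := OddLocal.Sigma.exists_ea_sq_of_rank h2.2.2.1 h2.2.2.2
      obtain ⟨T, hT⟩ := OddLocal.Sigma.exists_sylow_map_ge (Components.ea_isPGroup hAe) hAM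
      obtain ⟨m', hm'⟩ := MulAction.exists_smul_eq M T S
      have hA' : OddLocal.Sigma.cj (m' : G) A ≤ S' := by
        rw [hS', ← hm', Sylow.coe_subgroup_smul, Core.conj_smul_eq_map]
        rintro _ ⟨x, hx, rfl⟩
        obtain ⟨y, hy, rfl⟩ := hT hx
        exact ⟨m' * y * m'⁻¹, ⟨y, hy, rfl⟩, rfl⟩
      have hA'e : Cfsg.IsElementaryAbelian p (OddLocal.Sigma.cj (m' : G) A) := PLocal.isEA_map hAe _
      obtain ⟨A0, hexc⟩ := OddLocal.Sigma.exists_exc hG hpl hM hp' (hA'.trans hS'M) hA'e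
        (by rw [OddLocal.Sigma.card_cj, hA2])
      rw [eq_bot_iff, ← hexc.inf_centralizer_eq_bot hG hpl]
      exact inf_le_inf_left _ (Subgroup.centralizer_le fun x hx => ⟨hA' hx, hA'e.2 x hx⟩)
    · rw [eq_bot_iff, ← hrest h2]
      exact inf_le_inf_left _ (Subgroup.centralizer_le hQΩ)
  · by_cases h2 : p ∈ Cfsg.tau2 M
    · obtain ⟨A, hAM, hAe, hA2⟩ := OddLocal.Sigma.exists_ea_sq_of_rank h2.2.2.1 h2.2.2.2
      exact (OddLocal.Sigma.tau2_facts hG hpl hM h2 ⟨hAM, hAe, hA2⟩).1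
    · obtain ⟨π, hπ, hπ1⟩ := Q.bot_or_exists_ne_one.resolve_left (OddLocal.Sigma.ne_bot_of_card_prime hQ)
      refine Core.BG.isNilpotent_of_fpf_prime Fact.out
        (orderOf_eq_prime (OddLocal.Sigma.pow_card_prime_eq_one hQ hπ) hπ1)
        (OddLocal.Sigma.le_normalizer_sigmaCore M (hQM hπ)) ?_
      rw [OddLocal.Sigma.centralizer_singleton_eq (OddLocal.Sigma.zpowers_eq_of_card_prime hQ hπ hπ1)]
      exact hrest h2

end Cfsg.Agent.S1429
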