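import Cfsg.Statements.S1430
import Cfsg.Agent.OddLocal.Sigma.KappaTau2
import Cfsg.Agent.OddLocal.Sigma.PLengthProper

set_option autoImplicit false
open Cfsg

namespace Cfsg.Agent.S1430

/-- Let G be a minimal simple group of odd order, M a maximal subgroup, K ≠ 1 a Hall κ(M)-subgroup of M and K* = M_σ ∩ C_G(K). Then M_σ ∩ C_G(k) = K* for every non-identity k ∈ K; there is an abelian subgroup U of M, a Hall subgroup of M for the primes outside κ(M) ∪ σ(M), normalized by K with U ∩ C_G(k) = 1 for all non-identity k ∈ K; and for every subgroup X ≤ K of prime order, M ∩ N_G(X) = M ∩ N_G(K) = K ⊔ K*, and X ≤ M*_σ for every maximal subgroup M* containing N_G(X). -/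
theorem result {G : Type*} [Group G] [Finite G] (hG : Cfsg.IsMinSimpleOddOrder G)
    (M : Subgroup G) (hM : IsCoatom M) (K : Subgroup G) (hK : Cfsg.IsPiHallOf (Cfsg.kappa M) K M) (hK1 : K ≠ ⊥) :
    (∀ k ∈ K, k ≠ 1 → Cfsg.sigmaCore M ⊓ Subgroup.centralizer ({k} : Set G) = (Cfsg.sigmaCore M ⊓ Subgroup.centralizer (K : Set G))) ∧
      (∃ U : Subgroup G, IsMulCommutative U ∧ Cfsg.IsPiHallOf {q | q.Prime ∧ q ∉ Cfsg.kappa M ∧ q ∉ Cfsg.sigma M} U M ∧
        K ≤ Subgroup.normalizer (U : Set G) ∧ ∀ k ∈ K, k ≠ 1 → U ⊓ Subgroup.centralizer ({k} : Set G) = ⊥) ∧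
      ∀ X : Subgroup G, X ≤ K → (Nat.card X).Prime →
        M ⊓ Subgroup.normalizer (X : Set G) = K ⊔ (Cfsg.sigmaCore M ⊓ Subgroup.centralizer (K : Set G)) ∧ M ⊓ Subgroup.normalizer (K : Set G) = K ⊔ (Cfsg.sigmaCore M ⊓ Subgroup.centralizer (K : Set G)) ∧
        ∀ Mstar : Subgroup G, IsCoatom Mstar → Subgroup.normalizer (X : Set G) ≤ Mstar → X ≤ Cfsg.sigmaCore Mstar := by
  have hpl := fun (r : ℕ) [Fact r.Prime] (H : Subgroup G) hH => OddLocal.Sigma.pLengthLE_proper hG r H hH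
  obtain ⟨heq, -, hP, hk⟩ := OddLocal.Sigma.kappa_hall_facts hG hpl hM hK hK1
  obtain ⟨E, hE, hKE⟩ := OddLocal.Sigma.exists_compl_ge hG hM hK.1 (fun q hq hd => (hK.2.1 q hq hd).2.2.1)
  obtain ⟨U, -, hEU, hUc, hUH, -, -, hreg⟩ :=
    OddLocal.Sigma.exists_normal_kappa_compl hG hpl hM hK hK1 hE hKE
  refine ⟨hk, ⟨U, hUc, hUH, hKE.trans hEU, hreg⟩, fun X hXK hXp => ?_⟩
  haveI := Fact.mk hXp
  have hpt : Nat.card X ∈ Cfsg.tau1 M := heq ▸ hK.2.1 _ hXp (Subgroup.card_dvd_of_le hXK)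
  obtain ⟨π, hπ, hπ1⟩ := X.bot_or_exists_ne_one.resolve_left (OddLocal.Sigma.ne_bot_of_card_prime rfl)
  have hC := OddLocal.Sigma.inf_centralizer_kappa hG hpl hM hK (hXK hπ) hπ1
  haveI hKc := (OddLocal.Sigma.kappa_hall hG hpl hM).2 K hK
  have hsub : K ⊔ (Cfsg.sigmaCore M ⊓ Subgroup.centralizer (K : Set G)) ≤
      M ⊓ Subgroup.centralizer (K : Set G) := by
    refine sup_le (le_inf hK.1 ?_) (le_inf (inf_le_left.trans (OddLocal.Sigma.sigmaCore_le M)) inf_le_right)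
    exact Subgroup.le_centralizer_iff_isMulCommutative.mpr ⟨⟨fun a b => by
      letI := IsCyclic.commGroup (α := K)
      exact mul_comm a b⟩⟩
  have hNX : M ⊓ Subgroup.normalizer (X : Set G) = K ⊔ (Cfsg.sigmaCore M ⊓ Subgroup.centralizer (K : Set G)) := by
    refine le_antisymm ?_ (le_inf (hsub.trans inf_le_left) ((hsub.trans inf_le_right).trans
      ((Subgroup.centralizer_le hXK).trans (Subgroup.centralizer_le_normalizer _))))
    rintro g ⟨hgM, hgN⟩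
    refine hC.le (Subgroup.mem_inf.mpr ⟨hgM, Subgroup.mem_centralizer_singleton_iff.mpr ?_⟩)
    have h1 : g * π * g⁻¹ * π⁻¹ ∈ X :=
      mul_mem ((Subgroup.mem_normalizer_iff.mp hgN π).mp hπ) (inv_mem hπ)
    have h2 : g * π * g⁻¹ * π⁻¹ ∈ ⁅M, M⁆ := Subgroup.commutator_mem_commutator hgM (hK.1 (hXK hπ))
    by_contra hne
    refine hpt.2.2.2.1 (Subgroup.card_dvd_of_le
      (OddLocal.Sigma.le_of_mem_generator rfl h1 (fun e => hne ?_) h2))
    exact mul_inv_eq_iff_eq_mul.mp (mul_inv_eq_one.mp e)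
  refine ⟨hNX, le_antisymm ?_ (le_inf (hsub.trans inf_le_left) ((hsub.trans inf_le_right).trans
    (Subgroup.centralizer_le_normalizer _))), fun Mstar hMs hN => ?_⟩
  · refine le_trans (inf_le_inf_left _ fun g hg => ?_) hNX.le
    exact OddLocal.Sigma.cj_eq_iff.mp (OddLocal.eq_of_card_eq_of_isCyclic hKc
      ((OddLocal.Sigma.cj_mono hXK).trans (OddLocal.Sigma.cj_eq_iff.mpr hg).le) hXK (OddLocal.Sigma.card_cj _ _))
  · have hne := (OddLocal.Sigma.kappa_facts hG hpl hM (heq.symm ▸ hpt)).2 X (hXK.trans hK.1) rfl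
    exact OddLocal.Sigma.le_sigmaCore hG hMs (Subgroup.le_normalizer.trans hN) (OddLocal.Sigma.mem_of_pGroup
      (OddLocal.Sigma.isPGroup_of_card_prime rfl)
      (OddLocal.Sigma.tau1_nonregular_mem_sigma hG hpl hM hMs hpt rfl (hXK.trans hK.1) hne hN))

end Cfsg.Agent.S1430
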