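import Cfsg.Statements.S1431
import Cfsg.Agent.OddLocal.Sigma.PartnerRows
import Cfsg.Agent.OddLocal.Sigma.PLengthProper

set_option autoImplicit false
open Cfsg

namespace Cfsg.Agent.S1431

/-- Let G be a minimal simple group of odd order, M a maximal subgroup, K ≠ 1 a Hall κ(M)-subgroup of M and K* = M_σ ∩ C_G(K). Then K* ∩ gMg⁻¹ = 1 for g ∉ M; K ∩ gKg⁻¹ = 1 for g ∈ M outside K K*; for every prime p dividing the order of K* and every Sylow p-subgroup S of M_σ, M is the unique maximal subgroup containing S, and S is not contained in K*; and every subgroup Y of G whose prime divisors lie in σ(M) and with Y ∩ K* ≠ 1 is contained in M_σ. -/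
theorem result {G : Type*} [Group G] [Finite G] (hG : Cfsg.IsMinSimpleOddOrder G)
    (M : Subgroup G) (hM : IsCoatom M) (K : Subgroup G) (hK : Cfsg.IsPiHallOf (Cfsg.kappa M) K M) (hK1 : K ≠ ⊥) :
    (∀ g : G, g ∉ M → (Cfsg.sigmaCore M ⊓ Subgroup.centralizer (K : Set G)) ⊓ M.map (MulAut.conj g).toMonoidHom = ⊥) ∧
      (∀ g ∈ M, g ∉ K ⊔ (Cfsg.sigmaCore M ⊓ Subgroup.centralizer (K : Set G)) → K ⊓ K.map (MulAut.conj g).toMonoidHom = ⊥) ∧
      (∀ (p : ℕ), p.Prime → p ∣ Nat.card ↥(Cfsg.sigmaCore M ⊓ Subgroup.centralizer (K : Set G)) → ∀ S : Sylow p ↥(Cfsg.sigmaCore M),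
        Cfsg.InUniqueMaximal ((S : Subgroup ↥(Cfsg.sigmaCore M)).map (Cfsg.sigmaCore M).subtype) ∧
        (S : Subgroup ↥(Cfsg.sigmaCore M)).map (Cfsg.sigmaCore M).subtype ≤ M ∧
        ¬ (S : Subgroup ↥(Cfsg.sigmaCore M)).map (Cfsg.sigmaCore M).subtype ≤ (Cfsg.sigmaCore M ⊓ Subgroup.centralizer (K : Set G))) ∧
      ∀ Y : Subgroup G, (∀ p : ℕ, p.Prime → p ∣ Nat.card Y → p ∈ Cfsg.sigma M) → Y ⊓ (Cfsg.sigmaCore M ⊓ Subgroup.centralizer (K : Set G)) ≠ ⊥ → Y ≤ Cfsg.sigmaCore M := by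
  have hpl := fun (r : ℕ) [Fact r.Prime] (H : Subgroup G) hH => OddLocal.Sigma.pLengthLE_proper hG r H hH
  obtain ⟨L, hL⟩ := OddLocal.Sigma.exists_partner hG hpl hM hK hK1
  refine ⟨fun g hg => ?_, fun g hg hgZ => OddLocal.Sigma.IsPartner.inf_conj_kappa hG hpl hM hK hg hgZ,
    fun t ht htd S => ?_, fun Y hY hne => ?_⟩
  · by_contra hne
    obtain ⟨y, hy, hy1⟩ := (Subgroup.bot_or_exists_ne_one _).resolve_left hne
    obtain ⟨t, ht, -, X, hX, hXy⟩ := OddLocal.Sigma.exists_prime_le_zpowers hy1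
    haveI := Fact.mk ht
    have hXK : X ≤ Cfsg.sigmaCore M ⊓ Subgroup.centralizer (K : Set G) :=
      hXy.trans (Subgroup.zpowers_le.mpr (Subgroup.mem_inf.mp hy).1)
    exact hg (OddLocal.Sigma.mem_of_fixed_le_cj hG hpl hM hX (hXK.trans inf_le_left) (hL.onlyX t X hX hXK).1
      (hXy.trans (Subgroup.zpowers_le.mpr (Subgroup.mem_inf.mp hy).2)))
  · haveI := Fact.mk ht
    obtain ⟨x₀, hx₀⟩ := exists_prime_orderOf_dvd_card' t htd
    have hX : Nat.card (Subgroup.zpowers (x₀ : G)) = t := by rw [Nat.card_zpowers, Subgroup.orderOf_coe, hx₀]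
    have hXK : Subgroup.zpowers (x₀ : G) ≤ Cfsg.sigmaCore M ⊓ Subgroup.centralizer (K : Set G) :=
      Subgroup.zpowers_le.mpr x₀.2
    obtain ⟨p, hp, hpK⟩ := Nat.exists_prime_and_dvd fun e => hK1 (Subgroup.eq_bot_of_card_eq _ e)
    haveI := Fact.mk hp
    obtain ⟨π₀, hπ₀⟩ := exists_prime_orderOf_dvd_card' p hpK
    have hP : Nat.card (Subgroup.zpowers (π₀ : G)) = p := by rw [Nat.card_zpowers, Subgroup.orderOf_coe, hπ₀]
    have hPK : Subgroup.zpowers (π₀ : G) ≤ K := Subgroup.zpowers_le.mpr π₀.2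
    have hpt : p ∈ Cfsg.tau1 M := OddLocal.Sigma.kappa_subset_tau1 hG hpl hM (hK.2.1 p hp hpK)
    have htσ : t ∈ Cfsg.sigma M := OddLocal.Sigma.mem_sigma_of_dvd ht
      (htd.trans (Subgroup.card_dvd_of_le inf_le_left))
    obtain ⟨T, hT⟩ := OddLocal.Sigma.exists_sylow_eq_map hG hpl hM htσ S
    rw [← hT]
    refine ⟨(OddLocal.Sigma.sigma_order_p hG hpl hM htσ (hXK.trans (inf_le_left.trans
      (OddLocal.Sigma.sigmaCore_le M))) hX (OddLocal.Sigma.beta_or_derived hG hpl hM hpt hP (hPK.trans hK.1) hX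
      (hXK.trans (inf_le_inf_left _ (Subgroup.centralizer_le hPK))))).2 T, ?_,
      hL.sylow_not_le hG hpl hM hK hK1 T htd⟩
    rw [hT]
    exact (Subgroup.map_subtype_le _).trans (OddLocal.Sigma.sigmaCore_le M)
  · obtain ⟨y, hy, hy1⟩ := (Subgroup.bot_or_exists_ne_one _).resolve_left hne
    obtain ⟨t, ht, -, X, hX, hXy⟩ := OddLocal.Sigma.exists_prime_le_zpowers hy1
    haveI := Fact.mk ht
    obtain ⟨g, hg⟩ := OddLocal.Sigma.exists_cj_le_of_sigma hG hpl hM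
      (fun e => hy1 (Subgroup.mem_bot.mp (e ▸ (Subgroup.mem_inf.mp hy).1))) hY
    have hXK : X ≤ Cfsg.sigmaCore M ⊓ Subgroup.centralizer (K : Set G) :=
      hXy.trans (Subgroup.zpowers_le.mpr (Subgroup.mem_inf.mp hy).2)
    have hgM := OddLocal.Sigma.mem_of_fixed_le_cj hG hpl hM hX (hXK.trans inf_le_left) (hL.onlyX t X hX hXK).1
      ((hXy.trans (Subgroup.zpowers_le.mpr (Subgroup.mem_inf.mp hy).1)).trans (OddLocal.Sigma.cj_le_iff.mp hg))
    refine OddLocal.Sigma.le_sigmaCore hG hM ?_ hY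
    refine (OddLocal.Sigma.cj_le_iff.mp hg).trans ?_
    rw [OddLocal.Sigma.cj_eq_iff.mpr (Subgroup.le_normalizer hgM)]

end Cfsg.Agent.S1431
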