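import Cfsg.Statements.S1481
import Cfsg.Agent.Core.BG.Bender

set_option autoImplicit false
open Cfsg

namespace Cfsg.Agent.S1481

/-- Let G be a finite group and H a local subgroup (the normalizer of a nontrivial subgroup of prime-power order) not properly contained in any local subgroup; let F = F(H), suppose at least two primes divide #F, put X = H ∩ C_G(F), let M ≤ F with F ∩ C_G(M) ≤ M, and let R be a solvable subgroup normalized by M and by X. Then for every prime q not dividing #F there is exactly one maximal M-invariant q-subgroup of R, and it is a Sylow q-subgroup of the largest normal subgroup of R of order coprime to #F. -/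
theorem result {G : Type*} [Group G] [Finite G] (H : Subgroup G) (hH : Cfsg.IsLocalSubgroup H) (hHmax : ∀ L : Subgroup G, Cfsg.IsLocalSubgroup L → H ≤ L → L = H)
    (hF2 : 2 ≤ (Nat.card (Cfsg.fittingOf H)).primeFactors.card)
    (M : Subgroup G) (hM : M ≤ Cfsg.fittingOf H) (hCM : Cfsg.fittingOf H ⊓ Subgroup.centralizer (M : Set G) ≤ M)
    (R : Subgroup G) (hR : Group.IsSolvable R) (hMR : M ≤ Subgroup.normalizer (R : Set G))
    (hXR : H ⊓ Subgroup.centralizer (Cfsg.fittingOf H : Set G) ≤ Subgroup.normalizer (R : Set G))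
    (q : ℕ) [Fact q.Prime] (hq : ¬ q ∣ Nat.card (Cfsg.fittingOf H)) :
    ∃! Q : Subgroup G, Q ∈ Cfsg.maxInvSubgroups R M {q} ∧
      (∀ Q' : Subgroup G, Q' ∈ Cfsg.maxInvSubgroups R M {q} →
        Q' ≤ Cfsg.piCoreOf (Cfsg.primesNotDvd (Nat.card (Cfsg.fittingOf H))) R ∧
        ¬ q ∣ Q'.relIndex (Cfsg.piCoreOf (Cfsg.primesNotDvd (Nat.card (Cfsg.fittingOf H))) R)) := by
  set F := Cfsg.fittingOf H with hF
  set π := Cfsg.primesNotDvd (Nat.card F)
  have hq' : q.Prime := Fact.out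
  have hCZ : ∀ r : ℕ, r.Prime → r ∣ Nat.card F →
      Subgroup.centralizer (Core.BG.fitCenter r H : Set G) ≤ H := fun r hr hrF =>
    (Subgroup.centralizer_le_normalizer _).trans (hHmax _ ⟨r, _, hr, Core.BG.isPGroup_fitCenter hr H,
      Core.BG.fitCenter_ne_bot hr hrF, rfl⟩ (Core.BG.le_normalizer_fitCenter r H)).le
  set W := Cfsg.piCoreOf π R with hW
  have hMW : M ≤ Subgroup.normalizer (W : Set G) :=
    hMR.trans (Core.BG.normalizer_le_normalizer_piCoreOf π R)
  have hFn := Core.BG.isNilpotent_fittingOf H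
  have hMs : Group.IsSolvable M := by
    haveI := Core.isNilpotent_of_le hM hFn
    infer_instance
  have hcopW : (Nat.card M).Coprime (Nat.card W) :=
    Nat.Coprime.coprime_dvd_left (Subgroup.card_dvd_of_le hM)
      (Core.BG.coprime_of_isPiNat (Core.BG.isPiNat_piCoreOf π R))
  have hqπ : ∀ {Q : Subgroup G}, IsPGroup q Q → Core.IsPiNat π (Nat.card Q) :=
    fun hQ => Core.BG.isPiNat_of_pGroup hq' hq hQ
  have hle : ∀ Q' ∈ Cfsg.maxInvSubgroups R M {q}, Q' ≤ W ∧ ¬ q ∣ Q'.relIndex W := by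
    intro Q' hQ'
    have hQq := Core.BG.isPGroup_of_inv hq' hQ'.1
    have hQW : Q' ≤ W := Core.BG.le_piCoreOf_of_bender hCZ hF2 hM hCM hR hMR hXR hQ'.1.1 (hqπ hQq) hQ'.1.2.2
    obtain ⟨S, hQS, hSW, hS, hSi, hSM⟩ :=
      Core.exists_invariant_sylow_ge hMW (Or.inl hMs) hcopW hQW hQq hQ'.1.2.2
    refine ⟨hQW, ?_⟩
    rwa [← hQ'.2 S ⟨hSW.trans (Core.BG.piCoreOf_le π R), (Core.BG.inv_of_isPGroup hq' hS hSM).2.1, hSM⟩ hQS]
  have hfix : W ⊓ Subgroup.centralizer (M : Set G) = ⊥ := by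
    rw [Subgroup.eq_bot_iff_forall]
    rintro c ⟨hcW, hcM⟩
    obtain ⟨s, hs⟩ := Finset.card_pos.mp (by omega : 0 < (Nat.card F).primeFactors.card)
    obtain ⟨hs, hsF, -⟩ := Nat.mem_primeFactors.mp hs
    have hZM : Core.BG.fitCenter s H ≤ M := fun z hz =>
      hCM ⟨(Core.BG.fitCenter_le_center hs H hz).1,
        Subgroup.centralizer_le hM (Core.BG.fitCenter_le_center hs H hz).2⟩
    have hcH : c ∈ H := hCZ s hs hsF (Subgroup.centralizer_le hZM hcM)
    have hcop : (Nat.card (Subgroup.zpowers c)).Coprime (Nat.card F) := by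
      rw [Nat.card_zpowers]
      exact (Core.BG.coprime_of_isPiNat (Core.BG.isPiNat_piCoreOf π R)).symm.coprime_dvd_left
        (Subgroup.orderOf_dvd_natCard W hcW)
    have hMC : M ≤ F ⊓ Subgroup.centralizer (Subgroup.zpowers c : Set G) := le_inf hM
      (Subgroup.le_centralizer_iff.mp (Subgroup.zpowers_le.mpr hcM))
    have hcF := OddLocal.le_centralizer_of_selfCentralizing_fixed F (Subgroup.zpowers c) hFn
      ((Subgroup.zpowers_le.mpr hcH).trans (Core.BG.le_normalizer_fittingOf H)) hcop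
      ((inf_le_inf_left F (Subgroup.centralizer_le hMC)).trans (hCM.trans hMC))
    have hcFF : c ∈ F := Core.BG.le_fittingOf_of_normal_in_centralizer
      (Y := R ⊓ (H ⊓ Subgroup.centralizer (F : Set G))) inf_le_right
      ((le_inf hXR Subgroup.le_normalizer).trans Subgroup.inf_normalizer_le_normalizer_inf)
      (by haveI := hR; exact Group.isSolvable_of_isSolvable_injective (Subgroup.inclusion_injective inf_le_left))
      ⟨Core.BG.piCoreOf_le π R hcW, hcH, hcF (Subgroup.mem_zpowers c)⟩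
    exact orderOf_eq_one_iff.mp (Nat.eq_one_of_dvd_coprimes hcop
      (by rw [Nat.card_zpowers]) (Subgroup.orderOf_dvd_natCard F hcFF))
  obtain ⟨Q, -, hQmem, hQmax⟩ := (Set.toFinite (Cfsg.invSubgroups R M {q})).exists_le_maximal (a := ⊥)
    ⟨bot_le, fun r hr hrd => absurd (Subgroup.card_bot (G := G) ▸ hrd) hr.not_dvd_one,
      le_top.trans (Subgroup.normalizer_eq_top ⊥).ge⟩
  have hQm : Q ∈ Cfsg.maxInvSubgroups R M {q} := ⟨hQmem, fun Q'' h'' hle => le_antisymm (hQmax h'' hle) hle⟩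
  refine ⟨Q, ⟨hQm, hle⟩, fun Q₂ h₂ => ?_⟩
  obtain ⟨h1a, h1b⟩ := hle Q hQm
  obtain ⟨h2a, h2b⟩ := hle Q₂ h₂.1
  obtain ⟨c, hc, hce⟩ := Core.exists_conj_invariant_sylow hMW (Or.inl hMs) hcopW h1a h2a
    (Core.BG.isPGroup_of_inv hq' hQm.1) (Core.BG.isPGroup_of_inv hq' h₂.1.1) h1b h2b hQm.1.2.2 h₂.1.1.2.2
  rw [hfix, Subgroup.mem_bot] at hc
  rw [hc, Core.BG.conj_one_map] at hce
  exact hce.symm

end Cfsg.Agent.S1481
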