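import Cfsg.Statements.S1493
import Cfsg.Agent.OddChar.GaloisAut

set_option autoImplicit false
open Cfsg

namespace Cfsg.Agent.S1493

/-- Let G be a finite group of order a * b with a and b coprime, let k be coprime to a, and let χ be a character of G. Then there is a character χ' of G such that χ'(g) = χ(g ^ k) whenever the order of g divides a and χ'(g) = χ(g) whenever the order of g is coprime to a; moreover χ' is irreducible if χ is. -/
theorem result {G : Type*} [Group G] [Finite G] (a b k : ℕ) (hab : Nat.card G = a * b) (hcop : Nat.Coprime a b) (hk : Nat.Coprime k a) (χ : G → ℂ) (hχ : Cfsg.IsCharacter G χ) : ∃ χ' : G → ℂ, Cfsg.IsCharacter G χ' ∧ (Cfsg.IsIrrCharacter G χ → Cfsg.IsIrrCharacter G χ') ∧ (∀ g : G, orderOf g ∣ a → χ' g = χ (g ^ k)) ∧ (∀ g : G, Nat.Coprime (orderOf g) a → χ' g = χ g) := by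
  haveI := Fintype.ofFinite G
  obtain ⟨k', hka, hkb⟩ := Nat.chineseRemainder hcop k 1
  have hk'a : k'.Coprime a := by
    have := hka.gcd_eq
    rw [Nat.coprime_iff_gcd_eq_one, this]; exact hk
  have hk'b : k'.Coprime b := by
    have := hkb.gcd_eq
    rw [Nat.coprime_iff_gcd_eq_one, this]; exact Nat.gcd_one_left _
  obtain ⟨σ, hσ⟩ := OddChar.exists_aut_pow (N := Nat.card G) Nat.card_pos.ne'
    (k := k') (hab ▸ Nat.Coprime.mul_right hk'a hk'b)
  have hval : ∀ g, σ (χ g) = χ (g ^ k') := by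
    intro g
    obtain ⟨n, ρ, rfl⟩ := hχ
    obtain ⟨z, hz, hc, -, -⟩ := Chars.exists_eigenvalues ρ g
    have h1 := hc 1
    rw [pow_one] at h1
    rw [h1, hc k', map_sum]
    refine Finset.sum_congr rfl fun i _ => ?_
    rw [pow_one]
    refine hσ _ ?_
    obtain ⟨t, ht⟩ := orderOf_dvd_natCard g
    rw [ht, pow_mul, hz i, one_pow]
  refine ⟨fun g => σ (χ g), OddChar.isCharacter_map σ hχ, fun h => OddChar.isIrrCharacter_map σ h,
    fun g hg => ?_, fun g hg => ?_⟩
  · show σ (χ g) = _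
    rw [hval, pow_eq_pow_iff_modEq.mpr (hka.of_dvd hg)]
  · show σ (χ g) = _
    have hgb : orderOf g ∣ b := hg.dvd_of_dvd_mul_left (hab ▸ orderOf_dvd_natCard g)
    rw [hval, pow_eq_pow_iff_modEq.mpr (hkb.of_dvd hgb), pow_one]

end Cfsg.Agent.S1493
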