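import Cfsg.Statements.S1542
import Cfsg.Agent.S1500
import Cfsg.Agent.S1501
import Cfsg.Agent.S1514
import Cfsg.Agent.S1521
import Cfsg.Agent.S1524
import Cfsg.Agent.S1537
import Cfsg.Agent.OddChar.FrobSetup
import Cfsg.Agent.OddLocal.FPF

set_option autoImplicit false
open Cfsg

namespace Cfsg.Agent.S1542

open scoped Classical in
/-- Let G be a minimal simple group of odd order and L a maximal subgroup of Type I in which every non-identity element of H = L_F has its centraliser within L inside H. Let S be the set of functions on L induced from non-principal irreducible characters of H. Then every member of S is an irreducible character of L, and (S, L minus 1, τ) is coherent for τ the Dade map relative to A(L), L and a ↦ R(a). -/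
theorem result {G : Type*} [Group G] [Fintype G] (hG : Cfsg.IsMinSimpleOddOrder G) (L : Subgroup G) [Fintype L] (hL : IsCoatom L) (hI : Cfsg.IsOfTypeI L) (hfrob : ∀ x ∈ Cfsg.fittingHallOf L, x ≠ 1 → L ⊓ Subgroup.centralizer ({x} : Set G) ≤ Cfsg.fittingHallOf L) : (∀ χ ∈ Cfsg.inducedIrrAbove (Cfsg.fittingHall L) ⊥, Cfsg.IsIrrCharacter L χ) ∧ Cfsg.IsCoherent (Cfsg.inducedIrrAbove (Cfsg.fittingHall L) ⊥) {1}ᶜ (Cfsg.dadeIsometry (Cfsg.typeA L) L (Cfsg.supportR L)) := by
  set K : Subgroup L := Cfsg.fittingHall L with hKdef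
  obtain ⟨hKnil, hKhall⟩ := OddLocal.fittingHall_props L
  obtain ⟨⟨-, hoddL, hK1, hKtop, -⟩, hcases⟩ := id hI
  haveI := hKnil
  have hmem : ∀ x : L, (x : G) ∈ Cfsg.fittingHallOf L ↔ x ∈ K := fun x =>
    Subgroup.mem_map_iff_mem L.subtype_injective
  have hC : ∀ k ∈ K, k ≠ 1 → Subgroup.centralizer ({k} : Set L) ≤ K := by
    intro k hk hk1 x hx
    refine (hmem x).mp (hfrob k ((hmem k).mpr hk) (fun e => hk1 (Subtype.ext e)) ⟨x.2, ?_⟩)
    exact Subgroup.mem_centralizer_singleton_iff.mpr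
      (congrArg Subtype.val (Subgroup.mem_centralizer_singleton_iff.mp hx))
  have hA : ∀ a : G, a ∈ Cfsg.typeA L ↔ a ∈ Cfsg.fittingHallOf L ∧ a ≠ 1 := by
    intro a
    rw [Cfsg.typeA, if_pos hI]
    constructor
    · rintro ⟨haL, ha1, x, hx, hx1, hc⟩
      exact ⟨hfrob x hx hx1 ⟨haL, Subgroup.mem_centralizer_singleton_iff.mpr hc⟩, ha1⟩
    · rintro ⟨ha, ha1⟩
      exact ⟨Subgroup.map_subtype_le _ ha, ha1, a, ha, ha1, rfl⟩
  obtain ⟨hNA, hD⟩ := Cfsg.Agent.S1537.result hG L hL (Cfsg.typeA L) (Or.inr (Or.inl rfl))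
  set S := Cfsg.inducedIrrAbove K ⊥ with hS
  have hirr : ∀ χ ∈ S, Cfsg.IsIrrCharacter L χ := by
    rintro χ ⟨θ, hθ, hne, -, rfl⟩
    exact OddChar.frob_ind_irr hC hθ hne
  refine ⟨hirr, ?_⟩
  set τ := Cfsg.dadeIsometry (Cfsg.typeA L) L (Cfsg.supportR L) with hτdef
  have hgen : ∀ α ∈ Cfsg.zspan S, Cfsg.IsGeneralizedCharacter L α := fun α hα =>
    OddChar.virt_of_mem_zspan (fun φ hφ => OddChar.virt_of_irr (hirr φ hφ)) hα
  have hsupp : ∀ α ∈ Cfsg.zspanOn S {1}ᶜ, ∀ x : L, (x : G) ∉ Cfsg.typeA L → α x = 0 := by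
    intro α hα x hx
    obtain ⟨h1, h2⟩ := OddChar.mem_zspanOn_one.mp hα
    by_cases hxK : x ∈ K
    · by_cases hx1 : x = 1
      · rw [hx1]; exact h2
      · exact absurd ((hA x).mpr ⟨(hmem x).mpr hxK, fun e => hx1 (Subtype.ext e)⟩) hx
    · exact OddChar.indAbove_vanish_outside h1 hxK
  have hone : (1 : G) ∉ OddChar.dadeSupport (Cfsg.typeA L) (Cfsg.supportR L) := by
    rintro ⟨a, ha, u, hu, y, hy⟩
    have h1 : a * u = 1 := by rw [← hy]; group
    have hai : a⁻¹ ∈ Cfsg.supportR L a := by rw [inv_eq_of_mul_eq_one_right h1]; exact hu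
    have hau : a ∈ Cfsg.supportR L a := inv_mem_iff.mp hai
    have hm : a ∈ Cfsg.supportR L a ⊓ (L ⊓ Subgroup.centralizer ({a} : Set G)) :=
      ⟨hau, OddChar.dade_self_mem hD ha⟩
    rw [hD.inf_eq_bot a ha, Subgroup.mem_bot] at hm
    exact hD.one_not_mem (hm ▸ ha)
  have hτ : Cfsg.IsLinearIsometryOn (Cfsg.zspanOn S {1}ᶜ) τ := by
    refine ⟨fun α _ β _ => ?_, fun α _ n => ?_, fun α hα β hβ => ?_, fun α hα => ?_⟩
    · funext g
      simp only [hτdef, Cfsg.dadeIsometry, Pi.add_apply]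
      split_ifs <;> simp
    · funext g
      simp only [hτdef, Cfsg.dadeIsometry, Pi.smul_apply]
      split_ifs <;> simp
    · exact (Cfsg.Agent.S1500.result _ L _ hD α (OddChar.virt_isClassFunction (hgen α hα.1)) (hsupp α hα)).1 β
        (OddChar.virt_isClassFunction (hgen β hβ.1)) (hsupp β hβ)
    · exact Cfsg.Agent.S1501.result _ L _ hD α (hgen α hα.1) (hsupp α hα)
  have hτ1 : ∀ α ∈ Cfsg.zspanOn S {1}ᶜ, τ α 1 = 0 := fun α _ => OddChar.dade_apply_of_notMem α hone
  have hlt : K < ⊤ := lt_top_iff_ne_top.mpr hKtop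
  obtain ⟨E, hE⟩ := Subgroup.exists_right_complement'_of_coprime hKhall
  have hfpf : OddLocal.FPF K E := fun e he he1 k hk hc => by
    by_contra hk1
    exact he1 (Subgroup.mem_bot.mp (hE.disjoint.eq_bot.le
      ⟨hC k hk hk1 (Subgroup.mem_centralizer_singleton_iff.mpr hc), he⟩))
  by_cases hTI : Cfsg.IsTISubset (Cfsg.fittingHallOf L : Set G)
  · -- induction and the Dade map agree
    have hN : Subgroup.normalizer (Cfsg.fittingHallOf L : Set G) = L := by
      obtain ⟨h₀, hh₀, hh₀1⟩ := (Subgroup.bot_or_exists_ne_one _).resolve_left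
        (OddLocal.Sigma.fittingHallOf_ne_bot hG (OddChar.Support.plen hG) hL)
      exact OddLocal.Sigma.normalizer_eq_of_invariant hG hL (Subgroup.map_subtype_le _) hh₀ hh₀1
        fun m hm v hv => (Subgroup.mem_normalizer_iff.mp
          (OddLocal.Sigma.le_normalizer_fittingHallOf hG (OddChar.Support.plen hG) L hm) v).mp hv
    have hcoh := Cfsg.Agent.S1524.result (Cfsg.fittingHallOf L) L (E.map L.subtype) hoddL
      (Subgroup.map_subtype_le _) (Subgroup.map_subtype_le _)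
      (OddLocal.Sigma.fittingHallOf_ne_bot hG (OddChar.Support.plen hG) hL)
      (fun e => hKtop (by
        rw [Subgroup.map_eq_bot_iff_of_injective _ L.subtype_injective] at e
        have h := hE.sup_eq_top
        rw [e, sup_bot_eq] at h
        exact h))
      (Group.nilpotent_of_mulEquiv (K.equivMapOfInjective _ L.subtype_injective))
      (fun x hx v hv => by
        obtain ⟨w, hw, rfl⟩ := hv
        exact ⟨⟨x, hx⟩ * w * ⟨x, hx⟩⁻¹, (Cfsg.fittingHall_normal L).conj_mem w hw _, rfl⟩)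
      (by rw [Cfsg.fittingHallOf, ← Subgroup.map_inf _ _ _ L.subtype_injective, ← hKdef, hE.disjoint.eq_bot,
        Subgroup.map_bot])
      (by rw [Cfsg.fittingHallOf, ← Subgroup.map_sup, ← hKdef, hE.sup_eq_top, ← MonoidHom.range_eq_map,
        Subgroup.range_subtype])
      (by
        rintro _ ⟨w, hw, rfl⟩ hw1 _ ⟨v, hv, rfl⟩ hc
        exact congrArg Subtype.val (hfpf w hw (fun e => hw1 (congrArg Subtype.val e)) v hv (Subtype.ext hc)))
      hTI hN
    have hsame : (Cfsg.fittingHallOf L).subgroupOf L = K :=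
      Subgroup.comap_map_eq_self_of_injective L.subtype_injective _
    rw [hsame] at hcoh
    obtain ⟨hne, τ₁, h1, h2⟩ := hcoh
    refine ⟨hne, τ₁, h1, fun α hα => ?_⟩
    rw [h2 α hα]
    have hcl := OddChar.virt_isClassFunction (hgen α hα.1)
    have hTI' : ∀ g : G, g ∉ L → ∀ s ∈ Cfsg.typeA L, g * s * g⁻¹ ∉ Cfsg.typeA L := fun g hg s hs hgs =>
      ((hA s).mp hs).2 (hTI g (by rw [hN]; exact hg) s ((hA s).mp hs).1 ((hA _).mp hgs).1)
    funext g
    by_cases hg : ∃ y : G, y⁻¹ * g * y ∈ Cfsg.typeA L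
    · obtain ⟨y, hy⟩ := hg
      set s : L := ⟨y⁻¹ * g * y, hD.subset hy⟩
      have e1 : Cfsg.indFun L α g = α s := by
        rw [← Chars2.indFun_eq_of_ti L α _ (hsupp α hα) hTI' hcl s hy]
        exact (show Cfsg.indFun L α (y⁻¹ * g * y) = Cfsg.indFun L α g by
          simpa using Chars2.indFun_conj L α g y⁻¹).symm
      show Cfsg.indFun L α g = τ α g
      rw [e1, hτdef, OddChar.dade_apply hD hcl s hy g y⁻¹ 1 (one_mem _) (by simp [s])]
    · show Cfsg.indFun L α g = τ α g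
      push Not at hg
      rw [Chars2.indFun_eq_zero_of_support L α _ (hsupp α hα) g hg, hτdef, OddChar.dade_apply_of_notMem]
      rintro ⟨a, ha, u, hu, x, hx⟩
      have hu1 : u = 1 := by
        have hCa : Subgroup.centralizer ({a} : Set G) ≤ L := fun c hc => by
          by_contra hcL
          refine hTI' c hcL a ha ?_
          rw [Subgroup.mem_centralizer_singleton_iff.mp hc, mul_inv_cancel_right]
          exact ha
        rwa [OddLocal.Sigma.supportR_eq_bot hCa, Subgroup.mem_bot] at hu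
      refine hg x⁻¹ ?_
      rw [inv_inv, hx, hu1, mul_one]
      exact ha
  -- the Feit–Sibley criterion
  obtain ⟨φ, hφ, -⟩ := OddChar.exists_linear_above K inferInstance ⊥ (Ne.bot_lt hK1)
  obtain ⟨R, hR⟩ := Cfsg.Agent.S1514.result S ⟨φ, hφ⟩ hirr
    (fun χ hχ => ⟨OddChar.indAbove_conj_mem _ _ hχ, OddChar.frob_conj_ne hoddL hC hχ⟩) τ hτ hτ1
  have hH₁K : ⁅K, K⁆ ⊔ ⊥ < K := by
    rw [sup_bot_eq]
    haveI : Nontrivial K := (Subgroup.nontrivial_iff_ne_bot K).mpr hK1
    have h := Group.IsSolvable.commutator_lt_top_of_nontrivial K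
    rw [← Subgroup.map_subtype_commutator]
    refine lt_of_le_of_ne (Subgroup.map_subtype_le _) fun e => h.ne ?_
    exact Subgroup.map_injective K.subtype_injective (e.trans (by rw [← MonoidHom.range_eq_map, Subgroup.range_subtype]))
  refine Cfsg.Agent.S1521.result K inferInstance τ R hR hoddL ⊥ bot_le inferInstance (⁅K, K⁆ ⊔ ⊥) rfl hH₁K hlt
    (fun k hk hk1 x hx => OddChar.frob_section hC _ hk hk1 hx) ?_
  rcases hcases with h | ⟨h, -, -⟩ | ⟨hexp, -⟩
  · exact absurd h hTI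
  · refine Or.inr (Or.inr (Or.inr (Or.inl ?_)))
    rw [Subgroup.commutator_le]
    intro a ha b hb
    have := congrArg Subtype.val (h.is_comm.comm (⟨(a : G), (hmem a).mpr ha⟩ : Cfsg.fittingHallOf L) ⟨b, (hmem b).mpr hb⟩)
    rw [Subgroup.mem_bot, commutatorElement_eq_one_iff_mul_comm]
    exact Subtype.ext this
  by_cases hpp : ∃ p m : ℕ, p.Prime ∧ (⊥ : Subgroup L).relIndex K = p ^ m
  swap
  · exact Or.inr (Or.inr (Or.inl hpp))
  obtain ⟨p, m, hp, hm⟩ := hpp
  refine Or.inr (Or.inr (Or.inr (Or.inr ⟨p, m, hp, hm, ?_⟩)))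
  rw [Subgroup.relIndex_bot_left] at hm
  have hm0 : m ≠ 0 := fun e => hK1 (Subgroup.eq_bot_of_card_eq _ (by rw [hm, e, pow_zero]))
  have hdvd := hexp p hp (by rw [Cfsg.fittingHallOf, Agent.Core.card_map_subtype, ← hKdef, hm]; exact dvd_pow_self p hm0)
  replace hdvd : Monoid.exponent (↥L ⧸ K) ∣ p - 1 := hdvd
  rw [hE.symm.index_eq_card]
  refine (Nat.dvd_iff_prime_pow_dvd_dvd _ _).mpr fun q k hq hd => ?_
  haveI := Fact.mk hq
  obtain ⟨P, hP⟩ := Sylow.exists_subgroup_card_pow_prime q hd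
  rcases Nat.eq_zero_or_pos k with rfl | hk
  · simp
  have hq2 : q ≠ 2 := fun e => by
    have h2 : q ∣ Nat.card L := (dvd_pow_self q hk.ne').trans (hd.trans (Subgroup.card_subgroup_dvd_card E))
    exact Nat.not_even_iff_odd.mpr hoddL (even_iff_two_dvd.mpr (e ▸ h2))
  have hcyc := hfpf.sylow_cyclic_of_odd hK1
    (fun e _ => Subgroup.normalizer_eq_top (H := K) ▸ Subgroup.mem_top e) hq2 (P.map E.subtype)
    (Subgroup.map_subtype_le _) (IsPGroup.of_card (n := k) (by rw [Agent.Core.card_map_subtype, hP]))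
  obtain ⟨⟨u, hu⟩, hgu⟩ := hcyc.exists_generator
  have hou : orderOf u = q ^ k := by
    rw [← hP, ← Agent.Core.card_map_subtype P, ← orderOf_eq_card_of_forall_mem_zpowers hgu]
    exact (Subgroup.orderOf_mk u hu).symm
  obtain ⟨u', -, rfl⟩ := hu
  have hinj : orderOf (QuotientGroup.mk' K (E.subtype u')) = q ^ k := by
    rw [← hou]
    refine Nat.dvd_antisymm (orderOf_map_dvd _ _) (orderOf_dvd_of_pow_eq_one ?_)
    have h1 := pow_orderOf_eq_one (QuotientGroup.mk' K (E.subtype u'))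
    rw [← map_pow, QuotientGroup.mk'_apply, QuotientGroup.eq_one_iff] at h1
    exact Subgroup.mem_bot.mp (hE.disjoint.eq_bot.le ⟨h1, pow_mem u'.2 _⟩)
  exact hinj ▸ (Monoid.order_dvd_exponent _).trans hdvd

end Cfsg.Agent.S1542
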