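import Cfsg.Statements.S1639
import Cfsg.Agent.Golay.StabOrbits

set_option autoImplicit false
open scoped Pointwise
open Cfsg

namespace Cfsg.Agent.S1639

/-- The point stabiliser acts on the 1288 dodecads through the point with rank 4 and subdegrees 1, 165, 330, 792, distinguished by intersection 4, 8, 6 with the fixed dodecad. -/
theorem result (x : Cfsg.GolayPt) (d : Finset Cfsg.GolayPt) (hd : d ∈ Cfsg.dodecads) (hx : x ∈ d) : {d' : Finset Cfsg.GolayPt | d' ∈ Cfsg.dodecads ∧ x ∈ d' ∧ (d ∩ d').card = 4}.ncard = 165 ∧ {d' : Finset Cfsg.GolayPt | d' ∈ Cfsg.dodecads ∧ x ∈ d' ∧ (d ∩ d').card = 8}.ncard = 330 ∧ {d' : Finset Cfsg.GolayPt | d' ∈ Cfsg.dodecads ∧ x ∈ d' ∧ (d ∩ d').card = 6}.ncard = 792 ∧ ∀ d' d'' : Finset Cfsg.GolayPt, d' ∈ Cfsg.dodecads → d'' ∈ Cfsg.dodecads → x ∈ d' → x ∈ d'' → (d ∩ d').card = (d ∩ d'').card → ∃ g : Equiv.Perm Cfsg.GolayPt, g ∈ Cfsg.M24 ∧ g x = x ∧ g • d = d ∧ g • d' = d'' := by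
  obtain ⟨c, hc, rfl, rfl⟩ := Cfsg.Agent.Golay.std_dod_point hd hx
  refine ⟨?_, ?_, ?_, fun o' o'' ho' ho'' hx' hx'' h => ?_⟩
  · rw [Cfsg.Agent.Golay.ncard_conj_supports c hc _
      (fun n => Cfsg.Agent.Golay.pc n == 12 && (n.testBit 23 && (Cfsg.Agent.Golay.pc (n &&& Cfsg.Agent.Golay.dodMask) == 4))) (fun s hs => by
        simp only [Cfsg.octads, Cfsg.dodecads, Cfsg.wordsOfWeight, Set.mem_ofPred_eq, Finset.card_smul_finset,
          Cfsg.Agent.Golay.card_inter_conj, Cfsg.Agent.Golay.mem_conj, and_assoc, iff_self,  hs, Cfsg.Agent.Golay.smul_mem_supports hc hs, true_and,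
          Bool.and_eq_true, beq_iff_eq, Bool.not_eq_true', Bool.not_eq_true, Cfsg.Agent.Golay.idx,
          ZMod.val_zero]
        simp only [Cfsg.Agent.Golay.card_eq_pc_mask])
      (fun s h => h.1.1)]
    decide +kernel
  · rw [Cfsg.Agent.Golay.ncard_conj_supports c hc _
      (fun n => Cfsg.Agent.Golay.pc n == 12 && (n.testBit 23 && (Cfsg.Agent.Golay.pc (n &&& Cfsg.Agent.Golay.dodMask) == 8))) (fun s hs => by
        simp only [Cfsg.octads, Cfsg.dodecads, Cfsg.wordsOfWeight, Set.mem_ofPred_eq, Finset.card_smul_finset,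
          Cfsg.Agent.Golay.card_inter_conj, Cfsg.Agent.Golay.mem_conj, and_assoc, iff_self,  hs, Cfsg.Agent.Golay.smul_mem_supports hc hs, true_and,
          Bool.and_eq_true, beq_iff_eq, Bool.not_eq_true', Bool.not_eq_true, Cfsg.Agent.Golay.idx,
          ZMod.val_zero]
        simp only [Cfsg.Agent.Golay.card_eq_pc_mask])
      (fun s h => h.1.1)]
    decide +kernel
  · rw [Cfsg.Agent.Golay.ncard_conj_supports c hc _
      (fun n => Cfsg.Agent.Golay.pc n == 12 && (n.testBit 23 && (Cfsg.Agent.Golay.pc (n &&& Cfsg.Agent.Golay.dodMask) == 6))) (fun s hs => by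
        simp only [Cfsg.octads, Cfsg.dodecads, Cfsg.wordsOfWeight, Set.mem_ofPred_eq, Finset.card_smul_finset,
          Cfsg.Agent.Golay.card_inter_conj, Cfsg.Agent.Golay.mem_conj, and_assoc, iff_self,  hs, Cfsg.Agent.Golay.smul_mem_supports hc hs, true_and,
          Bool.and_eq_true, beq_iff_eq, Bool.not_eq_true', Bool.not_eq_true, Cfsg.Agent.Golay.idx,
          ZMod.val_zero]
        simp only [Cfsg.Agent.Golay.card_eq_pc_mask])
      (fun s h => h.1.1)]
    decide +kernel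
  obtain ⟨g, hg, hn, hgo, e⟩ := Cfsg.Agent.Golay.m23d_conj (Cfsg.Agent.Golay.smul_mem_dodecads (inv_mem hc) ho')
    (Cfsg.Agent.Golay.smul_mem_dodecads (inv_mem hc) ho'') (by rwa [Finset.mem_inv_smul_finset_iff])
    (by rwa [Finset.mem_inv_smul_finset_iff]) (by
      rwa [← Finset.card_smul_finset c, Finset.smul_finset_inter, smul_inv_smul,
        ← Finset.card_smul_finset c (Cfsg.Agent.Golay.bset Cfsg.Agent.Golay.dodMask ∩ c⁻¹ • o''), Finset.smul_finset_inter,
        smul_inv_smul])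
  exact ⟨c * g * c⁻¹, mul_mem (mul_mem hc hg) (inv_mem hc), by simp [hn],
    by rw [mul_smul, inv_smul_smul, mul_smul, hgo], by rw [mul_smul, mul_smul, e, smul_inv_smul]⟩

end Cfsg.Agent.S1639
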