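import Cfsg.Statements.S1892
import Cfsg.Agent.Core.PiSeparable
import Cfsg.Agent.Coprime.Action
import Cfsg.Agent.Core.Cores
import Cfsg.Agent.PLocal.Constrained

set_option autoImplicit false
open Cfsg
open scoped commutatorElement

namespace Cfsg.Agent.S1892

/-- Let S be a finite p-solvable group with no nontrivial normal subgroup of order prime to p, A a p-subgroup of S, and Q a nontrivial A-invariant subgroup of order prime to p with [A, Q] = Q. Then the commutator [O_p(S), A, Q] is nontrivial. -/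
theorem result {S : Type*} [Group S] [Finite S] {p : ℕ} [Fact p.Prime]
    (hS : Cfsg.IsPSolvable p S) (hred : Cfsg.pPrimeCore p S = ⊥)
    (A Q : Subgroup S) (hA : IsPGroup p A) (hQ : ¬ p ∣ Nat.card Q) (hQ1 : Q ≠ ⊥)
    (hinv : ∀ a ∈ A, ∀ x ∈ Q, a * x * a⁻¹ ∈ Q) (hAQ : ⁅A, Q⁆ = Q) :
    ⁅⁅Cfsg.pCore p S, A⁆, Q⁆ ≠ ⊥ := by
  intro h
  set P := Cfsg.pCore p S with hPdef
  have hCP : Subgroup.centralizer (P : Set S) ≤ P := Core.centralizer_pCore_le hS hred
  set K := ⁅P, A⁆ with hKdef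
  have hKC : ∀ q ∈ Q, ∀ k ∈ K, q * k * q⁻¹ = k := fun q hq k hk => by
    rw [Subgroup.mem_centralizer_iff.mp ((Subgroup.commutator_eq_bot_iff_le_centralizer.mp h) hk) q hq,
      mul_inv_cancel_right]
  have hPn : ∀ g x, x ∈ P → g * x * g⁻¹ ∈ P := fun g x hx => (inferInstance : P.Normal).conj_mem x hx g
  have hKa : ∀ a ∈ A, ∀ k ∈ K, a * k * a⁻¹ ∈ K := fun a ha k hk =>
    (Subgroup.mem_normalizer_iff.mp (Subgroup.normalizer_commutator_ge_right P A ha) k).mp hk
  have hA' : ∀ a ∈ A, ∀ x ∈ P, ∃ k ∈ K, a * x * a⁻¹ = k * x := fun a ha x hx => by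
    refine ⟨⁅x, a⁆⁻¹, inv_mem (Subgroup.commutator_mem_commutator hx ha), ?_⟩
    rw [commutatorElement_def]; group
  have key : ∀ u ∈ Q, ∀ x ∈ P, ∃ k ∈ K, u * x * u⁻¹ = k * x := by
    intro u hu
    rw [← hAQ, Subgroup.commutator_def] at hu
    suffices u ∈ Q ∧ ∀ x ∈ P, ∃ k ∈ K, u * x * u⁻¹ = k * x from this.2
    induction hu using Subgroup.closure_induction with
    | mem u hu =>
      obtain ⟨a, ha, q, hq, rfl⟩ := hu
      have huQ : ⁅a, q⁆ ∈ Q := hAQ ▸ Subgroup.commutator_mem_commutator ha hq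
      refine ⟨huQ, fun x hx => ?_⟩
      set y := q⁻¹ * x * q with hy
      have hyP : y ∈ P := by have := hPn q⁻¹ x hx; rwa [inv_inv] at this
      obtain ⟨k, hk, e⟩ := hA' a⁻¹ (inv_mem ha) y hyP
      rw [inv_inv] at e
      obtain ⟨k', hk', e'⟩ := hA' a ha x hx
      refine ⟨a * k * a⁻¹ * k', mul_mem (hKa a ha k hk) hk', ?_⟩
      calc ⁅a, q⁆ * x * ⁅a, q⁆⁻¹ = a * (q * (a⁻¹ * y * a) * q⁻¹) * a⁻¹ := by
            rw [hy, commutatorElement_def]; group
        _ = a * ((q * k * q⁻¹) * (q * y * q⁻¹)) * a⁻¹ := by rw [e]; group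
        _ = a * (k * x) * a⁻¹ := by rw [hKC q hq k hk, show q * y * q⁻¹ = x by rw [hy]; group]
        _ = (a * k * a⁻¹) * (a * x * a⁻¹) := by group
        _ = _ := by rw [e', ← mul_assoc]
    | one => exact ⟨one_mem _, fun x _ => ⟨1, one_mem _, by simp⟩⟩
    | mul u v _ _ ihu ihv =>
      refine ⟨mul_mem ihu.1 ihv.1, fun x hx => ?_⟩
      obtain ⟨k, hk, e⟩ := ihv.2 x hx
      obtain ⟨k', hk', e'⟩ := ihu.2 x hx
      refine ⟨k * k', mul_mem hk hk', ?_⟩
      calc u * v * x * (u * v)⁻¹ = u * (v * x * v⁻¹) * u⁻¹ := by group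
        _ = (u * k * u⁻¹) * (u * x * u⁻¹) := by rw [e]; group
        _ = _ := by rw [hKC u ihu.1 k hk, e', mul_assoc]
    | inv u _ ihu =>
      refine ⟨inv_mem ihu.1, fun x hx => ?_⟩
      obtain ⟨k, hk, e⟩ := ihu.2 x hx
      refine ⟨k⁻¹, inv_mem hk, ?_⟩
      have h2 : u⁻¹ * k⁻¹ * u⁻¹⁻¹ = k⁻¹ := hKC _ (inv_mem ihu.1) _ (inv_mem hk)
      calc u⁻¹ * x * u⁻¹⁻¹ = u⁻¹ * (k⁻¹ * (k * x)) * u := by group
        _ = (u⁻¹ * k⁻¹ * u⁻¹⁻¹) * x := by rw [← e]; group
        _ = _ := by rw [h2]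
  have hQP : Q ≤ Subgroup.centralizer (P : Set S) := by
    intro q hq
    haveI : Group.IsSolvable (Subgroup.zpowers q) := Group.isSolvable_of_comm fun a b => mul_comm' a b
    have hn : Subgroup.zpowers q ≤ Subgroup.normalizer (P : Set S) := le_top.trans (Subgroup.normalizer_eq_top P).ge
    have hcop : (Nat.card (Subgroup.zpowers q)).Coprime (Nat.card P) := by
      obtain ⟨j, hj⟩ := IsPGroup.iff_card.mp (Core.isPGroup_pCore p S)
      rw [hPdef, hj]
      refine Nat.Coprime.pow_right _ ?_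
      exact (((Fact.out : p.Prime).coprime_iff_not_dvd.mpr hQ).symm).coprime_dvd_left
        (Subgroup.card_dvd_of_le (Subgroup.zpowers_le.mpr hq))
    have h1 : ⁅P, Subgroup.zpowers q⁆ ≤ K := by
      rw [Subgroup.commutator_le]
      intro x hx v hv
      obtain ⟨k, hk, e⟩ := key v (Subgroup.zpowers_le.mpr hq hv) x⁻¹ (inv_mem hx)
      have he : ⁅x, v⁆ = x * (v * x⁻¹ * v⁻¹) := by rw [commutatorElement_def]; group
      rw [he, e, ← mul_assoc]
      have := Subgroup.normalizer_commutator_ge_left P A hx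
      exact (Subgroup.mem_normalizer_iff.mp this k).mp hk
    have h2 : ⁅⁅P, Subgroup.zpowers q⁆, Subgroup.zpowers q⁆ = ⊥ := le_bot_iff.mp
      ((Subgroup.commutator_mono h1 (Subgroup.zpowers_le.mpr hq)).trans h.le)
    have h3 := Coprime.commutator_eq_bot_of_commutator_commutator hn hcop h2
    rw [Subgroup.commutator_eq_bot_iff_le_centralizer, Subgroup.le_centralizer_iff] at h3
    exact h3 (Subgroup.mem_zpowers q)
  apply hQ1
  refine le_bot_iff.mp fun q hq => Subgroup.mem_bot.mpr ?_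
  exact Core.ThompsonComplement.eq_one_of_mem (Core.isPGroup_pCore p S) (hCP (hQP hq))
    ((((Fact.out : p.Prime).coprime_iff_not_dvd.mpr hQ).symm).coprime_dvd_left (Subgroup.orderOf_dvd_natCard _ hq))

end Cfsg.Agent.S1892
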