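import Cfsg.Statements.S1901
import Cfsg.Agent.Coprime.PxQ
import Cfsg.Agent.Core.PiSeparable
import Cfsg.Agent.TwoGroups.SectionFunctors

set_option autoImplicit false
open Cfsg

namespace Cfsg.Agent.S1901

universe u in
open scoped commutatorElement in
theorem key {p : ℕ} [hp : Fact p.Prime] : ∀ (n : ℕ) {G : Type u} [Group G] [Finite G], Nat.card G ≤ n →
    Cfsg.IsPSolvable p G → ∀ (Q : Subgroup G), ¬ p ∣ Nat.card Q → ∀ P : Sylow p G,
      Q ≤ Subgroup.normalizer ((P : Subgroup G) : Set G) → ∀ x ∈ Subgroup.normalizer (Q : Set G),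
        (∃ k, orderOf x = p ^ k) → x ∈ Subgroup.centralizer (Q : Set G) := by
  intro n
  induction n with
  | zero => intro G _ _ h; exact absurd h (by simp [Nat.card_pos.ne'])
  | succ n ih =>
  intro G _ _ hcard hG Q hQ P hQP x hx hxp
  obtain ⟨k, hk⟩ := hxp
  by_contra hxc
  have hQcop : (Nat.card Q).Coprime p := ((hp.out.coprime_iff_not_dvd).2 hQ).symm
  -- reduction modulo a normal subgroup
  have hred : ∀ M : Subgroup G, M.Normal → M ≠ ⊥ → ∀ q ∈ Q, x * q * x⁻¹ * q⁻¹ ∈ M := by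
    intro M hM hM1 q hq
    haveI := hM
    have hlt := TwoGroups.SectionFunctors.card_quotient_lt hM1
    have hs : Function.Surjective (QuotientGroup.mk' M) := QuotientGroup.mk'_surjective M
    have h1 := ih (G := G ⧸ M) (by omega) (Core.isPSolvable_quotient hG M) (Q.map (QuotientGroup.mk' M))
      (fun h => hQ (h.trans (Subgroup.card_map_dvd Q _))) (P.mapSurjective hs)
      ((Subgroup.map_mono hQP).trans (Subgroup.le_normalizer_map _)) (QuotientGroup.mk' M x)
      (Subgroup.le_normalizer_map _ (Subgroup.mem_map_of_mem _ hx))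
      (by
        have := orderOf_map_dvd (QuotientGroup.mk' M) x
        rw [hk] at this
        obtain ⟨i, -, hi⟩ := (Nat.dvd_prime_pow hp.out).1 this
        exact ⟨i, hi⟩)
    refine (QuotientGroup.eq_one_iff _).1 ?_
    have h2 := h1 _ ⟨q, hq, rfl⟩
    show QuotientGroup.mk' M (x * q * x⁻¹ * q⁻¹) = 1
    rw [map_mul, map_mul, map_mul, map_inv, map_inv, ← h2, mul_inv_cancel_right, mul_inv_cancel]
  have hcom : ∀ q ∈ Q, x * q * x⁻¹ * q⁻¹ ∈ Q := fun q hq =>
    mul_mem ((Subgroup.mem_normalizer_iff.1 hx q).1 hq) (inv_mem hq)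
  have hne : ∃ q ∈ Q, x * q * x⁻¹ * q⁻¹ ≠ 1 := by
    by_contra h
    push Not at h
    exact hxc fun q hq => (mul_inv_eq_iff_eq_mul.1 (mul_inv_eq_one.1 (h q hq))).symm
  have hPc : ∀ v ∈ Q, v ∈ Cfsg.pCore p G → v = 1 := fun v hv hv' =>
    Core.ThompsonComplement.eq_one_of_mem (Core.isPGroup_pCore p G) hv'
      (hQcop.coprime_dvd_left (Subgroup.orderOf_dvd_natCard Q hv))
  have hOp : Cfsg.pCore p G = ⊥ := by
    by_contra h
    obtain ⟨q, hq, hq1⟩ := hne
    exact hq1 (hPc _ (hcom q hq) (hred _ inferInstance h q hq))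
  obtain ⟨M, hM⟩ : ∃ M, M = Cfsg.pPrimeCore p G := ⟨_, rfl⟩
  have hM1 : M ≠ ⊥ := by
    intro e
    have h1 := Core.centralizer_pCore_le hG (hM ▸ e)
    rw [hOp] at h1
    obtain ⟨q, -, hq1⟩ := hne
    exact hq1 (Subgroup.mem_bot.1 (h1 fun y hy => by rw [Subgroup.mem_bot.1 hy]; simp))
  haveI : M.Normal := hM ▸ inferInstance
  have hMc : (Nat.card M).Coprime p := hM ▸ Core.card_pPrimeCore_coprime p G
  set A := Subgroup.zpowers x with hA
  have hAQ : A ≤ Subgroup.normalizer (Q : Set G) := Subgroup.zpowers_le.2 hx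
  have hAp : IsPGroup p A := IsPGroup.of_card (n := k) (by rw [Nat.card_zpowers, hk])
  haveI : Group.IsSolvable A := Coprime.isSolvable_of_isPGroup hAp
  set Q1 := ⁅Q, A⁆ with hQ1
  have hQ1M : Q1 ≤ M := by
    rw [hQ1, Subgroup.commutator_le]
    intro q hq a ha
    obtain ⟨i, rfl⟩ := Subgroup.mem_zpowers_iff.1 ha
    rw [← QuotientGroup.eq_one_iff, ← QuotientGroup.mk'_apply, map_commutatorElement, map_zpow,
      commutatorElement_eq_one_iff_mul_comm]
    have h1 : QuotientGroup.mk' M (x * q * x⁻¹ * q⁻¹) = 1 := (QuotientGroup.eq_one_iff _).2 (hred M inferInstance hM1 q hq)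
    rw [map_mul, map_mul, map_mul, map_inv, map_inv, mul_inv_eq_one, mul_inv_eq_iff_eq_mul] at h1
    exact ((show Commute (QuotientGroup.mk' M x) (QuotientGroup.mk' M q) from h1).symm.zpow_right i).eq
  have hQ1Q : Q1 ≤ Q := Coprime.commutator_le_of_le_normalizer hAQ
  have hPQ1 : (P : Subgroup G) ≤ Subgroup.centralizer (Q1 : Set G) := by
    intro y hy v hv
    have h1 : v * y * v⁻¹ * y⁻¹ ∈ (P : Subgroup G) :=
      mul_mem ((Subgroup.mem_normalizer_iff.1 (hQP (hQ1Q hv)) y).1 hy) (inv_mem hy)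
    have h2 : v * y * v⁻¹ * y⁻¹ ∈ M := by
      rw [mul_assoc, mul_assoc, ← mul_assoc y]
      exact mul_mem (hQ1M hv) ((inferInstance : M.Normal).conj_mem _ (inv_mem (hQ1M hv)) y)
    have h3 := Core.ThompsonComplement.eq_one_of_mem P.2 h1
      (hMc.coprime_dvd_left (Subgroup.orderOf_dvd_natCard M h2))
    exact mul_inv_eq_iff_eq_mul.1 (mul_inv_eq_one.1 h3)
  have hxQ1 : A ≤ Subgroup.normalizer (Q1 : Set G) := Subgroup.normalizer_commutator_ge_right Q A
  have hxc1 : A ≤ Subgroup.centralizer (Q1 : Set G) := by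
    set N := Subgroup.normalizer (Q1 : Set G) with hN
    set C := Subgroup.centralizer (Q1 : Set G) with hC
    have hCN : C ≤ N := Subgroup.centralizer_le_normalizer _
    intro a ha
    haveI : (C.subgroupOf N).Normal := inferInstance
    have hcop : (C.subgroupOf N).index.Coprime p := by
      refine (hp.out.coprime_iff_not_dvd.2 fun h => P.not_dvd_index ?_).symm
      refine h.trans ?_
      calc C.relIndex N ∣ (P : Subgroup G).relIndex N := Subgroup.relIndex_dvd_of_le_left _ hPQ1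
        _ ∣ (P : Subgroup G).index := Subgroup.relIndex_dvd_index_of_le (hPQ1.trans hCN)
    have hp' : IsPGroup p (A.subgroupOf N) := hAp.comap_subtype
    obtain ⟨j, hj⟩ := IsPGroup.iff_orderOf.mp hp' ⟨⟨a, hxQ1 ha⟩, Subgroup.mem_subgroupOf.2 ha⟩
    rw [← Subgroup.orderOf_coe] at hj
    have h1 := orderOf_map_dvd (QuotientGroup.mk' (C.subgroupOf N)) (⟨a, hxQ1 ha⟩ : N)
    rw [show orderOf (⟨a, hxQ1 ha⟩ : N) = p ^ j from hj] at h1
    have h2 := orderOf_dvd_natCard (QuotientGroup.mk' (C.subgroupOf N) (⟨a, hxQ1 ha⟩ : N))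
    rw [← Subgroup.index_eq_card] at h2
    have h3 := Nat.eq_one_of_dvd_coprimes (hcop.pow_right j) h2 h1
    have h4 : (⟨a, hxQ1 ha⟩ : N) ∈ C.subgroupOf N :=
      (QuotientGroup.eq_one_iff _).1 (orderOf_eq_one_iff.1 h3)
    exact Subgroup.mem_subgroupOf.1 h4
  have hcopAQ : (Nat.card A).Coprime (Nat.card Q) := by
    rw [Nat.card_zpowers, hk]; exact hQcop.symm.pow_left k
  have hbot : ⁅Q, A⁆ = ⊥ := Coprime.commutator_eq_bot_of_commutator_commutator hAQ hcopAQ
    (Subgroup.commutator_eq_bot_iff_le_centralizer.2 (by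
      intro v hv a ha
      exact (hxc1 ha v hv).symm))
  exact hxc fun q hq => by
    have h1 := Subgroup.commutator_eq_bot_iff_le_centralizer.1 hbot hq
    exact (h1 x (Subgroup.mem_zpowers x)).symm

/-- Let G be a finite p-solvable group and Q a subgroup of order prime to p such that p divides the index of C_G(Q) in N_G(Q). Then Q normalizes no Sylow p-subgroup of G. -/
theorem result {G : Type*} [Group G] [Finite G] {p : ℕ} [Fact p.Prime]
    (hG : Cfsg.IsPSolvable p G) (Q : Subgroup G) (hQ : ¬ p ∣ Nat.card Q)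
    (hA : p ∣ (Subgroup.centralizer (Q : Set G)).relIndex (Subgroup.normalizer (Q : Set G)))
    (P : Sylow p G) : ¬ Q ≤ Subgroup.normalizer ((P : Subgroup G) : Set G) := by
  intro hQP
  set N := Subgroup.normalizer (Q : Set G) with hN
  set C := (Subgroup.centralizer (Q : Set G)).subgroupOf N with hC
  obtain ⟨T⟩ : Nonempty (Sylow p N) := inferInstance
  refine T.not_dvd_index (hA.trans (Subgroup.index_dvd_of_le (H := (T : Subgroup N)) (K := C) fun t ht => ?_))
  obtain ⟨j, hj⟩ := IsPGroup.iff_orderOf.mp T.2 ⟨t, ht⟩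
  rw [Subgroup.orderOf_mk] at hj
  exact key _ le_rfl hG Q hQ P hQP (t : G) t.2 ⟨j, by rw [← hj, Subgroup.orderOf_coe]⟩

end Cfsg.Agent.S1901
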