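import Cfsg.Statements.S1902
import Cfsg.Agent.OddChar.InvariantCore
import Cfsg.Agent.Core.PiSeparable

set_option autoImplicit false
open Cfsg

namespace Cfsg.Agent.S1902

/-- Let p be an odd prime, G a finite p-solvable group, and B an elementary abelian subgroup of order p² such that B is the subgroup generated by the elements of order p of some Sylow p-subgroup of C_G(b₀), for some nontrivial b₀ ∈ B. Then every B-invariant subgroup of G of order prime to p lies in O_{p'}(G). -/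
theorem result {G : Type*} [Group G] [Finite G] {p : ℕ} [Fact p.Prime] (hp : p ≠ 2)
    (hG : Cfsg.IsPSolvable p G) (B : Subgroup G) (hB : Cfsg.IsElementaryAbelian p B) (hBc : Nat.card B = p ^ 2)
    (b₀ : G) (hb₀ : b₀ ∈ B) (hb₁ : b₀ ≠ 1) (P : Sylow p ↥(Subgroup.centralizer ({b₀} : Set G)))
    (hBP : B = Subgroup.closure {x : G | x ∈ ((P : Subgroup ↥(Subgroup.centralizer ({b₀} : Set G))).map
      (Subgroup.centralizer ({b₀} : Set G)).subtype : Subgroup G) ∧ orderOf x = p})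
    (Q : Subgroup G) (hQ : ¬ p ∣ Nat.card Q) (hinv : ∀ b ∈ B, ∀ x ∈ Q, b * x * b⁻¹ ∈ Q) :
    Q ≤ Cfsg.pPrimeCore p G := by
  classical
  have hP := (Fact.out : p.Prime)
  have hBp : IsPGroup p B := fun x => ⟨1, by rw [pow_one]; exact Subtype.ext (hB.2 _ x.2)⟩
  refine Cfsg.Agent.OddChar.invariant_le_pPrimeCore_of_constrained (hP.odd_of_ne_two hp)
    (Cfsg.Agent.Core.centralizer_pCore_le (Cfsg.Agent.Core.isPSolvable_quotient hG _)
      (Cfsg.Agent.Core.pPrimeCore_quotient_pPrimeCore p G)) hBp ?_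
    ((hP.coprime_iff_not_dvd.mpr hQ).symm)
    (fun b hb => Cfsg.Agent.Coprime.mem_normalizer_of_conj_mem fun y hy => hinv b hb y hy)
  intro x hx hxp
  have : IsMulCommutative B := hB.1
  have hBC : B ≤ (Subgroup.centralizer ({b₀} : Set G)) := fun b hb => Subgroup.mem_centralizer_singleton_iff.mpr
    (congrArg Subtype.val (mul_comm' (⟨b, hb⟩ : B) ⟨b₀, hb₀⟩))
  have hxC : x ∈ (Subgroup.centralizer ({b₀} : Set G)) := Subgroup.mem_centralizer_singleton_iff.mpr
    (Subgroup.mem_centralizer_iff.mp hx b₀ hb₀).symm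
  set K := B ⊔ Subgroup.zpowers x
  have hKC : K ≤ (Subgroup.centralizer ({b₀} : Set G)) := sup_le hBC (Subgroup.zpowers_le.mpr hxC)
  have hxn : Subgroup.zpowers x ≤ Subgroup.normalizer (B : Set G) :=
    (Subgroup.zpowers_le.mpr hx).trans (Subgroup.centralizer_le_normalizer _)
  have hXp : IsPGroup p (Subgroup.zpowers x) := fun y => by
    obtain ⟨i, hi⟩ := Subgroup.mem_zpowers_iff.mp y.2
    refine ⟨1, Subtype.ext ?_⟩
    rw [pow_one, Subgroup.coe_pow, ← hi, ← zpow_natCast, ← zpow_mul, mul_comm, zpow_mul, zpow_natCast, hxp, Subgroup.coe_one, one_zpow]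
  have hKp : IsPGroup p K := hBp.to_sup_of_normal_left' hXp hxn
  obtain ⟨S, hS⟩ := (hKp.of_equiv (Subgroup.subgroupOfEquivOfLe hKC).symm).exists_le_sylow
  obtain ⟨g, hg⟩ := MulAction.exists_smul_eq (Subgroup.centralizer ({b₀} : Set G)) S P
  have hPB : ∀ y ∈ K, y ^ p = 1 → (g : G) * y * (g : G)⁻¹ ∈ B := by
    intro y hy hyp
    by_cases hy1 : y = 1
    · rw [hy1, mul_one, mul_inv_cancel]; exact one_mem _
    rw [hBP]
    refine Subgroup.subset_closure ⟨⟨g * ⟨y, hKC hy⟩ * g⁻¹, ?_, rfl⟩, ?_⟩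
    · rw [← hg]
      exact Subgroup.smul_mem_pointwise_smul _ (MulAut.conj g) _ (hS (show (⟨y, hKC hy⟩ : (Subgroup.centralizer ({b₀} : Set G))) ∈ K.subgroupOf (Subgroup.centralizer ({b₀} : Set G)) from hy))
    · exact orderOf_eq_prime (by rw [conj_pow, hyp, mul_one, mul_inv_cancel])
        (fun h => hy1 (conj_eq_one_iff.mp h))
  have hle : B.map (MulAut.conj (g : G)).toMonoidHom ≤ B := by
    rintro _ ⟨b, hb, rfl⟩
    exact hPB b (Subgroup.mem_sup_left hb) (hB.2 b hb)
  have heq := Subgroup.eq_of_le_of_card_ge hle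
    (Nat.card_congr (B.equivMapOfInjective _ (MulAut.conj (g : G)).injective).toEquiv).le
  obtain ⟨b, hb, hbx⟩ := (heq.symm ▸ hPB x (Subgroup.mem_sup_right (Subgroup.mem_zpowers x)) hxp :
    (g : G) * x * (g : G)⁻¹ ∈ B.map (MulAut.conj (g : G)).toMonoidHom)
  exact (MulAut.conj (g : G)).injective hbx ▸ hb

end Cfsg.Agent.S1902
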