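import Cfsg.Statements.S1905
import Cfsg.Agent.TwoGroups.StrEmb
import Cfsg.Agent.TwoGroups.FactorPair

set_option autoImplicit false
open Cfsg

namespace Cfsg.Agent.S1905

/-- Let M be a subgroup of even order of a finite group S such that M contains the centralizer in S of each of its involutions and the normal core of M in S has odd order. Then all involutions of S are conjugate. If moreover N_S(X) ≤ M for a Sylow 2-subgroup X of M and I is an involution in the centre of X, then all involutions of M are conjugate in M and M = M₀ C_M(I) for some subgroup M₀ of M of odd order. -/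
theorem result {S : Type*} [Group S] [Finite S] (M : Subgroup S) (hM : Even (Nat.card M))
    (hC : ∀ i ∈ M, orderOf i = 2 → Subgroup.centralizer ({i} : Set S) ≤ M) (hcore : Odd (Nat.card M.normalCore)) :
    (∀ x y : S, orderOf x = 2 → orderOf y = 2 → IsConj x y) ∧
      ∀ (X : Sylow 2 M) (I : M), I ∈ (Subgroup.center ↥(X : Subgroup ↥M)).map (X : Subgroup ↥M).subtype → orderOf I = 2 →
        Subgroup.normalizer (((X : Subgroup M).map M.subtype : Subgroup S) : Set S) ≤ M →
        (∀ x y : M, orderOf x = 2 → orderOf y = 2 → IsConj x y) ∧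
          ∃ M₀ : Subgroup M, Odd (Nat.card M₀) ∧
            ∀ m : M, ∃ a ∈ M₀, ∃ c ∈ Subgroup.centralizer ({I} : Set M), m = a * c := by
  have hMtop : M ≠ ⊤ := by
    rintro rfl
    rw [Subgroup.normalCore_eq_self] at hcore
    exact Nat.not_even_iff_odd.2 hcore hM
  obtain ⟨i, hi⟩ := exists_prime_orderOf_dvd_card' (G := M) 2 hM.two_dvd
  have hio : orderOf (i : S) = 2 := by rw [Subgroup.orderOf_coe]; exact hi
  obtain ⟨u, huM, hu⟩ : ∃ u, u ∉ M ∧ orderOf u = 2 := by
    by_contra hno
    push Not at hno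
    have hall : ∀ g : S, g * (i : S) * g⁻¹ ∈ M := fun g => by
      by_contra h
      exact hno _ h (by rw [TwoGroups.orderOf_conj', hio])
    have hmem : (i : S) ∈ M.normalCore := fun g => hall g
    have h2 : orderOf (⟨(i : S), hmem⟩ : M.normalCore) ∣ Nat.card M.normalCore := orderOf_dvd_natCard _
    rw [Subgroup.orderOf_mk, hio] at h2
    exact Nat.not_even_iff_odd.2 hcore (even_iff_two_dvd.2 h2)
  have key : ∀ s v : S, orderOf s = 2 → s ∈ M → orderOf v = 2 → v ∉ M → IsConj s v := by
    intro s v hs hsM hv hvM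
    have hodd : Odd (orderOf (v * s)) := by
      by_contra hne
      rw [Nat.not_odd_iff_even] at hne
      obtain ⟨c, -, hc1, hcc, hcu, hcs, -⟩ := TwoGroups.exists_central_of_even (TwoGroups.sq_one_of_order_two hv)
        (TwoGroups.sq_one_of_order_two hs) (isOfFinOrder_of_finite _) hne
      have hc : orderOf c = 2 := orderOf_eq_prime (by rw [pow_two]; exact hcc) hc1
      have hcM : c ∈ M := hC s hsM hs (Subgroup.mem_centralizer_singleton_iff.2 hcs.eq)
      exact hvM (hC c hcM hc (Subgroup.mem_centralizer_singleton_iff.2 hcu.symm.eq))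
    obtain ⟨k, -, hk⟩ := TwoGroups.exists_conj_of_odd (TwoGroups.sq_one_of_order_two hv)
      (TwoGroups.sq_one_of_order_two hs) hodd
    exact isConj_iff.mpr ⟨k, hk⟩
  have all : ∀ x y : S, orderOf x = 2 → orderOf y = 2 → IsConj x y := by
    have all' : ∀ a : S, orderOf a = 2 → IsConj (i : S) a := by
      intro a ha
      by_cases haM : a ∈ M
      · exact (key i u hio i.2 hu huM).trans (key a u ha haM hu huM).symm
      · exact key i a hio i.2 ha haM
    exact fun x y hx hy => (all' x hx).symm.trans (all' y hy)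
  refine ⟨all, fun X I hI hIo hNX => ?_⟩
  obtain ⟨I', hI', rfl⟩ := hI
  set z : S := ((I' : M) : S) with hz
  have hzo : orderOf z = 2 := by rw [hz, Subgroup.orderOf_coe]; exact hIo
  have hXz : (X : Subgroup M).map M.subtype ≤ Subgroup.centralizer ({z} : Set S) := by
    rintro _ ⟨x, hx, rfl⟩
    exact Subgroup.mem_centralizer_singleton_iff.2
      (congrArg (fun t : (X : Subgroup M) => ((t : M) : S)) (Subgroup.mem_center_iff.1 hI' ⟨x, hx⟩))
  have hXi : ¬ 2 ∣ ((X : Subgroup M).map M.subtype).relIndex M := by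
    rw [Subgroup.relIndex, show ((X : Subgroup M).map M.subtype).subgroupOf M = X from
      Subgroup.comap_map_eq_self_of_injective M.subtype_injective _]
    exact X.not_dvd_index
  have hfix : ∀ j : S, j ∈ M → orderOf j = 2 → ∀ g : S, g⁻¹ * j * g ∈ M → g ∈ M := by
    -- the fixed coset of a central involution is unique
    have hzfix : ∀ g : S, g⁻¹ * z * g ∈ M → g ∈ M := by
      intro g hg
      have hle : (((X : Subgroup M).map M.subtype).map (MulAut.conj g⁻¹).toMonoidHom) ≤ M := by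
        rintro _ ⟨x, hx, rfl⟩
        refine hC _ hg ?_ (Subgroup.mem_centralizer_singleton_iff.2 ?_)
        · rw [show g⁻¹ * z * g = g⁻¹ * z * g⁻¹⁻¹ by rw [inv_inv], TwoGroups.orderOf_conj', hzo]
        · have h1 := Subgroup.mem_centralizer_singleton_iff.1 (hXz hx)
          show g⁻¹ * x * g⁻¹⁻¹ * (g⁻¹ * z * g) = g⁻¹ * z * g * (g⁻¹ * x * g⁻¹⁻¹)
          calc g⁻¹ * x * g⁻¹⁻¹ * (g⁻¹ * z * g) = g⁻¹ * (x * z) * g := by group
            _ = g⁻¹ * (z * x) * g := by rw [h1]
            _ = g⁻¹ * z * g * (g⁻¹ * x * g⁻¹⁻¹) := by group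
      obtain ⟨m, hm, hmX⟩ := TwoGroups.FactorPair.exists_conj_le hle ((X.2.map M.subtype).map _)
        (Subgroup.map_subtype_le _) (X.2.map M.subtype) hXi
      have hn : m * g⁻¹ ∈ Subgroup.normalizer (((X : Subgroup M).map M.subtype : Subgroup S) : Set S) := by
        refine Transfer.mem_normalizer_iff_map_conj.2 (Subgroup.eq_of_le_of_card_ge ?_ (Transfer.card_map_conj _ _).ge)
        rintro _ ⟨x, hx, rfl⟩
        have := hmX _ ⟨x, hx, rfl⟩
        simpa [mul_assoc] using this
      have h := mul_mem (inv_mem hm) (hNX hn)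
      rw [inv_mul_cancel_left] at h
      simpa using inv_mem h
    intro j hj hjo g hg
    obtain ⟨k, hk⟩ := isConj_iff.1 (all z j hzo hjo)
    have h1 : k⁻¹ ∈ M → k ∈ M := fun h => by simpa using inv_mem h
    have hkM : k ∈ M := h1 (hzfix k⁻¹ (by rw [inv_inv, hk]; exact hj))
    have h2 := hzfix (k⁻¹ * g) (by
      rw [← hk] at hg
      simpa [mul_assoc] using hg)
    simpa using mul_mem hkM h2
  have hSE : Cfsg.IsStronglyEmbedded M := by
    refine ⟨hMtop, hM, fun g hg => Nat.not_even_iff_odd.1 fun he => hg ?_⟩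
    obtain ⟨t, ht⟩ := exists_prime_orderOf_dvd_card' (G := ↥(M ⊓ M.map (MulAut.conj g).toMonoidHom)) 2 he.two_dvd
    obtain ⟨ht1, ⟨w, hw, hwe⟩⟩ := Subgroup.mem_inf.1 t.2
    refine hfix _ ht1 (by rw [Subgroup.orderOf_coe]; exact ht) g ?_
    rw [← hwe]
    show g⁻¹ * (g * w * g⁻¹) * g ∈ M
    rwa [show g⁻¹ * (g * w * g⁻¹) * g = w by group]
  have htrans := fun (a b : M) (ha : orderOf a = 2) (hb : orderOf b = 2) =>
    TwoGroups.se_transitive hSE hu huM (s := (a : S)) (t := (b : S)) (by rw [Subgroup.orderOf_coe]; exact ha) a.2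
      (by rw [Subgroup.orderOf_coe]; exact hb) b.2
  refine ⟨fun x y hx hy => ?_, (M ⊓ M.map (MulAut.conj u).toMonoidHom).subgroupOf M, ?_, fun m => ?_⟩
  · obtain ⟨d, hd, he⟩ := htrans x y hx hy
    exact isConj_iff.2 ⟨⟨d, (Subgroup.mem_inf.1 hd).1⟩, Subtype.ext he⟩
  · rw [Nat.card_congr (Subgroup.subgroupOfEquivOfLe inf_le_left).toEquiv]
    exact hSE.2.2 u huM
  · have hmI : orderOf (m * (I' : M) * m⁻¹) = 2 := by rw [TwoGroups.orderOf_conj']; exact hIo
    obtain ⟨d, hd, he⟩ := htrans (I' : M) _ hIo hmI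
    refine ⟨⟨d, (Subgroup.mem_inf.1 hd).1⟩, Subgroup.mem_subgroupOf.2 hd,
      (⟨d, (Subgroup.mem_inf.1 hd).1⟩ : M)⁻¹ * m, Subgroup.mem_centralizer_singleton_iff.2 (Subtype.ext ?_), by group⟩
    show d⁻¹ * (m : S) * z = z * (d⁻¹ * (m : S))
    have he' : d * z * d⁻¹ = (m : S) * z * (m : S)⁻¹ := he
    calc d⁻¹ * (m : S) * z = d⁻¹ * ((m : S) * z * (m : S)⁻¹) * m := by group
      _ = d⁻¹ * (d * z * d⁻¹) * m := by rw [he']
      _ = z * (d⁻¹ * (m : S)) := by group

end Cfsg.Agent.S1905
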