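import Cfsg.Statements.S1915
import Cfsg.Agent.Components.SemisimpleRankOne
import Cfsg.Agent.Components.Basic

set_option autoImplicit false
open Cfsg

namespace Cfsg.Agent.S1915

open Cfsg.Agent.Components.RankOneDescent

open scoped commutatorElement

/-- Let A be a semisimple subgroup (A = E(A)) of a finite group and U a Klein four-group normalizing A. If the subgroup of A generated by the normalizers N_A(V) of the nontrivial subgroups V of U has 2-rank exactly 1, then A has 2-rank exactly 1. -/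
theorem result {G : Type*} [Group G] [Finite G] (A : Subgroup G) (hA : Cfsg.layer ↥A = ⊤)
    (U : Subgroup G) (hU : IsKleinFour U) (hUA : U ≤ Subgroup.normalizer (A : Set G))
    (hΓ : Cfsg.PRankLE 2 1 ↥(⨆ V : {V : Subgroup G // V ≤ U ∧ V ≠ ⊥}, A ⊓ Subgroup.normalizer ((V : Subgroup G) : Set G)) ∧
      ¬ Cfsg.PRankLE 2 0 ↥(⨆ V : {V : Subgroup G // V ≤ U ∧ V ≠ ⊥}, A ⊓ Subgroup.normalizer ((V : Subgroup G) : Set G))) :
    Cfsg.PRankLE 2 1 A ∧ ¬ Cfsg.PRankLE 2 0 A := by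
  classical
  obtain ⟨hΓ1, hΓ0⟩ := hΓ
  set Γ := ⨆ V : {V : Subgroup G // V ≤ U ∧ V ≠ ⊥}, A ⊓ Subgroup.normalizer ((V : Subgroup G) : Set G)
  have hΓA : Γ ≤ A := iSup_le fun V => inf_le_left
  refine ⟨fun S hScomm hS2 => ?_, fun h0 => hΓ0 fun S hScomm hS2 => ?_⟩
  swap
  · haveI := hScomm
    have h := h0 (S.map (Subgroup.inclusion hΓA)) (Subgroup.map_isMulCommutative S _) (by
      rintro _ ⟨x, hx, rfl⟩
      rw [← map_pow, hS2 x hx, map_one])
    rwa [Nat.card_congr (Subgroup.equivMapOfInjective S _ (Subgroup.inclusion_injective hΓA)).toEquiv.symm] at h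
  by_contra hcard
  rw [pow_one, not_le] at hcard
  have three : ∀ {H : Type _} [Group H] [Finite H] (S : Subgroup H), 2 < Nat.card S →
      ∃ x ∈ S, ∃ y ∈ S, x ≠ 1 ∧ y ≠ 1 ∧ x ≠ y := by
    intro H _ _ S hS
    obtain ⟨⟨x, hx⟩, hx1⟩ : ∃ x : S, x ≠ 1 := by
      by_contra hcon
      push Not at hcon
      haveI : Subsingleton S := ⟨fun a b => (hcon a).trans (hcon b).symm⟩
      simp at hS
    refine ⟨x, hx, ?_⟩
    by_contra hcon
    push Not at hcon
    have hsub : (S : Set H) ⊆ {1, x} := fun y hy => by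
      by_cases hy1 : y = 1
      · exact Or.inl hy1
      · exact Or.inr (hcon y hy (fun h => hx1 (Subtype.ext h)) hy1).symm
    have := (Set.ncard_le_ncard hsub (Set.toFinite _)).trans (Set.ncard_insert_le _ _)
    rw [Set.ncard_singleton, ← Nat.card_coe_set_eq] at this
    exact absurd hS (not_lt.mpr this)
  obtain ⟨e₁, he₁, e₂, he₂, h₁, h₂, hne⟩ := three S hcard
  have hcomm : (e₁ : G) * e₂ = e₂ * e₁ := by
    exact congrArg Subtype.val (congrArg Subtype.val (hScomm.is_comm.comm (⟨e₁, he₁⟩ : S) ⟨e₂, he₂⟩))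
  have hA' : ⁅A, A⁆ = A := by
    have h := congrArg (Subgroup.map A.subtype) (Cfsg.Agent.Components.layer_commutator_self (G := ↥A))
    rwa [hA, Subgroup.map_commutator, ← MonoidHom.range_eq_map, Subgroup.range_subtype] at h
  obtain ⟨v₁, -, v₂, -, hv₁, hv₂, hv⟩ := three (⊤ : Subgroup ↥U) (by
    rw [Subgroup.card_top, hU.card_four]; norm_num)
  have hUsq : ∀ v : ↥U, v * v = 1 := fun v => by
    rw [← pow_two, ← hU.exponent_two]
    exact Monoid.pow_exponent_eq_one v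
  have hUc : v₁ * v₂ = v₂ * v₁ := by
    have e : ∀ v : ↥U, v⁻¹ = v := fun v => inv_eq_of_mul_eq_one_right (hUsq v)
    calc v₁ * v₂ = (v₁ * v₂)⁻¹ := (e _).symm
      _ = v₂ * v₁ := by rw [mul_inv_rev, e, e]
  obtain ⟨u, hu, e, he, e', he', hne1, hne1', hee, hsq, hsq', hc, hce, hce'⟩ :=
    exists_four_centralized hA' (u₁ := (v₁ : G)) (u₂ := (v₂ : G))
      (congrArg Subtype.val (hUsq v₁)) (congrArg Subtype.val (hUsq v₂)) (congrArg Subtype.val hUc)
      (hUA v₁.2) (hUA v₂.2) (e₁ := (e₁ : G)) (e₂ := (e₂ : G)) e₁.2 e₂.2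
      (fun h => h₁ (Subtype.ext h)) (fun h => h₂ (Subtype.ext h)) (fun h => hne (Subtype.ext h))
      (congrArg Subtype.val ((pow_two e₁).symm.trans (hS2 e₁ he₁)))
      (congrArg Subtype.val ((pow_two e₂).symm.trans (hS2 e₂ he₂))) hcomm
  have huU : u ∈ U ∧ u ≠ 1 := by
    rcases hu with rfl | rfl | rfl
    · exact ⟨v₁.2, fun h => hv₁ (Subtype.ext h)⟩
    · exact ⟨v₂.2, fun h => hv₂ (Subtype.ext h)⟩
    · refine ⟨mul_mem v₁.2 v₂.2, fun h => hv (Subtype.ext ?_)⟩
      rw [mul_eq_one_iff_eq_inv.mp h]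
      exact inv_eq_of_mul_eq_one_right (congrArg Subtype.val (hUsq v₂))
  have mem : ∀ {x : G}, x ∈ A → u * x = x * u → x ∈ Γ := by
    intro x hx hux
    refine Subgroup.mem_iSup_of_mem ⟨Subgroup.zpowers u, Subgroup.zpowers_le.mpr huU.1,
      fun h => huU.2 (Subgroup.zpowers_eq_bot.mp h)⟩ (Subgroup.mem_inf.mpr ⟨hx, ?_⟩)
    refine Cfsg.Agent.Coprime.mem_normalizer_of_conj_mem fun y hy => ?_
    obtain ⟨i, rfl⟩ := hy
    show x * u ^ i * x⁻¹ ∈ Subgroup.zpowers u
    rw [← ((show Commute u x from hux).zpow_left i).eq, mul_inv_cancel_right]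
    exact ⟨i, rfl⟩
  set W := four (⟨e, mem he hce⟩ : ↥Γ) ⟨e', mem he' hce'⟩ (Subtype.ext hsq) (Subtype.ext hsq')
    (Subtype.ext hc)
  have hW2 : ∀ x ∈ W, x ^ 2 = 1 := by
    rintro x (rfl | rfl | rfl | rfl) <;> rw [pow_two] <;> refine Subtype.ext ?_
    · exact one_mul 1
    · exact hsq
    · exact hsq'
    · show e' * e * (e' * e) = 1
      rw [mul_assoc e' e, ← mul_assoc e, hc, mul_assoc e' e e, hsq, mul_one, hsq']
  have hWc : IsMulCommutative W := ⟨⟨fun a b => by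
    have e0 : ∀ x : W, x⁻¹ = x := fun x => inv_eq_of_mul_eq_one_right (by
      refine Subtype.ext ?_
      show (x : ↥Γ) * x = 1
      rw [← pow_two]; exact hW2 x x.2)
    calc a * b = (a * b)⁻¹ := (e0 _).symm
      _ = b * a := by rw [mul_inv_rev, e0, e0]⟩⟩
  have hle := hΓ1 W hWc hW2
  have hsub : ({1, ⟨e, mem he hce⟩, ⟨e', mem he' hce'⟩} : Set ↥Γ) ⊆ (W : Set ↥Γ) := by
    rintro x (rfl | rfl | rfl)
    exacts [Or.inl rfl, Or.inr (Or.inl rfl), Or.inr (Or.inr (Or.inl rfl))]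
  have h3 := Set.ncard_le_ncard hsub (Set.toFinite _)
  rw [Set.ncard_insert_of_notMem, Set.ncard_pair, ← Nat.card_coe_set_eq] at h3
  · exact absurd hle (not_le.mpr (lt_of_lt_of_le (by norm_num) h3))
  · exact fun h => hee (congrArg Subtype.val h)
  · rintro (h | h)
    · exact hne1 (congrArg Subtype.val h).symm
    · exact hne1' (congrArg Subtype.val h).symm

end Cfsg.Agent.S1915
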