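import Cfsg.Statements.S1921
import Cfsg.Agent.Components.Basic

set_option autoImplicit false
open Cfsg

namespace Cfsg.Agent.S1921

/-- Let a be an involution of a finite group H and L a component of H with a L a⁻¹ ≠ L; put M = ⟨L, aLa⁻¹⟩ and let J be the subgroup generated by the elements x · a x a⁻¹ with x ∈ L (the diagonal). Then every element of M outside J·Z(M) generates M together with J. -/
theorem result {H : Type*} [Group H] [Finite H] (a : H) (ha : orderOf a = 2) (L : Subgroup H) (hL : Cfsg.IsComponent L)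
    (hLa : L.map (MulAut.conj a).toMonoidHom ≠ L) (x : H) (hxM : x ∈ L ⊔ L.map (MulAut.conj a).toMonoidHom)
    (hxJ : x ∉ Subgroup.closure {y : H | ∃ l ∈ L, y = l * (a * l * a⁻¹)} ⊔
      ((L ⊔ L.map (MulAut.conj a).toMonoidHom) ⊓ Subgroup.centralizer ((L ⊔ L.map (MulAut.conj a).toMonoidHom : Subgroup H) : Set H))) :
    Subgroup.closure {y : H | ∃ l ∈ L, y = l * (a * l * a⁻¹)} ⊔ Subgroup.zpowers x = L ⊔ L.map (MulAut.conj a).toMonoidHom := by
  classical
  set f := (MulAut.conj a).toMonoidHom with hf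
  set L2 := L.map f with hL2
  have hL2c : Cfsg.IsComponent L2 :=
    ⟨hL.1.map (MulAut.conj a).surjective,
      Agent.Components.isQuasisimple_of_equiv (L.equivMapOfInjective f (MulAut.conj a).injective) hL.2⟩
  have hc : ∀ u ∈ L, ∀ v ∈ L2, v * u = u * v := fun u hu v hv =>
    Subgroup.mem_centralizer_iff.1 (Agent.Components.components_commute_le hL hL2c (Ne.symm hLa) hu) v hv
  have hmem : ∀ l ∈ L, a * l * a⁻¹ ∈ L2 := fun l hl => ⟨l, hl, rfl⟩
  set J := Subgroup.closure {y : H | ∃ l ∈ L, y = l * (a * l * a⁻¹)} with hJ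
  set M := L ⊔ L2 with hM
  set K := J ⊔ Subgroup.zpowers x with hK
  have hJM : J ≤ M := by
    rw [hJ, Subgroup.closure_le]
    rintro _ ⟨l, hl, rfl⟩
    exact M.mul_mem (Subgroup.mem_sup_left hl) (Subgroup.mem_sup_right (hmem l hl))
  refine le_antisymm (sup_le hJM (Subgroup.zpowers_le.2 hxM)) ?_
  have hnorm : L ≤ Subgroup.normalizer (L2 : Set H) :=
    (Agent.Components.components_commute_le hL hL2c (Ne.symm hLa)).trans (Subgroup.centralizer_le_normalizer _)
  have hx' : x ∈ ((M : Subgroup H) : Set H) := hxM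
  rw [hM, Subgroup.coe_mul_of_left_le_normalizer_right _ _ hnorm] at hx'
  obtain ⟨u, hu, _, ⟨v, hv, rfl⟩, hxe⟩ := hx'
  have hjJ : v * (a * v * a⁻¹) ∈ J := Subgroup.subset_closure ⟨v, hv, rfl⟩
  have hxe' : (u * v⁻¹) * (v * (a * v * a⁻¹)) = x := by
    rw [← hxe]; simp [f, mul_assoc]
  have heK : u * v⁻¹ ∈ K := by
    have := K.mul_mem (Subgroup.mem_sup_right (Subgroup.mem_zpowers x)) (K.inv_mem (Subgroup.mem_sup_left hjJ))
    rwa [← hxe', mul_inv_cancel_right] at this
  have heL : u * v⁻¹ ∈ L := L.mul_mem hu (L.inv_mem hv)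
  have henz : (⟨u * v⁻¹, heL⟩ : L) ∉ Subgroup.center L := by
    intro hz
    apply hxJ
    rw [← hxe']
    refine Subgroup.mul_mem _ (Subgroup.mem_sup_right ⟨Subgroup.mem_sup_left heL, ?_⟩) (Subgroup.mem_sup_left hjJ)
    have hle : L ⊔ L2 ≤ Subgroup.centralizer ({u * v⁻¹} : Set H) := by
      refine sup_le (fun w hw => ?_) (fun w hw => ?_) <;> rw [Subgroup.mem_centralizer_singleton_iff]
      · exact congrArg Subtype.val (Subgroup.mem_center_iff.1 hz ⟨w, hw⟩)
      · exact hc _ heL w hw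
    exact Subgroup.mem_centralizer_iff.2 fun w hw => Subgroup.mem_centralizer_singleton_iff.1 (hle hw)
  haveI hn : (K.subgroupOf L).Normal := ⟨fun n hn g => by
    refine Subgroup.mem_subgroupOf.2 ?_
    have hg : (g : H) * (a * g * a⁻¹) ∈ K := Subgroup.mem_sup_left (Subgroup.subset_closure ⟨g, g.2, rfl⟩)
    have h1 := K.mul_mem (K.mul_mem hg (Subgroup.mem_subgroupOf.1 hn)) (K.inv_mem hg)
    rw [Subgroup.coe_mul, Subgroup.coe_mul, InvMemClass.coe_inv]
    have h2 := hc (n : H) n.2 _ (hmem g g.2)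
    rwa [mul_assoc (g : H), h2, mul_inv_rev, show (g : H) * ((n : H) * (a * g * a⁻¹)) * ((a * g * a⁻¹)⁻¹ * (g : H)⁻¹)
      = (g : H) * n * (g : H)⁻¹ by group] at h1⟩
  rcases Agent.Components.quasisimple_normal_eq_top_or_le_center hL.2 (K.subgroupOf L) with ht | hz
  · have hLK : L ≤ K := Subgroup.subgroupOf_eq_top.1 ht
    refine sup_le hLK ?_
    rintro _ ⟨l, hl, rfl⟩
    have := K.mul_mem (K.inv_mem (hLK hl)) (Subgroup.mem_sup_left (Subgroup.subset_closure ⟨l, hl, rfl⟩))
    rw [inv_mul_cancel_left] at this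
    exact this
  · exact absurd (hz (Subgroup.mem_subgroupOf.2 heK)) henz

end Cfsg.Agent.S1921
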