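import Cfsg.Statements.S1922
import Cfsg.Agent.TwoGroups.Involution
import Mathlib.GroupTheory.Sylow
import Mathlib.GroupTheory.Perm.Cycle.Type

set_option autoImplicit false
open Cfsg

namespace Cfsg.Agent.S1922

open Subgroup
open scoped Pointwise

section

variable {G : Type*} [Group G] {z : G} {H : Subgroup G}

theorem mem_conj_iff {g x : G} : x ∈ H.map (MulAut.conj g).toMonoidHom ↔ g⁻¹ * x * g ∈ H := by
  rw [mem_map_equiv]; simp

theorem smul_fix_iff {g x : G} : x • ((g : G) : G ⧸ H) = g ↔ g⁻¹ * x * g ∈ H := by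
  rw [show x • ((g : G) : G ⧸ H) = ((x * g : G) : G ⧸ H) from rfl, QuotientGroup.eq, ← inv_mem_iff]
  simp [mul_assoc]

/-- A conjugate of `z` fixes exactly one coset. -/
theorem fix_unique (h0 : ∀ g : G, z ∈ H.map (MulAut.conj g).toMonoidHom ↔ g ∈ H) {d : G}
    (hd : IsConj z d) {a b : G ⧸ H} (ha : d • a = a) (hb : d • b = b) : a = b := by
  obtain ⟨k, rfl⟩ := isConj_iff.1 hd
  obtain ⟨a, rfl⟩ := QuotientGroup.mk_surjective a
  obtain ⟨b, rfl⟩ := QuotientGroup.mk_surjective b
  rw [smul_fix_iff] at ha hb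
  have key : ∀ c, c⁻¹ * (k * z * k⁻¹) * c ∈ H → k⁻¹ * c ∈ H := fun c hc => (h0 _).1 (mem_conj_iff.2 (by
    rwa [mul_inv_rev, inv_inv, show c⁻¹ * k * z * (k⁻¹ * c) = c⁻¹ * (k * z * k⁻¹) * c by group]))
  rw [QuotientGroup.eq]
  have := H.mul_mem (H.inv_mem (key a ha)) (key b hb)
  rwa [show (k⁻¹ * a)⁻¹ * (k⁻¹ * b) = a⁻¹ * b by group] at this

theorem exists_fix (hzH : z ∈ H) {d : G} (hd : IsConj z d) : ∃ a : G ⧸ H, d • a = a := by
  obtain ⟨k, rfl⟩ := isConj_iff.1 hd
  exact ⟨k, smul_fix_iff.2 (by rwa [show k⁻¹ * (k * z * k⁻¹) * k = z by group])⟩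

variable [Finite G]

/-- Under condition (1), `H` has odd index and contains an odd number of conjugates of `z`. -/
theorem central_of_one (hz : orderOf z = 2) (hH : H ≠ ⊤)
    (h0 : ∀ g : G, z ∈ H.map (MulAut.conj g).toMonoidHom ↔ g ∈ H)
    (h1 : ∀ t : G, IsConj z t → t ≠ z → t * z = z * t → ∀ g : G,
      z * t ∈ H.map (MulAut.conj g).toMonoidHom ↔ g ∈ H) :
    ∃ P : Sylow 2 G, z ∈ (center ↥(P : Subgroup G)).map (P : Subgroup G).subtype := by
  classical
  have hz2 : z * z = 1 := by rw [← pow_two]; exact hz ▸ pow_orderOf_eq_one z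
  have hzH : z ∈ H := by simpa using (h0 1).2 H.one_mem
  have hfz : z • ((1 : G) : G ⧸ H) = (1 : G) := smul_fix_iff.2 (by simpa using hzH)
  have hinv : ∀ d, IsConj z d → d * d = 1 := fun d hd => by
    obtain ⟨k, rfl⟩ := isConj_iff.1 hd
    calc k * z * k⁻¹ * (k * z * k⁻¹) = k * (z * z) * k⁻¹ := by group
      _ = 1 := by rw [hz2]; group
  -- products of commuting conjugates fix one coset
  have hprod : ∀ d e, IsConj z d → IsConj z e → e ≠ d → e * d = d * e → ∀ a b : G ⧸ H, d • a = a →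
      (d * e) • b = b → b = a := by
    intro d e hd he hne hc a b ha hb
    obtain ⟨k, hk⟩ := isConj_iff.1 hd
    set t := k⁻¹ * e * k with ht
    have he' : e = k * t * k⁻¹ := by rw [ht]; group
    obtain ⟨b, rfl⟩ := QuotientGroup.mk_surjective b
    have hb' := smul_fix_iff.1 hb
    have hka : a = ((k : G) : G ⧸ H) := fix_unique h0 hd ha (smul_fix_iff.2 (by
      rwa [← hk, show k⁻¹ * (k * z * k⁻¹) * k = z by group]))
    have hti : IsConj z t := he.trans (isConj_iff.2 ⟨k⁻¹, by rw [ht, inv_inv]⟩)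
    have htne : t ≠ z := fun e' => hne (by rw [he', e', hk])
    have htc : t * z = z * t := by
      have := congrArg (fun u => k⁻¹ * u * k) hc
      rw [← hk, he'] at this
      simpa [mul_assoc] using this
    have := (h1 t hti htne htc (k⁻¹ * b)).1 (mem_conj_iff.2 (by
      rw [← hk, he'] at hb'
      rwa [show (k⁻¹ * b)⁻¹ * (z * t) * (k⁻¹ * b) = b⁻¹ * (k * z * k⁻¹ * (k * t * k⁻¹)) * b by group]))
    rw [hka, QuotientGroup.eq]
    have h2 := H.inv_mem this
    rwa [mul_inv_rev, inv_inv] at h2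
  -- conjugates fixing different cosets have product of odd order
  have hodd : ∀ d e, IsConj z d → IsConj z e → ∀ a b : G ⧸ H, d • a = a → e • b = b → a ≠ b →
      Odd (orderOf (d * e)) := by
    intro d e hd he a b ha hb hab
    by_contra hne
    rw [Nat.not_odd_iff_even] at hne
    obtain ⟨c, -, hc1, hcc, hcd, hce, hor⟩ := TwoGroups.exists_central_of_even (hinv d hd) (hinv e he)
      (isOfFinOrder_of_finite _) hne
    have hcdconj : IsConj z (c * d) := by
      rcases hor with ⟨h, -, hh⟩ | ⟨h, -, hh⟩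
      · exact hd.trans (isConj_iff.2 ⟨h, hh⟩)
      · exact he.trans (isConj_iff.2 ⟨h, hh⟩)
    have hcd1 : c * d ≠ d := fun e' => hc1 (mul_eq_right.1 e')
    have hcbfix : e • (c • b) = c • b := by rw [← mul_smul, ← hce.eq, mul_smul, hb]
    have hcb : c • b = b := fix_unique h0 he hcbfix hb
    have hb2 : (d * (c * d)) • b = b := by
      rw [show d * (c * d) = c by rw [← mul_assoc, ← hcd.eq, mul_assoc, hinv d hd, mul_one]]
      exact hcb
    exact hab (hprod d (c * d) hd hcdconj hcd1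
      (hcd.mul_left (Commute.refl d)).eq a b ha hb2).symm
  let I : G ⧸ H → Type _ := fun a => {d : G // IsConj z d ∧ d • a = a}
  let Rs : G ⧸ H → G ⧸ H → Type _ := fun a b => {d : G // IsConj z d ∧ d • a = b}
  let m := Nat.card (I ((1 : G) : G ⧸ H))
  have hI : ∀ a, Nat.card (I a) = m := by
    intro a
    obtain ⟨g, rfl⟩ := QuotientGroup.mk_surjective a
    refine Nat.card_congr ((MulAut.conj g⁻¹).toEquiv.subtypeEquiv fun d => ?_)
    show _ ↔ IsConj z (g⁻¹ * d * g⁻¹⁻¹) ∧ (g⁻¹ * d * g⁻¹⁻¹) • ((1 : G) : G ⧸ H) = ((1 : G) : G ⧸ H)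
    rw [smul_fix_iff, smul_fix_iff, inv_inv, inv_one, one_mul, mul_one]
    refine and_congr_left' ⟨fun h => h.trans (isConj_iff.2 ⟨g⁻¹, by rw [inv_inv]⟩),
      fun h => h.trans (isConj_iff.2 ⟨g, by group⟩)⟩
  have hR : ∀ a b : G ⧸ H, a ≠ b → Nat.card (Rs a b) = m := by
    intro a b hab
    obtain ⟨ka, rfl⟩ := QuotientGroup.mk_surjective a
    obtain ⟨s, hs, hsa⟩ : ∃ s, IsConj z s ∧ s • ((ka : G) : G ⧸ H) = ka :=
      ⟨ka * z * ka⁻¹, isConj_iff.2 ⟨ka, rfl⟩, smul_fix_iff.2 (by
        rwa [show ka⁻¹ * (ka * z * ka⁻¹) * ka = z by group])⟩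
    rw [← hI b]
    refine Nat.card_eq_of_bijective (fun r => (⟨r.1 * s * r.1⁻¹, hs.trans (isConj_iff.2 ⟨r.1, rfl⟩), by
      refine (congrArg ((r.1 * s * r.1⁻¹) • ·) r.2.2.symm).trans ?_
      show (r.1 * s * r.1⁻¹) • (r.1 • ((ka : G) : G ⧸ H)) = b
      rw [← mul_smul, inv_mul_cancel_right, mul_smul, hsa]
      exact r.2.2⟩ : I b)) ⟨?_, ?_⟩
    · intro r r' e
      have e' : r.1 * s * r.1⁻¹ = r'.1 * s * r'.1⁻¹ := congrArg Subtype.val e
      have hodd' : ∀ r : Rs ((ka : G) : G ⧸ H) b, Odd (orderOf (r.1 * s)) := by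
        intro r
        obtain ⟨c, hc⟩ := exists_fix hzH r.2.1
        refine hodd _ _ r.2.1 hs c _ hc hsa fun e => ?_
        rw [e] at hc
        exact hab (hc.symm.trans r.2.2)
      have hsq : ∀ r : Rs ((ka : G) : G ⧸ H) b, r.1 * s * r.1⁻¹ * s = (r.1 * s) ^ 2 := fun r => by
        rw [inv_eq_of_mul_eq_one_right (hinv _ r.2.1), pow_two, mul_assoc (r.1 * s)]
      have h2 : (r.1 * s) ^ 2 = (r'.1 * s) ^ 2 := by rw [← hsq, ← hsq, e']
      have hord : orderOf (r.1 * s) = orderOf (r'.1 * s) := by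
        have hco : ∀ r : Rs ((ka : G) : G ⧸ H) b, orderOf ((r.1 * s) ^ 2) = orderOf (r.1 * s) := fun r =>
          Nat.Coprime.orderOf_pow ((Nat.coprime_two_right).2 (hodd' r))
        rw [← hco r, ← hco r', h2]
      obtain ⟨j, hj⟩ := hodd' r
      have hrec : ∀ v : G, orderOf v = 2 * j + 1 → (v ^ 2) ^ (j + 1) = v := fun v hv => by
        rw [← pow_mul, show 2 * (j + 1) = orderOf v + 1 by omega, pow_succ, pow_orderOf_eq_one, one_mul]
      exact Subtype.ext (mul_right_cancel (b := s)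
        (by rw [← hrec _ hj, h2, hrec _ (hord.symm.trans hj)]))
    · rintro ⟨u, hu, hub⟩
      have hus := hodd u s hu hs b _ hub hsa (Ne.symm hab)
      obtain ⟨k, hk, hku⟩ := TwoGroups.exists_conj_of_odd (hinv u hu) (hinv s hs) hus
      obtain ⟨i, rfl⟩ := mem_zpowers_iff.1 hk
      have hsinv : s * (u * s) * s⁻¹ = (u * s)⁻¹ := by
        rw [mul_inv_rev, inv_eq_of_mul_eq_one_right (hinv s hs), inv_eq_of_mul_eq_one_right (hinv u hu)]
        simp [mul_assoc, hinv s hs]
      obtain ⟨j, hj⟩ := hus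
      have hhalf : ((u * s) ^ (i * (j + 1))) ^ 2 = (u * s) ^ i := by
        rw [← zpow_natCast, ← zpow_mul, show i * ((j : ℤ) + 1) * (2 : ℕ) = i + ((2 * j + 1 : ℕ) : ℤ) * i by
          push_cast; ring, zpow_add, zpow_mul, zpow_natCast, ← hj, pow_orderOf_eq_one, one_zpow, mul_one]
      have hrs : (u * s) ^ i * s = (u * s) ^ (i * (j + 1)) * s * ((u * s) ^ (i * (j + 1)))⁻¹ := by
        rw [← zpow_neg, mul_assoc _ s, TwoGroups.mul_zpow_of_inverts hsinv, neg_neg, ← mul_assoc, ← pow_two, hhalf]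
      have hr : IsConj z ((u * s) ^ i * s) := hs.trans (isConj_iff.2 ⟨_, hrs.symm⟩)
      have hrsr : ((u * s) ^ i * s) * s * ((u * s) ^ i * s)⁻¹ = u := by
        rw [show (u * s) ^ i * s * s * ((u * s) ^ i * s)⁻¹ = (u * s) ^ i * s * ((u * s) ^ i)⁻¹ by group]
        exact hku
      have hrb : ((u * s) ^ i * s) • ((ka : G) : G ⧸ H) = b := by
        have h5 : (((u * s) ^ i * s) * s * ((u * s) ^ i * s)⁻¹) • (((u * s) ^ i * s) • ((ka : G) : G ⧸ H))
            = ((u * s) ^ i * s) • ((ka : G) : G ⧸ H) := by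
          rw [← mul_smul, inv_mul_cancel_right, mul_smul, hsa]
        rw [hrsr] at h5
        exact fix_unique h0 hu h5 hub
      exact ⟨⟨_, hr, hrb⟩, Subtype.ext hrsr⟩
  obtain ⟨g, hg⟩ : ∃ g, g ∉ H := by
    by_contra hcon
    push Not at hcon
    exact hH (eq_top_iff.2 fun g _ => hcon g)
  set x : G ⧸ H := ((1 : G) : G ⧸ H) with hx
  set y : G ⧸ H := ((g : G) : G ⧸ H) with hy
  have hxy : y ≠ x := fun e => hg (by
    have := QuotientGroup.eq.1 e; rwa [mul_one, inv_mem_iff] at this)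
  have hzy : z • y ≠ y := fun e => hxy (fix_unique h0 (IsConj.refl z) e hfz)
  have hzyy : z • (z • y) = y := by rw [← mul_smul, hz2, one_smul]
  -- `z` fixes only itself among the swappers of `y` and `z y`
  have hm : ¬ 2 ∣ m := by
    rw [← hR y (z • y) (Ne.symm hzy)]
    let zg := zpowers z
    have hzc : ∀ r : Rs y (z • y), IsConj z (z * r.1 * z⁻¹) ∧ (z * r.1 * z⁻¹) • y = z • y := by
      intro r
      refine ⟨r.2.1.trans (isConj_iff.2 ⟨z, rfl⟩), ?_⟩
      have h3 : r.1 • (z • y) = y := by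
        refine (congrArg (r.1 • ·) r.2.2.symm).trans ?_
        show r.1 • (r.1 • y) = y
        rw [← mul_smul, hinv _ r.2.1, one_smul]
      rw [inv_eq_of_mul_eq_one_right hz2, mul_smul, mul_smul, h3]
    let φ : Equiv.Perm (Rs y (z • y)) :=
      Function.Involutive.toPerm (fun r => ⟨z * r.1 * z⁻¹, hzc r⟩) (fun r => Subtype.ext (by
        show z * (z * r.1 * z⁻¹) * z⁻¹ = r.1
        rw [inv_eq_of_mul_eq_one_right hz2, ← mul_assoc, ← mul_assoc, hz2, one_mul, mul_assoc, hz2, mul_one]))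
    intro hd
    let zz : Rs y (z • y) := ⟨z, IsConj.refl z, rfl⟩
    have hfix : ∀ r, φ r = r → r = zz := by
      intro r hr
      by_contra hne
      have hr' : z * r.1 * z⁻¹ = r.1 := congrArg Subtype.val hr
      have hc : r.1 * z = z * r.1 := (mul_inv_eq_iff_eq_mul.1 hr').symm
      have hne' : r.1 ≠ z := fun e => hne (Subtype.ext e)
      exact hxy (hprod z r.1 (IsConj.refl z) r.2.1 hne' hc x y hfz
        (by rw [mul_smul, r.2.2, hzyy]))
    letI : Fintype (Rs y (z • y)) := Fintype.ofFinite _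
    have hpow : φ ^ 2 ^ 1 = 1 := by
      ext r
      show ((φ (φ r)) : G) = r.1
      show z * (z * r.1 * z⁻¹) * z⁻¹ = r.1
      rw [inv_eq_of_mul_eq_one_right hz2, ← mul_assoc, ← mul_assoc, hz2, one_mul, mul_assoc, hz2, mul_one]
    have := Equiv.Perm.exists_fixed_point_of_prime' (p := 2) (n := 1) (σ := φ)
      (by rwa [← Nat.card_eq_fintype_card]) hpow (show φ zz = zz from Subtype.ext (by
        show z * z * z⁻¹ = z
        rw [mul_inv_cancel_right]))
    obtain ⟨r, hr, hr'⟩ := this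
    exact hr' (hfix r hr)
  have hΩ : ¬ 2 ∣ H.index := by
    have hP : IsPGroup 2 (zpowers z) := IsPGroup.of_card (n := 1) (by rw [Nat.card_zpowers, hz, pow_one])
    have h := hP.card_modEq_card_fixedPoints (G ⧸ H)
    have hfix : MulAction.fixedPoints (zpowers z) (G ⧸ H) = {x} := by
      ext a
      refine ⟨fun ha => fix_unique h0 (IsConj.refl z) (ha ⟨z, mem_zpowers z⟩) hfz, ?_⟩
      rintro rfl ⟨w, hw⟩
      obtain ⟨i, rfl⟩ := mem_zpowers_iff.1 hw
      have hi : z ^ i • x = x := MulAction.zpow_smul_eq_iff_minimalPeriod_dvd.2 (by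
        rw [show Function.minimalPeriod (z • ·) x = 1 from Function.minimalPeriod_eq_one_iff_isFixedPt.2 hfz]
        exact ⟨i, (one_mul i).symm⟩)
      exact hi
    rw [hfix, Nat.card_coe_set_eq, Set.ncard_singleton] at h
    unfold Nat.ModEq at h
    change ¬ 2 ∣ Nat.card (G ⧸ H)
    omega
  have hD : (centralizer ({z} : Set G)).index = H.index * m := by
    have e1 : {d : G // IsConj z d} ≃ Σ a, I a :=
      Equiv.ofBijective (fun d => ⟨(exists_fix hzH d.2).choose, d.1, d.2, (exists_fix hzH d.2).choose_spec⟩)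
        ⟨fun d d' e => Subtype.ext (congrArg (fun p : Σ a, I a => p.2.1) e), fun ⟨a, d, hd, hda⟩ => ⟨⟨d, hd⟩, by
          obtain rfl : (exists_fix hzH hd).choose = a := fix_unique h0 hd (exists_fix hzH hd).choose_spec hda
          rfl⟩⟩
    letI : Fintype (G ⧸ H) := Fintype.ofFinite _
    have hcard : Nat.card {d : G // IsConj z d} = H.index * m := by
      rw [Nat.card_congr e1, Nat.card_sigma, Finset.sum_congr rfl (fun a _ => hI a), Finset.sum_const,
        Finset.card_univ, smul_eq_mul, ← Nat.card_eq_fintype_card]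
      rfl
    rw [← hcard]
    show Nat.card (G ⧸ centralizer ({z} : Set G)) = _
    refine Nat.card_eq_of_bijective (fun q => Quotient.liftOn' q
      (fun k => (⟨k * z * k⁻¹, isConj_iff.2 ⟨k, rfl⟩⟩ : {d : G // IsConj z d})) ?_) ⟨?_, ?_⟩
    · intro k k' e
      rw [QuotientGroup.leftRel_apply, mem_centralizer_singleton_iff] at e
      apply Subtype.ext
      calc k * z * k⁻¹ = k * (z * (k⁻¹ * k')) * k'⁻¹ := by group
        _ = k * (k⁻¹ * k' * z) * k'⁻¹ := by rw [e]
        _ = k' * z * k'⁻¹ := by group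
    · rintro ⟨k⟩ ⟨k'⟩ e
      have e' : k * z * k⁻¹ = k' * z * k'⁻¹ := congrArg Subtype.val e
      refine QuotientGroup.eq.2 (mem_centralizer_singleton_iff.2 ?_)
      calc k⁻¹ * k' * z = k⁻¹ * (k' * z * k'⁻¹) * k' := by group
        _ = z * (k⁻¹ * k') := by rw [← e']; group
    · rintro ⟨d, hd⟩
      obtain ⟨k, rfl⟩ := isConj_iff.1 hd
      exact ⟨QuotientGroup.mk k, rfl⟩
  have hCodd : ¬ 2 ∣ (centralizer ({z} : Set G)).index := by
    rw [hD]; exact fun h => (Nat.prime_two.dvd_mul.1 h).elim hΩ hm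
  haveI : Fact (Nat.Prime 2) := ⟨Nat.prime_two⟩
  let Q : Sylow 2 (centralizer ({z} : Set G)) := default
  obtain ⟨P, hP⟩ := (Q.isPGroup'.map (centralizer ({z} : Set G)).subtype).exists_le_sylow
  have hPC : (P : Subgroup G) ≤ centralizer ({z} : Set G) := by
    refine le_trans (le_of_eq ?_) (map_subtype_le (Q : Subgroup _))
    refine (eq_of_le_of_card_ge hP (le_of_eq ?_)).symm
    rw [card_map_of_injective (centralizer ({z} : Set G)).subtype_injective, Q.card_eq_multiplicity,
      P.card_eq_multiplicity, ← (centralizer ({z} : Set G)).card_mul_index,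
      Nat.factorization_mul Nat.card_pos.ne' index_ne_zero_of_finite, Finsupp.add_apply,
      Nat.factorization_eq_zero_of_not_dvd hCodd, add_zero]
  have hzP : z ∈ (P : Subgroup G) := by
    have hn : (P : Subgroup G) ≤ normalizer (zpowers z : Set G) :=
      hPC.trans ((centralizer_le_normalizer _).trans' (le_of_eq (centralizer_closure {z}).symm) |>.trans
        (le_of_eq (by rw [zpowers_eq_closure])))
    have h2 : IsPGroup 2 ((P : Subgroup G) ⊔ zpowers z : Subgroup G) :=
      IsPGroup.to_sup_of_normal_right' P.isPGroup' (IsPGroup.of_card (n := 1) (by rw [Nat.card_zpowers, hz, pow_one])) hn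
    exact (P.is_maximal' h2 le_sup_left).le (mem_sup_right (mem_zpowers z))
  exact ⟨P, ⟨z, hzP⟩, mem_center_iff.2 fun p => Subtype.ext (mem_centralizer_singleton_iff.1 (hPC p.2)), rfl⟩

end


/-- Let z be an involution of a finite group G and H a proper subgroup such that z lies in gHg⁻¹ exactly when g ∈ H. Then the following are equivalent: (1) for every conjugate t ≠ z of z commuting with z, the product zt lies in gHg⁻¹ exactly when g ∈ H; (2) z lies in the centre of some Sylow 2-subgroup of G, and for every conjugate t ≠ z of z commuting with z, the centralizer of zt is contained in H. -/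
theorem result {G : Type*} [Group G] [Finite G] (z : G) (hz : orderOf z = 2) (H : Subgroup G) (hH : H ≠ ⊤)
    (h0 : ∀ g : G, z ∈ H.map (MulAut.conj g).toMonoidHom ↔ g ∈ H) :
    (∀ t : G, IsConj z t → t ≠ z → t * z = z * t → ∀ g : G, z * t ∈ H.map (MulAut.conj g).toMonoidHom ↔ g ∈ H) ↔
      ((∃ P : Sylow 2 G, z ∈ (Subgroup.center ↥(P : Subgroup G)).map (P : Subgroup G).subtype) ∧
        ∀ t : G, IsConj z t → t ≠ z → t * z = z * t → Subgroup.centralizer ({z * t} : Set G) ≤ H) := by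
  classical
  have hzH : z ∈ H := by simpa using (h0 1).2 H.one_mem
  have hz2 : z * z = 1 := by rw [← pow_two]; exact hz ▸ pow_orderOf_eq_one z
  have hCz : Subgroup.centralizer ({z} : Set G) ≤ H := fun g hg => (h0 g).1 (mem_conj_iff.2 (by
    rw [mul_assoc, ← Subgroup.mem_centralizer_singleton_iff.1 hg, inv_mul_cancel_left]; exact hzH))
  constructor
  · intro h1
    refine ⟨central_of_one hz hH h0 h1, fun t ht hne hc g hg => ?_⟩
    refine (h1 t ht hne hc g).1 (mem_conj_iff.2 ?_)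
    rw [mul_assoc, ← Subgroup.mem_centralizer_singleton_iff.1 hg, inv_mul_cancel_left]
    exact H.mul_mem hzH (hCz (Subgroup.mem_centralizer_singleton_iff.2 hc))
  · rintro ⟨⟨P, hP⟩, h2⟩ t ht hne hc g
    have htH : t ∈ H := hCz (Subgroup.mem_centralizer_singleton_iff.2 hc)
    have hzt : z * t ∈ H := H.mul_mem hzH htH
    constructor
    · intro hg
      rw [mem_conj_iff] at hg
      set w := g⁻¹ * (z * t) * g with hw
      haveI : Fact (Nat.Prime 2) := ⟨Nat.prime_two⟩
      obtain ⟨zp, hzp, rfl⟩ := hP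
      have hPH : (P : Subgroup G) ≤ H := fun p hp => hCz (Subgroup.mem_centralizer_singleton_iff.2
        (congrArg Subtype.val (Subgroup.mem_center_iff.1 hzp ⟨p, hp⟩)))
      have hw2 : w ^ 2 = 1 := by
        have ht2 : t * t = 1 := by
          obtain ⟨k, rfl⟩ := isConj_iff.1 ht
          calc k * _ * k⁻¹ * (k * _ * k⁻¹) = k * ((zp : G) * zp) * k⁻¹ := by
                simp only [Subgroup.coe_subtype]; group
            _ = 1 := by rw [show (zp : G) * zp = 1 from hz2]; group
        have hzt2 : ((zp : G) * t) * ((zp : G) * t) = 1 := by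
          rw [mul_assoc, ← mul_assoc t, show t * (zp : G) = (zp : G) * t from hc, mul_assoc (zp : G) t t, ht2,
            mul_one]
          exact hz2
        rw [hw, pow_two]
        simp only [Subgroup.coe_subtype]
        calc g⁻¹ * ((zp : G) * t) * g * (g⁻¹ * ((zp : G) * t) * g)
            = g⁻¹ * (((zp : G) * t) * ((zp : G) * t)) * g := by group
          _ = 1 := by rw [hzt2]; group
      let PH : Sylow 2 H := P.subtype hPH
      have hwp : IsPGroup 2 (Subgroup.zpowers (⟨w, hg⟩ : H)) := by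
        rw [IsPGroup.iff_card, Nat.card_zpowers, Subgroup.orderOf_mk]
        obtain ⟨i, -, hi⟩ := (Nat.dvd_prime_pow Nat.prime_two).1 (show orderOf w ∣ 2 ^ 1 by
          rw [pow_one]; exact orderOf_dvd_of_pow_eq_one hw2)
        exact ⟨i, hi⟩
      obtain ⟨Q, hQ⟩ := hwp.exists_le_sylow
      obtain ⟨h, hh⟩ := MulAction.exists_smul_eq H Q PH
      have hmem : (h : G) * w * (h : G)⁻¹ ∈ (P : Subgroup G) := by
        have : h * ⟨w, hg⟩ * h⁻¹ ∈ (PH : Subgroup H) := by
          rw [← hh, Sylow.coe_subgroup_smul, Subgroup.mem_pointwise_smul_iff_inv_smul_mem]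
          simpa [mul_assoc] using hQ (Subgroup.mem_zpowers _)
        simpa [PH, Subgroup.mem_subgroupOf] using this
      set d := (h : G)⁻¹ * (zp : G) * (h : G) with hd
      have hdw : d * w = w * d := by
        have h3 : ((h : G) * w * (h : G)⁻¹) * (zp : G) = (zp : G) * ((h : G) * w * (h : G)⁻¹) :=
          congrArg Subtype.val (Subgroup.mem_center_iff.1 hzp ⟨_, hmem⟩)
        calc d * w = (h : G)⁻¹ * ((zp : G) * ((h : G) * w * (h : G)⁻¹)) * h := by rw [hd]; group
          _ = w * d := by rw [← h3, hd]; group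
      have hmem2 : g * d * g⁻¹ ∈ Subgroup.centralizer ({(P : Subgroup G).subtype zp * t} : Set G) := by
        refine Subgroup.mem_centralizer_singleton_iff.2 ?_
        have hw' : (P : Subgroup G).subtype zp * t = g * w * g⁻¹ := by rw [hw]; group
        rw [hw']
        calc g * d * g⁻¹ * (g * w * g⁻¹) = g * (d * w) * g⁻¹ := by group
          _ = g * w * g⁻¹ * (g * d * g⁻¹) := by rw [hdw]; group
      have h4 : ((g * (h : G)⁻¹)⁻¹)⁻¹ * (P : Subgroup G).subtype zp * (g * (h : G)⁻¹)⁻¹ ∈ H := by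
        have := h2 t ht hne hc hmem2
        simpa [hd, mul_assoc] using this
      have h5 := H.inv_mem ((h0 _).1 (mem_conj_iff.2 h4))
      rw [inv_inv] at h5
      have h6 := H.mul_mem h5 h.2
      rwa [inv_mul_cancel_right] at h6
    · intro hg
      exact mem_conj_iff.2 (H.mul_mem (H.mul_mem (H.inv_mem hg) hzt) hg)

end Cfsg.Agent.S1922
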