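import Cfsg.Statements.S1944
import Cfsg.Agent.TwoGroups.FactorPair

set_option autoImplicit false
open Cfsg

namespace Cfsg.Agent.S1944

open scoped Classical in
/-- The trace into the centre. -/
theorem trace_hom {X : Type*} [Group X] [Finite X] (S A : Subgroup X) [A.Normal]
    (hA : ∀ a ∈ A, ∀ b ∈ A, a * b = b * a) (Z : Subgroup X) (hZA : Z ≤ A)
    (hZS : ∀ z ∈ Z, ∀ s ∈ S, s * z = z * s) :
    ∃ τ : Z →* X, (∀ a, τ a ∈ A ⊓ Subgroup.center X) ∧
      ∀ a : Z, (a : X) ∈ Subgroup.center X → τ a = (a : X) ^ S.index := by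
  letI : CommGroup A := { (inferInstance : Group A) with mul_comm := fun a b => Subtype.ext (hA a a.2 b b.2) }
  haveI : Fintype (X ⧸ S) := Fintype.ofFinite _
  let c : Z → X ⧸ S → A := fun a => Quotient.lift (fun g => (⟨g * a * g⁻¹, ‹A.Normal›.conj_mem _ (hZA a.2) g⟩ : A))
    fun g h hgh => Subtype.ext (by
      have h1 := hZS a a.2 _ (QuotientGroup.leftRel_apply.mp hgh)
      show g * a * g⁻¹ = h * a * h⁻¹
      calc g * (a : X) * g⁻¹ = g * ((a : X) * (g⁻¹ * h)) * h⁻¹ := by group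
        _ = g * ((g⁻¹ * h) * a) * h⁻¹ := by rw [h1]
        _ = h * a * h⁻¹ := by group)
  have hc0 : ∀ (a : Z) (g : X), ((c a (g : X ⧸ S) : A) : X) = g * a * g⁻¹ := fun a g => rfl
  let τ₀ : Z →* A :=
    { toFun := fun a => ∏ q, c a q
      map_one' := Finset.prod_eq_one fun q _ => by
        induction q using QuotientGroup.induction_on with
        | H g => exact Subtype.ext (by rw [hc0]; simp)
      map_mul' := fun a b => by
        rw [← Finset.prod_mul_distrib]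
        refine Finset.prod_congr rfl fun q _ => ?_
        induction q using QuotientGroup.induction_on with
        | H g => exact Subtype.ext (by rw [Subgroup.coe_mul, hc0, hc0, hc0, Subgroup.coe_mul]; group) }
  refine ⟨A.subtype.comp τ₀, fun a => Subgroup.mem_inf.2 ⟨(τ₀ a).2, Subgroup.mem_center_iff.2 fun h => ?_⟩, fun a ha => ?_⟩
  · let σ : A →* A :=
      { toFun := fun v => ⟨h * v * h⁻¹, ‹A.Normal›.conj_mem _ v.2 h⟩
        map_one' := Subtype.ext (by simp)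
        map_mul' := fun u v => Subtype.ext (by simp [mul_assoc]) }
    have h1 : σ (τ₀ a) = τ₀ a := by
      show σ (∏ q, c a q) = ∏ q, c a q
      rw [map_prod]
      refine Fintype.prod_equiv (MulAction.toPerm h) _ _ fun q => ?_
      induction q using QuotientGroup.induction_on with
      | H g =>
        refine Subtype.ext ?_
        show h * (g * a * g⁻¹) * h⁻¹ = ((c a ((h * g : X) : X ⧸ S) : A) : X)
        rw [hc0]; group
    exact mul_inv_eq_iff_eq_mul.1 (congrArg Subtype.val h1)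
  · show ((∏ q, c a q : A) : X) = _
    rw [Finset.prod_eq_pow_card (b := (⟨a, hZA a.2⟩ : A)) (fun q _ => ?_), SubgroupClass.coe_pow,
      Finset.card_univ, ← Nat.card_eq_fintype_card]
    · rfl
    induction q using QuotientGroup.induction_on with
    | H g => exact Subtype.ext (by rw [hc0, Subgroup.mem_center_iff.1 ha g, mul_inv_cancel_right])

/-- Let S be a Sylow p-subgroup of the finite group G and suppose that the centre Z(S) lies in O_{p',p}(G). The elements of S each of which is its only G-conjugate in S form a subgroup W of Z(S); W is then a direct factor of Z(S): there is a subgroup K of Z(S) with W ∩ K = 1 and WK = Z(S). -/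
theorem result {G : Type*} [Group G] [Finite G] {p : ℕ} [Fact p.Prime] (S : Sylow p G)
    (hZ : ((S : Subgroup G) ⊓ Subgroup.centralizer ((S : Subgroup G) : Set G)) ≤ Cfsg.pPrimePCore p G) :
    ∃ W K : Subgroup G, (∀ x : G, x ∈ W ↔ (x ∈ (S : Subgroup G) ∧ ∀ g : G, g * x * g⁻¹ ∈ (S : Subgroup G) → g * x * g⁻¹ = x)) ∧
      K ≤ ((S : Subgroup G) ⊓ Subgroup.centralizer ((S : Subgroup G) : Set G)) ∧ W ⊓ K = ⊥ ∧ W ⊔ K = ((S : Subgroup G) ⊓ Subgroup.centralizer ((S : Subgroup G) : Set G)) := by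
  set Z := (S : Subgroup G) ⊓ Subgroup.centralizer ((S : Subgroup G) : Set G) with hZdef
  set K₀ := pPrimeCore p G with hK₀
  set π := QuotientGroup.mk' K₀ with hπ
  have hπs : Function.Surjective π := QuotientGroup.mk'_surjective K₀
  have hinj : Set.InjOn π ((S : Subgroup G) : Set G) :=
    TwoGroups.SectionFunctors.injOn_sylow S (Core.card_pPrimeCore_coprime p G)
  set Sb := S.mapSurjective hπs with hSb
  set Q := pCore p (G ⧸ K₀) with hQ
  have hQS : Q ≤ (Sb : Subgroup (G ⧸ K₀)) := Core.pCore_le_sylow Sb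
  set A := Q ⊓ Subgroup.centralizer (Q : Set (G ⧸ K₀)) with hA
  haveI : A.Normal := by rw [hA]; infer_instance
  have hZQ : ∀ z ∈ Z, π z ∈ Q := fun z hz => hZ hz
  have hcS : ∀ z ∈ Z, ∀ s ∈ (Sb : Subgroup (G ⧸ K₀)), s * π z = π z * s := by
    rintro z hz _ ⟨s, hs, rfl⟩
    rw [← map_mul, ← map_mul, (Subgroup.mem_inf.1 hz).2 s hs]
  have hZA : Z.map π ≤ A := by
    rintro _ ⟨z, hz, rfl⟩
    exact Subgroup.mem_inf.2 ⟨hZQ z hz, fun q hq => hcS z hz q (hQS hq)⟩
  obtain ⟨τ, hτ, hτc⟩ := trace_hom (Sb : Subgroup (G ⧸ K₀)) A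
    (fun a ha b hb => (Subgroup.mem_inf.1 hb).2 a (Subgroup.mem_inf.1 ha).1) (Z.map π) hZA
    (fun z hz s hs => by obtain ⟨z', hz', rfl⟩ := hz; exact hcS z' hz' s hs)
  let φ : ↥Z →* ↥(Z.map π) := π.subgroupMap Z
  have hm : (Sb : Subgroup (G ⧸ K₀)).index.Coprime p := ((Fact.out : p.Prime).coprime_iff_not_dvd.2 Sb.not_dvd_index).symm
  let W : Subgroup G := Z ⊓ (Subgroup.center (G ⧸ K₀)).comap π
  let K : Subgroup G := (τ.comp φ).ker.map Z.subtype
  have hKZ : K ≤ Z := Subgroup.map_subtype_le _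
  refine ⟨W, K, fun x => ⟨fun hx => ?_, fun hx => ?_⟩, hKZ, ?_, ?_⟩
  · obtain ⟨hxZ, hxc⟩ := Subgroup.mem_inf.1 hx
    refine ⟨(Subgroup.mem_inf.1 hxZ).1, fun g hg => hinj hg (Subgroup.mem_inf.1 hxZ).1 ?_⟩
    rw [map_mul, map_mul, map_inv, Subgroup.mem_center_iff.1 (Subgroup.mem_comap.1 hxc) (π g), mul_inv_cancel_right]
  · obtain ⟨hxS, hxw⟩ := hx
    have hxZ : x ∈ Z := Subgroup.mem_inf.2 ⟨hxS, fun s hs =>
      mul_inv_eq_iff_eq_mul.1 (hxw s (mul_mem (mul_mem hs hxS) (inv_mem hs)))⟩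
    refine Subgroup.mem_inf.2 ⟨hxZ, Subgroup.mem_comap.2 (Subgroup.mem_center_iff.2 fun y => ?_)⟩
    obtain ⟨g, rfl⟩ := hπs y
    -- `g x g⁻¹` lies in `S` modulo `K₀`
    have h1 : π (g * x * g⁻¹) ∈ (Sb : Subgroup (G ⧸ K₀)) := hQS (by
      rw [map_mul, map_mul, map_inv]; exact (inferInstance : Q.Normal).conj_mem _ (hZQ x hxZ) _)
    obtain ⟨k, hk, hkg⟩ : ∃ k ∈ K₀, k * g * x * (k * g)⁻¹ ∈ (S : Subgroup G) := by
      have hxp : IsPGroup p (Subgroup.zpowers x) := S.2.to_le (Subgroup.zpowers_le.2 hxS)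
      have hle : (Subgroup.zpowers x).map (MulAut.conj g).toMonoidHom ≤ (S : Subgroup G) ⊔ K₀ := by
        rw [MonoidHom.map_zpowers, Subgroup.zpowers_le]
        obtain ⟨s, hs, e⟩ := h1
        have := (QuotientGroup.eq.1 e)
        have h2 := mul_mem (Subgroup.mem_sup_left (T := K₀) hs) (Subgroup.mem_sup_right (S := (S : Subgroup G)) this)
        rwa [mul_inv_cancel_left] at h2
      obtain ⟨l, hl, hlA⟩ := TwoGroups.FactorPair.exists_conj_le hle (hxp.map _) le_sup_left S.2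
        (TwoGroups.SectionFunctors.not_dvd_relIndex S le_sup_left)
      obtain ⟨s, hs, k, hk, rfl⟩ := Subgroup.mem_sup_of_normal_right.1 hl
      refine ⟨k, hk, ?_⟩
      have h3 := hlA (g * x * g⁻¹) ⟨x, Subgroup.mem_zpowers x, rfl⟩
      have h4 := mul_mem (mul_mem (inv_mem hs) h3) hs
      simpa [mul_assoc] using h4
    have h2 := hxw _ hkg
    have h3 := congrArg π h2
    have hk1 : π k = 1 := (QuotientGroup.eq_one_iff k).2 hk
    rw [map_mul, map_mul, map_inv, map_mul, hk1, one_mul] at h3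
    exact mul_inv_eq_iff_eq_mul.1 h3
  · refine (Subgroup.eq_bot_iff_forall _).2 fun x hx => ?_
    obtain ⟨hxW, hxK⟩ := Subgroup.mem_inf.1 hx
    obtain ⟨hxZ, hxc⟩ := Subgroup.mem_inf.1 hxW
    obtain ⟨z, hz, rfl⟩ := hxK
    have h1 : π (z : G) ^ (Sb : Subgroup (G ⧸ K₀)).index = 1 := (hτc (φ z) (Subgroup.mem_comap.1 hxc)).symm.trans hz
    have h2 : (z : G) ^ (Sb : Subgroup (G ⧸ K₀)).index = 1 := hinj (pow_mem z.2.1 _) (one_mem _) (by rw [map_pow, map_one]; exact h1)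
    exact Core.ThompsonComplement.eq_one_of_mem S.2 z.2.1 (Nat.Coprime.coprime_dvd_left (orderOf_dvd_of_pow_eq_one h2) hm)
  · refine le_antisymm (sup_le inf_le_left hKZ) fun a ha => ?_
    obtain ⟨hw, hwc⟩ := Subgroup.mem_inf.1 (hτ (φ ⟨a, ha⟩))
    -- the trace is the image of an element of `W`
    have hcS' : τ (φ ⟨a, ha⟩) ∈ (Sb : Subgroup (G ⧸ K₀)) := hQS (Subgroup.mem_inf.1 hw).1
    obtain ⟨w, hwS, hwe⟩ := hcS'
    have hwZ : w ∈ Z := Subgroup.mem_inf.2 ⟨hwS, fun s hs => hinj (mul_mem hs hwS) (mul_mem hwS hs) (by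
      rw [map_mul, map_mul, hwe]; exact Subgroup.mem_center_iff.1 hwc (π s))⟩
    have hwW : w ∈ W := Subgroup.mem_inf.2 ⟨hwZ, Subgroup.mem_comap.2 (by rw [hwe]; exact hwc)⟩
    obtain ⟨k, hk⟩ := IsPGroup.iff_orderOf.mp S.2 ⟨w, hwS⟩
    rw [Subgroup.orderOf_mk] at hk
    obtain ⟨r, hr⟩ := exists_pow_eq_self_of_coprime (x := w) (n := (Sb : Subgroup (G ⧸ K₀)).index)
      (by rw [hk]; exact hm.pow_right k)
    set w₁ := w ^ r with hw₁
    have hw₁W : w₁ ∈ W := pow_mem hwW r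
    have hw₁m : w₁ ^ (Sb : Subgroup (G ⧸ K₀)).index = w := by rw [hw₁, ← pow_mul, mul_comm, pow_mul]; exact hr
    obtain ⟨hw₁Z, hw₁c⟩ := Subgroup.mem_inf.1 hw₁W
    have hK : w₁⁻¹ * a ∈ K := by
      refine ⟨⟨w₁, hw₁Z⟩⁻¹ * ⟨a, ha⟩, ?_, rfl⟩
      show τ (φ (⟨w₁, hw₁Z⟩⁻¹ * ⟨a, ha⟩)) = 1
      rw [map_mul, map_mul, map_inv, map_inv, hτc (φ ⟨w₁, hw₁Z⟩) (Subgroup.mem_comap.1 hw₁c)]
      show (π w₁ ^ (Sb : Subgroup (G ⧸ K₀)).index)⁻¹ * _ = 1
      rw [← map_pow, hw₁m, hwe, inv_mul_cancel]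
    have := mul_mem (Subgroup.mem_sup_left (T := K) hw₁W) (Subgroup.mem_sup_right (S := W) hK)
    rwa [mul_inv_cancel_left] at this

end Cfsg.Agent.S1944
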