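import Cfsg.Statements.S1985
import Cfsg.Agent.S1983
import Cfsg.Agent.FusionZJ.WeakClosureOdd
import Cfsg.Agent.FusionZJ.FunctorControl
import Cfsg.Agent.FusionZJ.KInfControl

set_option autoImplicit false
universe u
open Cfsg Cfsg.FusionSystem Cfsg.Agent Cfsg.Agent.Fusion Cfsg.Agent.FusionZJ

namespace Cfsg.Agent.S1985

/-- Let p be an odd prime and G a finite group. Then the lower K-infinity subgroup controls weak closure of elements in G: the lower K-infinity subgroup of every p-subgroup P of G contains Z(P), and for some (equivalently, every) Sylow p-subgroup S of G, with K the lower K-infinity subgroup of S, every element of S commuting with all of N_G(K) is weakly closed in S with respect to G (every G-conjugate of it lying in S equals it). -/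
theorem result {G : Type u} [Group G] [Finite G] {p : ℕ} [Fact p.Prime] (hp : p ≠ 2) : Cfsg.ControlsWeakClosureOfElementsIn p (Cfsg.inducedFunctor (G := G) Cfsg.kInfLower) ⊤ := by
  have hW2 : ∀ (Q R : Type u) [Group Q] [Group R] [Finite Q], IsPGroup p Q → ∀ φ : Q ≃* R,
      (kLo Q).map φ.toMonoidHom = kLo R := fun _ _ _ _ _ _ φ => kInfLower_equiv φ
  have hWZ : ∀ (Q : Type u) [Group Q] [Finite Q], IsPGroup p Q → Subgroup.center Q ≤ kLo Q :=
    fun Q _ _ hQ => (S1978.result hQ).2.1.trans (S1978.result hQ).1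
  have hq : ∀ (L : Type u) [Group L] [Finite L] (P : Sylow p L),
      ¬ (((kLo ↥(P : Subgroup L)).map (P : Subgroup L).subtype : Subgroup L)).Normal →
      ∃ g : L, g ∈ (P : Subgroup L) ∧ g ∉ pCore p L ∧
        ⁅⁅(Subgroup.center ↥(pCore p L)).map (pCore p L).subtype, Subgroup.zpowers g⁆,
          Subgroup.zpowers g⁆ = ⊥ := by
    intro L _ _ P h
    obtain ⟨g, hgP, hgO, -, hz, -⟩ := S1983.result P (Or.inl h)
    refine ⟨g, hgP, hgO, le_bot_iff.mp (le_trans
      (Subgroup.commutator_mono (Subgroup.commutator_mono ?_ le_rfl) le_rfl) hz.le)⟩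
    rintro _ ⟨b, hb, rfl⟩
    exact ⟨b.2, fun o ho => congrArg Subtype.val (Subgroup.mem_center_iff.mp hb ⟨o, ho⟩)⟩
  refine ⟨fun P hP x hx => ⟨⟨x, hx.1⟩, hWZ ↥P hP
    (Subgroup.mem_center_iff.mpr fun y => Subtype.ext (hx.2 y y.2)), rfl⟩, ?_⟩
  obtain ⟨S⟩ : Nonempty (Sylow p G) := inferInstance
  refine ⟨S, le_top, S.isPGroup', by rw [Subgroup.relIndex_top_right]; exact S.not_dvd_index' Subgroup.index_ne_zero_of_finite, ?_⟩
  rintro x ⟨hxS, hxN⟩ h - hhx
  rw [top_inf_eq] at hxN
  have hI := groupFusion_inducedBy (S : Subgroup G)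
  have hF := groupFusion_saturated S
  have hSn : (S : Subgroup G) ≤ Subgroup.normalizer (wOf kLo (S : Subgroup G) : Set G) := fun s hs =>
    (normalizerIn_le_wOf S.isPGroup' hW2 le_rfl
      (⟨hs, Subgroup.le_normalizer hs⟩ : s ∈ normalizerIn (S : Subgroup G) (S : Subgroup G)))
  have hxc : ∀ s ∈ (S : Subgroup G), s * x = x * s := fun s hs => hxN s (hSn hs)
  have hfixS : ∀ f, Iso (groupFusionSystem (S : Subgroup G)) f (wOf kLo (S : Subgroup G))
      (wOf kLo (S : Subgroup G)) → f (x ^ 1) = x ^ 1 := by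
    intro f hf
    rw [pow_one]
    obtain ⟨-, -, g, -, hg⟩ := (hI _ _).mp hf.mor
    have hxw : x ∈ wOf kLo (S : Subgroup G) :=
      mem_wOf_of_center S.isPGroup' hWZ hxc le_rfl hxS
    have hgn : g ∈ Subgroup.normalizer (wOf kLo (S : Subgroup G) : Set G) :=
      Subgroup.mem_normalizer_fintype fun y hy => by
        show cj g y ∈ wOf kLo (S : Subgroup G)
        rw [← hg y hy]
        exact hf.mapsTo hy
    rw [hg x hxw]
    show g * x * g⁻¹ = x
    rw [hxN g hgn, mul_inv_cancel_right]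
  have hall := fixed_of_group_condition_aut (W := kLo) S.isPGroup' hF hW2 hWZ 1
    (fun L _ _ T hc _ z hz hzc _ hfix g => by
      rw [pow_one] at hfix ⊢
      exact center_fixed_of_quadratic hp kLo hW2 hq L T hc z hz hzc hfix g)
    hxS hxc hfixS (Subgroup.zpowers x) (cj h)
    ((hI _ _).mpr ⟨Subgroup.zpowers_le.mpr hxS, fun y hy => ?_, h, trivial, fun _ _ => rfl⟩)
    (by rw [pow_one]; exact Subgroup.mem_zpowers x)
  · simp only [pow_one] at hall
    exact hall
  · obtain ⟨n, rfl⟩ := Subgroup.mem_zpowers_iff.mp hy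
    show h * x ^ n * h⁻¹ ∈ (S : Subgroup G)
    rw [← conj_zpow]
    exact Subgroup.zpow_mem _ hhx n

end Cfsg.Agent.S1985
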