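import Cfsg.Statements.S1945
import Cfsg.Agent.Screen.WeakDirect
import Cfsg.Agent.S1985
import Cfsg.Agent.S1978
-- import your own Cfsg.Agent.* helpers here

set_option autoImplicit false
open Cfsg

namespace Cfsg.Agent.S1945

/-- Let S be a Sylow p-subgroup of the finite group G, and assume that p is odd or that G is solvable. The elements of S each of which is its only G-conjugate in S form a subgroup W of Z(S); W is then a direct factor of Z(S): there is a subgroup K of Z(S) with W ∩ K = 1 and WK = Z(S). (For p = 2 and G not solvable this can fail.) -/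
theorem result {G : Type*} [Group G] [Finite G] {p : ℕ} [Fact p.Prime] (S : Sylow p G) (h : p ≠ 2 ∨ Group.IsSolvable G) :
    ∃ W K : Subgroup G, (∀ x : G, x ∈ W ↔ (x ∈ (S : Subgroup G) ∧ ∀ g : G, g * x * g⁻¹ ∈ (S : Subgroup G) → g * x * g⁻¹ = x)) ∧
      K ≤ ((S : Subgroup G) ⊓ Subgroup.centralizer ((S : Subgroup G) : Set G)) ∧ W ⊓ K = ⊥ ∧ W ⊔ K = ((S : Subgroup G) ⊓ Subgroup.centralizer ((S : Subgroup G) : Set G)) := by
  rcases h with hp | hsol
  · obtain ⟨hZ, T, -, hT, hidx, hwc⟩ := Cfsg.Agent.S1985.result (G := G) (p := p) hp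
    rw [Subgroup.relIndex_top_right] at hidx
    haveI := Fact.out (p := p.Prime)
    set T' : Sylow p G := hT.toSylow hidx with hT'
    refine Screen.WeakDirect.good_transfer (T := T') ?_ S
    refine Screen.WeakDirect.good_of_control T'
      (Subgroup.normalizer (Cfsg.inducedFunctor (G := G) Cfsg.kInfLower T : Set G))
      (Cfsg.inducedFunctor (G := G) Cfsg.kInfLower T) ?_ (Subgroup.map_subtype_le _)
      (fun n hn k hk => (Subgroup.mem_normalizer_iff.1 hn k).1 hk) (hZ T hT) fun x hx hxN g hg => ?_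
    · exact fun s hs => Cfsg.Agent.FusionZJ.normalizerIn_le_wOf (W := Cfsg.Agent.FusionZJ.kLo) hT
        (fun _ _ _ _ _ _ φ => Cfsg.Agent.FusionZJ.kInfLower_equiv φ) (le_refl T)
        (⟨hs, Subgroup.le_normalizer hs⟩ : s ∈ Cfsg.FusionSystem.normalizerIn T T)
    · refine hwc x (Subgroup.mem_inf.2 ⟨hx, Subgroup.mem_centralizer_iff.2 fun n hn => hxN n ?_⟩) g
        (Subgroup.mem_top g) hg
      exact (Subgroup.mem_inf.1 hn).2
  · exact Screen.WeakDirect.good_of_isSolvable S

end Cfsg.Agent.S1945
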