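import Cfsg.Statements.S1948
import Cfsg.Agent.Core.Cores
import Cfsg.Agent.PLocal.Constrained

set_option autoImplicit false
open Cfsg
open scoped commutatorElement

namespace Cfsg.Agent.S1948

/-- Let S be a Sylow p-subgroup of the finite group G. Then G = N_G(S)·O_{p'}(G) if and only if G is p-constrained and N_G(S) controls fusion in S, in the sense that whenever a subgroup Q of S has a conjugate g Q g⁻¹ inside S, the element g is a product n c with n normalizing S and c centralizing Q. -/
theorem result {G : Type*} [Group G] [Finite G] {p : ℕ} [Fact p.Prime] (S : Sylow p G) :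
    Subgroup.normalizer ((S : Subgroup G) : Set G) ⊔ Cfsg.pPrimeCore p G = ⊤ ↔
      (Cfsg.IsPConstrained p G ∧
        ∀ Q : Subgroup G, Q ≤ (S : Subgroup G) → ∀ g : G, Q.map (MulAut.conj g).toMonoidHom ≤ (S : Subgroup G) →
          ∃ n ∈ Subgroup.normalizer ((S : Subgroup G) : Set G), ∃ c ∈ Subgroup.centralizer (Q : Set G), g = n * c) := by
  constructor
  · intro hG
    have hdec : ∀ g : G, ∃ n ∈ Subgroup.normalizer ((S : Subgroup G) : Set G), ∃ k ∈ pPrimeCore p G, n * k = g :=
      fun g => Subgroup.mem_sup_of_normal_right.mp (hG ▸ Subgroup.mem_top g)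
    refine ⟨?_, ?_⟩
    · rw [PLocal.isPConstrained_iff]
      have hsurj := QuotientGroup.mk'_surjective (pPrimeCore p G)
      set T := S.mapSurjective hsurj with hTdef
      have hTn : ((T : Subgroup (G ⧸ pPrimeCore p G))).Normal := by
        refine ⟨fun a ha b => ?_⟩
        rw [hTdef, Sylow.coe_mapSurjective] at ha ⊢
        obtain ⟨s, hs, rfl⟩ := ha
        obtain ⟨g, rfl⟩ := hsurj b
        obtain ⟨n, hn, k, hk, rfl⟩ := hdec g
        refine ⟨n * s * n⁻¹, (Subgroup.mem_normalizer_iff.mp hn s).mp hs, ?_⟩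
        have hk1 : QuotientGroup.mk' (pPrimeCore p G) k = 1 := (QuotientGroup.eq_one_iff k).mpr hk
        simp [map_mul, map_inv, hk1]
      refine Core.centralizer_pCore_le ?_ (Core.pPrimeCore_quotient_pPrimeCore p G)
      refine ⟨2, ![⊥, (T : Subgroup (G ⧸ pPrimeCore p G)), ⊤], rfl, rfl, ?_, ?_, ?_⟩
      · rw [Fin.monotone_iff_le_succ]
        intro i
        fin_cases i <;> simp
      · intro i
        fin_cases i
        · exact Subgroup.normal_bot
        · exact hTn
        · exact Subgroup.normal_top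
      · intro i
        fin_cases i
        · exact Or.inl (by simpa [Subgroup.relIndex_bot_left] using IsPGroup.iff_card.mp T.isPGroup')
        · exact Or.inr (by
            simpa [Subgroup.relIndex_top_right] using
              ((Fact.out : p.Prime).coprime_iff_not_dvd.mpr T.not_dvd_index).symm)
    · intro Q hQ g hg
      obtain ⟨n, hn, k, hk, rfl⟩ := hdec g
      refine ⟨n, hn, k, ?_, rfl⟩
      rw [Subgroup.mem_centralizer_iff]
      intro x hx
      have h1 : k * x * k⁻¹ ∈ (S : Subgroup G) := by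
        have h2 : (n * k) * x * (n * k)⁻¹ ∈ (S : Subgroup G) := hg ⟨x, hx, rfl⟩
        rw [Subgroup.mem_normalizer_iff.mp hn]
        have he : n * (k * x * k⁻¹) * n⁻¹ = (n * k) * x * (n * k)⁻¹ := by group
        rwa [he]
      have h3 : k * x * k⁻¹ * x⁻¹ ∈ pPrimeCore p G := by
        rw [show k * x * k⁻¹ * x⁻¹ = k * (x * k⁻¹ * x⁻¹) by group]
        exact mul_mem hk ((inferInstance : (pPrimeCore p G).Normal).conj_mem _ (inv_mem hk) x)
      have h4 := Core.ThompsonComplement.eq_one_of_mem S.isPGroup' (mul_mem h1 (inv_mem (hQ hx)))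
        ((Core.card_pPrimeCore_coprime p G).coprime_dvd_left (Subgroup.orderOf_dvd_natCard _ h3))
      exact (mul_inv_eq_iff_eq_mul.mp (mul_inv_eq_one.mp h4)).symm
  · rintro ⟨hcons, hfus⟩
    set M := pPrimePCore p G with hMdef
    set N := Subgroup.normalizer ((S : Subgroup G) : Set G) with hNdef
    obtain ⟨P₀⟩ : Nonempty (Sylow p M) := inferInstance
    set R0 := ((P₀ : Subgroup ↥M).map M.subtype : Subgroup G) with hR0
    obtain ⟨T, hT⟩ := (P₀.isPGroup'.map M.subtype).exists_le_sylow
    obtain ⟨g, hg⟩ := MulAction.exists_smul_eq G T S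
    have hgS : ∀ r ∈ R0, g * r * g⁻¹ ∈ (S : Subgroup G) := fun r hr => by
      rw [← hg, Sylow.coe_subgroup_smul, Core.mem_conj_smul_iff]
      simpa [mul_assoc] using hT hr
    set R1 := R0.map (MulAut.conj g).toMonoidHom with hR1
    have hR1S : R1 ≤ (S : Subgroup G) := by
      rintro _ ⟨r, hr, rfl⟩
      exact hgS r hr
    have hMle : M ≤ N ⊔ pPrimeCore p G := by
      intro m hm
      have hm' : g⁻¹ * m * g ∈ pPrimeCore p G ⊔ R0 := by
        rw [hR0, Core.pPrimeCore_sup_sylow P₀]
        have := (inferInstance : M.Normal).conj_mem m hm g⁻¹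
        rwa [inv_inv] at this
      obtain ⟨k, hk, r, hr, hkr⟩ := Subgroup.mem_sup_of_normal_left.mp hm'
      have he : m = (g * k * g⁻¹) * (g * r * g⁻¹) := by
        calc m = g * (g⁻¹ * m * g) * g⁻¹ := by group
          _ = (g * k * g⁻¹) * (g * r * g⁻¹) := by rw [← hkr]; group
      rw [he]
      exact mul_mem (Subgroup.mem_sup_right ((inferInstance : (pPrimeCore p G).Normal).conj_mem k hk g))
        (Subgroup.mem_sup_left (Subgroup.le_normalizer (hgS r hr)))
    have hNR : ∀ x ∈ Subgroup.normalizer (R1 : Set G), x ∈ N ⊔ pPrimeCore p G := by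
      intro x hx
      obtain ⟨n, hn, c, hc, rfl⟩ := hfus R1 hR1S x (by
        rintro _ ⟨r, hr, rfl⟩
        exact hR1S ((Subgroup.mem_normalizer_iff.mp hx r).mp hr))
      refine mul_mem (Subgroup.mem_sup_left hn) (hMle ?_)
      have hc' : g⁻¹ * c * g ∈ Subgroup.centralizer (R0 : Set G) := by
        rw [Subgroup.mem_centralizer_iff]
        intro r hr
        have := Subgroup.mem_centralizer_iff.mp hc (g * r * g⁻¹) ⟨r, hr, rfl⟩
        calc r * (g⁻¹ * c * g) = g⁻¹ * ((g * r * g⁻¹) * c) * g := by group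
          _ = g⁻¹ * c * g * r := by rw [this]; group
      have h1 := (inferInstance : M.Normal).conj_mem _ (hcons P₀ hc') g
      rwa [show g * (g⁻¹ * c * g) * g⁻¹ = c by group] at h1
    rw [← top_le_iff]
    intro y _
    have hy : g⁻¹ * y * g ∈ Subgroup.normalizer (R0 : Set G) ⊔ M := by
      rw [hR0, Sylow.normalizer_sup_eq_top P₀]
      exact Subgroup.mem_top _
    obtain ⟨n, hn, m, hm, hnm⟩ := Subgroup.mem_sup_of_normal_right.mp hy
    have he : y = (g * n * g⁻¹) * (g * m * g⁻¹) := by
      calc y = g * (g⁻¹ * y * g) * g⁻¹ := by group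
        _ = (g * n * g⁻¹) * (g * m * g⁻¹) := by rw [← hnm]; group
    rw [he]
    refine mul_mem (hNR _ ?_) (hMle ((inferInstance : M.Normal).conj_mem m hm g))
    rw [hR1, ← Subgroup.map_equiv_normalizer_eq]
    exact ⟨n, hn, rfl⟩
end Cfsg.Agent.S1948
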