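import Cfsg.Statements.S1953
import Cfsg.Agent.FusionZJ.KInfControl
import Cfsg.Agent.FusionZJ.QdFrame
import Cfsg.Agent.Coprime.Action
import Cfsg.Agent.Core.Cores
import Mathlib.GroupTheory.Transfer

set_option autoImplicit false
set_option linter.style.haveILetI false
open Cfsg

namespace Cfsg.Agent.S1953

open Cfsg.Agent.FusionZJ

universe u

/-- The upper left block of `Qd(p)` as an element of `SL₂(p)`. -/
noncomputable def qdSL (p : ℕ) : ↥(Cfsg.qd p) →* Matrix.SpecialLinearGroup (Fin 2) (ZMod p) where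
  toFun x := ⟨qdBlock p x, by
    have h := x.1.2
    have hr := S3835.qd_row x.2
    rw [Matrix.det_fin_three] at h
    rw [Matrix.det_fin_two]
    simp [qdBlock, hr] at h ⊢
    linear_combination h⟩
  map_one' := Subtype.ext (map_one (qdBlock p))
  map_mul' x y := Subtype.ext (map_mul (qdBlock p) x y)

theorem ker_qdSL (p : ℕ) : (qdSL p).ker = qdV p := by
  ext x
  rw [MonoidHom.mem_ker, MonoidHom.mem_ker]
  exact ⟨fun h => congrArg Subtype.val h, fun h => Subtype.ext h⟩

theorem qdSL_surjective (p : ℕ) : Function.Surjective (qdSL p) := by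
  intro S
  refine ⟨⟨⟨!![S.1 0 0, S.1 0 1, 0; S.1 1 0, S.1 1 1, 0; 0, 0, 1], ?_⟩,
    Subgroup.subset_closure ⟨rfl, rfl, rfl⟩⟩, ?_⟩
  · have h := S.2
    rw [Matrix.det_fin_two] at h
    simp [Matrix.det_fin_three]
    linear_combination h
  · refine Subtype.ext ?_
    ext i j
    show ((!![S.1 0 0, S.1 0 1, 0; S.1 1 0, S.1 1 1, 0; 0, 0, 1] : Matrix (Fin 3) (Fin 3) (ZMod p))
      i.castSucc j.castSucc) = S.1 i j
    fin_cases i <;> fin_cases j <;>
      simp

theorem le_normalizer_centralizer {G : Type*} [Group G] (V : Subgroup G) :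
    Subgroup.normalizer (V : Set G) ≤ Subgroup.normalizer (Subgroup.centralizer (V : Set G) : Set G) := by
  intro g hg
  rw [Subgroup.mem_normalizer_iff]
  intro c
  simp only [Subgroup.mem_centralizer_iff]
  constructor
  · intro hc v hv
    have h := hc _ ((Subgroup.mem_normalizer_iff''.mp hg v).mp hv)
    calc v * (g * c * g⁻¹) = g * (g⁻¹ * v * g * c) * g⁻¹ := by group
      _ = g * (c * (g⁻¹ * v * g)) * g⁻¹ := by rw [h]
      _ = _ := by group
  · intro hc v hv
    have h := hc _ ((Subgroup.mem_normalizer_iff.mp hg v).mp hv)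
    calc v * c = g⁻¹ * (g * v * g⁻¹ * (g * c * g⁻¹)) * g := by group
      _ = g⁻¹ * (g * c * g⁻¹ * (g * v * g⁻¹)) * g := by rw [h]
      _ = _ := by group

/-- A section `Qd(p)` gives a section `SL₂(p)` of an automizer. -/
theorem exists_sl_two_automizer {p : ℕ} [Fact p.Prime] {G : Type u} [Group G] [Finite G]
    (h : Involves ↥(Cfsg.qd p) G) :
    ∃ Q : Subgroup G, IsPGroup p ↥Q ∧ ∃ (H K : Subgroup G) (_ : (K.subgroupOf H).Normal),
      Subgroup.centralizer (Q : Set G) ≤ K ∧ K ≤ H ∧ H ≤ Subgroup.normalizer (Q : Set G) ∧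
      Nonempty ((↥H ⧸ K.subgroupOf H) ≃* Matrix.SpecialLinearGroup (Fin 2) (ZMod p)) := by
  obtain ⟨M, _, _, emb, π, Q, hinj, hsurj, hQn, hQp, hQV⟩ := exists_qd_data h
  set Q' := Q.map emb with hQ'
  set R := (qdV p).comap π with hR
  haveI hRn : R.Normal := Subgroup.Normal.comap inferInstance π
  set C := Subgroup.centralizer (Q' : Set G) with hC
  have hMN : emb.range ≤ Subgroup.normalizer (Q' : Set G) := by
    rintro _ ⟨m, rfl⟩
    rw [Subgroup.mem_normalizer_iff_map_conj_eq, hQ', Subgroup.map_map]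
    have e : (MulAut.conj (emb m)).toMonoidHom.comp emb = emb.comp (MulAut.conj m).toMonoidHom := by
      ext x; simp
    erw [e, ← Subgroup.map_map, Subgroup.mem_normalizer_iff_map_conj_eq.mp
      (Q.normalizer_eq_top ▸ Subgroup.mem_top m)]
  have hCN : C ≤ Subgroup.normalizer (Q' : Set G) := (Subgroup.centralizer_le_normalizer _)
  have hNC : Subgroup.normalizer (Q' : Set G) ≤ Subgroup.normalizer (C : Set G) :=
    le_normalizer_centralizer Q'
  set H := emb.range ⊔ C with hH
  set K := R.map emb ⊔ C with hK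
  have hKH : K ≤ H := sup_le_sup (Subgroup.map_le_range emb R) le_rfl
  have hHK : H ≤ Subgroup.normalizer (K : Set G) := by
    refine sup_le ?_ ((le_sup_right : C ≤ K).trans Subgroup.le_normalizer)
    refine le_trans (le_inf ?_ (hMN.trans hNC)) (Subgroup.normalizer_inf_normalizer_le_normalizer_sup _ _)
    rintro _ ⟨m, rfl⟩
    rw [Subgroup.mem_normalizer_iff_map_conj_eq, Subgroup.map_map]
    have e : (MulAut.conj (emb m)).toMonoidHom.comp emb = emb.comp (MulAut.conj m).toMonoidHom := by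
      ext x; simp
    erw [e, ← Subgroup.map_map, Subgroup.mem_normalizer_iff_map_conj_eq.mp
      (R.normalizer_eq_top ▸ Subgroup.mem_top m)]
  haveI hKn : (K.subgroupOf H).Normal := (Subgroup.normal_subgroupOf_iff_le_normalizer hKH).mpr hHK
  refine ⟨Q', hQp.map emb, H, K, hKn, le_sup_right, hKH, sup_le hMN hCN, ?_⟩
  let f : M →* Matrix.SpecialLinearGroup (Fin 2) (ZMod p) := (qdSL p).comp π
  have hf : Function.Surjective f := (qdSL_surjective p).comp hsurj
  have hfk : f.ker = R := by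
    rw [hR, ← ker_qdSL]; rfl
  let g : M →* ↥H ⧸ K.subgroupOf H :=
    (QuotientGroup.mk' (K.subgroupOf H)).comp
      (emb.codRestrict H fun m => Subgroup.mem_sup_left ⟨m, rfl⟩)
  have hgk : g.ker = R := by
    ext m
    show QuotientGroup.mk' (K.subgroupOf H) _ = 1 ↔ m ∈ R
    rw [QuotientGroup.mk'_apply, QuotientGroup.eq_one_iff, Subgroup.mem_subgroupOf]
    refine ⟨fun hm => ?_, fun hm => Subgroup.mem_sup_left ⟨m, hm, rfl⟩⟩
    have hnorm : R.map emb ≤ Subgroup.normalizer (C : Set G) :=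
      ((Subgroup.map_le_range emb R).trans hMN).trans hNC
    obtain ⟨c, hc, _, ⟨r, hr, rfl⟩, hm'⟩ :=
      Coprime.exists_mul_of_mem_sup hnorm (show emb m ∈ C ⊔ R.map emb by rw [sup_comm]; exact hm)
    have hcm : c = emb (m * r⁻¹) := by
      rw [map_mul, map_inv, eq_mul_inv_iff_mul_eq]; exact hm'
    have hcent : π (m * r⁻¹) ∈ Subgroup.centralizer (qdV p : Set ↥(Cfsg.qd p)) := by
      rw [← hQV]
      rintro _ ⟨q, hq, rfl⟩
      rw [← map_mul, ← map_mul]
      refine congrArg π (hinj ?_)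
      rw [map_mul emb q, map_mul emb (m * r⁻¹) q, ← hcm]
      exact hc _ ⟨q, hq, rfl⟩
    have h2 : m * r⁻¹ ∈ R := qdFrame.cent hcent
    simpa using R.mul_mem h2 hr
  have hg : Function.Surjective g := by
    intro z
    obtain ⟨⟨y, hy⟩, rfl⟩ := QuotientGroup.mk'_surjective _ z
    obtain ⟨c, hc, _, ⟨m, rfl⟩, rfl⟩ :=
      Coprime.exists_mul_of_mem_sup (hMN.trans hNC) (show y ∈ C ⊔ emb.range by rw [sup_comm]; exact hy)
    refine ⟨m, ?_⟩
    show QuotientGroup.mk' (K.subgroupOf H) _ = QuotientGroup.mk' (K.subgroupOf H) _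
    rw [QuotientGroup.mk'_apply, QuotientGroup.mk'_apply, QuotientGroup.eq, Subgroup.mem_subgroupOf]
    show (emb m)⁻¹ * (c * emb m) ∈ K
    rw [← mul_assoc]
    refine Subgroup.mem_sup_right ?_
    simpa using (Subgroup.mem_normalizer_iff.mp (inv_mem (hNC (hMN ⟨m, rfl⟩))) c).mp hc
  exact ⟨((QuotientGroup.quotientKerEquivOfSurjective g hg).symm.trans
    (QuotientGroup.quotientMulEquivOfEq (hgk.trans hfk.symm))).trans
    (QuotientGroup.quotientKerEquivOfSurjective f hf)⟩

section Local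

variable {G : Type u} [Group G]

theorem relIndex_sup_of_le_normalizer {A N : Subgroup G} (hA : A ≤ Subgroup.normalizer (N : Set G)) :
    N.relIndex (A ⊔ N) = N.relIndex A := by
  haveI : (N.subgroupOf (A ⊔ N)).Normal :=
    (Subgroup.normal_subgroupOf_iff_le_normalizer le_sup_right).mpr (sup_le hA Subgroup.le_normalizer)
  rw [← Subgroup.relIndex_subgroupOf (le_refl (A ⊔ N)),
    ← Subgroup.relIndex_subgroupOf (le_sup_left : A ≤ A ⊔ N) (H := N),
    ← Subgroup.relIndex_sup_right (H := A.subgroupOf (A ⊔ N)) (K := N.subgroupOf (A ⊔ N)),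
    ← Subgroup.subgroupOf_sup le_sup_left le_sup_right]

variable [Finite G] {p : ℕ} [hpf : Fact p.Prime]

theorem exists_sylow_inf (P : Sylow p G) {C : Subgroup G}
    (hPC : (P : Subgroup G) ≤ Subgroup.normalizer (C : Set G)) :
    ∃ R : Sylow p C, (R : Subgroup C).map C.subtype = (P : Subgroup G) ⊓ C := by
  have hP' : IsPGroup p ((P : Subgroup G).subgroupOf C) :=
    P.isPGroup'.comap_of_injective C.subtype C.subtype_injective
  have hidx : ¬ p ∣ ((P : Subgroup G).subgroupOf C).index := by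
    intro hdvd
    refine P.not_dvd_index (hdvd.trans ?_)
    haveI : (C.subgroupOf ((P : Subgroup G) ⊔ C)).Normal :=
      (Subgroup.normal_subgroupOf_iff_le_normalizer le_sup_right).mpr (sup_le hPC Subgroup.le_normalizer)
    refine dvd_trans ?_ (Subgroup.relIndex_dvd_index_of_le (le_sup_left : (P : Subgroup G) ≤ ↑P ⊔ C))
    have h1 : Nat.card C * C.relIndex ((P : Subgroup G) ⊔ C) = Nat.card ↥((P : Subgroup G) ⊔ C) := by
      rw [← Subgroup.relIndex_bot_left, ← Subgroup.relIndex_bot_left,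
        Subgroup.relIndex_mul_relIndex _ _ _ bot_le le_sup_right]
    have h2 : Nat.card (P : Subgroup G) * (P : Subgroup G).relIndex ((P : Subgroup G) ⊔ C) =
        Nat.card ↥((P : Subgroup G) ⊔ C) := by
      rw [← Subgroup.relIndex_bot_left, ← Subgroup.relIndex_bot_left,
        Subgroup.relIndex_mul_relIndex _ _ _ bot_le le_sup_left]
    have h3 : Nat.card ↥((P : Subgroup G) ⊓ C) * (P : Subgroup G).relIndex C = Nat.card C := by
      rw [← Subgroup.inf_relIndex_right, ← Subgroup.relIndex_bot_left, ← Subgroup.relIndex_bot_left,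
        Subgroup.relIndex_mul_relIndex _ _ _ bot_le inf_le_right]
    have h4 : Nat.card ↥((P : Subgroup G) ⊓ C) * C.relIndex (P : Subgroup G) =
        Nat.card (P : Subgroup G) := by
      rw [← Subgroup.inf_relIndex_left, ← Subgroup.relIndex_bot_left, ← Subgroup.relIndex_bot_left,
        Subgroup.relIndex_mul_relIndex _ _ _ bot_le inf_le_left]
    rw [relIndex_sup_of_le_normalizer hPC] at h1
    refine dvd_of_eq ?_
    show (P : Subgroup G).relIndex C = _
    refine Nat.eq_of_mul_eq_mul_left (n := Nat.card (P : Subgroup G)) Nat.card_pos ?_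
    rw [h2, ← h1, ← h4, ← h3]; ring
  exact ⟨hP'.toSylow hidx, by rw [IsPGroup.toSylow_coe, Subgroup.subgroupOf_map_subtype]⟩

omit [Finite G] hpf in
theorem inf_centralizer_le_of_sylow {P : Sylow p G} {C A : Subgroup G} (R : Sylow p C)
    (hR : (R : Subgroup C).map C.subtype = A) (hA : A ≤ P) : (P : Subgroup G) ⊓ C ≤ A := by
  have hP' : IsPGroup p ((P : Subgroup G).subgroupOf C) :=
    P.isPGroup'.comap_of_injective C.subtype C.subtype_injective
  have hle : (R : Subgroup C) ≤ (P : Subgroup G).subgroupOf C := fun x hx =>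
    hA (hR ▸ ⟨x, hx, rfl⟩)
  rw [← hR, ← R.3 hP' hle, Subgroup.subgroupOf_map_subtype]

omit [Finite G] in
theorem map_conj_eq_of_le {Q : Subgroup G} {n : G}
    (h : Q.map (MulAut.conj n).toMonoidHom = Q) : n ∈ Subgroup.normalizer (Q : Set G) :=
  Subgroup.mem_normalizer_iff_map_conj_eq.mpr h

/-- An element of coprime order lies in a normal subgroup of `p`-power index. -/
theorem mem_of_coprime_order {C : Type*} [Group C] (K : Subgroup C) [K.Normal] {x : C} {m : ℕ}
    (hx : x ^ m = 1) (hm : m.Coprime K.index) : x ∈ K := by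
  rw [← QuotientGroup.eq_one_iff, ← orderOf_eq_one_iff]
  refine Nat.eq_one_of_dvd_coprimes hm (orderOf_dvd_of_pow_eq_one ?_) (orderOf_dvd_of_pow_eq_one ?_)
  · rw [← QuotientGroup.mk_pow, hx, QuotientGroup.mk_one]
  · rw [← QuotientGroup.mk_pow, QuotientGroup.eq_one_iff]
    exact K.pow_index_mem x

end Local

theorem main {G : Type u} [Group G] [Finite G] {p : ℕ} [Fact p.Prime] (hp : p ≠ 2) (P : Sylow p G)
    (hqd : ¬ Involves ↥(Cfsg.qd p) G) (cr : Subgroup G → Prop)
    (hcr : ∀ Q : Subgroup G, cr Q ↔ (Q ≤ (P : Subgroup G) ∧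
      (∃ R : Sylow p ↥(Subgroup.centralizer (Q : Set G)),
        (R : Subgroup ↥(Subgroup.centralizer (Q : Set G))).map (Subgroup.centralizer (Q : Set G)).subtype = Q ⊓ Subgroup.centralizer (Q : Set G)) ∧
      ∀ X : Subgroup G, X ≤ Subgroup.normalizer (Q : Set G) →
        (∀ n ∈ Subgroup.normalizer (Q : Set G), X.map (MulAut.conj n).toMonoidHom = X) →
        Q ⊔ Subgroup.centralizer (Q : Set G) ≤ X → (∃ k : ℕ, (Q ⊔ Subgroup.centralizer (Q : Set G)).relIndex X = p ^ k) →
        X = Q ⊔ Subgroup.centralizer (Q : Set G))) :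
    ∃ Q : Subgroup G, cr Q ∧ (∀ R : Subgroup G, cr R → Q ≤ R) ∧ (∀ x ∈ (P : Subgroup G), Q.map (MulAut.conj x).toMonoidHom = Q) ∧
      ∀ A : Subgroup G, A ≤ (P : Subgroup G) → ∀ g : G, A.map (MulAut.conj g).toMonoidHom ≤ (P : Subgroup G) →
        ∃ h ∈ Subgroup.normalizer (Q : Set G), ∃ c ∈ Subgroup.centralizer (A : Set G), g = h * c := by
  classical
  have hW2 : ∀ (Q R : Type u) [Group Q] [Group R] [Finite Q], IsPGroup p Q → ∀ φ : Q ≃* R,
      (kLo Q).map φ.toMonoidHom = kLo R := fun _ _ _ _ _ _ φ => kInfLower_equiv φ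
  set W := wOf kLo (P : Subgroup G) with hW
  have hWP : W ≤ (P : Subgroup G) := wOf_le _ _
  have hCW : (P : Subgroup G) ⊓ Subgroup.centralizer (W : Set G) ≤ W := fun x hx => by
    have hmem : (⟨x, hx.1⟩ : (P : Subgroup G)) ∈
        Subgroup.centralizer (kLo ↥(P : Subgroup G) : Set (P : Subgroup G)) := fun y hy =>
      Subtype.ext (hx.2 (y : G) ⟨y, hy, rfl⟩)
    exact ⟨_, (S1978.result P.isPGroup').1 hmem, rfl⟩
  set N := Subgroup.normalizer (W : Set G) with hN
  have hPN : (P : Subgroup G) ≤ N := fun x hx => by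
    refine map_conj_eq_of_le ?_
    have h := wOf_map kLo hW2 (MulAut.conj x).toMonoidHom (MulAut.conj x).injective
      (P : Subgroup G) P.isPGroup'
    erw [Subgroup.mem_normalizer_iff_map_conj_eq.mp (Subgroup.le_normalizer hx)] at h
    exact h.symm
  -- control of fusion by `N`
  have hctrl : ∀ A : Subgroup G, A ≤ (P : Subgroup G) → ∀ g : G,
      (∀ a ∈ A, g * a * g⁻¹ ∈ (P : Subgroup G)) → ∃ x ∈ N, ∀ a ∈ A, g * a * g⁻¹ = x * a * x⁻¹ := by
    intro A hA g hg
    refine (controls_of_functor_top kLo (fun Q _ _ hQ hnt => kInfLower_ne_bot Q hQ hnt) hW2 hp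
      (fun L _ _ T hC hL => (kInf_step hp L T hC hL).1) P hqd (A : Set G) hA).2 g ?_
    rintro _ ⟨a, ha, rfl⟩
    exact hg a ha
  -- the cores of `N`
  set D₀ := pPrimeCore p ↥N with hD₀
  haveI hD₀n : D₀.Normal := by rw [hD₀]; infer_instance
  set L₀ := (pCore p (↥N ⧸ D₀)).comap (QuotientGroup.mk' D₀) with hL₀
  haveI hL₀n : L₀.Normal := Subgroup.Normal.comap inferInstance _
  set D := D₀.map N.subtype with hD
  set L := L₀.map N.subtype with hL
  have hDN : D ≤ N := Subgroup.map_subtype_le _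
  have hLN : L ≤ N := Subgroup.map_subtype_le _
  have hDL : D ≤ L := Subgroup.map_mono fun x hx => by
    rw [hL₀, Subgroup.mem_comap, QuotientGroup.mk'_apply, (QuotientGroup.eq_one_iff x).mpr hx]
    exact one_mem _
  have hND : N ≤ Subgroup.normalizer (D : Set G) := by
    refine (Subgroup.normal_subgroupOf_iff_le_normalizer hDN).mp ?_
    rw [hD, Subgroup.subgroupOf, Subgroup.comap_map_eq_self_of_injective N.subtype_injective]
    exact hD₀n
  have hNL : N ≤ Subgroup.normalizer (L : Set G) := by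
    refine (Subgroup.normal_subgroupOf_iff_le_normalizer hLN).mp ?_
    rw [hL, Subgroup.subgroupOf, Subgroup.comap_map_eq_self_of_injective N.subtype_injective]
    exact hL₀n
  have hDcop : (Nat.card D).Coprime p := by
    rw [hD, Subgroup.card_map_of_injective N.subtype_injective]
    exact Core.card_pPrimeCore_coprime p N
  have hcopP : ∀ A : Subgroup G, IsPGroup p A → (Nat.card A).Coprime (Nat.card D) := fun A hA => by
    obtain ⟨k, hk⟩ := hA.exists_card_eq
    rw [hk]
    exact Nat.Coprime.pow_left k hDcop.symm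
  have hLmax : ∀ Z : Subgroup G, Z ≤ N → N ≤ Subgroup.normalizer (Z : Set G) →
      (∀ z ∈ Z, ∃ k : ℕ, z ^ p ^ k ∈ L) → Z ≤ L := by
    intro Z hZN hNZ hpow
    haveI := (Subgroup.normal_subgroupOf_iff_le_normalizer hZN).mpr hNZ
    have hle : (Z.subgroupOf N).map (QuotientGroup.mk' D₀) ≤ pCore p (↥N ⧸ D₀) := by
      refine Core.le_pCore (Subgroup.Normal.map inferInstance _ (QuotientGroup.mk'_surjective D₀)) ?_
      rintro ⟨_, z, hz, rfl⟩
      obtain ⟨k, l, hl, hlz⟩ := hpow (z : G) hz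
      obtain ⟨j, hj⟩ := Core.isPGroup_pCore p (↥N ⧸ D₀) ⟨QuotientGroup.mk' D₀ l, hl⟩
      refine ⟨k + j, Subtype.ext ?_⟩
      have e : z ^ p ^ k = l := Subtype.ext (by simpa using hlz.symm)
      have hj' : (QuotientGroup.mk' D₀ l) ^ p ^ j = 1 := congrArg Subtype.val hj
      show (QuotientGroup.mk' D₀ z) ^ p ^ (k + j) = 1
      rw [pow_add, pow_mul, ← map_pow, e, hj']
    intro z hz
    exact ⟨⟨z, hZN hz⟩, hle ⟨⟨z, hZN hz⟩, hz, rfl⟩, rfl⟩
  set Q := (P : Subgroup G) ⊓ L with hQ
  have hQP : Q ≤ (P : Subgroup G) := inf_le_left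
  have hQL : Q ≤ L := inf_le_right
  have hQN : Q ≤ N := hQP.trans hPN
  have hLDQ : ∀ l ∈ L, ∃ d ∈ D, ∃ q ∈ Q, l = d * q := by
    rintro _ ⟨l, hl, rfl⟩
    set PN := P.subtype hPN with hPNdef
    have hsurj := QuotientGroup.mk'_surjective D₀
    have h1 : QuotientGroup.mk' D₀ l ∈
        ((PN.mapSurjective hsurj : Sylow p (↥N ⧸ D₀)) : Subgroup (↥N ⧸ D₀)) :=
      Core.pCore_le_sylow _ hl
    rw [Sylow.coe_mapSurjective] at h1
    obtain ⟨x, hx, hxl⟩ := h1
    have hxP : (x : G) ∈ (P : Subgroup G) := hx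
    have hd : l * x⁻¹ ∈ D₀ := by
      rw [← QuotientGroup.eq_one_iff]
      show QuotientGroup.mk' D₀ (l * x⁻¹) = 1
      rw [map_mul, map_inv, ← hxl, mul_inv_cancel]
    have hxL : x ∈ L₀ := by
      rw [hL₀, Subgroup.mem_comap, hxl]
      exact hl
    exact ⟨(l : G) * (x : G)⁻¹, ⟨_, hd, by simp⟩, x, ⟨hxP, ⟨x, hxL, rfl⟩⟩, by simp⟩
  have hWQ : W ≤ Q := le_inf hWP <| hLmax W Subgroup.le_normalizer le_rfl fun w hw => by
    obtain ⟨k, hk⟩ := P.isPGroup' ⟨w, hWP hw⟩
    refine ⟨k, ?_⟩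
    rw [show w ^ p ^ k = 1 from congrArg Subtype.val hk]
    exact one_mem _
  have hPQ : (P : Subgroup G) ≤ Subgroup.normalizer (Q : Set G) :=
    (le_inf Subgroup.le_normalizer (hPN.trans hNL)).trans Subgroup.inf_normalizer_le_normalizer_inf
  have hQp : IsPGroup p Q := P.isPGroup'.to_le hQP
  -- `C(W) ≤ L`
  set C := Subgroup.centralizer (W : Set G) with hC
  have hCN : C ≤ N := (Subgroup.centralizer_le_normalizer _)
  have hNC : N ≤ Subgroup.normalizer (C : Set G) := le_normalizer_centralizer W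
  have hCL : C ≤ L := by
    obtain ⟨R, hR⟩ := exists_sylow_inf P (hPN.trans hNC)
    have hRW : ∀ r ∈ (R : Subgroup C), (r : G) ∈ W := fun r hr => hCW (hR ▸ ⟨r, hr, rfl⟩)
    have hcen : Subgroup.normalizer ((R : Subgroup C) : Set C) ≤
        Subgroup.centralizer ((R : Subgroup C) : Set C) := fun c _ r hr =>
      Subtype.ext (c.2 (r : G) (hRW r hr))
    set K := (MonoidHom.transferSylow R hcen).ker with hKdef
    have hKc : K.IsComplement' (R : Subgroup C) := MonoidHom.ker_transferSylow_isComplement' R hcen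
    haveI : K.Normal := MonoidHom.normal_ker _
    have hKidx : K.index = Nat.card (R : Subgroup C) := hKc.symm.index_eq_card
    have hKcard : (Nat.card K).Coprime p := by
      rw [← hKc.index_eq_card]
      exact ((Fact.out : p.Prime).coprime_iff_not_dvd.mpr R.not_dvd_index).symm
    have hKN : N ≤ Subgroup.normalizer ((K.map C.subtype : Subgroup G) : Set G) := by
      intro n hn
      refine Subgroup.mem_normalizer_fintype ?_
      rintro _ ⟨k, hk, rfl⟩
      have hmem : n * (k : G) * n⁻¹ ∈ C := (Subgroup.mem_normalizer_iff.mp (hNC hn) _).mp k.2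
      refine ⟨⟨_, hmem⟩, mem_of_coprime_order K (m := Nat.card K) (Subtype.ext ?_) ?_, rfl⟩
      · have h1 : (k : G) ^ Nat.card K = 1 := by
          have h2 : (⟨k, hk⟩ : K) ^ Nat.card K = 1 := pow_card_eq_one'
          exact congrArg (fun z : C => (z : G)) (congrArg Subtype.val h2)
        rw [Subgroup.coe_pow, Subgroup.coe_one, conj_pow, h1]
        simp
      · rw [hKidx]
        obtain ⟨j, hj⟩ := R.isPGroup'.exists_card_eq
        rw [hj]
        exact Nat.Coprime.pow_right j hKcard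
    have hKD : K.map C.subtype ≤ D := by
      have hKle : K.map C.subtype ≤ N := (Subgroup.map_subtype_le _).trans hCN
      haveI hKn := (Subgroup.normal_subgroupOf_iff_le_normalizer hKle).mpr hKN
      have h1 : (K.map C.subtype).subgroupOf N ≤ D₀ := Core.le_pPrimeCore hKn (by
        rw [Core.card_subgroupOf hKle, Subgroup.card_map_of_injective C.subtype_injective]
        exact hKcard)
      intro x hx
      exact ⟨⟨x, hKle hx⟩, h1 (Subgroup.mem_subgroupOf.mpr hx), rfl⟩
    intro c hc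
    have h1 : (⟨c, hc⟩ : C) ∈ K ⊔ (R : Subgroup C) := hKc.sup_eq_top.symm ▸ Subgroup.mem_top _
    obtain ⟨k, hk, r, hr, he⟩ := Coprime.exists_mul_of_mem_sup
      (Subgroup.normalizer_eq_top K ▸ le_top) h1
    have he' : c = (k : G) * (r : G) := (congrArg Subtype.val he).symm
    rw [he']
    exact L.mul_mem (hDL (hKD ⟨k, hk, rfl⟩)) (hQL (hWQ (hRW r hr)))
  have hCQC : Subgroup.centralizer (Q : Set G) ≤ C := Subgroup.centralizer_le hWQ
  have hQCL : Q ⊔ Subgroup.centralizer (Q : Set G) ≤ L := sup_le hQL (hCQC.trans hCL)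
  have hDQc : ∀ d ∈ D, d ∈ Subgroup.normalizer (Q : Set G) →
      d ∈ Subgroup.centralizer (Q : Set G) := fun d hd hdn =>
    Coprime.mem_centralizer_of_conj_mem (hQN.trans hND) (hcopP Q hQp) hd fun q hq =>
      (Subgroup.mem_normalizer_iff.mp hdn q).mp hq
  -- Frattini
  have hfrat : ∀ n ∈ N, ∃ d ∈ D, ∃ h ∈ Subgroup.normalizer (Q : Set G), h ∈ N ∧ n = d * h := by
    intro n hn
    have hle : Q.map (MulAut.conj n).toMonoidHom ≤ D ⊔ Q := by
      rintro _ ⟨q, hq, rfl⟩
      obtain ⟨d, hd, q', hq', he⟩ :=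
        hLDQ _ ((Subgroup.mem_normalizer_iff.mp (hNL hn) q).mp (hQL hq))
      show n * q * n⁻¹ ∈ D ⊔ Q
      rw [he]
      exact Subgroup.mul_mem_sup hd hq'
    haveI : Group.IsNilpotent Q := hQp.isNilpotent
    obtain ⟨d, hd, hd'⟩ := Coprime.exists_conj_complement D _ Q
      (Q.map (MulAut.conj n).toMonoidHom) rfl inferInstance (hQN.trans hND) hle
      (Subgroup.card_map_of_injective (MulAut.conj n).injective) (hcopP Q hQp)
    refine ⟨d, hd, d⁻¹ * n, map_conj_eq_of_le ?_, N.mul_mem (N.inv_mem (hDN hd)) hn, by group⟩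
    have e : (MulAut.conj (d⁻¹ * n)).toMonoidHom =
        (MulAut.conj d⁻¹).toMonoidHom.comp (MulAut.conj n).toMonoidHom := by
      ext x; simp [mul_assoc]
    have e2 : (MulAut.conj d⁻¹).toMonoidHom.comp (MulAut.conj d).toMonoidHom = MonoidHom.id G := by
      ext x; simp [mul_assoc]
    rw [e, ← Subgroup.map_map, hd', Subgroup.map_map, e2, Subgroup.map_id]
  -- control by `N(Q)`
  have hctrlQ : ∀ A : Subgroup G, A ≤ (P : Subgroup G) → ∀ g : G,
      (∀ a ∈ A, g * a * g⁻¹ ∈ (P : Subgroup G)) →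
      ∃ h ∈ Subgroup.normalizer (Q : Set G), h⁻¹ * g ∈ Subgroup.centralizer (A : Set G) := by
    intro A hA g hg
    obtain ⟨x, hx, hxg⟩ := hctrl A hA g hg
    obtain ⟨d, hd, h, hh, hhN, rfl⟩ := hfrat x hx
    set A1 := A.map (MulAut.conj h).toMonoidHom with hA1
    have hA1S : A1 ≤ Subgroup.normalizer (Q : Set G) := by
      rintro _ ⟨a, ha, rfl⟩
      exact mul_mem (mul_mem hh (hPQ (hA ha))) (inv_mem hh)
    have hA1N : A1 ≤ N := by
      rintro _ ⟨a, ha, rfl⟩
      exact mul_mem (mul_mem hhN (hPN (hA ha))) (inv_mem hhN)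
    have hA1p : IsPGroup p A1 := (P.isPGroup'.to_le hA).map _
    haveI : Group.IsNilpotent A1 := hA1p.isNilpotent
    obtain ⟨s, hs, c, hc, hdsc⟩ := Coprime.exists_mem_centralizer_of_conj_le (N := D) (A := A1)
      (S := Subgroup.normalizer (Q : Set G)) (hA1N.trans hND) (hcopP A1 hA1p) hA1S hd (by
        rintro _ ⟨a, ha, rfl⟩
        apply hPQ
        have := hg a ha
        rw [hxg a ha] at this
        simpa [mul_assoc] using this)
    refine ⟨s * h, mul_mem hs.2 hh, ?_⟩
    rw [Coprime.mem_centralizer_iff_conj]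
    intro a ha
    have h1 : c * (h * a * h⁻¹) * c⁻¹ = h * a * h⁻¹ :=
      Coprime.mem_centralizer_iff_conj.mp hc.2 _ ⟨a, ha, rfl⟩
    have h2 : g * a * g⁻¹ = s * (h * a * h⁻¹) * s⁻¹ := by
      rw [hxg a ha, hdsc]
      calc s * c * h * a * (s * c * h)⁻¹ = s * (c * (h * a * h⁻¹) * c⁻¹) * s⁻¹ := by group
        _ = _ := by rw [h1]
    calc (s * h)⁻¹ * g * a * ((s * h)⁻¹ * g)⁻¹ = h⁻¹ * (s⁻¹ * (g * a * g⁻¹) * s) * h := by group
      _ = a := by rw [h2]; group
  refine ⟨Q, (hcr Q).mpr ⟨hQP, ?_, ?_⟩, ?_, fun x hx =>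
    Subgroup.mem_normalizer_iff_map_conj_eq.mp (hPQ hx), ?_⟩
  · obtain ⟨R, hR⟩ := exists_sylow_inf P (hPQ.trans (le_normalizer_centralizer Q))
    refine ⟨R, hR.trans (le_antisymm (fun x hx => ⟨hWQ (hCW ⟨hx.1, hCQC hx.2⟩), hx.2⟩)
      (inf_le_inf_right _ hQP))⟩
  · intro X hXN hXinv hQCX ⟨k, hk⟩
    have hNQX : Subgroup.normalizer (Q : Set G) ≤ Subgroup.normalizer (X : Set G) := fun n hn =>
      map_conj_eq_of_le (hXinv n hn)
    set QC := Q ⊔ Subgroup.centralizer (Q : Set G) with hQC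
    have hQCN : QC ≤ N := hQCL.trans hLN
    have hQCn : QC ≤ X ⊓ N := le_inf hQCX hQCN
    set Z := L ⊔ (X ⊓ N) with hZ
    have hZN : Z ≤ N := sup_le hLN inf_le_right
    have hNZ : N ≤ Subgroup.normalizer (Z : Set G) := by
      intro n hn
      obtain ⟨d, hd, h, hh, hhN, rfl⟩ := hfrat n hn
      refine mul_mem (Subgroup.le_normalizer (Subgroup.mem_sup_left (hDL hd))) ?_
      exact Subgroup.normalizer_inf_normalizer_le_normalizer_sup _ _
        ⟨hNL hhN, Subgroup.inf_normalizer_le_normalizer_inf ⟨hNQX hh, Subgroup.le_normalizer hhN⟩⟩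
    have hZL : Z ≤ L := by
      refine hLmax Z hZN hNZ fun z hz => ?_
      have hdvd : L.relIndex Z ∣ p ^ k := by
        rw [hZ, sup_comm, relIndex_sup_of_le_normalizer (inf_le_right.trans hNL), ← hk]
        refine (Subgroup.relIndex_dvd_of_le_left _ hQCL).trans ?_
        rw [← Subgroup.relIndex_mul_relIndex _ _ _ hQCn (inf_le_left : X ⊓ N ≤ X)]
        exact dvd_mul_right _ _
      obtain ⟨j, -, hj⟩ := (Nat.dvd_prime_pow Fact.out).mp hdvd
      haveI := (Subgroup.normal_subgroupOf_iff_le_normalizer (le_sup_left : L ≤ Z)).mpr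
        (hZN.trans hNL)
      refine ⟨j, ?_⟩
      have hm := (L.subgroupOf Z).pow_index_mem ⟨z, hz⟩
      rw [show (L.subgroupOf Z).index = p ^ j from hj] at hm
      simpa [Subgroup.mem_subgroupOf] using hm
    have hY : X ⊓ N ≤ QC := by
      intro y hy
      obtain ⟨d, hd, q, hq, rfl⟩ := hLDQ y (hZL (Subgroup.mem_sup_right hy))
      refine mul_mem (Subgroup.mem_sup_right (hDQc d hd ?_)) (Subgroup.mem_sup_left hq)
      have h1 := mul_mem (hXN hy.1) (inv_mem (Subgroup.le_normalizer hq))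
      simpa using h1
    obtain ⟨R, hR⟩ := exists_sylow_inf P (hPQ.trans hNQX)
    have hle : (P : Subgroup G) ⊓ X ≤ QC := fun x hx => hY ⟨hx.2, hPN hx.1⟩
    have hnd : ¬ p ∣ QC.relIndex X := fun hd => R.not_dvd_index (hd.trans (by
      have h1 : (R : Subgroup X).index = ((P : Subgroup G) ⊓ X).relIndex X := by
        rw [← hR]
        show _ = (((R : Subgroup X).map X.subtype).comap X.subtype).index
        rw [Subgroup.comap_map_eq_self_of_injective X.subtype_injective]
      rw [h1]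
      exact Subgroup.relIndex_dvd_of_le_left _ hle))
    refine le_antisymm (Subgroup.relIndex_eq_one.mp ?_) hQCX
    rcases Nat.eq_zero_or_pos k with rfl | hk0
    · simpa using hk
    · exact absurd (hk ▸ dvd_pow_self p hk0.ne') hnd
  · intro R hRcr
    obtain ⟨hRP, ⟨Rs, hRs⟩, hRrad⟩ := (hcr R).mp hRcr
    by_contra hne
    haveI : Group.IsNilpotent (P : Subgroup G) := P.isPGroup'.isNilpotent
    set T := Q ⊔ R with hT
    have hTp : IsPGroup p T := P.isPGroup'.to_le (sup_le hQP hRP)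
    haveI : Group.IsNilpotent T := hTp.isNilpotent
    have hRT : R.subgroupOf T < ⊤ := lt_top_iff_ne_top.mpr fun h =>
      hne ((le_sup_left : Q ≤ T).trans (Subgroup.subgroupOf_eq_top.mp h))
    obtain ⟨t, htn, htR⟩ := SetLike.exists_of_lt (Group.normalizerCondition_of_isNilpotent _ hRT)
    have htN : (t : G) ∈ Subgroup.normalizer (R : Set G) := by
      refine Subgroup.mem_normalizer_fintype fun r hr => ?_
      exact (Subgroup.mem_normalizer_iff.mp htn ⟨r, Subgroup.mem_sup_right hr⟩).mp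
        (Subgroup.mem_subgroupOf.mpr hr)
    obtain ⟨q, hq, r, hr, htqr⟩ := Coprime.exists_mul_of_mem_sup (hRP.trans hPQ) t.2
    have hqN : q ∈ Subgroup.normalizer (R : Set G) := by
      have h1 := mul_mem htN (inv_mem (Subgroup.le_normalizer hr))
      rw [← htqr] at h1
      simpa using h1
    set RC := R ⊔ Subgroup.centralizer (R : Set G) with hRC
    set M := Q ⊓ Subgroup.normalizer (R : Set G) with hM
    have hRCN : RC ≤ Subgroup.normalizer (R : Set G) :=
      sup_le Subgroup.le_normalizer (Subgroup.centralizer_le_normalizer _)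
    have hNRC : Subgroup.normalizer (R : Set G) ≤ Subgroup.normalizer (RC : Set G) :=
      (le_inf le_rfl (le_normalizer_centralizer R)).trans
        (Subgroup.normalizer_inf_normalizer_le_normalizer_sup _ _)
    have hXeq : M ⊔ RC = RC := by
      refine hRrad (M ⊔ RC) (sup_le inf_le_right hRCN) (fun n hn => ?_) le_sup_right ?_
      · have hn' : ∀ a ∈ R, n * a * n⁻¹ ∈ (P : Subgroup G) := fun a ha =>
          hRP ((Subgroup.mem_normalizer_iff.mp hn a).mp ha)
        obtain ⟨h, hh, hc⟩ := hctrlQ R hRP n hn'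
        have hhR : h ∈ Subgroup.normalizer (R : Set G) := by
          have := mul_mem hn (inv_mem (Subgroup.centralizer_le_normalizer _ hc :
            h⁻¹ * n ∈ Subgroup.normalizer (R : Set G)))
          simpa using this
        have h1 : h ∈ Subgroup.normalizer ((M ⊔ RC : Subgroup G) : Set G) :=
          Subgroup.normalizer_inf_normalizer_le_normalizer_sup _ _
            ⟨Subgroup.inf_normalizer_le_normalizer_inf ⟨hh, Subgroup.le_normalizer hhR⟩, hNRC hhR⟩
        have h2 : n ∈ Subgroup.normalizer ((M ⊔ RC : Subgroup G) : Set G) := by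
          have := mul_mem h1 (Subgroup.le_normalizer
            (Subgroup.mem_sup_right (Subgroup.mem_sup_right hc)) :
            h⁻¹ * n ∈ Subgroup.normalizer ((M ⊔ RC : Subgroup G) : Set G))
          simpa using this
        exact Subgroup.mem_normalizer_iff_map_conj_eq.mp h2
      · rw [relIndex_sup_of_le_normalizer (inf_le_right.trans hNRC)]
        obtain ⟨j, hj⟩ := (hQp.to_le (inf_le_left : M ≤ Q)).exists_card_eq
        obtain ⟨i, -, hi⟩ := (Nat.dvd_prime_pow Fact.out).mp (hj ▸ Subgroup.relIndex_dvd_card RC M)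
        exact ⟨i, hi⟩
    have hqRC : q ∈ RC := hXeq ▸ Subgroup.mem_sup_left ⟨hq, hqN⟩
    obtain ⟨a, ha, c, hc, hac⟩ := Coprime.exists_mul_of_mem_sup
      ((Subgroup.centralizer_le_normalizer _) : _ ≤ Subgroup.normalizer (R : Set G)) hqRC
    have hcP : c ∈ (P : Subgroup G) := by
      have := mul_mem (inv_mem (hRP ha)) (hQP hq)
      rw [← hac] at this
      simpa using this
    have hcR : c ∈ R := (inf_centralizer_le_of_sylow Rs hRs (inf_le_left.trans hRP) ⟨hcP, hc⟩).1
    apply htR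
    rw [Subgroup.mem_subgroupOf, ← htqr, ← hac]
    exact mul_mem (mul_mem ha hcR) hr
  · intro A hA g hg
    obtain ⟨h, hh, hc⟩ := hctrlQ A hA g fun a ha => hg ⟨a, ha, rfl⟩
    exact ⟨h, hh, h⁻¹ * g, hc, by group⟩

/-- Let p be an odd prime and P a Sylow p-subgroup of the finite group G, and suppose that for no p-subgroup Q of G does N_G(Q)/C_G(Q) have a section isomorphic to SL₂(p). Call a subgroup Q of P centric-radical when Z(Q) is a Sylow p-subgroup of C_G(Q) and the only normal subgroup X of N_G(Q) containing Q·C_G(Q) such that the index of Q·C_G(Q) in X is a power of p is Q·C_G(Q) itself (that is, N_G(Q)/Q·C_G(Q) has no nontrivial normal p-subgroup). Then there is a centric-radical subgroup Q of P contained in every centric-radical subgroup of P; it is normal in P, and N_G(Q) controls strong fusion in P: whenever a subgroup A of P has g A g⁻¹ ≤ P, the element g is a product h c with h in N_G(Q) and c centralizing A. -/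
theorem result {G : Type*} [Group G] [Finite G] {p : ℕ} [Fact p.Prime] (hp : p ≠ 2) (P : Sylow p G)
    (hfree : ∀ Q : Subgroup G, IsPGroup p ↥Q → ¬ ∃ (H K : Subgroup G) (_ : (K.subgroupOf H).Normal),
      Subgroup.centralizer (Q : Set G) ≤ K ∧ K ≤ H ∧ H ≤ Subgroup.normalizer (Q : Set G) ∧
      Nonempty ((↥H ⧸ K.subgroupOf H) ≃* Matrix.SpecialLinearGroup (Fin 2) (ZMod p)))
    (cr : Subgroup G → Prop)
    (hcr : ∀ Q : Subgroup G, cr Q ↔ (Q ≤ (P : Subgroup G) ∧
      (∃ R : Sylow p ↥(Subgroup.centralizer (Q : Set G)),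
        (R : Subgroup ↥(Subgroup.centralizer (Q : Set G))).map (Subgroup.centralizer (Q : Set G)).subtype = Q ⊓ Subgroup.centralizer (Q : Set G)) ∧
      ∀ X : Subgroup G, X ≤ Subgroup.normalizer (Q : Set G) →
        (∀ n ∈ Subgroup.normalizer (Q : Set G), X.map (MulAut.conj n).toMonoidHom = X) →
        Q ⊔ Subgroup.centralizer (Q : Set G) ≤ X → (∃ k : ℕ, (Q ⊔ Subgroup.centralizer (Q : Set G)).relIndex X = p ^ k) →
        X = Q ⊔ Subgroup.centralizer (Q : Set G))) :
    ∃ Q : Subgroup G, cr Q ∧ (∀ R : Subgroup G, cr R → Q ≤ R) ∧ (∀ x ∈ (P : Subgroup G), Q.map (MulAut.conj x).toMonoidHom = Q) ∧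
      ∀ A : Subgroup G, A ≤ (P : Subgroup G) → ∀ g : G, A.map (MulAut.conj g).toMonoidHom ≤ (P : Subgroup G) →
        ∃ h ∈ Subgroup.normalizer (Q : Set G), ∃ c ∈ Subgroup.centralizer (A : Set G), g = h * c :=
  main hp P (fun h => by
    obtain ⟨Q, hQ, hh⟩ := exists_sl_two_automizer h
    exact hfree Q hQ hh) cr hcr

end Cfsg.Agent.S1953
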