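import Cfsg.Statements.S1986
import Cfsg.Agent.PLocal.WeakClosurePow
import Cfsg.Agent.PLocal.KInfTransfer
import Cfsg.Agent.FusionZJ.FunctorControl
import Cfsg.Agent.S1978

set_option autoImplicit false
universe u
open Cfsg
open scoped commutatorElement

namespace Cfsg.Agent.S1986

open Cfsg.FusionSystem Cfsg.Agent Cfsg.Agent.Fusion Cfsg.Agent.FusionZJ

/-- Let p be a prime, G a finite group with Sylow p-subgroup S, K the lower K-infinity subgroup of S, and Z the subgroup of p-th powers of elements of Z(S). Then every element of Z commuting with all of N_G(K) is weakly closed in S with respect to G, and every subgroup of Z that is normal in N_G(K) is weakly closed in S with respect to G. -/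
theorem result {G : Type u} [Group G] [Finite G] {p : ℕ} [Fact p.Prime] (S : Sylow p G) (Z : Subgroup G) (hZ : Z = Subgroup.closure ((fun z : G => z ^ p) '' (((S : Subgroup G) ⊓ Subgroup.centralizer (((S : Subgroup G) : Subgroup G) : Set G) : Subgroup G) : Set G))) : (∀ x ∈ Z ⊓ Subgroup.centralizer ((Subgroup.normalizer ((Cfsg.inducedFunctor Cfsg.kInfLower (S : Subgroup G) : Subgroup G) : Set G) : Subgroup G) : Set G), ∀ g : G, g * x * g⁻¹ ∈ (S : Subgroup G) → g * x * g⁻¹ = x) ∧ ∀ A : Subgroup G, A ≤ Z → Subgroup.normalizer ((Cfsg.inducedFunctor Cfsg.kInfLower (S : Subgroup G) : Subgroup G) : Set G) ≤ Subgroup.normalizer ((A : Subgroup G) : Set G) → Cfsg.IsWeaklyClosed A (S : Subgroup G) := by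
  have hW2 : ∀ (Q R : Type u) [Group Q] [Group R] [Finite Q], IsPGroup p Q → ∀ φ : Q ≃* R,
      (kLo Q).map φ.toMonoidHom = kLo R := fun _ _ _ _ _ _ φ => kInfLower_equiv φ
  have hWZ : ∀ (Q : Type u) [Group Q] [Finite Q], IsPGroup p Q → Subgroup.center Q ≤ kLo Q :=
    fun Q _ _ hQ => (S1978.result hQ).2.1.trans (S1978.result hQ).1
  have hq : ∀ (L : Type u) [Group L] [Finite L] (P : Sylow p L),
      ¬ (Cfsg.inducedFunctor kLo (P : Subgroup L)).Normal →
      ∃ g : L, g ∈ (P : Subgroup L) ∧ g ∉ pCore p L ∧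
        ⁅⁅pCore p L ⊓ Subgroup.centralizer ((pCore p L : Subgroup L) : Set L), Subgroup.zpowers g⁆,
          Subgroup.zpowers g⁆ = ⊥ := by
    intro L _ _ P h
    obtain ⟨g, hgP, hgO, -, hz, -⟩ := S1983.result P (Or.inl h)
    exact ⟨g, hgP, hgO, hz⟩
  have hq' : ∀ (L : Type u) [Group L] [Finite L] (P : Sylow p L),
      ¬ (((kLo ↥(P : Subgroup L)).map (P : Subgroup L).subtype : Subgroup L)).Normal →
      ∃ g : L, g ∈ (P : Subgroup L) ∧ g ∉ pCore p L ∧
        ⁅⁅(Subgroup.center ↥(pCore p L)).map (pCore p L).subtype, Subgroup.zpowers g⁆,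
          Subgroup.zpowers g⁆ = ⊥ := by
    intro L _ _ P h
    obtain ⟨g, hgP, hgO, hz⟩ := hq L P h
    refine ⟨g, hgP, hgO, le_bot_iff.mp (le_trans
      (Subgroup.commutator_mono (Subgroup.commutator_mono ?_ le_rfl) le_rfl) hz.le)⟩
    rintro _ ⟨b, hb, rfl⟩
    exact ⟨b.2, fun o ho => congrArg Subtype.val (Subgroup.mem_center_iff.mp hb ⟨o, ho⟩)⟩
  have hpow : ∀ a ∈ Z, ∃ z ∈ (S : Subgroup G), (∀ s ∈ (S : Subgroup G), s * z = z * s) ∧ z ^ p = a := by
    intro a ha
    rw [hZ] at ha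
    induction ha using Subgroup.closure_induction with
    | mem a ha =>
      obtain ⟨z, hz, rfl⟩ := ha
      exact ⟨z, hz.1, fun s hs => hz.2 s hs, rfl⟩
    | one => exact ⟨1, one_mem _, fun s _ => by simp, one_pow p⟩
    | mul a b _ _ iha ihb =>
      obtain ⟨z, hz, hzc, rfl⟩ := iha
      obtain ⟨w, hw, hwc, rfl⟩ := ihb
      refine ⟨z * w, mul_mem hz hw, fun s hs => ?_, (show Commute z w from hwc z hz).mul_pow p⟩
      rw [← mul_assoc, hzc s hs, mul_assoc, hwc s hs, ← mul_assoc]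
    | inv a _ ih =>
      obtain ⟨z, hz, hzc, rfl⟩ := ih
      exact ⟨z⁻¹, inv_mem hz, fun s hs => (Commute.inv_right (hzc s hs : Commute s z)).eq, inv_pow z p⟩
  refine ⟨?_, fun A hA hAN => Cfsg.Agent.PLocal.isWeaklyClosed_of_quadratic Cfsg.Agent.PLocal.isCharP_kLo hWZ hq S A
    (fun a ha => hpow a (hA ha)) hAN⟩
  rintro x ⟨hxZ, hxN⟩ g hgx
  obtain ⟨z, hzS, hzc, rfl⟩ := hpow x hxZ
  have hI := groupFusion_inducedBy (S : Subgroup G)
  have hF := groupFusion_saturated S
  have hxS : z ^ p ∈ (S : Subgroup G) := pow_mem hzS p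
  have hxc : ∀ s ∈ (S : Subgroup G), s * z ^ p = z ^ p * s := fun s hs =>
    (Commute.pow_right (hzc s hs : Commute s z) p).eq
  have hfixS : ∀ f, Iso (groupFusionSystem (S : Subgroup G)) f (wOf kLo (S : Subgroup G))
      (wOf kLo (S : Subgroup G)) → f (z ^ p) = z ^ p := by
    intro f hf
    obtain ⟨-, -, k, -, hk⟩ := (hI _ _).mp hf.mor
    have hxw : z ^ p ∈ wOf kLo (S : Subgroup G) :=
      mem_wOf_of_center S.isPGroup' hWZ hxc le_rfl hxS
    have hkn : k ∈ Subgroup.normalizer (wOf kLo (S : Subgroup G) : Set G) :=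
      Subgroup.mem_normalizer_fintype fun y hy => by
        show cj k y ∈ wOf kLo (S : Subgroup G)
        rw [← hk y hy]
        exact hf.mapsTo hy
    rw [hk (z ^ p) hxw]
    show k * z ^ p * k⁻¹ = z ^ p
    rw [show k * z ^ p = z ^ p * k from hxN k hkn, mul_inv_cancel_right]
  exact fixed_of_group_condition_aut (W := kLo) S.isPGroup' hF hW2 hWZ p
    (fun L _ _ T hc _ w hw hwc _ hfix => pow_fixed_of_quadratic kLo hW2 hq' L T hc w hw hwc hfix)
    hzS hzc hfixS (Subgroup.zpowers (z ^ p)) (cj g)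
    ((hI _ _).mpr ⟨Subgroup.zpowers_le.mpr hxS, fun y hy => by
      obtain ⟨n, rfl⟩ := Subgroup.mem_zpowers_iff.mp hy
      show g * (z ^ p) ^ n * g⁻¹ ∈ (S : Subgroup G)
      rw [← conj_zpow]
      exact Subgroup.zpow_mem _ hgx n, g, trivial, fun _ _ => rfl⟩) (Subgroup.mem_zpowers _)

end Cfsg.Agent.S1986
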