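import Cfsg.Statements.S1990
import Cfsg.Agent.PLocal.InducedFunctor
import Cfsg.Agent.PLocal.AbelianSylowStable
import Cfsg.Agent.Core.Cores
import Cfsg.Agent.Coprime.Action
import Cfsg.Agent.Transfer.Complement
import Cfsg.Agent.Transfer.Fusion

set_option autoImplicit false
universe u
open Cfsg
open scoped commutatorElement

namespace Cfsg.Agent.S1990

/-- Let p be an odd prime, G a finite group with Sylow p-subgroup S, and W an isomorphism-invariant p-group functor (W assigns to every group Q a subgroup W(Q), nontrivial whenever Q is a nontrivial finite p-group, and every isomorphism from a finite p-group Q onto a group R carries W(Q) onto W(R)). Suppose N_G(W(S)) has a normal p-complement, and W(T) controls strong fusion in every section G* = K/R of G all of whose sections are p-stable in the normalizer form, for every Sylow p-subgroup T of G*. Then G has a normal p-complement. -/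
theorem result {G : Type u} [Group G] [Finite G] {p : ℕ} [Fact p.Prime] (hp : p ≠ 2) (W : ∀ (Q : Type u) [Group Q], Subgroup Q) (hW : Cfsg.IsCharPFunctor.{u} p W) (S : Sylow p G) (hN : Cfsg.HasNormalPComplement p ↥(Subgroup.normalizer ((Cfsg.inducedFunctor (G := G) W (S : Subgroup G) : Subgroup G) : Set G))) (hctl : ∀ (K R : Subgroup G) [hR : (R.subgroupOf K).Normal], (∀ (K' R' : Subgroup (↥K ⧸ R.subgroupOf K)) [hR' : (R'.subgroupOf K').Normal], Cfsg.IsNormalizerPStable p (↥K' ⧸ R'.subgroupOf K')) → ∀ T : Sylow p (↥K ⧸ R.subgroupOf K), Cfsg.ControlsStrongFusion p (Cfsg.inducedFunctor (G := (↥K ⧸ R.subgroupOf K)) W (T : Subgroup (↥K ⧸ R.subgroupOf K)))) : Cfsg.HasNormalPComplement p G := by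
  refine PLocal.complement_general (PLocal.isPMap_induced hW) _ le_rfl ?_ S hN
  intro Y _ _ hY hcY _ _ habY T hT
  obtain ⟨K, R, hR, ⟨e⟩⟩ := hY
  haveI := hR
  haveI := Fact.mk Nat.prime_two
  have hsurj : Function.Surjective e.symm.toMonoidHom := e.symm.surjective
  have hab2 : ∀ T₂ : Sylow 2 (↥K ⧸ R.subgroupOf K), IsMulCommutative (T₂ : Subgroup (↥K ⧸ R.subgroupOf K)) := by
    intro T₂
    obtain ⟨T₁, hT₁⟩ := Sylow.mapSurjective_surjective hsurj 2 T₂
    have hc := (habY 2 Nat.prime_two hp.symm T₁).is_comm.comm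
    subst hT₁
    refine ⟨⟨fun a b => ?_⟩⟩
    obtain ⟨x, hx, hxa⟩ := a.2
    obtain ⟨y, hy, hyb⟩ := b.2
    refine Subtype.ext ?_
    show (a : ↥K ⧸ R.subgroupOf K) * b = b * a
    rw [← hxa, ← hyb, ← map_mul, ← map_mul, show x * y = y * x from congrArg Subtype.val (hc ⟨x, hx⟩ ⟨y, hy⟩)]
  let T' : Sylow p (↥K ⧸ R.subgroupOf K) := T.mapSurjective hsurj
  obtain ⟨U, hUle, hU⟩ := hctl K R (fun K' R' _ =>
    PLocal.isNormalizerPStable_of_abelian_sylow_two hp
      (PLocal.sylow_abelian_quotient_all (PLocal.sylow_abelian_subgroup hab2 K') _)) T'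
  refine PLocal.normal_of_map_equiv e.symm ?_
  rw [(PLocal.isPMap_induced hW).map e.symm.toMonoidHom (T : Subgroup Y) T.isPGroup' e.symm.injective.injOn]
  set Wt := Cfsg.inducedFunctor (G := (↥K ⧸ R.subgroupOf K)) W (T' : Subgroup (↥K ⧸ R.subgroupOf K)) with hWt
  show Wt.Normal
  set N := Subgroup.normalizer (Wt : Set (↥K ⧸ R.subgroupOf K)) with hN'
  have hTN : (T' : Subgroup (↥K ⧸ R.subgroupOf K)) ≤ N :=
    Subgroup.le_normalizer.trans ((PLocal.isPMap_induced hW).normalizer_le _ T'.isPGroup')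
  by_contra hnn
  have hNtop : N ≠ ⊤ := fun h => hnn (Subgroup.normalizer_eq_top_iff.mp h)
  have hNT : N.comap e.symm.toMonoidHom = (T : Subgroup Y) := by
    refine le_antisymm ?_ (fun y hy => hTN ⟨y, hy, rfl⟩)
    by_contra hle
    have hlt : (T : Subgroup Y) < N.comap e.symm.toMonoidHom :=
      lt_of_le_not_ge (fun y hy => hTN ⟨y, hy, rfl⟩) hle
    apply hNtop
    rw [← Subgroup.map_comap_eq_self_of_surjective hsurj N, hT.2 _ hlt, Subgroup.map_top_of_surjective _ hsurj]
  have hNT' : N = (T' : Subgroup (↥K ⧸ R.subgroupOf K)) := by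
    rw [← Subgroup.map_comap_eq_self_of_surjective hsurj N, hNT]; rfl
  have hUT : (U : Subgroup (↥K ⧸ R.subgroupOf K)) = T' := by
    refine (U.is_maximal' T'.isPGroup' fun g hg => ?_).symm
    obtain ⟨-, hc⟩ := hU _ (Set.Subset.refl _)
    obtain ⟨x, hx, hgx⟩ := hc g (by
      rintro _ ⟨a, ha, rfl⟩
      exact mul_mem (mul_mem hg ha) (inv_mem hg))
    have hxU : x ∈ (U : Subgroup (↥K ⧸ R.subgroupOf K)) := by
      have hxn : x ∈ Subgroup.normalizer ((U : Subgroup (↥K ⧸ R.subgroupOf K)) : Set _) :=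
        Coprime.mem_normalizer_of_conj_mem fun a ha => by
          rw [← hgx a ha]
          exact mul_mem (mul_mem hg ha) (inv_mem hg)
      obtain ⟨k, hk⟩ := T'.isPGroup' ⟨x, hNT'.le hx⟩
      have hxk : x ^ p ^ k = 1 := congrArg Subtype.val hk
      have hzp : IsPGroup p (Subgroup.zpowers x) := by
        obtain ⟨j, -, hj⟩ := (Nat.dvd_prime_pow (Fact.out : p.Prime)).mp (orderOf_dvd_of_pow_eq_one hxk)
        exact IsPGroup.of_card (n := j) (by rw [Nat.card_zpowers, hj])
      have h1 := hzp.to_sup_of_normal_right' U.isPGroup' (Subgroup.zpowers_le.mpr hxn)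
      rw [← U.is_maximal' h1 le_sup_right]
      exact Subgroup.mem_sup_left (Subgroup.mem_zpowers x)
    have hz : x⁻¹ * g ∈ N := by
      refine Coprime.mem_normalizer_of_conj_mem fun a ha => ?_
      have h1 := hgx a (hUle ha)
      have h2 : (x⁻¹ * g) * a * (x⁻¹ * g)⁻¹ = a := by
        calc (x⁻¹ * g) * a * (x⁻¹ * g)⁻¹ = x⁻¹ * (g * a * g⁻¹) * x := by group
          _ = a := by rw [h1]; group
      rw [h2]; exact ha
    have h3 := mul_mem hx hz
    rw [mul_inv_cancel_left] at h3
    exact hNT'.le h3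
  have hnpc : HasNormalPComplement p (↥K ⧸ R.subgroupOf K) := by
    refine Transfer.hasNormalPComplement_of_fusion U fun x hx g hg => ?_
    obtain ⟨-, hc⟩ := hU {x} (Set.singleton_subset_iff.mpr hx)
    obtain ⟨z, hz, hzx⟩ := hc g (by rw [Set.image_singleton, Set.singleton_subset_iff]; exact hg)
    exact ⟨z, hUT ▸ hNT' ▸ hz, (hzx x rfl).symm⟩
  have hnpcY : HasNormalPComplement p Y := Transfer.hasNormalPComplement_equiv e hnpc
  obtain ⟨M, hMn, hMp, k, hk⟩ := Transfer.hasNormalPComplement_iff_exists.mp hnpcY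
  have hM : M = ⊥ := by
    have h1 : M ≤ pPrimeCore p Y := Core.le_pPrimeCore hMn hMp
    have h2 : pPrimeCore p Y ≤ pCore p Y := by
      refine le_trans ?_ hcY
      exact Subgroup.le_centralizer_iff.mp (Core.pCore_le_centralizer_pPrimeCore p Y)
    refine le_bot_iff.mp ((le_inf (h1.trans h2) h1).trans ?_)
    rw [Core.pCore_inf_pPrimeCore]
  rw [hM, Subgroup.index_bot] at hk
  have hYp : IsPGroup p Y := IsPGroup.of_card hk
  exact hT.1 (T.is_maximal' (hYp.to_subgroup ⊤) le_top).symm

end Cfsg.Agent.S1990
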