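import Cfsg.Statements.S1988
import Cfsg.Agent.S1990
import Cfsg.Agent.S2795
import Cfsg.Agent.FusionZJ.KInfControl
import Cfsg.Agent.FusionZJ.FunctorControl
import Cfsg.Agent.PLocal.ZJ

set_option autoImplicit false
universe u
open Cfsg Cfsg.FusionSystem Cfsg.Agent Cfsg.Agent.Fusion Cfsg.Agent.FusionZJ

namespace Cfsg.Agent.S1988

/-- Let p be an odd prime, G a finite group with Sylow p-subgroup S and K the lower K-infinity subgroup of S. If N_G(K) has a normal p-complement, or if N_G(K)/C_G(K) is a p-group (every element of N_G(K) of order prime to p centralizes K), then G has a normal p-complement. -/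
theorem result {G : Type u} [Group G] [Finite G] {p : ℕ} [Fact p.Prime] (hp : p ≠ 2) (S : Sylow p G) (h : Cfsg.HasNormalPComplement p ↥(Subgroup.normalizer ((Cfsg.inducedFunctor Cfsg.kInfLower (S : Subgroup G) : Subgroup G) : Set G)) ∨ ∀ g ∈ Subgroup.normalizer ((Cfsg.inducedFunctor Cfsg.kInfLower (S : Subgroup G) : Subgroup G) : Set G), (orderOf g).Coprime p → g ∈ Subgroup.centralizer ((Cfsg.inducedFunctor Cfsg.kInfLower (S : Subgroup G) : Subgroup G) : Set G)) : Cfsg.HasNormalPComplement p G := by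
  have hW : IsCharPFunctor.{u} p kLo := ⟨fun Q _ _ hQ hnt => kInfLower_ne_bot Q hQ hnt,
    fun _ _ _ _ _ _ φ => kInfLower_equiv φ⟩
  refine S1990.result hp kLo hW S ?_ (fun K R hR hst T =>
    controls_kInfLower hp T ((S2795.result hp).mpr hst))
  rcases h with h | h
  · exact h
  change HasNormalPComplement p ↥(Subgroup.normalizer (wOf kLo (S : Subgroup G) : Set G))
  set W := wOf kLo (S : Subgroup G) with hWdef
  have hWS : W ≤ (S : Subgroup G) := wOf_le kLo _
  have hSN : (S : Subgroup G) ≤ Subgroup.normalizer (W : Set G) := fun s hs =>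
    normalizerIn_le_wOf S.isPGroup' hW.2 le_rfl
      (⟨hs, Subgroup.le_normalizer hs⟩ : s ∈ normalizerIn (S : Subgroup G) (S : Subgroup G))
  set N := Subgroup.normalizer (W : Set G) with hN
  set C := Subgroup.centralizer ((W.subgroupOf N : Subgroup N) : Set N) with hC
  haveI : (W.subgroupOf N).Normal := Subgroup.normal_in_normalizer
  haveI hCn : C.Normal := by rw [hC]; infer_instance
  set S' : Sylow p N := S.subtype hSN with hS'
  obtain ⟨T, hT⟩ := PLocal.exists_sylow_inf S' C
  have hTmem : ∀ t : C, t ∈ (T : Subgroup C) → ((t : N) : G) ∈ W := by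
    intro t ht
    have h1 : (t : N) ∈ (S' : Subgroup N) ⊓ C := hT ▸ Subgroup.mem_map_of_mem C.subtype ht
    have h2 : ((t : N) : G) ∈ (S : Subgroup G) := h1.1
    have h3 : (⟨_, h2⟩ : ↥(S : Subgroup G)) ∈
        Subgroup.centralizer (kInfLower ↥(S : Subgroup G) : Set ↥(S : Subgroup G)) := fun y hy =>
      Subtype.ext (show (y : G) * _ = _ * (y : G) from congrArg Subtype.val (h1.2 ⟨y, hSN y.2⟩
        (Subgroup.mem_map_of_mem (S : Subgroup G).subtype hy : (y : G) ∈ W)))
    exact ⟨_, (S1978.result S.isPGroup').1 h3, rfl⟩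
  have hTN : Subgroup.normalizer ((T : Subgroup C) : Set C) ≤
      Subgroup.centralizer ((T : Subgroup C) : Set C) := fun c _ t ht =>
    Subtype.ext (c.2 (t : N) (hTmem t ht))
  have hCc : HasNormalPComplement p C :=
    ⟨T, _, MonoidHom.normal_ker _, MonoidHom.ker_transferSylow_isComplement' T hTN⟩
  refine Transfer.hasNormalPComplement_of_frobenius S' fun Q hQ _ g hg hgp => ?_
  have hmemC : ∀ x : N, (orderOf x).Coprime p → x ∈ C := fun x hx y hy =>
    Subtype.ext (h (x : G) x.2 (by rwa [Subgroup.orderOf_coe]) (y : G) hy)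
  intro q hq
  have hconj : q * g * q⁻¹ ∈ C := hCn.conj_mem g (hmemC g hgp) q
  have hg1 : (⟨g, hmemC g hgp⟩ : C) ∈ pResidual p C :=
    Transfer.mem_pResidual_of_coprime (by rwa [← Subgroup.orderOf_coe])
  have hg2 : (⟨_, hconj⟩ : C) ∈ pResidual p C :=
    Transfer.mem_pResidual_of_coprime (by
      rw [← Subgroup.orderOf_coe]
      show (orderOf (q * g * q⁻¹)).Coprime p
      rw [show orderOf (q * g * q⁻¹) = orderOf (MulAut.conj q g) from rfl, MulEquiv.orderOf_eq]
      exact hgp)
  have hk := (Transfer.mem_pResidual_iff hCc).mp (mul_mem hg2 (inv_mem hg1))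
  have hQ' : q * g * q⁻¹ * g⁻¹ ∈ Q := by
    rw [mul_assoc q, mul_assoc]
    exact Q.mul_mem hq ((Subgroup.mem_normalizer_iff.mp hg _).mp (Q.inv_mem hq))
  have h1 : (⟨_, hQ'⟩ : Q) = 1 := Transfer.eq_one_of_coprime_orderOf (S'.isPGroup'.to_le hQ) (by
    rw [← Subgroup.orderOf_coe]
    rw [← Subgroup.orderOf_coe] at hk
    exact hk)
  have h2 := congrArg Subtype.val h1
  simp only [Subgroup.coe_one, mul_inv_eq_one] at h2
  exact mul_inv_eq_iff_eq_mul.mp h2

end Cfsg.Agent.S1988
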