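import Cfsg.Statements.S1993
import Cfsg.Agent.PLocal.KInfTransfer
import Cfsg.Agent.S2795

set_option autoImplicit false
universe u
open Cfsg
open scoped commutatorElement

namespace Cfsg.Agent.S1993

/-- Let p be a prime, G a finite group with Sylow p-subgroup S, and K the upper K-infinity subgroup of S. If p ≥ 5 then S ∩ G' = S ∩ (N_G(K))'; and if p is odd and every section of G is p-stable in the normalizer form, then K controls strong fusion in G. -/
theorem result {G : Type u} [Group G] [Finite G] {p : ℕ} [Fact p.Prime] (S : Sylow p G) : (5 ≤ p → (S : Subgroup G) ⊓ commutator G = (S : Subgroup G) ⊓ ⁅Subgroup.normalizer ((Cfsg.inducedFunctor Cfsg.kInfUpper (S : Subgroup G) : Subgroup G) : Set G), Subgroup.normalizer ((Cfsg.inducedFunctor Cfsg.kInfUpper (S : Subgroup G) : Subgroup G) : Set G)⁆) ∧ (p ≠ 2 → (∀ (K R : Subgroup G) [hR : (R.subgroupOf K).Normal], Cfsg.IsNormalizerPStable p (↥K ⧸ R.subgroupOf K)) → Cfsg.ControlsStrongFusion p (Cfsg.inducedFunctor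 Cfsg.kInfUpper (S : Subgroup G))) := by
  refine ⟨fun hp5 => Cfsg.Agent.PLocal.transfer_eq Cfsg.Agent.PLocal.isCharP_kUp
    (Cfsg.Agent.PLocal.controlsTransfer_kUp hp5 G) S, fun hp hst => ?_⟩
  exact ⟨S, Subgroup.map_subtype_le _, fun A hA => Cfsg.Agent.FusionZJ.controls_of_functor_top Cfsg.Agent.FusionZJ.kUp
    Cfsg.Agent.PLocal.isCharP_kUp.1 Cfsg.Agent.PLocal.isCharP_kUp.2 hp
    (fun L _ _ T hC hL => (Cfsg.Agent.FusionZJ.kInf_step hp L T hC hL).2) S
    ((Cfsg.Agent.S2795.result hp).mpr hst) A hA⟩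

end Cfsg.Agent.S1993
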