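import Cfsg.Statements.S1996
import Cfsg.Agent.TwoGroups.FactorPair

set_option autoImplicit false
universe u
open Cfsg

namespace Cfsg.Agent.S1996

/-- Let p be a prime, G a finite group and W₁, W₂ two isomorphism-invariant p-group functors (W assigns to every group Q a subgroup W(Q), nontrivial whenever Q is a nontrivial finite p-group, and every isomorphism from a finite p-group Q onto a group R carries W(Q) onto W(R)). Suppose that G* = N_{G*}(W₁(S*)) N_{G*}(W₂(S*)) whenever G* = K/R is a section of G with C_{G*}(O_p(G*)) ≤ O_p(G*) and S* is a Sylow p-subgroup of G*. Then the pair {W₁, W₂} controls strong fusion in G. -/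
theorem result {G : Type u} [Group G] [Finite G] {p : ℕ} [Fact p.Prime] (W₁ W₂ : ∀ (Q : Type u) [Group Q], Subgroup Q) (hW₁ : Cfsg.IsCharPFunctor.{u} p W₁) (hW₂ : Cfsg.IsCharPFunctor.{u} p W₂) (hfac : ∀ (K R : Subgroup G) [hR : (R.subgroupOf K).Normal], Subgroup.centralizer ((Cfsg.pCore p (↥K ⧸ R.subgroupOf K) : Subgroup (↥K ⧸ R.subgroupOf K)) : Set (↥K ⧸ R.subgroupOf K)) ≤ Cfsg.pCore p (↥K ⧸ R.subgroupOf K) → ∀ T : Sylow p (↥K ⧸ R.subgroupOf K), ∀ x : (↥K ⧸ R.subgroupOf K), ∃ a ∈ Subgroup.normalizer ((Cfsg.inducedFunctor (G := (↥K ⧸ R.subgroupOf K)) W₁ (T : Subgroup (↥K ⧸ R.subgroupOf K)) : Subgroup (↥K ⧸ R.subgroupOf K)) : Set (↥K ⧸ R.subgroupOf K)), ∃ b ∈ Subgroup.normalizer ((Cfsg.inducedFunctor (G := (↥K ⧸ R.subgroupOf K)) W₂ (T : Subgroup (↥K ⧸ R.subgroupOf K)) : Subgroup (↥K ⧸ R.subgroupOf K)) : Set (↥K ⧸ R.subgroupOf K)), x = a * b) : Cfsg.FamilyControlsStrongFusionIn p {Cfsg.inducedFunctor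 (G := G) W₁, Cfsg.inducedFunctor (G := G) W₂} ⊤ := by
    obtain ⟨𝓦, h𝓦eq⟩ : ∃ 𝓦 : Set (∀ (Q : Type u) [Group Q], Subgroup Q), 𝓦 = {@W₁, @W₂} := ⟨_, rfl⟩
    have h𝓦 : ∀ W ∈ 𝓦, IsCharPFunctor.{u} p W := by
      intro W hW
      rw [h𝓦eq] at hW
      rcases hW with rfl | rfl
      exacts [hW₁, hW₂]
    have h1 : @W₁ ∈ 𝓦 := h𝓦eq ▸ Or.inl rfl
    have h2 : @W₂ ∈ 𝓦 := h𝓦eq ▸ Or.inr rfl
    have key := TwoGroups.SectionFunctors.fusion_general h𝓦 _ le_rfl (TwoGroups.SectionFunctors.loc_of_sections h𝓦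
      (G := G) (fun X Y _ _ _ _ e h => TwoGroups.SectionFunctors.fusion_equiv h𝓦 e h) fun K R _ h => by
        obtain ⟨T⟩ : Nonempty (Sylow p (↥K ⧸ R.subgroupOf K)) := inferInstance
        exact TwoGroups.FactorPair.controls (TwoGroups.SectionFunctors.fam_functor h𝓦 _ _ ⟨_, h1, rfl⟩)
          (TwoGroups.SectionFunctors.fam_functor h𝓦 _ _ ⟨_, h2, rfl⟩) T ⟨_, h1, rfl⟩ ⟨_, h2, rfl⟩ (hfac K R h T))
    rw [h𝓦eq, TwoGroups.SectionFunctors.fam, Set.image_insert_eq, Set.image_singleton] at key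
    exact key

end Cfsg.Agent.S1996
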