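import Cfsg.Statements.S1997
import Cfsg.Agent.TwoGroups.TripleFactor

set_option autoImplicit false
universe u
open Cfsg

namespace Cfsg.Agent.S1997

/-- Let p be a prime, G a finite group with Sylow p-subgroup S, and W₁, W₂ two isomorphism-invariant p-group functors (W assigns to every group Q a subgroup W(Q), nontrivial whenever Q is a nontrivial finite p-group, and every isomorphism from a finite p-group Q onto a group R carries W(Q) onto W(R)). Suppose that G* = C_{G*}(Ω₁Z(S*)) N_{G*}(W₁(S*)) = C_{G*}(Ω₁Z(S*)) N_{G*}(W₂(S*)) = N_{G*}(W₁(S*)) N_{G*}(W₂(S*)) whenever G* = K/R is a section of G with C_{G*}(O_p(G*)) ≤ O_p(G*) and S* is a Sylow p-subgroup of G*, where Ω₁Z denotes the subgroup generated by the elements of order dividing p in the centre. Suppose also Ω₁Z(S) ≤ W₁(S) ∩ W₂(S), and let A be the normal closure of Ω₁Z(S) in N_G(W₁(S)). Then A is an elementary abelian subgroup of S,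 strongly closed in S with respect to G, and A controls strong fusion in G. -/
theorem result {G : Type u} [Group G] [Finite G] {p : ℕ} [Fact p.Prime] (S : Sylow p G) (W₁ W₂ : ∀ (Q : Type u) [Group Q], Subgroup Q) (hW₁ : Cfsg.IsCharPFunctor.{u} p W₁) (hW₂ : Cfsg.IsCharPFunctor.{u} p W₂) (hfac : ∀ (K R : Subgroup G) [hR : (R.subgroupOf K).Normal], Subgroup.centralizer ((Cfsg.pCore p (↥K ⧸ R.subgroupOf K) : Subgroup (↥K ⧸ R.subgroupOf K)) : Set (↥K ⧸ R.subgroupOf K)) ≤ Cfsg.pCore p (↥K ⧸ R.subgroupOf K) → ∀ T : Sylow p (↥K ⧸ R.subgroupOf K), (∀ x : (↥K ⧸ R.subgroupOf K), ∃ a ∈ Subgroup.centralizer ((Cfsg.omegaOne p ((T : Subgroup (↥K ⧸ R.subgroupOf K)) ⊓ Subgroup.centralizer (((T : Subgroup (↥K ⧸ R.subgroupOf K)) : Subgroup (↥K ⧸ R.subgroupOf K)) : Set (↥K ⧸ R.subgroupOf K))) : Subgroup (↥K ⧸ R.subgroupOf K)) : Set (↥K ⧸ R.subgroupOf K)), ∃ b ∈ Subgroup.normalizer ((Cfsg.inducedFunctor (G :=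 (↥K ⧸ R.subgroupOf K)) W₁ (T : Subgroup (↥K ⧸ R.subgroupOf K)) : Subgroup (↥K ⧸ R.subgroupOf K)) : Set (↥K ⧸ R.subgroupOf K)), x = a * b) ∧ (∀ x : (↥K ⧸ R.subgroupOf K), ∃ a ∈ Subgroup.centralizer ((Cfsg.omegaOne p ((T : Subgroup (↥K ⧸ R.subgroupOf K)) ⊓ Subgroup.centralizer (((T : Subgroup (↥K ⧸ R.subgroupOf K)) : Subgroup (↥K ⧸ R.subgroupOf K)) : Set (↥K ⧸ R.subgroupOf K))) : Subgroup (↥K ⧸ R.subgroupOf K)) : Set (↥K ⧸ R.subgroupOf K)), ∃ b ∈ Subgroup.normalizer ((Cfsg.inducedFunctor (G := (↥K ⧸ R.subgroupOf K)) W₂ (T : Subgroup (↥K ⧸ R.subgroupOf K)) : Subgroup (↥K ⧸ R.subgroupOf K)) : Set (↥K ⧸ R.subgroupOf K)), x = a * b) ∧ (∀ x : (↥K ⧸ R.subgroupOf K), ∃ a ∈ Subgroup.normalizer ((Cfsg.inducedFunctor (G := (↥K ⧸ R.subgroupOf K)) W₁ (T : Subgroup (↥K ⧸ R.subgroupOf K)) : Subgroup (↥K ⧸ R.subgroupOf K)) : Set (↥K ⧸ R.subgroupOf K)), ∃ b ∈ Subgroup.normalizer ((Cfsg.inducedFunctor (G :=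 (↥K ⧸ R.subgroupOf K)) W₂ (T : Subgroup (↥K ⧸ R.subgroupOf K)) : Subgroup (↥K ⧸ R.subgroupOf K)) : Set (↥K ⧸ R.subgroupOf K)), x = a * b)) (hZ : Cfsg.omegaOne p ((S : Subgroup G) ⊓ Subgroup.centralizer (((S : Subgroup G) : Subgroup G) : Set G)) ≤ Cfsg.inducedFunctor (G := G) W₁ (S : Subgroup G) ⊓ Cfsg.inducedFunctor (G := G) W₂ (S : Subgroup G)) (N₁ : Subgroup G) (hN₁ : N₁ = Subgroup.normalizer ((Cfsg.inducedFunctor (G := G) W₁ (S : Subgroup G) : Subgroup G) : Set G)) (A : Subgroup G) (hA : A = (Subgroup.normalClosure (((Cfsg.omegaOne p ((S : Subgroup G) ⊓ Subgroup.centralizer (((S : Subgroup G) : Subgroup G) : Set G))).subgroupOf N₁ : Subgroup ↥N₁) : Set ↥N₁)).map N₁.subtype) : A ≤ (S : Subgroup G) ∧ Cfsg.IsElementaryAbelian p A ∧ Cfsg.IsStronglyClosed A (S : Subgroup G) ∧ Cfsg.ControlsStrongFusion p A := by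
  set Z := omegaOne p ((S : Subgroup G) ⊓ Subgroup.centralizer (((S : Subgroup G) : Subgroup G) : Set G)) with hZdef
  set V₁ := inducedFunctor (G := G) W₁ (S : Subgroup G) with hV₁
  set N₂ := Subgroup.normalizer ((inducedFunctor (G := G) W₂ (S : Subgroup G) : Subgroup G) : Set G) with hN₂
  have hle : V₁ ≤ (S : Subgroup G) := (PLocal.isPMap_induced hW₁).le _ S.2
  have hZ1 : Z ≤ V₁ := hZ.trans inf_le_left
  have hZS : Z ≤ (S : Subgroup G) := hZ1.trans hle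
  obtain ⟨𝓦, h𝓦eq⟩ : ∃ 𝓦 : Set (∀ (Q : Type u) [Group Q], Subgroup Q), 𝓦 = {@W₁, @W₂} := ⟨_, rfl⟩
  have h𝓦 : ∀ W ∈ 𝓦, IsCharPFunctor.{u} p W := by
    intro W hW
    rw [h𝓦eq] at hW
    rcases hW with rfl | rfl
    exacts [hW₁, hW₂]
  have m1 : @W₁ ∈ 𝓦 := h𝓦eq ▸ Or.inl rfl
  have m2 : @W₂ ∈ 𝓦 := h𝓦eq ▸ Or.inr rfl
  have hfun := TwoGroups.SectionFunctors.fam_functor h𝓦 G
  have hSN₁ : (S : Subgroup G) ≤ N₁ := hN₁ ▸ Subgroup.le_normalizer.trans
    (TwoGroups.ConjFunctor.le_normalizer_apply (hfun _ ⟨_, m1, rfl⟩) S.2)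
  have hAcl : A = TwoGroups.TripleFactor.cl Z N₁ := by
    have hZN : Z ≤ N₁ := hZS.trans hSN₁
    refine le_antisymm ?_ ((Subgroup.closure_le _).2 ?_)
    · have hn : ((TwoGroups.TripleFactor.cl Z N₁).subgroupOf N₁).Normal :=
        Subgroup.normal_subgroupOf_of_le_normalizer (TwoGroups.TripleFactor.le_normalizer_cl Z N₁)
      rw [hA]
      refine (Subgroup.map_mono (Subgroup.normalClosure_le_normal (N := (TwoGroups.TripleFactor.cl Z N₁).subgroupOf N₁)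
        fun z hz => ?_)).trans (Subgroup.map_comap_le _ _)
      refine Subgroup.mem_subgroupOf.2 ?_
      have h := TwoGroups.TripleFactor.conj_mem_cl (Z := Z) (one_mem N₁) (show (z : G) ∈ Z from hz)
      simpa using h
    · rintro _ ⟨y, hy, z, hz, rfl⟩
      rw [hA]
      exact ⟨⟨y, hy⟩ * ⟨z, hZN hz⟩ * (⟨y, hy⟩ : N₁)⁻¹, Subgroup.normalClosure_normal.conj_mem _
        (Subgroup.subset_normalClosure
        (show (⟨z, hZN hz⟩ : N₁) ∈ ((Z.subgroupOf N₁ : Subgroup N₁) : Set N₁) from hz)) _, rfl⟩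
  have hAV : A ≤ V₁ ⊓ Subgroup.centralizer (V₁ : Set G) := by
    rw [hAcl]
    refine (Subgroup.closure_le _).2 ?_
    rintro _ ⟨y, hy, z, hz, rfl⟩
    rw [hN₁] at hy
    refine Subgroup.mem_inf.2 ⟨(Subgroup.mem_normalizer_iff.1 hy z).1 (hZ1 hz), fun v hv => ?_⟩
    have h1 : y⁻¹ * v * y ∈ V₁ := (Subgroup.mem_normalizer_iff''.1 hy v).1 hv
    have h2 : z ∈ (S : Subgroup G) ⊓ Subgroup.centralizer (((S : Subgroup G) : Subgroup G) : Set G) :=
      (Subgroup.closure_le _).2 (fun _ hx => hx.1) hz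
    have h3 := (Subgroup.mem_inf.1 h2).2 _ (hle h1)
    calc v * (y * z * y⁻¹) = y * ((y⁻¹ * v * y) * z) * y⁻¹ := by group
      _ = y * (z * (y⁻¹ * v * y)) * y⁻¹ := by rw [h3]
      _ = y * z * y⁻¹ * v := by group
  have hAS : A ≤ (S : Subgroup G) := fun a ha => hle (Subgroup.mem_inf.1 (hAV ha)).1
  have hcomm : ∀ a ∈ A, ∀ b ∈ A, Commute a b := fun a ha b hb =>
    (Subgroup.mem_inf.1 (hAV hb)).2 a (Subgroup.mem_inf.1 (hAV ha)).1
  have hexp : ∀ a ∈ A, a ^ p = 1 := by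
    let E : Subgroup G :=
      { carrier := {a | a ∈ A ∧ a ^ p = 1}
        one_mem' := ⟨one_mem _, one_pow p⟩
        mul_mem' := fun {a b} ha hb => ⟨mul_mem ha.1 hb.1, by
          rw [(hcomm a ha.1 b hb.1).mul_pow, ha.2, hb.2, one_mul]⟩
        inv_mem' := fun {a} ha => ⟨inv_mem ha.1, by rw [inv_pow, ha.2, inv_one]⟩ }
    have hc : ∀ x y : G, x ∈ (S : Subgroup G) ⊓ Subgroup.centralizer (((S : Subgroup G) : Subgroup G) : Set G) →
        y ∈ (S : Subgroup G) ⊓ Subgroup.centralizer (((S : Subgroup G) : Subgroup G) : Set G) → Commute x y :=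
      fun x y hx hy => (Subgroup.mem_inf.1 hy).2 x (Subgroup.mem_inf.1 hx).1
    have hZp : ∀ z ∈ Z, z ^ p = 1 := by
      intro z hz
      let F : Subgroup G :=
        { carrier := {a | a ∈ (S : Subgroup G) ⊓ Subgroup.centralizer (((S : Subgroup G) : Subgroup G) : Set G) ∧ a ^ p = 1}
          one_mem' := ⟨one_mem _, one_pow p⟩
          mul_mem' := fun {a b} ha hb => ⟨mul_mem ha.1 hb.1, by
            rw [(hc a b ha.1 hb.1).mul_pow, ha.2, hb.2, one_mul]⟩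
          inv_mem' := fun {a} ha => ⟨inv_mem ha.1, by rw [inv_pow, ha.2, inv_one]⟩ }
      exact ((Subgroup.closure_le F).2 (fun x hx => hx) hz).2
    intro a ha
    have hEle : A ≤ E := by
      conv_lhs => rw [hAcl]
      refine (Subgroup.closure_le E).2 ?_
      rintro _ ⟨y, hy, z, hz, rfl⟩
      exact ⟨hAcl ▸ TwoGroups.TripleFactor.conj_mem_cl hy hz, by rw [conj_pow, hZp z hz, mul_one, mul_inv_cancel]⟩
    exact (hEle ha).2
  have heq := TwoGroups.TripleFactor.cl_eq hW₁ hW₂ (fun K R _ h T => (hfac K R h T).1)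
    (fun K R _ h T => (hfac K R h T).2.1) S hZdef hZ1 (hZ.trans inf_le_right) _ ⊤ rfl le_top
  rw [top_inf_eq, top_inf_eq, ← hV₁, ← hN₁] at heq
  have hn1 : N₁ ≤ Subgroup.normalizer (A : Set G) := hAcl ▸ TwoGroups.TripleFactor.le_normalizer_cl Z N₁
  have hn2 : N₂ ≤ Subgroup.normalizer (A : Set G) := by
    rw [hAcl, heq]; exact TwoGroups.TripleFactor.le_normalizer_cl Z _
  have key := TwoGroups.SectionFunctors.fusion_general h𝓦 _ le_rfl (TwoGroups.SectionFunctors.loc_of_sections h𝓦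
    (G := G) (fun X Y _ _ _ _ e h => TwoGroups.SectionFunctors.fusion_equiv h𝓦 e h) fun K R _ h => by
      obtain ⟨T⟩ : Nonempty (Sylow p (↥K ⧸ R.subgroupOf K)) := inferInstance
      exact TwoGroups.FactorPair.controls (TwoGroups.SectionFunctors.fam_functor h𝓦 _ _ ⟨_, m1, rfl⟩)
        (TwoGroups.SectionFunctors.fam_functor h𝓦 _ _ ⟨_, m2, rfl⟩) T ⟨_, m1, rfl⟩ ⟨_, m2, rfl⟩ (hfac K R h T).2.2)
  have hfus : ∀ B : Set G, B ⊆ (S : Subgroup G) → ∀ g : G, (∀ b ∈ B, g * b * g⁻¹ ∈ (S : Subgroup G)) →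
      ∃ x ∈ Subgroup.normalizer (A : Set G), ∀ b ∈ B, x * b * x⁻¹ = g * b * g⁻¹ := by
    intro B hB g hg
    obtain ⟨x, hx, e⟩ := TwoGroups.ConjFunctor.reach_of_controls hfun key le_top S.2
      (by rw [Subgroup.relIndex_top_right]; exact S.not_dvd_index) (Subgroup.mem_top g) hB hg
    refine ⟨x, ?_, e⟩
    clear e
    induction hx with
    | one _ => exact one_mem _
    | step g y W hW hy hr hs ih =>
      refine mul_mem ?_ ih
      obtain ⟨W', hW', rfl⟩ := hW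
      rw [h𝓦eq] at hW'
      rcases hW' with rfl | rfl
      · exact hn1 (hN₁.symm ▸ (Subgroup.mem_inf.1 hy).2)
      · exact hn2 (Subgroup.mem_inf.1 hy).2
  refine ⟨hAS, ⟨⟨⟨fun a b => Subtype.ext (hcomm a a.2 b b.2).eq⟩⟩, hexp⟩, ⟨hAS, fun a ha g hga => ?_⟩, S, hAS, fun B hB => ⟨hB, fun g hgB => ?_⟩⟩
  · obtain ⟨x, hx, e⟩ := hfus {a} (Set.singleton_subset_iff.2 (hAS ha)) g (fun b hb => by rw [Set.mem_singleton_iff.1 hb]; exact hga)
    rw [← e a rfl]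
    exact (Subgroup.mem_normalizer_iff.1 hx a).1 ha
  · obtain ⟨x, hx, e⟩ := hfus B hB g fun b hb => hgB ⟨b, hb, rfl⟩
    exact ⟨x, hx, fun b hb => (e b hb).symm⟩

end Cfsg.Agent.S1997
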