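import Cfsg.Statements.S2005
import Cfsg.Agent.PLocal.InducedFunctor
import Cfsg.Agent.Core.Cores

set_option autoImplicit false
universe u
open Cfsg
open scoped commutatorElement

namespace Cfsg.Agent.S2005

/-- Thompson's normal p-complement criterion in functor form. Let p be a prime, G a finite group with Sylow p-subgroup S, and W an isomorphism-invariant p-group functor (W assigns to every group Q a subgroup W(Q), nontrivial whenever Q is a nontrivial finite p-group, and every isomorphism from a finite p-group Q onto a group R carries W(Q) onto W(R)). Suppose N_G(W(S)) has a normal p-complement, and that W(S*) is normal in G* whenever G* = K/R is a section of G with C_{G*}(O_p(G*)) ≤ O_p(G*) such that G*/O_p(G*) has a normal p-complement, and S* is a Sylow p-subgroup of G* that is a maximal subgroup of G*. Then G has a normal p-complement. -/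
theorem result {G : Type u} [Group G] [Finite G] {p : ℕ} [Fact p.Prime] (W : ∀ (Q : Type u) [Group Q], Subgroup Q) (hW : Cfsg.IsCharPFunctor.{u} p W) (S : Sylow p G) (hN : Cfsg.HasNormalPComplement p ↥(Subgroup.normalizer ((Cfsg.inducedFunctor (G := G) W (S : Subgroup G) : Subgroup G) : Set G))) (hloc : ∀ (K R : Subgroup G) [hR : (R.subgroupOf K).Normal], Subgroup.centralizer ((Cfsg.pCore p (↥K ⧸ R.subgroupOf K) : Subgroup (↥K ⧸ R.subgroupOf K)) : Set (↥K ⧸ R.subgroupOf K)) ≤ Cfsg.pCore p (↥K ⧸ R.subgroupOf K) → Cfsg.HasNormalPComplement p ((↥K ⧸ R.subgroupOf K) ⧸ Cfsg.pCore p (↥K ⧸ R.subgroupOf K)) → ∀ T : Sylow p (↥K ⧸ R.subgroupOf K), IsCoatom (T : Subgroup (↥K ⧸ R.subgroupOf K)) → (Cfsg.inducedFunctor (G := (↥K ⧸ R.subgroupOf K)) W ((T : Subgroup (↥K ⧸ R.subgroupOf K)))).Normal) : Cfsg.HasNormalPComplement p G := by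
  refine PLocal.complement_general (PLocal.isPMap_induced hW) _ le_rfl ?_ S hN
  intro Y _ _ hY hcY hqY _ _ T hT
  obtain ⟨K, R, hR, ⟨e⟩⟩ := hY
  haveI := hR
  set f : Y →* (↥K ⧸ R.subgroupOf K) := e.symm.toMonoidHom with hfdef
  have hsurj : Function.Surjective f := e.symm.surjective
  have hcore : (pCore p Y).map f = pCore p (↥K ⧸ R.subgroupOf K) := Core.pCore_map_equiv e.symm
  have hc' : Subgroup.centralizer ((pCore p (↥K ⧸ R.subgroupOf K) : Subgroup (↥K ⧸ R.subgroupOf K)) : Set _) ≤
      pCore p (↥K ⧸ R.subgroupOf K) := by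
    rw [← hcore]
    intro x hx
    obtain ⟨y, rfl⟩ := hsurj x
    refine ⟨y, hcY ?_, rfl⟩
    rw [Subgroup.mem_centralizer_iff] at hx ⊢
    intro z hz
    exact e.symm.injective (by
      have h1 := hx (f z) ⟨z, hz, rfl⟩
      rwa [← map_mul, ← map_mul] at h1)
  have hq' : HasNormalPComplement p ((↥K ⧸ R.subgroupOf K) ⧸ pCore p (↥K ⧸ R.subgroupOf K)) :=
    Transfer.hasNormalPComplement_equiv (QuotientGroup.congr (pCore p Y) _ e.symm hcore) hqY
  let T' : Sylow p (↥K ⧸ R.subgroupOf K) := T.mapSurjective hsurj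
  have hT' : IsCoatom (T' : Subgroup (↥K ⧸ R.subgroupOf K)) := by
    rw [Sylow.coe_mapSurjective]
    refine ⟨fun h => hT.1 ?_, fun H hH => ?_⟩
    · exact Subgroup.map_injective e.symm.injective (h.trans (Subgroup.map_top_of_surjective _ hsurj).symm)
    · have h1 : (T : Subgroup Y) < H.comap f := by
        rw [← Subgroup.comap_map_eq_self_of_injective (f := f) e.symm.injective (T : Subgroup Y)]
        exact (Subgroup.comap_lt_comap_of_surjective hsurj).mpr hH
      rw [← Subgroup.map_comap_eq_self_of_surjective hsurj H, hT.2 _ h1, Subgroup.map_top_of_surjective _ hsurj]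
  have hn := hloc K R hc' hq' T' hT'
  refine PLocal.normal_of_map_equiv e.symm ?_
  rw [(PLocal.isPMap_induced hW).map e.symm.toMonoidHom (T : Subgroup Y) T.isPGroup' e.symm.injective.injOn]
  exact hn

end Cfsg.Agent.S2005
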