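import Cfsg.Statements.S2006
import Cfsg.Agent.PLocal.InducedFunctor
import Cfsg.Agent.PLocal.ChiefDegree
import Cfsg.Agent.Core.Cores

set_option autoImplicit false
universe u
open Cfsg
open scoped commutatorElement

namespace Cfsg.Agent.S2006

/-- Let p be a prime, G a finite group with Sylow p-subgroup S, and W an isomorphism-invariant p-group functor (W assigns to every group Q a subgroup W(Q), nontrivial whenever Q is a nontrivial finite p-group, and every isomorphism from a finite p-group Q onto a group R carries W(Q) onto W(R)). Suppose N_G(W(S)) has a normal p-complement, and that whenever G* = K/R is a section of G with C_{G*}(O_p(G*)) ≤ O_p(G*) and S* is a Sylow p-subgroup of G* with W(S*) not normal in G*, there are an element g of S* outside O_p(G*) and a chief factor X/Y of G* with X ≤ O_p(G*) such that [X, g, …, g] ≤ Y with p − 1 entries g but [X, g] ≰ Y. Then G has a normal p-complement. -/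
theorem result {G : Type u} [Group G] [Finite G] {p : ℕ} [Fact p.Prime] (W : ∀ (Q : Type u) [Group Q], Subgroup Q) (hW : Cfsg.IsCharPFunctor.{u} p W) (S : Sylow p G) (hN : Cfsg.HasNormalPComplement p ↥(Subgroup.normalizer ((Cfsg.inducedFunctor (G := G) W (S : Subgroup G) : Subgroup G) : Set G))) (hloc : ∀ (K R : Subgroup G) [hR : (R.subgroupOf K).Normal], Subgroup.centralizer ((Cfsg.pCore p (↥K ⧸ R.subgroupOf K) : Subgroup (↥K ⧸ R.subgroupOf K)) : Set (↥K ⧸ R.subgroupOf K)) ≤ Cfsg.pCore p (↥K ⧸ R.subgroupOf K) → ∀ T : Sylow p (↥K ⧸ R.subgroupOf K), ¬ (Cfsg.inducedFunctor (G := (↥K ⧸ R.subgroupOf K)) W ((T : Subgroup (↥K ⧸ R.subgroupOf K)))).Normal → ∃ g : (↥K ⧸ R.subgroupOf K), g ∈ (T : Subgroup (↥K ⧸ R.subgroupOf K)) ∧ g ∉ Cfsg.pCore p (↥K ⧸ R.subgroupOf K) ∧ ∃ U V : Subgroup (↥K ⧸ R.subgroupOf K), Cfsg.IsChiefFactor U V ∧ U ≤ Cfsg.pCore p (↥K ⧸ R.subgroupOf K) ∧ Cfsg.iterCommutator U (Subgroup.zpowers g) (p - 1) ≤ V ∧ ¬ ⁅U, Subgroup.zpowers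 g⁆ ≤ V) : Cfsg.HasNormalPComplement p G := by
  refine PLocal.complement_general (PLocal.isPMap_induced hW) _ le_rfl ?_ S hN
  intro Y _ _ hY hcY _ hsY habY T _
  obtain ⟨K, R, hR, ⟨e⟩⟩ := hY
  haveI := hR
  set f : Y →* (↥K ⧸ R.subgroupOf K) := e.symm.toMonoidHom with hfdef
  have hsurj : Function.Surjective f := e.symm.surjective
  have hcore : (pCore p Y).map f = pCore p (↥K ⧸ R.subgroupOf K) := Core.pCore_map_equiv e.symm
  have hc' : Subgroup.centralizer ((pCore p (↥K ⧸ R.subgroupOf K) : Subgroup (↥K ⧸ R.subgroupOf K)) : Set _) ≤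
      pCore p (↥K ⧸ R.subgroupOf K) := by
    rw [← hcore]
    intro x hx
    obtain ⟨y, rfl⟩ := hsurj x
    refine ⟨y, hcY ?_, rfl⟩
    rw [Subgroup.mem_centralizer_iff] at hx ⊢
    intro z hz
    exact e.symm.injective (by
      have h1 := hx (f z) ⟨z, hz, rfl⟩
      rwa [← map_mul, ← map_mul] at h1)
  let T' : Sylow p (↥K ⧸ R.subgroupOf K) := T.mapSurjective hsurj
  refine PLocal.normal_of_map_equiv e.symm ?_
  rw [(PLocal.isPMap_induced hW).map e.symm.toMonoidHom (T : Subgroup Y) T.isPGroup' e.symm.injective.injOn]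
  by_contra hne
  obtain ⟨g, hgT, -, U, V, hUV, hUP, hdeg, hgUV⟩ := hloc K R hc' T' hne
  have hab' : ∀ (r : ℕ), r.Prime → r ≠ p → ∀ T₂ : Sylow r (↥K ⧸ R.subgroupOf K),
      IsMulCommutative (T₂ : Subgroup (↥K ⧸ R.subgroupOf K)) := by
    intro r hr hrp T₂
    haveI := Fact.mk hr
    obtain ⟨T₁, hT₁⟩ := Sylow.mapSurjective_surjective hsurj r T₂
    have hc := (habY r hr hrp T₁).is_comm.comm
    subst hT₁
    refine ⟨⟨fun a b => ?_⟩⟩
    obtain ⟨x, hx, hxa⟩ := a.2
    obtain ⟨y, hy, hyb⟩ := b.2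
    refine Subtype.ext ?_
    show (a : ↥K ⧸ R.subgroupOf K) * b = b * a
    rw [← hxa, ← hyb, ← map_mul, ← map_mul, show x * y = y * x from congrArg Subtype.val (hc ⟨x, hx⟩ ⟨y, hy⟩)]
  obtain ⟨k, hk⟩ := T'.isPGroup' ⟨g, hgT⟩
  have := PLocal.degree_le_of_chief (Core.isPSolvable_congr e.symm hsY) hab' hUV
    ((Core.isPGroup_pCore p _).to_le hUP) g ⟨k, congrArg Subtype.val hk⟩ hgUV (p - 1) hdeg
  have := (Fact.out : p.Prime).two_le
  omega

end Cfsg.Agent.S2006
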