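import Cfsg.Statements.S2010
import Cfsg.Agent.PLocal.S4Free
import Cfsg.Agent.PLocal.Functors

set_option autoImplicit false
open Cfsg
open scoped commutatorElement

namespace Cfsg.Agent.S2010

/-- Let G be a finite solvable group with no section isomorphic to the symmetric group of degree 4, whose Sylow 2-subgroup S has nilpotency class at most 2. Then G = N_G(J_e(S)) · O_{2'}(G), where J_e(S) is the subgroup generated by the elementary abelian subgroups of S of largest order. -/
theorem result {G : Type*} [Group G] [Finite G]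
    [Group.IsSolvable G] (hS4 : ¬ Cfsg.Involves (Equiv.Perm (Fin 4)) G) (S : Sylow 2 G)
    (hcl : Subgroup.lowerCentralSeries (S : Subgroup G) 2 = ⊥) :
    Subgroup.normalizer ((Cfsg.thompsonSubgroupOf 2 (S : Subgroup G)) : Set G) ⊔ Cfsg.pPrimeCore 2 G = ⊤ := by
  haveI : Fact (Nat.Prime 2) := ⟨Nat.prime_two⟩
  set O := Cfsg.pPrimeCore 2 G with hO
  set π := QuotientGroup.mk' O with hπ
  have hπs : Function.Surjective π := QuotientGroup.mk'_surjective O
  set J := Cfsg.thompsonSubgroupOf 2 (S : Subgroup G) with hJ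
  have hfree : ¬ Cfsg.Involves (Equiv.Perm (Fin 4)) (G ⧸ O) := fun h => hS4 (FusionZJ.involves_of_surjective π hπs h)
  have hclS : ∀ a ∈ (S : Subgroup G), ∀ b ∈ (S : Subgroup G), ∀ c ∈ (S : Subgroup G), ⁅a, b⁆ * c = c * ⁅a, b⁆ := by
    intro a ha b hb c hc
    refine commutatorElement_eq_one_iff_mul_comm.mp (Subgroup.mem_bot.mp (hcl ▸ ?_))
    rw [Subgroup.lowerCentralSeries_succ, Subgroup.lowerCentralSeries_succ, Subgroup.lowerCentralSeries_zero]
    exact Subgroup.commutator_mem_commutator (Subgroup.commutator_mem_commutator ha hb) hc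
  have htop := PLocal.thompson_normal_of_class_two hfree
    (Core.isPSolvable_quotient (Core.isPSolvable_of_isSolvable (G := G)) O)
    (Core.pPrimeCore_quotient_pPrimeCore 2 G) (S.mapSurjective hπs) ?_
  swap
  · intro a ha b hb c hc
    rw [Sylow.coe_mapSurjective] at ha hb hc
    obtain ⟨a, ha, rfl⟩ := ha
    obtain ⟨b, hb, rfl⟩ := hb
    obtain ⟨c, hc, rfl⟩ := hc
    rw [← map_commutatorElement, ← map_mul, ← map_mul, hclS a ha b hb c hc]
  rw [Sylow.coe_mapSurjective, ← Core.ThompsonComplement.thompsonSubgroupOf_map π (PLocal.injOn_mk'_pPrimeCore S)] at htop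
  rw [eq_top_iff]
  intro g _
  obtain ⟨k, hk, hkn⟩ := Core.ThompsonComplement.exists_mul_normalizes
    (S.isPGroup'.to_le (Subgroup.map_subtype_le _) : IsPGroup 2 J)
    (Core.card_pPrimeCore_coprime 2 G) (g := g) (fun t ht => by
      have hn : π g ∈ Subgroup.normalizer ((J.map π : Subgroup (G ⧸ O)) : Set (G ⧸ O)) := htop ▸ Subgroup.mem_top _
      have h1 := (Subgroup.mem_normalizer_iff.mp hn (π t)).mp (Subgroup.mem_map_of_mem π ht)
      rw [← map_inv, ← map_mul, ← map_mul] at h1
      have h2 : g * t * g⁻¹ ∈ (J.map π).comap π := h1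
      rwa [Subgroup.comap_map_eq, QuotientGroup.ker_mk'] at h2)
  rw [show g = k⁻¹ * (k * g) by group]
  exact mul_mem (Subgroup.mem_sup_right (inv_mem hk)) (Subgroup.mem_sup_left hkn)

end Cfsg.Agent.S2010
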