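import Cfsg.Statements.S2015
import Cfsg.Agent.PLocal.KInfTransfer
import Cfsg.Agent.S1978

set_option autoImplicit false
universe u
open Cfsg
open scoped commutatorElement

namespace Cfsg.Agent.S2015

/-- For p ≥ 5, every finite p-group P has a characteristic subgroup K containing Z(P), depending only on P, whose normalizer controls transfer wherever P is a Sylow subgroup: for every finite group G and every embedding ι of P onto a Sylow p-subgroup of G, the intersection of ι(P) with the derived subgroup of G equals its intersection with the derived subgroup of N_G(ι(K)). -/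
theorem result (p : ℕ) [Fact p.Prime] (hp : 5 ≤ p) (P : Type u) [Group P] [Finite P] (hP : IsPGroup p P) : ∃ K : Subgroup P, K.Characteristic ∧ Subgroup.center P ≤ K ∧ ∀ (G : Type u) [Group G] [Finite G] (ι : P →* G), Function.Injective ι → (∃ T : Sylow p G, (T : Subgroup G) = ι.range) → ι.range ⊓ commutator G = ι.range ⊓ (commutator ↥(Subgroup.normalizer ((K.map ι : Subgroup G) : Set G))).map (Subgroup.normalizer ((K.map ι : Subgroup G) : Set G)).subtype := by
  refine ⟨Cfsg.kInfLower P, Subgroup.characteristic_iff_map_eq.mpr fun φ =>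
    Cfsg.Agent.FusionZJ.kInfLower_equiv φ,
    (Cfsg.Agent.S1978.result hP).2.1.trans (Cfsg.Agent.S1978.result hP).1, fun G _ _ ι hι ⟨T, hT⟩ => ?_⟩
  have h := Cfsg.Agent.PLocal.transfer_eq Cfsg.Agent.PLocal.isCharP_kLo
    (Cfsg.Agent.PLocal.controlsTransfer_kLo hp G) T
  have e : Cfsg.inducedFunctor Cfsg.Agent.FusionZJ.kLo (T : Subgroup G) = (Cfsg.kInfLower P).map ι := by
    have h1 := Cfsg.Agent.FusionZJ.wOf_map Cfsg.Agent.FusionZJ.kLo (Cfsg.Agent.PLocal.isCharP_kLo (p := p)).2 ι hι
      (⊤ : Subgroup P) (hP.to_subgroup ⊤)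
    rw [← MonoidHom.range_eq_map, ← hT] at h1
    refine h1.trans (congrArg (Subgroup.map ι) ?_)
    show (Cfsg.kInfLower (⊤ : Subgroup P)).map (⊤ : Subgroup P).subtype = Cfsg.kInfLower P
    exact Cfsg.Agent.FusionZJ.kInfLower_equiv Subgroup.topEquiv
  rw [e] at h
  have hmap : ∀ N' : Subgroup G, (commutator ↥N').map N'.subtype = ⁅N', N'⁆ := fun N' => by
    rw [_root_.commutator_def, Subgroup.map_commutator, ← MonoidHom.range_eq_map, Subgroup.range_subtype]
  rw [hmap, ← hT]
  exact h

end Cfsg.Agent.S2015
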