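import Cfsg.Statements.S2062
import Cfsg.Agent.TwoGroups.OutMathieu.Main

set_option autoImplicit false
open Cfsg

namespace Cfsg.Agent.S2062

/-- The outer automorphism group of the Mathieu group M₂₂ (the permutations in the automorphism group of the length-24 binary code that fix each of two given points) has order 2. -/
theorem result : Nat.card (Cfsg.Out ↥Cfsg.Spor.M22) = 2 := by
    obtain ⟨g, hg, h1, h2⟩ := Cfsg.Agent.Golay.exists_mem_M24_two Cfsg.Agent.Golay.ptA_ne_ptB
      (show (none : Cfsg.GolayPt) ≠ some 0 by simp)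
    rw [← Cfsg.Agent.TwoGroups.OutMathieu.card_out_M22]
    refine Cfsg.Agent.TwoGroups.OutMathieu.card_out_congr ((Cfsg.Agent.Golay.stab2Conj g hg Cfsg.Agent.Golay.ptA Cfsg.Agent.Golay.ptB).trans (MulEquiv.subgroupCongr ?_)).symm
    rw [Equiv.Perm.smul_def, Equiv.Perm.smul_def, h1, h2]
    rfl

end Cfsg.Agent.S2062
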