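import Cfsg.Statements.S2063
import Cfsg.Agent.TwoGroups.OutMathieu.Main

set_option autoImplicit false
open Cfsg

namespace Cfsg.Agent.S2063

/-- The outer automorphism group of the Mathieu group M₂₃ (the stabiliser of a point in the automorphism group of the length-24 binary code) is trivial: every automorphism is inner. -/
theorem result : Nat.card (Cfsg.Out ↥Cfsg.Spor.M23) = 1 := by
    obtain ⟨g, hg, h⟩ := Cfsg.Agent.Golay.exists_mem_M24_one Cfsg.Agent.Golay.ptA (none : Cfsg.GolayPt)
    rw [← Cfsg.Agent.TwoGroups.OutMathieu.card_out_M23]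
    refine Cfsg.Agent.TwoGroups.OutMathieu.card_out_congr ((Cfsg.Agent.Golay.stabConj g hg Cfsg.Agent.Golay.ptA).trans (MulEquiv.subgroupCongr ?_)).symm
    rw [Equiv.Perm.smul_def, h]
    rfl

end Cfsg.Agent.S2063
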