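import Cfsg.Statements.S2072
import Cfsg.Agent.FGS4.HSOut.Main

set_option autoImplicit false
open Cfsg

namespace Cfsg.Agent.S2072

/-- The outer automorphism group of the Higman–Sims group (as a two-vector stabiliser in the automorphism group of the rank-24 lattice) has order 2. -/
theorem result : Nat.card (Cfsg.Out ↥Cfsg.Spor.HS) = 2 := by
  obtain ⟨f⟩ := Cfsg.Agent.FGS4.RankThree.pair_iso
  have e : Spor.HS ≃* Cfsg.Agent.FGS4.HSOut.HG :=
    f.trans (MonoidHom.ofInjective Cfsg.Agent.FGS4.RankThree.toAut_injective)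
  let u : ↥Spor.HS ≃* ↥Cfsg.Agent.FGS4.HSOut.HG := e
  have hA : (MulAut.congr u).toMonoidHom.comp MulAut.conj = MulAut.conj.comp u.toMonoidHom := by
    ext a x
    simp [MulAut.congr, MulAut.conj_apply]
  have hmap : (Inn Spor.HS).map (MulAut.congr u).toMonoidHom = Inn Cfsg.Agent.FGS4.HSOut.HG := by
    rw [Cfsg.Inn, Cfsg.Inn, MonoidHom.map_range, hA, MonoidHom.range_comp,
      MonoidHom.range_eq_top.2 u.surjective, ← MonoidHom.range_eq_map]
  exact (Nat.card_congr (QuotientGroup.congr _ _ (MulAut.congr u) hmap).toEquiv).trans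
    Cfsg.Agent.FGS4.HSOut.card_out_HG

end Cfsg.Agent.S2072
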