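import Cfsg.Statements.S2176
import Cfsg.Agent.Suzuki.SLInv.DataE8
import Cfsg.Agent.Suzuki.SLInv.Classes
import Cfsg.Agent.Chev.OrdersByType

set_option autoImplicit false
open Cfsg
open Cfsg.Agent.Chev Cfsg.Agent.Suzuki.SLInv

namespace Cfsg.Agent.S2176

/-- Conjugacy classes of involutions in the Chevalley group of type E₈ over a finite field F of characteristic two (the matrix group generated by the root elements x_r(t)). In this problem's root numbering for type E₈ (the Chevalley data module; fundamental roots numbered so that p₁–p₃–p₄–p₅–p₆–p₇–p₈ is the long chain of the diagram and p₂ is joined to p₄; roots indexed by their coefficient vectors in increasing order) let r = 239 be the highest root (2,3,4,6,5,4,3,2), α = 232 = (2,2,4,5,4,3,2,1), β = 233 = (2,3,3,5,4,3,2,1), γ = 228 = (2,2,3,4,3,2,2,1), δ = 222 = (1,2,3,4,3,3,2,1), ε = 218 = (1,2,2,4,4,3,2,1), φ = 226 = (2,2,3,4,3,2,1,0), ψ = 220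 = (1,2,3,4,3,2,1,1), θ = 213 = (1,2,2,3,3,3,2,1), ω = 216 = (1,2,2,4,3,2,2,1) (the roots within each of {α, β}, {γ, δ, ε}, {φ, ψ, θ, ω} pairwise orthogonal); consider x_r(1), x_α(1)x_β(1), x_γ(1)x_δ(1)x_ε(1) and x_φ(1)x_ψ(1)x_θ(1)x_ω(1). Then: each invertible matrix equal to one of these four products lies in the group and has order 2; every element of order 2 of the group is conjugate in the group to one of them; and no two of them are conjugate in the group (so, the four matrices being distinct, the group has exactly four conjugacy classes of involutions). -/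
theorem result {F : Type*} [Field F] [Fintype F] [CharP F 2] :
    (∀ y : GL Cfsg.Lie.chevE8.Idx F, ((y : GL Cfsg.Lie.chevE8.Idx F) : Matrix Cfsg.Lie.chevE8.Idx Cfsg.Lie.chevE8.Idx F) ∈ [Cfsg.Lie.chevE8.x F 239 1, Cfsg.Lie.chevE8.x F 232 1 * Cfsg.Lie.chevE8.x F 233 1, Cfsg.Lie.chevE8.x F 228 1 * Cfsg.Lie.chevE8.x F 222 1 * Cfsg.Lie.chevE8.x F 218 1, Cfsg.Lie.chevE8.x F 226 1 * Cfsg.Lie.chevE8.x F 220 1 * Cfsg.Lie.chevE8.x F 213 1 * Cfsg.Lie.chevE8.x F 216 1] → y ∈ Cfsg.Lie.chevE8.group F ∧ orderOf y = 2) ∧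
    (∀ g ∈ Cfsg.Lie.chevE8.group F, orderOf g = 2 → ∃ y ∈ Cfsg.Lie.chevE8.group F, ((y : GL Cfsg.Lie.chevE8.Idx F) : Matrix Cfsg.Lie.chevE8.Idx Cfsg.Lie.chevE8.Idx F) ∈ [Cfsg.Lie.chevE8.x F 239 1, Cfsg.Lie.chevE8.x F 232 1 * Cfsg.Lie.chevE8.x F 233 1, Cfsg.Lie.chevE8.x F 228 1 * Cfsg.Lie.chevE8.x F 222 1 * Cfsg.Lie.chevE8.x F 218 1, Cfsg.Lie.chevE8.x F 226 1 * Cfsg.Lie.chevE8.x F 220 1 * Cfsg.Lie.chevE8.x F 213 1 * Cfsg.Lie.chevE8.x F 216 1] ∧ ∃ h ∈ Cfsg.Lie.chevE8.group F, h * g * h⁻¹ = y) ∧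
    (∀ y₁ ∈ Cfsg.Lie.chevE8.group F, ∀ y₂ ∈ Cfsg.Lie.chevE8.group F, ((y₁ : GL Cfsg.Lie.chevE8.Idx F) : Matrix Cfsg.Lie.chevE8.Idx Cfsg.Lie.chevE8.Idx F) ∈ [Cfsg.Lie.chevE8.x F 239 1, Cfsg.Lie.chevE8.x F 232 1 * Cfsg.Lie.chevE8.x F 233 1, Cfsg.Lie.chevE8.x F 228 1 * Cfsg.Lie.chevE8.x F 222 1 * Cfsg.Lie.chevE8.x F 218 1, Cfsg.Lie.chevE8.x F 226 1 * Cfsg.Lie.chevE8.x F 220 1 * Cfsg.Lie.chevE8.x F 213 1 * Cfsg.Lie.chevE8.x F 216 1] → ((y₂ : GL Cfsg.Lie.chevE8.Idx F) : Matrix Cfsg.Lie.chevE8.Idx Cfsg.Lie.chevE8.Idx F) ∈ [Cfsg.Lie.chevE8.x F 239 1, Cfsg.Lie.chevE8.x F 232 1 * Cfsg.Lie.chevE8.x F 233 1, Cfsg.Lie.chevE8.x F 228 1 * Cfsg.Lie.chevE8.x F 222 1 * Cfsg.Lie.chevE8.x F 218 1, Cfsg.Lie.chevE8.x F 226 1 * Cfsg.Lie.chevE8.x F 220 1 * Cfsg.Lie.chevE8.x F 213 1 * Cfsg.Lie.chevE8.x F 216 1] →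
      (∃ h ∈ Cfsg.Lie.chevE8.group F, h * y₁ * h⁻¹ = y₂) → ((y₁ : GL Cfsg.Lie.chevE8.Idx F) : Matrix Cfsg.Lie.chevE8.Idx Cfsg.Lie.chevE8.Idx F) = ((y₂ : GL Cfsg.Lie.chevE8.Idx F) : Matrix Cfsg.Lie.chevE8.Idx Cfsg.Lie.chevE8.Idx F)) := by
  classical
  have sl := E8.sl
  have val : ∀ w ∈ [[239], [232,233], [228,222,218], [226,220,213,216]], ∀ y : GL Cfsg.Lie.chevE8.Idx F,
      (y : Matrix Cfsg.Lie.chevE8.Idx Cfsg.Lie.chevE8.Idx F) = (W allOKE8 w : GL Cfsg.Lie.chevE8.Idx F) →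
        y ∈ Cfsg.Lie.chevE8.group F ∧ orderOf y = 2 := by
    intro w hw y hy
    obtain rfl : y = W allOKE8 w := Units.ext hy
    refine ⟨W_mem allOKE8 sl w, order_two allOKE8 (W_sq allOKE8 sl E8.repsOK ?_) ?_⟩
    · fin_cases hw <;> decide +kernel
    · intro e
      have e' := congrArg (fun g : GL Cfsg.Lie.chevE8.Idx F => ((g : Matrix Cfsg.Lie.chevE8.Idx Cfsg.Lie.chevE8.Idx F) - 1).rank) e
      simp only [Units.val_one, sub_self, Matrix.rank_zero] at e'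
      fin_cases hw <;> simp [E8.rank0, E8.rank1, E8.rank2, E8.rank3] at e'
  have v0 : ((W allOKE8 [239] : GL Cfsg.Lie.chevE8.Idx F) : Matrix _ _ F) = Cfsg.Lie.chevE8.x F 239 1 := by
    simp only [val_cons_word, W_nil, Units.val_one, mul_one, mul_assoc]
  have v1 : ((W allOKE8 [232,233] : GL Cfsg.Lie.chevE8.Idx F) : Matrix _ _ F) = Cfsg.Lie.chevE8.x F 232 1 * Cfsg.Lie.chevE8.x F 233 1 := by
    simp only [val_cons_word, W_nil, Units.val_one, mul_one, mul_assoc]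
  have v2 : ((W allOKE8 [228,222,218] : GL Cfsg.Lie.chevE8.Idx F) : Matrix _ _ F) = Cfsg.Lie.chevE8.x F 228 1 * Cfsg.Lie.chevE8.x F 222 1 * Cfsg.Lie.chevE8.x F 218 1 := by
    simp only [val_cons_word, W_nil, Units.val_one, mul_one, mul_assoc]
  have v3 : ((W allOKE8 [226,220,213,216] : GL Cfsg.Lie.chevE8.Idx F) : Matrix _ _ F) = Cfsg.Lie.chevE8.x F 226 1 * Cfsg.Lie.chevE8.x F 220 1 * Cfsg.Lie.chevE8.x F 213 1 * Cfsg.Lie.chevE8.x F 216 1 := by
    simp only [val_cons_word, W_nil, Units.val_one, mul_one, mul_assoc]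
  refine ⟨fun y hy => ?_, fun g hg h2 => ?_, fun y₁ _ y₂ _ h₁ h₂ hc => ?_⟩
  · simp only [List.mem_cons, List.not_mem_nil, or_false] at hy
    rcases hy with h | h | h | h
    · exact val [239] (by simp) y (h.trans v0.symm)
    · exact val [232,233] (by simp) y (h.trans v1.symm)
    · exact val [228,222,218] (by simp) y (h.trans v2.symm)
    · exact val [226,220,213,216] (by simp) y (h.trans v3.symm)
  · have hq := two_dvd_card F
    have h0 : 0 < Fintype.card F := Fintype.card_pos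
    obtain ⟨M, hM, hord⟩ : ∃ M, ¬ 2 ∣ M ∧ 1 * Nat.card ↥(Cfsg.Lie.chevE8.group F) =
        Fintype.card F ^ (Cfsg.Lie.chevE8.nroots / 2) * M := by
      rw [show Cfsg.Lie.chevE8.nroots / 2 = 120 by decide +kernel]
      rw [one_mul, orderE8 rfl]
      simp only [mul_assoc]
      refine ⟨_, ?_, rfl⟩
      simp only [Nat.prime_two.dvd_mul, not_or]
      and_intros <;> exact not_dvd_pow_pred hq h0 (by norm_num)
    obtain ⟨j, hj, k, hk, e⟩ := cover allOKE8 sl E8.same E8.repsOK E8.extOK E8.redOK (by decide) hM hord hg h2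
    simp only [E8.cls, List.mem_cons, List.not_mem_nil, or_false] at hj
    rcases hj with rfl | rfl | rfl | rfl
    · exact ⟨_, W_mem allOKE8 sl _, by rw [show E8.reps.getD 1 [] = [239] from rfl, v0]; simp, k, hk, e⟩
    · exact ⟨_, W_mem allOKE8 sl _, by rw [show E8.reps.getD 2 [] = [232,233] from rfl, v1]; simp, k, hk, e⟩
    · exact ⟨_, W_mem allOKE8 sl _, by rw [show E8.reps.getD 3 [] = [228,222,218] from rfl, v2]; simp, k, hk, e⟩
    · exact ⟨_, W_mem allOKE8 sl _, by rw [show E8.reps.getD 4 [] = [226,220,213,216] from rfl, v3]; simp, k, hk, e⟩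
  · have hr := rank_conj hc
    simp only [List.mem_cons, List.not_mem_nil, or_false] at h₁ h₂
    rcases h₁ with p | p | p | p <;> rcases h₂ with r | r | r | r <;>
      first
        | exact p.trans r.symm
        | (rw [p, r] at hr
           simp only [← v0, ← v1, ← v2, ← v3, E8.rank0, E8.rank1, E8.rank2, E8.rank3] at hr
           exact absurd hr (by norm_num))

end Cfsg.Agent.S2176
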