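import Cfsg.Statements.S2271
-- import your own Cfsg.Agent.* helpers here

set_option autoImplicit false
open Cfsg

namespace Cfsg.Agent.S2271

open Equiv Finset

variable {n : ℕ}

lemma app_inv (p : Equiv.Perm (Fin n)) (x : Fin n) : p (p⁻¹ x) = x := p.apply_symm_apply x

lemma inv_app (p : Equiv.Perm (Fin n)) (x : Fin n) : p⁻¹ (p x) = x := p.symm_apply_apply x

/-- The number of fixed points of a permutation, as a `Finset` cardinality. -/
def fc (p : Equiv.Perm (Fin n)) : ℕ := (univ.filter fun x => p x = x).card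

/-- The number of moved points. -/
def mc (p : Equiv.Perm (Fin n)) : ℕ := (univ.filter fun x => p x ≠ x).card

lemma fc_add_mc (p : Equiv.Perm (Fin n)) : fc p + mc p = n := by
  simp only [fc, mc, ne_eq, Finset.card_filter_add_card_filter_not, Finset.card_univ, Fintype.card_fin]

lemma natCard_fixed (p : Equiv.Perm (Fin n)) : Nat.card (Function.fixedPoints ⇑p) = fc p := by
  rw [fc, ← Nat.card_eq_finsetCard]
  exact Nat.card_congr (Equiv.subtypeEquivRight fun x => by
    simp [Function.mem_fixedPoints_iff, Function.IsFixedPt])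

lemma fc_comm (p q : Equiv.Perm (Fin n)) : fc (p * q) = fc (q * p) := by
  refine Finset.card_equiv q fun x => ?_
  rw [mem_filter, mem_filter]
  refine ⟨fun h => ⟨mem_univ _, ?_⟩, fun h => ⟨mem_univ _, ?_⟩⟩
  · show q (p (q x)) = q x
    exact congrArg q h.2
  · exact q.injective h.2

lemma two_le_mc {p : Equiv.Perm (Fin n)} (hp : p ≠ 1) : 2 ≤ mc p := by
  have h := Equiv.Perm.two_le_card_support_of_ne_one hp
  have : mc p = p.support.card := by
    unfold mc; congr 1
  omega

lemma exists_perm_ext {k : ℕ} (u v : Fin k → Fin n) (hu : Function.Injective u)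
    (hv : Function.Injective v) : ∃ σ : Equiv.Perm (Fin n), ∀ i, σ (u i) = v i := by
  classical
  let e : {x // x ∈ Set.range u} ≃ {x // x ∈ Set.range v} :=
    (Equiv.ofInjective u hu).symm.trans (Equiv.ofInjective v hv)
  refine ⟨e.extendSubtype, fun i => ?_⟩
  rw [Equiv.extendSubtype_apply_of_mem _ _ ⟨i, rfl⟩]
  simp [e, Equiv.ofInjective_symm_apply]

lemma exists_even_ext {k : ℕ} (hk : k + 2 ≤ n) (u v : Fin k → Fin n) (hu : Function.Injective u)
    (hv : Function.Injective v) :
    ∃ σ : Equiv.Perm (Fin n), σ ∈ alternatingGroup (Fin n) ∧ ∀ i, σ (u i) = v i := by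
  classical
  obtain ⟨σ, hσ⟩ := exists_perm_ext u v hu hv
  rcases Int.units_eq_one_or (Equiv.Perm.sign σ) with h | h
  · exact ⟨σ, Equiv.Perm.mem_alternatingGroup.2 h, hσ⟩
  · have hc : 1 < ((univ.image v)ᶜ).card := by
      rw [Finset.card_compl, Finset.card_image_of_injective _ hv]
      simp; omega
    obtain ⟨p, hp, q, hq, hpq⟩ := Finset.one_lt_card.1 hc
    simp only [mem_compl, mem_image, mem_univ, true_and, not_exists] at hp hq
    refine ⟨Equiv.swap p q * σ, Equiv.Perm.mem_alternatingGroup.2 ?_, fun i => ?_⟩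
    · rw [map_mul, Equiv.Perm.sign_swap hpq, h]; rfl
    · rw [Equiv.Perm.mul_apply, hσ, Equiv.swap_apply_of_ne_of_ne (hp i) (hq i)]

/-- The even permutations. -/
def evens (n : ℕ) : Finset (Equiv.Perm (Fin n)) :=
  univ.filter fun g => Equiv.Perm.sign g = 1

lemma mem_evens {g : Equiv.Perm (Fin n)} : g ∈ evens n ↔ g ∈ alternatingGroup (Fin n) := by
  simp [evens, Equiv.Perm.mem_alternatingGroup]

lemma evens_pos : 0 < (evens n).card := Finset.card_pos.2 ⟨1, mem_evens.2 (one_mem _)⟩

lemma cnt_one (hn : 4 ≤ n) (u x : Fin n) :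
    n * ((evens n).filter fun g => g u = x).card = (evens n).card := by
  classical
  have heq : ∀ y, ((evens n).filter fun g => g u = y).card
      = ((evens n).filter fun g => g u = x).card := fun y => by
    obtain ⟨σ, hσ, hσx⟩ := exists_even_ext (k := 1) (by omega) ![y] ![x]
      (Function.injective_of_subsingleton _) (Function.injective_of_subsingleton _)
    have h0 : σ y = x := hσx 0
    refine Finset.card_equiv (Equiv.mulLeft σ) fun g => ?_
    simp only [mem_filter, mem_evens, Equiv.coe_mulLeft, Equiv.Perm.mul_apply,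
      Subgroup.mul_mem_cancel_left _ hσ, ← h0, EmbeddingLike.apply_eq_iff_eq]
  rw [Finset.card_eq_sum_card_fiberwise (s := evens n) (t := univ) (f := fun g => g u)
    (fun g _ => mem_univ _), Finset.sum_congr rfl (fun y _ => heq y)]
  simp

lemma cnt_two (hn : 4 ≤ n) {u v x y : Fin n} (huv : u ≠ v) (hxy : x ≠ y) :
    n * (n - 1) * ((evens n).filter fun g => g u = x ∧ g v = y).card = (evens n).card := by
  classical
  have heq : ∀ p ∈ (univ : Finset (Fin n)).offDiag, ((evens n).filter fun g => (g u, g v) = p).card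
      = ((evens n).filter fun g => g u = x ∧ g v = y).card := fun p hp => by
    have hp' : p.1 ≠ p.2 := (Finset.mem_offDiag.1 hp).2.2
    obtain ⟨σ, hσ, hσx⟩ := exists_even_ext (k := 2) (by omega) ![p.1, p.2] ![x, y]
      (by intro i j; fin_cases i <;> fin_cases j <;> simp [hp', hp'.symm])
      (by intro i j; fin_cases i <;> fin_cases j <;> simp [hxy, hxy.symm])
    have h0 : σ p.1 = x := hσx 0
    have h1 : σ p.2 = y := hσx 1
    refine Finset.card_equiv (Equiv.mulLeft σ) fun g => ?_
    simp only [mem_filter, mem_evens, Equiv.coe_mulLeft, Equiv.Perm.mul_apply,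
      Subgroup.mul_mem_cancel_left _ hσ, ← h0, ← h1, EmbeddingLike.apply_eq_iff_eq, Prod.ext_iff]
  rw [Finset.card_eq_sum_card_fiberwise (s := evens n) (t := univ.offDiag) (f := fun g => (g u, g v))
    (fun g _ => by simp [huv]), Finset.sum_congr rfl heq]
  simp [Finset.offDiag_card, Nat.mul_sub_left_distrib]

lemma average (hn : 4 ≤ n) (a b : Equiv.Perm (Fin n)) (F : ℕ)
    (hF : ∀ g ∈ alternatingGroup (Fin n), fc (a * (g * b * g⁻¹)) = F) :
    F * (n * (n - 1)) = fc a * fc b * (n - 1) + mc a * mc b := by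
  classical
  set A := evens n
  have e1 : (∑ g ∈ A, fc (a * (g * b * g⁻¹))) = F * A.card := by
    rw [Finset.sum_congr rfl (fun g hg => hF g (mem_evens.1 hg)), Finset.sum_const, smul_eq_mul, mul_comm]
  have e2 : ∀ g : Equiv.Perm (Fin n), fc (a * (g * b * g⁻¹))
      = ∑ x : Fin n, ∑ u : Fin n, if g u = x ∧ g (b u) = a⁻¹ x then 1 else 0 := fun g => by
    rw [fc, Finset.card_filter]
    refine Finset.sum_congr rfl fun x _ => ?_
    rw [Finset.sum_eq_single (g⁻¹ x) (fun u _ hu => by
      rw [if_neg]; rintro ⟨h, -⟩; exact hu (by simp [← h])) (by simp)]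
    refine if_congr ?_ rfl rfl
    simp only [Equiv.Perm.mul_apply]
    rw [app_inv, eq_self, true_and, Equiv.Perm.eq_inv_iff_eq]
  have e3 : ∀ x u : Fin n, n * (n - 1) * (∑ g ∈ A, if g u = x ∧ g (b u) = a⁻¹ x then 1 else 0) =
      (if a x = x ∧ b u = u then (n - 1) * A.card else 0)
        + if a x ≠ x ∧ b u ≠ u then A.card else 0 := fun x u => by
    rw [← Finset.card_filter]
    rcases eq_or_ne (b u) u with hb | hb <;> rcases eq_or_ne (a x) x with hx | hx
    · have : a⁻¹ x = x := by rw [Equiv.Perm.inv_eq_iff_eq, hx]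
      simp only [hb, this, hx, and_self, if_true, ne_eq, not_true, if_false, add_zero]
      rw [← cnt_one hn u x]; ring
    · have : a⁻¹ x ≠ x := fun h => hx (Equiv.Perm.inv_eq_iff_eq.1 h).symm
      rw [Finset.filter_false_of_mem (fun g _ h => this (by rw [← h.2, hb, h.1]))]
      simp [hb, hx]
    · have : a⁻¹ x = x := by rw [Equiv.Perm.inv_eq_iff_eq, hx]
      rw [Finset.filter_false_of_mem (fun g _ h => hb (g.injective (by rw [h.2, h.1, this])))]
      simp [hb, hx]
    · have : a⁻¹ x ≠ x := fun h => hx (Equiv.Perm.inv_eq_iff_eq.1 h).symm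
      rw [cnt_two hn hb.symm this.symm]
      simp [hb, hx, A]
  have e4 : n * (n - 1) * (F * A.card) = (fc a * fc b * (n - 1) + mc a * mc b) * A.card := by
    rw [← e1, Finset.sum_congr rfl (fun g _ => e2 g), Finset.sum_comm, Finset.mul_sum]
    rw [Finset.sum_congr rfl (fun x _ => by rw [Finset.sum_comm, Finset.mul_sum,
      Finset.sum_congr rfl (fun u _ => e3 x u), Finset.sum_add_distrib])]
    rw [Finset.sum_add_distrib, ← Finset.sum_product', ← Finset.sum_product', ← Finset.sum_filter,
      ← Finset.sum_filter, Finset.filter_product (fun x => a x = x) (fun u => b u = u),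
      Finset.filter_product (fun x => a x ≠ x) (fun u => b u ≠ u)]
    simp only [Finset.sum_const, Finset.card_product, smul_eq_mul, fc, mc]
    ring
  have := evens_pos (n := n)
  exact Nat.eq_of_mul_eq_mul_right this (by rw [← e4]; ring)

/-- Prescribed agreements give fixed points. -/
lemma le_fc {k : ℕ} (a b σ : Equiv.Perm (Fin n)) (s t : Fin k → Fin n) (ht : Function.Injective t)
    (h1 : ∀ i, σ (s i) = t i) (h2 : ∀ i, σ (b (s i)) = a⁻¹ (t i)) :
    k ≤ fc (a * (σ * b * σ⁻¹)) := by
  classical
  calc k = (univ.image t).card := by rw [Finset.card_image_of_injective _ ht]; simp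
    _ ≤ _ := Finset.card_le_card fun x hx => by
      obtain ⟨i, -, rfl⟩ := Finset.mem_image.1 hx
      refine Finset.mem_filter.2 ⟨mem_univ _, ?_⟩
      show a (σ (b (σ⁻¹ (t i)))) = t i
      rw [← h1, inv_app, h2, app_inv, h1]

lemma exists_two_edges {p : Equiv.Perm (Fin n)} (h : 4 ≤ mc p) :
    ∃ x y : Fin n, Function.Injective ![x, p x, y, p y] := by
  classical
  obtain ⟨x, hx⟩ := Finset.card_pos.1 (show 0 < mc p by omega)
  rw [mem_filter] at hx
  have hc : ((univ.filter fun z => p z ≠ z) \ {x, p x, p⁻¹ x}).Nonempty := by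
    rw [← Finset.card_pos]
    have := Finset.le_card_sdiff ({x, p x, p⁻¹ x} : Finset (Fin n)) (univ.filter fun z => p z ≠ z)
    have h3 := Finset.card_le_three (a := x) (b := p x) (c := p⁻¹ x)
    unfold mc at h
    omega
  obtain ⟨y, hy⟩ := hc
  simp only [mem_sdiff, mem_filter, mem_univ, true_and, mem_insert, mem_singleton, not_or] at hy
  obtain ⟨hy0, hy1, hy2, hy3⟩ := hy
  have k1 : p y ≠ x := fun e => hy3 (by rw [← e, inv_app])
  have k2 : p y ≠ p x := fun e => hy1 (p.injective e)
  refine ⟨x, y, fun i j => ?_⟩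
  fin_cases i <;> fin_cases j <;>
    simp [hx.2, Ne.symm hx.2, hy0, Ne.symm hy0, hy1, Ne.symm hy1, hy2, Ne.symm hy2, k1, Ne.symm k1,
      k2, Ne.symm k2]

theorem five_odd_centralizer : ∀ b : Equiv.Perm (Fin 5),
    (univ.filter fun x => b x = x).card = 1 →
      ∃ t : Equiv.Perm (Fin 5), Equiv.Perm.sign t = -1 ∧ t * b = b * t := by
  decide +kernel

lemma core (hn : 5 ≤ n) {a b : Equiv.Perm (Fin n)} (ha : a ≠ 1) (hb : b ≠ 1) (hle : fc a ≤ fc b)
    (F : ℕ) (hF : ∀ g ∈ alternatingGroup (Fin n), fc (a * (g * b * g⁻¹)) = F) : False := by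
  classical
  have hav := average (by omega) a b F hF
  have hma := two_le_mc ha
  have hmb := two_le_mc hb
  have hsa := fc_add_mc a
  have hsb := fc_add_mc b
  rcases Nat.lt_or_ge (fc a) 2 with hfa | hfa
  · rcases Nat.eq_zero_or_pos (fc a) with h0 | h0
    · -- `a` is fixed point free
      have hm : mc a = n := by omega
      rw [h0, hm] at hav
      have hav' : F * (n - 1) = mc b := by
        have : n * (F * (n - 1)) = n * mc b := by
          rw [mul_left_comm] ; simpa using hav
        exact Nat.eq_of_mul_eq_mul_left (by omega) this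
      have hF1 : F = 1 := by
        rcases F with _ | _ | F
        · simp at hav'; omega
        · rfl
        · have : 2 * (n - 1) ≤ (F + 1 + 1) * (n - 1) := Nat.mul_le_mul_right _ (by omega)
          omega
      subst hF1
      obtain ⟨x, y, hi⟩ := exists_two_edges (p := b) (by omega)
      obtain ⟨z, w, hj⟩ := exists_two_edges (p := a⁻¹) (by
        have : mc a⁻¹ = mc a := by
          unfold mc; congr 1; refine Finset.filter_congr fun q _ => not_congr ?_
          rw [Equiv.Perm.inv_eq_iff_eq]; exact eq_comm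
        omega)
      obtain ⟨σ, hσe, hσ⟩ : ∃ σ : Equiv.Perm (Fin n), σ ∈ alternatingGroup (Fin n) ∧
          2 ≤ fc (a * (σ * b * σ⁻¹)) := by
        have key : ∀ σ : Equiv.Perm (Fin n), (∀ i, σ (![x, b x, y, b y] i) = ![z, a⁻¹ z, w, a⁻¹ w] i) →
            2 ≤ fc (a * (σ * b * σ⁻¹)) := fun σ h => by
          refine le_fc a b σ ![x, y] ![z, w] ?_ (fun i => ?_) (fun i => ?_)
          · intro i j hij
            have h02 : z ≠ w := fun e => absurd (hj (a₁ := 0) (a₂ := 2) (by simpa using e)) (by decide)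
            fin_cases i <;> fin_cases j <;> simp_all
          · fin_cases i
            · simpa using h 0
            · simpa using h 2
          · fin_cases i
            · simpa using h 1
            · simpa using h 3
        rcases Nat.lt_or_ge n 6 with h6 | h6
        · obtain rfl : n = 5 := by omega
          obtain ⟨σ, hσ⟩ := exists_perm_ext _ _ hi hj
          rcases Int.units_eq_one_or (Equiv.Perm.sign σ) with h | h
          · exact ⟨σ, Equiv.Perm.mem_alternatingGroup.2 h, key σ hσ⟩
          · obtain ⟨t, ht, htb⟩ := five_odd_centralizer b (show fc b = 1 by omega)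
            refine ⟨σ * t, Equiv.Perm.mem_alternatingGroup.2 (by rw [map_mul, h, ht]; rfl), ?_⟩
            have : σ * t * b * (σ * t)⁻¹ = σ * b * σ⁻¹ := by
              rw [mul_assoc σ t b, htb]; group
            rw [this]
            exact key σ hσ
        · obtain ⟨σ, hσe, hσ⟩ := exists_even_ext (k := 4) (by omega) _ _ hi hj
          exact ⟨σ, hσe, key σ hσ⟩
      rw [hF σ hσe] at hσ
      omega
    · -- `a` fixes one point
      have h1 : fc a = 1 := by omega
      have hm : mc a = n - 1 := by omega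
      rw [h1, hm] at hav
      have hF1 : F = 1 := by
        have : F * (n * (n - 1)) = 1 * (n * (n - 1)) := by
          rw [hav]
          calc 1 * fc b * (n - 1) + (n - 1) * mc b = (fc b + mc b) * (n - 1) := by ring
            _ = _ := by rw [hsb, one_mul]
        exact Nat.eq_of_mul_eq_mul_right (Nat.mul_pos (by omega) (by omega)) this
      subst hF1
      obtain ⟨q, hq⟩ := Finset.card_pos.1 (show 0 < fc a by omega)
      obtain ⟨p, hp⟩ := Finset.card_pos.1 (show 0 < fc b by omega)
      obtain ⟨z, hz⟩ := Finset.card_pos.1 (show 0 < mc a by omega)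
      obtain ⟨x, hx⟩ := Finset.card_pos.1 (show 0 < mc b by omega)
      simp only [mem_filter, mem_univ, true_and] at hq hp hz hx
      have hqz : q ≠ z := fun e => hz (e ▸ hq)
      have hpx : p ≠ x := fun e => hx (e ▸ hp)
      have hpbx : p ≠ b x := fun e => hpx (b.injective (hp.trans e))
      have hqi : a⁻¹ q = q := by rw [Equiv.Perm.inv_eq_iff_eq, hq]
      have hzi : a⁻¹ z ≠ z := fun e => hz (Equiv.Perm.inv_eq_iff_eq.1 e).symm
      have hqaz : q ≠ a⁻¹ z := fun e => hqz (a⁻¹.injective (hqi.trans e))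
      have hqaz' : q ≠ a.symm z := hqaz
      have hzi' : a.symm z ≠ z := hzi
      obtain ⟨σ, hσe, hσ⟩ := exists_even_ext (k := 3) (by omega) ![p, x, b x] ![q, z, a⁻¹ z]
        (by intro i j; fin_cases i <;> fin_cases j <;>
          simp [hpx, hpx.symm, hpbx, hpbx.symm, hx, Ne.symm hx])
        (by intro i j; fin_cases i <;> fin_cases j <;>
          simp [hqz, hqz.symm, hqaz', hqaz'.symm, hzi', hzi'.symm])
      have h2 : 2 ≤ fc (a * (σ * b * σ⁻¹)) := by
        refine le_fc a b σ ![p, x] ![q, z] ?_ (fun i => ?_) (fun i => ?_)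
        · intro i j; fin_cases i <;> fin_cases j <;> simp [hqz, hqz.symm]
        · fin_cases i
          · simpa using hσ 0
          · simpa using hσ 1
        · fin_cases i
          · simpa [hp, hqi] using hσ 0
          · simpa using hσ 2
      rw [hF σ hσe] at h2
      omega
  · -- `a` fixes at least two points
    obtain ⟨Bs, hBs, hBc⟩ := Finset.exists_subset_card_eq (show fc a ≤ (univ.filter fun x => b x = x).card from hle)
    set As := univ.filter fun x => a x = x with hAs
    let u : Fin (fc a) → Fin n := fun i => (Bs.equivFinOfCardEq hBc).symm i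
    let v : Fin (fc a) → Fin n := fun i => (As.equivFinOfCardEq rfl).symm i
    have hu : Function.Injective u := Subtype.val_injective.comp (Equiv.injective _)
    have hv : Function.Injective v := Subtype.val_injective.comp (Equiv.injective _)
    obtain ⟨σ, hσe, hσ⟩ := exists_even_ext (by omega) u v hu hv
    have h2 : fc a ≤ fc (a * (σ * b * σ⁻¹)) := by
      refine le_fc a b σ u v hv hσ fun i => ?_
      have hbu : b (u i) = u i := (mem_filter.1 (hBs ((Bs.equivFinOfCardEq hBc).symm i).2)).2
      have hav : a (v i) = v i := (mem_filter.1 ((As.equivFinOfCardEq rfl).symm i).2).2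
      rw [hbu, hσ, Equiv.Perm.eq_inv_iff_eq, hav]
    rw [hF σ hσe] at h2
    have h3 : fc a * (n * (n - 1)) ≤ F * (n * (n - 1)) := Nat.mul_le_mul_right _ h2
    rw [hav] at h3
    obtain ⟨m, rfl⟩ : ∃ m, n = m + 1 := ⟨n - 1, by omega⟩
    simp only [Nat.add_sub_cancel] at h3
    have h4 : 2 * m ≤ fc a * m := Nat.mul_le_mul_right _ hfa
    have h5 : mc a * mc b < fc a * m * mc b := Nat.mul_lt_mul_of_pos_right (by omega) (by omega)
    have h6 : fc a * ((m + 1) * m) = fc a * fc b * m + fc a * m * mc b := by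
      calc fc a * ((m + 1) * m) = fc a * ((fc b + mc b) * m) := by rw [hsb]
        _ = _ := by ring
    omega

/-- Let n ≥ 5 and let a, b be non-identity permutations in the symmetric group S_n. Then the number of fixed points is not constant on the set of products a′b′ with a′ conjugate to a and b′ conjugate to b under the alternating group: there are even permutations g₁, h₁, g₂, h₂ such that (g₁ a g₁⁻¹)(h₁ b h₁⁻¹) and (g₂ a g₂⁻¹)(h₂ b h₂⁻¹) have different numbers of fixed points. -/
theorem result (n : ℕ) (hn : 5 ≤ n) (a b : Equiv.Perm (Fin n)) (ha : a ≠ 1) (hb : b ≠ 1) :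
    ∃ g₁ h₁ g₂ h₂ : Equiv.Perm (Fin n), g₁ ∈ alternatingGroup (Fin n) ∧ h₁ ∈ alternatingGroup (Fin n) ∧ g₂ ∈ alternatingGroup (Fin n) ∧ h₂ ∈ alternatingGroup (Fin n) ∧
      Nat.card (Function.fixedPoints ⇑(g₁ * a * g₁⁻¹ * (h₁ * b * h₁⁻¹))) ≠
        Nat.card (Function.fixedPoints ⇑(g₂ * a * g₂⁻¹ * (h₂ * b * h₂⁻¹))) := by
  by_contra hc
  push Not at hc
  have key : ∀ g₁ h₁, g₁ ∈ alternatingGroup (Fin n) → h₁ ∈ alternatingGroup (Fin n) →
      fc (g₁ * a * g₁⁻¹ * (h₁ * b * h₁⁻¹)) = fc (a * b) := fun g₁ h₁ m₁ m₂ => by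
    have := hc g₁ h₁ 1 1 m₁ m₂ (one_mem _) (one_mem _)
    rw [natCard_fixed, natCard_fixed] at this
    simpa using this
  rcases le_total (fc a) (fc b) with h | h
  · exact core hn ha hb h (fc (a * b)) fun g hg => by simpa using key 1 g (one_mem _) hg
  · refine core hn hb ha h (fc (a * b)) fun g hg => ?_
    rw [fc_comm]
    simpa using key g 1 hg (one_mem _)

end Cfsg.Agent.S2271
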