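import Cfsg.Statements.S2272
import Cfsg.Agent.Chars.ClassProductPSL

set_option autoImplicit false
open Cfsg

namespace Cfsg.Agent.S2272

/-- Let F be a finite field and d ≥ 3, and let a, b be non-identity elements of PSL_d(F). Then the product of the conjugacy classes of a and b is not a single conjugacy class: there are conjugates a′ of a and b′ of b such that a′b′ is not conjugate to ab. -/
theorem result {F : Type*} [Field F] [Fintype F] (d : ℕ) (hd : 3 ≤ d)
    (a b : Matrix.ProjectiveSpecialLinearGroup (Fin d) F) (ha : a ≠ 1) (hb : b ≠ 1) :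
    ∃ g h : Matrix.ProjectiveSpecialLinearGroup (Fin d) F, ¬ IsConj (a * b) (g * a * g⁻¹ * (h * b * h⁻¹)) := by
  classical
  obtain ⟨A, rfl⟩ := QuotientGroup.mk_surjective a
  obtain ⟨B, rfl⟩ := QuotientGroup.mk_surjective b
  have hns : ∀ X : Matrix.SpecialLinearGroup (Fin d) F,
      (QuotientGroup.mk X : Matrix.ProjectiveSpecialLinearGroup (Fin d) F) ≠ 1 →
      ∀ c : F, (X : Matrix (Fin d) (Fin d) F) ≠ Matrix.scalar (Fin d) c := by
    intro X hX c hc
    refine hX ((QuotientGroup.eq_one_iff X).2 (Matrix.SpecialLinearGroup.mem_center_iff.2 ⟨c, ?_, hc.symm⟩))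
    have h := X.2
    rw [hc] at h
    simpa using h
  set t := Matrix.trace ((A * B : Matrix.SpecialLinearGroup (Fin d) F) : Matrix (Fin d) (Fin d) F)
    with ht
  obtain ⟨H, hH⟩ := Cfsg.Agent.Chars.ClassProduct.exists_trace_eq hd A B (hns A ha) (hns B hb)
    (if t = 0 then 1 else 0)
  refine ⟨1, QuotientGroup.mk H, fun hc => ?_⟩
  rw [one_mul, inv_one, mul_one, ← QuotientGroup.mk_inv, ← QuotientGroup.mk_mul,
    ← QuotientGroup.mk_mul, ← QuotientGroup.mk_mul, ← QuotientGroup.mk_mul, isConj_iff] at hc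
  obtain ⟨C, hC⟩ := hc
  obtain ⟨C, rfl⟩ := QuotientGroup.mk_surjective C
  rw [← QuotientGroup.mk_inv, ← QuotientGroup.mk_mul, ← QuotientGroup.mk_mul, QuotientGroup.eq,
    Matrix.SpecialLinearGroup.mem_center_iff] at hC
  obtain ⟨r, hr, hrC⟩ := hC
  have hr0 : r ≠ 0 := by
    rintro rfl
    rw [Fintype.card_fin, zero_pow (by omega)] at hr
    exact zero_ne_one hr
  have he : ((A * (H * B * H⁻¹) : Matrix.SpecialLinearGroup (Fin d) F) : Matrix (Fin d) (Fin d) F) =
      r • ((C * (A * B) * C⁻¹ : Matrix.SpecialLinearGroup (Fin d) F) : Matrix (Fin d) (Fin d) F) := by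
    set X := C * (A * B) * C⁻¹ with hX
    set Y := A * (H * B * H⁻¹) with hY
    have e : (Y : Matrix (Fin d) (Fin d) F) = (X : Matrix (Fin d) (Fin d) F) *
        ((X⁻¹ * Y : Matrix.SpecialLinearGroup (Fin d) F) : Matrix (Fin d) (Fin d) F) := by
      rw [← Matrix.SpecialLinearGroup.coe_mul, mul_inv_cancel_left]
    rw [e, ← hrC, Matrix.scalar_apply, ← Matrix.smul_one_eq_diagonal, Matrix.mul_smul, Matrix.mul_one]
  have htr := congrArg Matrix.trace he
  rw [hH, Matrix.trace_smul, Matrix.SpecialLinearGroup.coe_mul, Matrix.trace_mul_comm,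
    ← Matrix.SpecialLinearGroup.coe_mul, inv_mul_cancel_left, ← ht, smul_eq_mul] at htr
  by_cases h0 : t = 0
  · rw [if_pos h0, h0, mul_zero] at htr
    exact one_ne_zero htr
  · rw [if_neg h0] at htr
    exact mul_ne_zero hr0 h0 htr.symm

end Cfsg.Agent.S2272
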