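import Cfsg.Statements.S2277
import Cfsg.Agent.KnownA.SplitFix

set_option autoImplicit false
open Cfsg

namespace Cfsg.Agent.S2277

/-- Let p ≥ 3 be prime and G a finite group with a Sylow p-subgroup P and a normal p-complement N (N normal, of order prime to p, with NP = G). Suppose P is generated by a subset C and also by a subset D, and that ⟨x c x⁻¹, d⟩ is a p-group for all x ∈ N, c ∈ C, d ∈ D. Then P centralizes N, so that G = N × P. -/
theorem result {G : Type*} [Group G] [Finite G] (p : ℕ) [Fact p.Prime] (hp3 : 3 ≤ p) (P : Sylow p G)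
    (N : Subgroup G) [N.Normal] (hN : (Nat.card N).Coprime p) (hNP : N ⊔ (P : Subgroup G) = ⊤)
    (C D : Set G) (hC : Subgroup.closure C = (P : Subgroup G)) (hD : Subgroup.closure D = (P : Subgroup G))
    (h : ∀ x ∈ N, ∀ c ∈ C, ∀ d ∈ D, IsPGroup p ↥(Subgroup.closure ({x * c * x⁻¹, d} : Set G))) :
    ⁅(P : Subgroup G), N⁆ = ⊥ := by
  classical
  have hp : p.Prime := Fact.out
  set C' : Set (P : Subgroup G) := {c | (c : G) ∈ C} with hC'
  set D' : Set (P : Subgroup G) := {d | (d : G) ∈ D} with hD'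
  have gen : ∀ S : Set G, Subgroup.closure S = (P : Subgroup G) →
      Subgroup.closure {c : (P : Subgroup G) | (c : G) ∈ S} = ⊤ := by
    intro S hS
    apply Subgroup.map_injective (P : Subgroup G).subtype_injective
    rw [MonoidHom.map_closure, ← MonoidHom.range_eq_map, Subgroup.range_subtype]
    convert hS using 2
    ext g
    constructor
    · rintro ⟨c, hc, rfl⟩; exact hc
    · exact fun hg => ⟨⟨g, hS ▸ Subgroup.subset_closure hg⟩, hg, rfl⟩
  have hdisj : ∀ g : G, g ∈ N → g ∈ (P : Subgroup G) → g = 1 := by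
    intro g hgN hgP
    obtain ⟨k, hk⟩ := (IsPGroup.iff_orderOf.mp P.2) ⟨g, hgP⟩
    rw [Subgroup.orderOf_mk] at hk
    exact orderOf_eq_one_iff.mp (Nat.eq_one_of_dvd_coprimes hN (Subgroup.orderOf_dvd_natCard N hgN)
      (by
        rcases Nat.eq_zero_or_pos k with rfl | hk0
        · simp [hk]
        · exfalso
          have h1 : p ∣ Nat.card N :=
            (dvd_trans (dvd_pow_self p hk0.ne') (hk ▸ Subgroup.orderOf_dvd_natCard N hgN))
          exact hp.one_lt.ne' (Nat.eq_one_of_dvd_coprimes hN h1 dvd_rfl)))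
  have eq_of_mem : ∀ g ∈ (P : Subgroup G), ∀ h ∈ (P : Subgroup G), g * h⁻¹ ∈ N → g = h := by
    intro g hg h hh hgh
    exact mul_inv_eq_one.mp (hdisj _ hgh (mul_mem hg (inv_mem hh)))
  have hsetmul : ∀ g : G, ∃ n ∈ N, ∃ y ∈ (P : Subgroup G), g = n * y := fun g => by
    have : g ∈ ((N ⊔ (P : Subgroup G) : Subgroup G) : Set G) := hNP ▸ Subgroup.mem_top g
    rw [Subgroup.normal_mul] at this
    obtain ⟨n, hn, y, hy, e⟩ := this
    exact ⟨n, hn, y, hy, e.symm⟩
  -- splitting in invariant subgroups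
  have split : ∀ U : Subgroup G, U ≤ N → (∀ u ∈ (P : Subgroup G), ∀ x ∈ U, u * x * u⁻¹ ∈ U) →
      ∀ c ∈ C, ∀ d ∈ D, ∀ x ∈ U, ∃ a ∈ U, ∃ b ∈ U, c * a * c⁻¹ = a ∧ d * b * d⁻¹ = b ∧ x = a * b := by
    intro U hUN hU c hc d hd x hx
    have hcP : c ∈ (P : Subgroup G) := hC ▸ Subgroup.subset_closure hc
    have hdP : d ∈ (P : Subgroup G) := hD ▸ Subgroup.subset_closure hd
    have hnorm : (P : Subgroup G) ≤ Subgroup.normalizer (U : Set G) := by
      intro u hu
      rw [Subgroup.mem_normalizer_iff]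
      intro y
      exact ⟨hU u hu y, fun hy => by simpa [mul_assoc] using hU u⁻¹ (inv_mem hu) _ hy⟩
    set K : Subgroup G := U ⊔ (P : Subgroup G) with hK
    set H := Subgroup.closure ({x⁻¹ * c * x, d} : Set G)
    have hH : IsPGroup p H := by
      have := h x⁻¹ (hUN (inv_mem hx)) c hc d hd
      rwa [inv_inv] at this
    have hle : H ≤ K := by
      rw [Subgroup.closure_le]
      have hxK : x ∈ K := Subgroup.mem_sup_left hx
      rintro z (rfl | rfl)
      · exact mul_mem (mul_mem (inv_mem hxK) (Subgroup.mem_sup_right hcP)) hxK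
      · exact Subgroup.mem_sup_right hdP
    obtain ⟨Q, hQ⟩ := (hH.of_equiv (Subgroup.subgroupOfEquivOfLe hle).symm).exists_le_sylow
    obtain ⟨⟨g, hgK⟩, hg⟩ := MulAction.exists_smul_eq K (P.subtype (le_sup_right (a := U))) Q
    obtain ⟨n, hn, y, hy, rfl⟩ : ∃ n ∈ U, ∃ y ∈ (P : Subgroup G), g = n * y := by
      have : g ∈ ((U ⊔ (P : Subgroup G) : Subgroup G) : Set G) := hgK
      rw [Subgroup.coe_mul_of_right_le_normalizer_left U _ hnorm] at this
      obtain ⟨n, hn, y, hy, e⟩ := this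
      exact ⟨n, hn, y, hy, e.symm⟩
    have key : ∀ z ∈ H, n⁻¹ * z * n ∈ (P : Subgroup G) := by
      intro z hz
      have h1 : (⟨z, hle hz⟩ : K) ∈ (Q : Subgroup K) := hQ (Subgroup.mem_subgroupOf.mpr hz)
      rw [← hg] at h1
      obtain ⟨⟨w, hwK⟩, hw, he⟩ := h1
      have hwP : w ∈ (P : Subgroup G) := hw
      have he' : n * y * w * (n * y)⁻¹ = z := congrArg Subtype.val he
      have : n⁻¹ * z * n = y * w * y⁻¹ := by rw [← he']; group
      rw [this]; exact mul_mem (mul_mem hy hwP) (inv_mem hy)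
    have hn' := hUN hn
    have hd' : n⁻¹ * d * n = d := eq_of_mem _ (key d (Subgroup.subset_closure (by simp))) d hdP (by
      have : n⁻¹ * d * n * d⁻¹ = n⁻¹ * (d * n * d⁻¹) := by group
      rw [this]; exact mul_mem (inv_mem hn') (‹N.Normal›.conj_mem n hn' d))
    have hxn : x * n ∈ N := mul_mem (hUN hx) hn'
    have hc' : n⁻¹ * (x⁻¹ * c * x) * n = c :=
      eq_of_mem _ (key _ (Subgroup.subset_closure (by simp))) c hcP (by
      have : n⁻¹ * (x⁻¹ * c * x) * n * c⁻¹ = (x * n)⁻¹ * (c * (x * n) * c⁻¹) := by group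
      rw [this]; exact mul_mem (inv_mem hxn) (‹N.Normal›.conj_mem _ hxn c))
    refine ⟨x * n, mul_mem hx hn, n⁻¹, inv_mem hn, ?_, ?_, by group⟩
    · have : c * (x * n) = x * n * c := by
        have h2 := congrArg (fun e => x * n * e) hc'
        simp only [mul_assoc, mul_inv_cancel_left] at h2
        rw [mul_assoc x n c]; exact h2
      rw [this]; group
    · have : d * n⁻¹ = n⁻¹ * d := by
        have h2 := congrArg (fun e => e * n⁻¹) hd'
        simp only [mul_assoc, mul_inv_cancel, mul_one] at h2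
        exact h2.symm
      rw [this]; group
  -- the centralised part of `N`
  set K : Subgroup G := N ⊓ Subgroup.centralizer ((P : Subgroup G) : Set G) with hK
  suffices hcard : Nat.card N ∣ Nat.card K by
    have hKN : K = N := Subgroup.eq_of_le_of_card_ge inf_le_left (Nat.le_of_dvd Nat.card_pos hcard)
    rw [Subgroup.commutator_comm, Subgroup.commutator_eq_bot_iff_le_centralizer, ← hKN]
    exact inf_le_right
  rw [Nat.dvd_iff_prime_pow_dvd_dvd]
  intro q k hq hdvd
  rcases Nat.eq_zero_or_pos k with rfl | hk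
  · simp
  haveI := Fact.mk hq
  have hqp : p ≠ q := by
    rintro rfl
    exact hq.one_lt.ne' (Nat.eq_one_of_dvd_coprimes hN (dvd_trans (dvd_pow_self _ hk.ne') hdvd) dvd_rfl)
  obtain ⟨Q⟩ : Nonempty (Sylow q N) := inferInstance
  -- a Sylow subgroup of `N` invariant under `P`
  set QG : Subgroup G := (Q : Subgroup N).map N.subtype with hQG
  have hfr : Subgroup.normalizer (QG : Set G) ⊔ N = ⊤ := Sylow.normalizer_sup_eq_top Q
  obtain ⟨S, hS⟩ : ∃ S : Sylow p G, (S : Subgroup G) ≤ Subgroup.normalizer (QG : Set G) := by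
    set M := Subgroup.normalizer (QG : Set G)
    obtain ⟨R⟩ : Nonempty (Sylow p M) := inferInstance
    have hRp : IsPGroup p ((R : Subgroup M).map M.subtype) := R.2.map _
    obtain ⟨S, hS⟩ := hRp.exists_le_sylow
    refine ⟨S, ?_⟩
    suffices (S : Subgroup G) = (R : Subgroup M).map M.subtype by rw [this]; exact Subgroup.map_subtype_le _
    refine (Subgroup.eq_of_le_of_card_ge hS ?_).symm
    rw [Sylow.card_eq_multiplicity, Subgroup.card_map_of_injective M.subtype_injective,
      Sylow.card_eq_multiplicity]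
    refine Nat.pow_le_pow_right hp.pos ?_
    have h1 : Nat.card G ∣ Nat.card M * Nat.card N := by
      have e1 : N.relIndex (M ⊔ N) ∣ Nat.card M := by
        rw [Subgroup.relIndex_sup_right]
        exact Subgroup.relIndex_dvd_card _ _
      rw [hfr, Subgroup.relIndex_top_right] at e1
      rw [← N.index_mul_card]
      exact Nat.mul_dvd_mul_right e1 _
    have h3 := (Nat.factorization_le_iff_dvd Nat.card_pos.ne' (Nat.mul_ne_zero Nat.card_pos.ne' Nat.card_pos.ne')).mpr h1 p
    rw [Nat.factorization_mul Nat.card_pos.ne' Nat.card_pos.ne'] at h3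
    simp only [Finsupp.coe_add, Pi.add_apply,
      Nat.factorization_eq_zero_of_not_dvd (fun e => hp.one_lt.ne' (Nat.eq_one_of_dvd_coprimes hN e dvd_rfl)),
      add_zero] at h3
    exact h3
  obtain ⟨g, hg⟩ := MulAction.exists_smul_eq G S P
  obtain ⟨g', hg'⟩ : ∃ g' : G, g' = g := ⟨g, rfl⟩
  set W : Subgroup G := QG.map (MulAut.conj g).toMonoidHom with hW
  have hWN : W ≤ N := by
    rintro _ ⟨z, hz, rfl⟩
    exact ‹N.Normal›.conj_mem z (Subgroup.map_subtype_le _ hz) g
  have hinv : ∀ u ∈ (P : Subgroup G), ∀ x ∈ W, u * x * u⁻¹ ∈ W := by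
    intro u hu x hx
    rw [← hg] at hu
    obtain ⟨v, hv, rfl⟩ := hu
    obtain ⟨z, hz, rfl⟩ := hx
    refine ⟨v * z * v⁻¹, (Subgroup.mem_normalizer_iff.mp (hS hv) z).mp hz, ?_⟩
    simp [MulAut.smul_def, mul_assoc]
  let φ : (P : Subgroup G) →* MulAut W :=
    { toFun := fun u =>
        { toFun := fun x => ⟨(u : G) * x * (u : G)⁻¹, hinv u u.2 x x.2⟩
          invFun := fun x => ⟨(u : G)⁻¹ * x * (u : G), by
            simpa using hinv (u : G)⁻¹ (inv_mem u.2) x x.2⟩
          left_inv := fun x => Subtype.ext (by simp [mul_assoc])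
          right_inv := fun x => Subtype.ext (by simp [mul_assoc])
          map_mul' := fun x y => Subtype.ext (by simp [mul_assoc]) }
      map_one' := by ext x; simp
      map_mul' := fun u v => by ext x; simp [mul_assoc] }
  have hWq : IsPGroup q W := (Q.2.map N.subtype).map _
  have hcentral := Cfsg.Agent.KnownA.splitFix_qgroup hp3 P.2 C' D' (gen C hC) (gen D hD) hqp
    (Nat.card W) φ rfl hWq (fun U hU c hc d hd x hx => by
      obtain ⟨a, ⟨a', ha', rfl⟩, b, ⟨b', hb', rfl⟩, e1, e2, e3⟩ := split (U.map W.subtype)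
        (fun z hz => hWN (Subgroup.map_subtype_le _ hz))
        (by rintro u hu _ ⟨z, hz, rfl⟩; exact ⟨_, hU ⟨u, hu⟩ z hz, rfl⟩)
        c hc d hd _ ⟨x, hx, rfl⟩
      exact ⟨a', ha', b', hb', Subtype.ext e1, Subtype.ext e2, Subtype.ext e3⟩)
  have hWK : W ≤ K := by
    intro x hx
    refine ⟨hWN hx, Subgroup.mem_centralizer_iff.mpr fun u hu => ?_⟩
    exact mul_inv_eq_iff_eq_mul.mp (congrArg Subtype.val (hcentral ⟨u, hu⟩ ⟨x, hx⟩))
  refine dvd_trans ?_ (Subgroup.card_dvd_of_le hWK)
  rw [hW, Subgroup.card_map_of_injective (MulAut.conj g).injective,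
    hQG, Subgroup.card_map_of_injective N.subtype_injective]
  exact Q.pow_dvd_card_of_pow_dvd_card hdvd

end Cfsg.Agent.S2277
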