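import Cfsg.Statements.S2469
import Cfsg.Agent.Forms.SpPrimeGraph

set_option autoImplicit false
open Cfsg

namespace Cfsg.Agent.S2469

/-- Adjacency of two odd primes in the prime graph of PSp(2n,q): let F be a finite field of characteristic p with q elements, n ≥ 2 with PSp(2n,F) simple, and let r ≠ s be odd primes different from p dividing the order of PSp(2n,F). Let k, l be the multiplicative orders of q modulo r and s, put η(m) = m for odd m and η(m) = m/2 for even m, and suppose η(k) ≤ η(l). Then PSp(2n,F) has NO element of order r·s if and only if η(k) + η(l) > n and l/k is not an odd integer. -/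
theorem result {F : Type*} [Field F] [Fintype F] (p : ℕ) [Fact p.Prime] [CharP F p] (n : ℕ) (hn : 2 ≤ n) (hsmall : n = 2 → 3 ≤ Fintype.card F)
    (r s : ℕ) (hr : r.Prime) (hs : s.Prime) (hr2 : r ≠ 2) (hs2 : s ≠ 2) (hrp : r ≠ p) (hsp : s ≠ p) (hrs : r ≠ s)
    (hrG : r ∣ Nat.card (Cfsg.PSp n F)) (hsG : s ∣ Nat.card (Cfsg.PSp n F))
    (k l ηk ηl : ℕ) (hk : k = orderOf ((Fintype.card F : ℕ) : ZMod r)) (hl : l = orderOf ((Fintype.card F : ℕ) : ZMod s))
    (hηk : (Odd k ∧ ηk = k) ∨ (Even k ∧ 2 * ηk = k)) (hηl : (Odd l ∧ ηl = l) ∨ (Even l ∧ 2 * ηl = l)) (hkl : ηk ≤ ηl) :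
    (r * s ∉ Set.range (orderOf : Cfsg.PSp n F → ℕ)) ↔ (n < ηk + ηl ∧ ¬ ∃ t : ℕ, Odd t ∧ l = k * t) := by
  classical
  obtain ⟨B, hA, hB, π, hπs, hπ⟩ := Forms.exists_psp_hom (F := F) n (by omega)
  have hc : ∀ (g : Forms.altGroup B) (c : F),
      (∀ x, (g : (Fin (n + n) → F) ≃ₗ[F] (Fin (n + n) → F)) x = c • x) → c * c = 1 := by
    intro g c hg
    obtain ⟨x, y, hxy⟩ : ∃ x y, B x y ≠ 0 := by
      by_contra hcon
      push Not at hcon
      haveI : NeZero (n + n) := ⟨by omega⟩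
      have h := hB.1 (Pi.single 0 1) fun y => hcon _ y
      simpa using congrFun h 0
    have h := g.2.1 x y
    rw [hg, hg, map_smul, map_smul, LinearMap.smul_apply, smul_eq_mul, smul_eq_mul,
      ← mul_assoc] at h
    exact mul_right_cancel₀ hxy (by rw [h, one_mul])
  have hF : ∀ t : ℕ, t.Prime → t ≠ p → (t : F) ≠ 0 ∧ ¬ t ∣ Fintype.card F := fun t ht htp =>
    ⟨fun h => htp ((Nat.prime_dvd_prime_iff_eq (Fact.out : p.Prime) ht).1
      ((CharP.cast_eq_zero_iff F p t).1 h)).symm, fun h => by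
      obtain ⟨m, hp, hm⟩ := FiniteField.card F p
      rw [hm] at h
      exact htp ((Nat.prime_dvd_prime_iff_eq ht hp).1 (ht.dvd_of_dvd_pow h))⟩
  exact Forms.odd_criterion hA hB π hπs hπ hc hr hs hr2 hs2 (hF r hr hrp).1 (hF s hs hsp).1 hrs
    (hF r hr hrp).2 (hF s hs hsp).2 hsG hk hl hηk hηl hkl

end Cfsg.Agent.S2469
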