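import Cfsg.Statements.S2472
import Cfsg.Agent.Forms.SpPrimeGraph

set_option autoImplicit false
open Cfsg

namespace Cfsg.Agent.S2472

/-- Adjacency of a prime and the characteristic in the prime graph of PSp(2n,q): let F be a finite field of characteristic p with q elements, n ≥ 2 with PSp(2n,F) simple, and let r ≠ p be an odd prime dividing the order of PSp(2n,F), with k the multiplicative order of q modulo r and η(k) = k for odd k, k/2 for even k. Then PSp(2n,F) has NO element of order r·p if and only if η(k) > n − 1. -/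
theorem result {F : Type*} [Field F] [Fintype F] (p : ℕ) [Fact p.Prime] [CharP F p] (n : ℕ) (hn : 2 ≤ n) (hsmall : n = 2 → 3 ≤ Fintype.card F)
    (r : ℕ) (hr : r.Prime) (hr2 : r ≠ 2) (hrp : r ≠ p) (hrG : r ∣ Nat.card (Cfsg.PSp n F))
    (k ηk : ℕ) (hk : k = orderOf ((Fintype.card F : ℕ) : ZMod r)) (hηk : (Odd k ∧ ηk = k) ∨ (Even k ∧ 2 * ηk = k)) :
    (r * p ∉ Set.range (orderOf : Cfsg.PSp n F → ℕ)) ↔ n - 1 < ηk := by
  classical
  obtain ⟨B, hA, hB, π, hπs, hπ⟩ := Forms.exists_psp_hom (F := F) n (by omega)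
  have hc : ∀ (g : Forms.altGroup B) (c : F),
      (∀ x, (g : (Fin (n + n) → F) ≃ₗ[F] (Fin (n + n) → F)) x = c • x) → c * c = 1 := by
    intro g c hg
    obtain ⟨x, y, hxy⟩ : ∃ x y, B x y ≠ 0 := by
      by_contra hcon
      push Not at hcon
      haveI : NeZero (n + n) := ⟨by omega⟩
      have h := hB.1 (Pi.single 0 1) fun y => hcon _ y
      simpa using congrFun h 0
    have h := g.2.1 x y
    rw [hg, hg, map_smul, map_smul, LinearMap.smul_apply, smul_eq_mul, smul_eq_mul,
      ← mul_assoc] at h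
    exact mul_right_cancel₀ hxy (by rw [h, one_mul])
  exact Forms.char_criterion hA hB π hπs hπ hc hr hr2 hrp hk hηk

end Cfsg.Agent.S2472
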