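import Cfsg.Statements.S2477
import Cfsg.Agent.PermGroups.AltOrders
import Mathlib.Algebra.Order.BigOperators.Group.Multiset

set_option autoImplicit false
open Cfsg

namespace Cfsg.Agent.S2477

/-- All pairs (least common multiple, parity) of cycle types with bounded sum. -/
def reach : ℕ → ℕ → List (ℕ × Bool)
  | 0, _ => [(1, true)]
  | k + 1, b => (1, true) :: (List.range' 2 (b - 1)).flatMap fun a =>
      (reach k (b - a)).map fun x => (Nat.lcm a x.1, x.2 == (a % 2 == 1))

theorem mem_reach : ∀ (m : Multiset ℕ) (k b : ℕ), Multiset.card m ≤ k → (∀ a ∈ m, 2 ≤ a) → m.sum ≤ b →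
    (m.lcm, decide (Even (m.sum + Multiset.card m))) ∈ reach k b := by
  intro m
  induction m using Multiset.induction_on with
  | empty => intro k b _ _ _; cases k <;> simp [reach]
  | cons a m ih =>
    intro k b hk h2 hsum
    rw [Multiset.card_cons] at hk
    rw [Multiset.sum_cons] at hsum
    obtain ⟨k, rfl⟩ : ∃ j, k = j + 1 := ⟨k - 1, by omega⟩
    have ha := h2 a (Multiset.mem_cons_self _ _)
    have h := ih k (b - a) (by omega) (fun c hc => h2 c (Multiset.mem_cons_of_mem hc)) (by omega)
    rw [reach]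
    refine List.mem_cons_of_mem _ (List.mem_flatMap.2 ⟨a, List.mem_range'_1.2 (by omega), List.mem_map.2 ⟨_, h, ?_⟩⟩)
    rw [Multiset.lcm_cons, lcm_eq_nat_lcm, Multiset.sum_cons, Multiset.card_cons]
    refine Prod.ext rfl ?_
    rcases Nat.even_or_odd a with he | ho <;> rcases Nat.even_or_odd (m.sum + Multiset.card m) with he' | ho'
    all_goals simp only [Nat.even_iff, Nat.odd_iff] at *
    all_goals (simp [Nat.even_iff, *]; omega)


/-- The set of element orders of the alternating group of degree 10 is {1, 2, 3, 4, 5, 6, 7, 8, 9, 10, 12, 15, 21}. -/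
theorem result : Set.range (orderOf : alternatingGroup (Fin 10) → ℕ) = {1, 2, 3, 4, 5, 6, 7, 8, 9, 10, 12, 15, 21} := by
  ext k
  rw [PermGroups.mem_range_orderOf_alternating]
  constructor
  · rintro ⟨m, h2, hsum, hev, rfl⟩
    have hcard : Multiset.card m ≤ 5 := by
      have h := Multiset.card_nsmul_le_sum h2
      rw [smul_eq_mul] at h
      omega
    have hmem := mem_reach m 5 10 hcard h2 hsum
    have hdec : ∀ x ∈ reach 5 10, x.2 = true → x.1 ∈ [1, 2, 3, 4, 5, 6, 7, 8, 9, 10, 12, 15, 21] := by
      decide +kernel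
    have h := hdec _ hmem (decide_eq_true hev)
    simpa using h
  · intro hk
    simp only [Set.mem_insert_iff, Set.mem_singleton_iff] at hk
    rcases hk with rfl | rfl | rfl | rfl | rfl | rfl | rfl | rfl | rfl | rfl | rfl | rfl | rfl
    · exact ⟨0, by simp⟩
    · exact ⟨{2, 2}, by decide +kernel⟩
    · exact ⟨{3}, by decide +kernel⟩
    · exact ⟨{4, 2}, by decide +kernel⟩
    · exact ⟨{5}, by decide +kernel⟩
    · exact ⟨{6, 2}, by decide +kernel⟩
    · exact ⟨{7}, by decide +kernel⟩
    · exact ⟨{8, 2}, by decide +kernel⟩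
    · exact ⟨{9}, by decide +kernel⟩
    · exact ⟨{5, 2, 2}, by decide +kernel⟩
    · exact ⟨{4, 6}, by decide +kernel⟩
    · exact ⟨{5, 3}, by decide +kernel⟩
    · exact ⟨{7, 3}, by decide +kernel⟩

end Cfsg.Agent.S2477
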