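import Cfsg.Statements.S2490
import Cfsg.Agent.Chars.PrimeGraph7920

set_option autoImplicit false
open Cfsg

namespace Cfsg.Agent.S2490

/-- Let G be a finite group of order 7920 = 2⁴·3²·5·11 (the order of the smallest Mathieu group) and suppose its prime graph (vertices the prime divisors of the order, distinct p, q joined when there is an element of order pq) is disconnected: the prime divisors split into two non-empty parts with no element of order pq for p in one part and q in the other. Then G is simple. -/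
theorem result {G : Type*} [Group G] [Finite G] (hord : Nat.card G = 7920)
    (hdisc : (∃ A : Set ℕ, (∃ a ∈ A, a.Prime ∧ a ∣ Nat.card G) ∧ (∃ b ∉ A, b.Prime ∧ b ∣ Nat.card G) ∧
      ∀ a ∈ A, ∀ b ∉ A, a.Prime → b.Prime → a ∣ Nat.card G → b ∣ Nat.card G → ¬ ∃ g : G, orderOf g = a * b)) :
    IsSimpleGroup G := by
  haveI : Fact (Nat.Prime 11) := ⟨by norm_num⟩
  rcases Chars.PrimeGraph7920.simple_or_connected hord with h | ⟨e2, e3, e5⟩
  · exact h
  exfalso
  obtain ⟨A, ⟨a, haA, ha, had⟩, ⟨b, hbA, hb, hbd⟩, hno⟩ := hdisc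
  have hsame : ∀ r s : ℕ, r.Prime → s.Prime → r ≠ s → r ∣ Nat.card G → s ∣ Nat.card G →
      Chars.PrimeGraph7920.Edge G r s → (r ∈ A ↔ s ∈ A) := by
    rintro r s hr hs hne hrd hsd ⟨x, y, hx, hy, hc⟩
    have hco : Nat.Coprime (orderOf x) (orderOf y) := by
      rw [hx, hy]; exact (Nat.coprime_primes hr hs).2 hne
    have ho : orderOf (x * y) = r * s := by
      rw [hc.symm.orderOf_mul_eq_mul_orderOf_of_coprime hco, hx, hy]
    constructor <;> intro h <;> by_contra h'
    · exact hno r h s h' hr hs hrd hsd ⟨_, ho⟩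
    · exact hno s h r h' hs hr hsd hrd ⟨_, ho.trans (mul_comm r s)⟩
  have hd : ∀ r, r = 2 ∨ r = 3 ∨ r = 5 ∨ r = 11 → r.Prime ∧ r ∣ Nat.card G := by
    rintro r (rfl | rfl | rfl | rfl) <;> rw [hord] <;> norm_num
  obtain ⟨p2, d2⟩ := hd 2 (by norm_num)
  obtain ⟨p3, d3⟩ := hd 3 (by norm_num)
  obtain ⟨p5, d5⟩ := hd 5 (by norm_num)
  obtain ⟨p11, d11⟩ := hd 11 (by norm_num)
  have i2 := hsame 11 2 p11 p2 (by norm_num) d11 d2 e2
  have i3 := hsame 11 3 p11 p3 (by norm_num) d11 d3 e3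
  have i5 : 11 ∈ A ↔ 5 ∈ A := by
    rcases e5 with e | e
    · exact hsame 11 5 p11 p5 (by norm_num) d11 d5 e
    · exact i3.trans (hsame 5 3 p5 p3 (by norm_num) d5 d3 e).symm
  have hmem : ∀ r : ℕ, r.Prime → r ∣ Nat.card G → (r ∈ A ↔ 11 ∈ A) := by
    intro r hr hrd
    rw [hord] at hrd
    have hle : r = 2 ∨ r = 3 ∨ r = 5 ∨ r = 11 := by
      rw [show (7920 : ℕ) = 2 ^ 4 * 3 ^ 2 * 5 * 11 by norm_num] at hrd
      rcases hr.dvd_mul.1 hrd with h | h
      · rcases hr.dvd_mul.1 h with h | h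
        · rcases hr.dvd_mul.1 h with h | h
          · exact Or.inl ((Nat.prime_dvd_prime_iff_eq hr p2).1 (hr.dvd_of_dvd_pow h))
          · exact Or.inr (Or.inl ((Nat.prime_dvd_prime_iff_eq hr p3).1 (hr.dvd_of_dvd_pow h)))
        · exact Or.inr (Or.inr (Or.inl ((Nat.prime_dvd_prime_iff_eq hr p5).1 h)))
      · exact Or.inr (Or.inr (Or.inr ((Nat.prime_dvd_prime_iff_eq hr p11).1 h)))
    rcases hle with rfl | rfl | rfl | rfl
    · exact i2.symm
    · exact i3.symm
    · exact i5.symm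
    · exact Iff.rfl
  exact hbA ((hmem b hb hbd).2 ((hmem a ha had).1 haA))

end Cfsg.Agent.S2490
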