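import Cfsg.Statements.S2759
import Cfsg.Agent.FusionZJ.Transvection
import Cfsg.Agent.FusionZJ.LocalSteps
import Cfsg.Agent.Coprime.Action
import Cfsg.Agent.Core.RankTwoQd
import Cfsg.Agent.FGS3.PGroupFrattini

set_option autoImplicit false
open Cfsg

namespace Cfsg.Agent.S2759

open Subgroup
open scoped commutatorElement

universe u v

theorem involves_of_hom {H : Type*} [Group H] {G : Type*} [Group G] (K : Subgroup G) (φ : K →* H)
    (hφ : Function.Surjective φ) : Involves H G := by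
  have he : (φ.ker.map K.subtype).subgroupOf K = φ.ker := by
    rw [Subgroup.subgroupOf, comap_map_eq_self_of_injective K.subtype_injective]
  have hn : ((φ.ker.map K.subtype).subgroupOf K).Normal := by rw [he]; infer_instance
  haveI := hn
  exact ⟨K, φ.ker.map K.subtype, hn,
    ⟨(QuotientGroup.quotientMulEquivOfEq he).trans (QuotientGroup.quotientKerEquivOfSurjective φ hφ)⟩⟩

/-- A 3-element acting on a 2-group and inverted by a 2-element acting on it. -/
theorem involves_of_inverted {G : Type u} [Group G] [Finite G] :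
    ∀ (n : ℕ) (T : Subgroup G), Nat.card T ≤ n → IsPGroup 2 T → ∀ x t : G,
      x ∈ normalizer (T : Set G) → t ∈ normalizer (T : Set G) → x ^ 3 ∈ centralizer (T : Set G) →
      x ∉ centralizer (T : Set G) → IsPGroup 3 (zpowers x) → IsPGroup 2 (zpowers t) → t * x * t⁻¹ = x⁻¹ →
      Involves (Equiv.Perm (Fin 4)) G := by
  intro n
  induction n with
  | zero => intro T h; exact absurd h (by simp [Nat.card_pos.ne'])
  | succ n ih =>
    intro T hn hT x t hxN htN hx3 hxC hx3g ht2g htx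
    haveI := Fact.mk Nat.prime_two
    haveI := Fact.mk Nat.prime_three
    haveI : Group.IsSolvable (zpowers x) := Group.isSolvable_of_comm fun a b => mul_comm' a b
    set D := (frattini T).map T.subtype with hD
    have hDT : D ≤ T := map_subtype_le _
    have hne : T ≠ ⊥ := fun h => hxC (mem_centralizer_iff.mpr fun y hy => by
      rw [h] at hy; rw [show y = 1 from hy, one_mul, mul_one])
    haveI : Nontrivial T := (nontrivial_iff_ne_bot T).mpr hne
    have hDlt : Nat.card D < Nat.card T := by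
      rw [hD, card_map_of_injective T.subtype_injective]
      obtain ⟨M, hM⟩ := (eq_top_or_exists_le_coatom (⊥ : Subgroup T)).resolve_left bot_ne_top
      exact lt_of_le_of_ne (Subgroup.card_le_card_group _) fun e =>
        hM.1.1 (top_le_iff.mp ((eq_top_of_card_eq _ e).ge.trans (frattini_le_coatom hM.1)))
    have hchar : normalizer (T : Set G) ≤ normalizer (D : Set G) := by
      intro g hg
      refine Coprime.mem_normalizer_of_conj_mem ?_
      rintro _ ⟨y, hy, rfl⟩
      exact ⟨_, (Subgroup.characteristic_iff_map_le.mp frattini_characteristic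
        (normalizerMonoidHom T ⟨g, hg⟩)) ⟨y, hy, rfl⟩, rfl⟩
    by_cases hxD : x ∈ centralizer (D : Set G)
    swap
    · exact ih D (by omega) (hT.to_le hDT) x t (hchar hxN) (hchar htN)
        (centralizer_le hDT hx3) hxD hx3g ht2g htx
    set L := normalizer (D : Set G)
    set D' := D.subgroupOf L
    haveI : D'.Normal := normal_in_normalizer
    have hTL : T ≤ L := le_normalizer.trans hchar
    set π := QuotientGroup.mk' D' with hπ
    set V := (T.subgroupOf L).map π
    set X : L ⧸ D' := π ⟨x, hchar hxN⟩ with hX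
    set τ : L ⧸ D' := π ⟨t, hchar htN⟩ with hτ
    have hVx : ∀ v ∈ V, X * v * X⁻¹ ∈ V := by
      rintro _ ⟨⟨v, hvL⟩, hv, rfl⟩
      exact ⟨⟨x, hchar hxN⟩ * ⟨v, hvL⟩ * ⟨x, hchar hxN⟩⁻¹, (mem_normalizer_iff.mp hxN v).mp hv, by rw [hX, map_mul, map_mul, map_inv]⟩
    have hVt : ∀ v ∈ V, τ * v * τ⁻¹ ∈ V := by
      rintro _ ⟨⟨v, hvL⟩, hv, rfl⟩
      exact ⟨⟨t, hchar htN⟩ * ⟨v, hvL⟩ * ⟨t, hchar htN⟩⁻¹, (mem_normalizer_iff.mp htN v).mp hv, by rw [hτ, map_mul, map_mul, map_inv]⟩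
    have hΦc := FGS3.commutator_le_frattini hT
    have hΦp := FGS3.pow_mem_frattini hT
    have hVc : ∀ a ∈ V, ∀ b ∈ V, a * b = b * a := by
      rintro _ ⟨⟨a, haL⟩, ha, rfl⟩ _ ⟨⟨b, hbL⟩, hb, rfl⟩
      rw [← map_mul, ← map_mul, hπ, QuotientGroup.mk'_eq_mk']
      refine ⟨⁅(⟨b, hbL⟩ : L)⁻¹, (⟨a, haL⟩ : L)⁻¹⁆, ⟨⁅(⟨b, hb⟩ : T)⁻¹, (⟨a, ha⟩ : T)⁻¹⁆,
        hΦc (commutator_mem_commutator (mem_top _) (mem_top _)), ?_⟩, ?_⟩
      · simp [commutatorElement_def]
      · exact Subtype.ext (by simp [commutatorElement_def, mul_assoc])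
    have hV2 : ∀ a ∈ V, a * a = 1 := by
      rintro _ ⟨⟨a, haL⟩, ha, rfl⟩
      rw [← map_mul, hπ, QuotientGroup.mk'_apply, QuotientGroup.eq_one_iff]
      exact ⟨_, hΦp ⟨a, ha⟩, by simp [pow_two]⟩
    have hX3 : ∀ v ∈ V, X * (X * (X * v * X⁻¹) * X⁻¹) * X⁻¹ = v := by
      rintro _ ⟨⟨v, hvL⟩, hv, rfl⟩
      rw [hX, ← map_inv, ← map_mul, ← map_mul, ← map_mul, ← map_mul, ← map_mul, ← map_mul]
      congr 1
      apply Subtype.ext
      show x * (x * (x * v * x⁻¹) * x⁻¹) * x⁻¹ = v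
      rw [show x * (x * (x * v * x⁻¹) * x⁻¹) * x⁻¹ = x ^ 3 * v * (x ^ 3)⁻¹ by simp [pow_succ, mul_assoc],
        ← mem_centralizer_iff.mp hx3 v hv, mul_inv_cancel_right]
    obtain ⟨v₀, hv₀, hne₀⟩ : ∃ v ∈ V, X * v * X⁻¹ ≠ v := by
      by_contra hcon
      push Not at hcon
      apply hxC
      have hTx : zpowers x ≤ normalizer (T : Set G) := zpowers_le.mpr hxN
      have h1 : ⁅T, zpowers x⁆ ≤ D := by
        rw [Subgroup.commutator_le]
        intro v hv y hy
        let K : Subgroup L := (centralizer ((V : Subgroup (L ⧸ D')) : Set (L ⧸ D'))).comap π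
        have hxK : (⟨x, hchar hxN⟩ : L) ∈ K := mem_centralizer_iff.mpr fun w hw =>
          (mul_inv_eq_iff_eq_mul.mp (hcon w hw)).symm
        obtain ⟨i, rfl⟩ := mem_zpowers_iff.mp hy
        have h2 := mem_centralizer_iff.mp (show π (⟨x, hchar hxN⟩ ^ i) ∈ centralizer (V : Set (L ⧸ D')) from
          zpow_mem hxK i) (π ⟨v, hTL hv⟩) ⟨_, hv, rfl⟩
        rw [← commutatorElement_eq_one_iff_mul_comm, ← map_commutatorElement, hπ, QuotientGroup.mk'_apply,
          QuotientGroup.eq_one_iff] at h2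
        exact h2
      have h2 : ⁅⁅T, zpowers x⁆, zpowers x⁆ = ⊥ := le_bot_iff.mp ((commutator_mono h1 le_rfl).trans
        (Subgroup.commutator_eq_bot_iff_le_centralizer.mpr
          (le_centralizer_iff.mp (zpowers_le.mpr hxD))).le)
      have h3 := Coprime.commutator_eq_bot_of_commutator_commutator hTx
        (IsPGroup.coprime_card_of_ne 3 2 (by norm_num) _ _ hx3g hT) h2
      exact le_centralizer_iff.mp (Subgroup.commutator_eq_bot_iff_le_centralizer.mp h3) (mem_zpowers x)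
    have hcomm := hVc
    let W : Subgroup (L ⧸ D') :=
      { carrier := {v | v ∈ V ∧ v * (X * v * X⁻¹) * (X * (X * v * X⁻¹) * X⁻¹) = 1}
        one_mem' := ⟨one_mem _, by simp⟩
        mul_mem' := by
          rintro a b ⟨ha, ha'⟩ ⟨hb, hb'⟩
          refine ⟨mul_mem ha hb, ?_⟩
          have e : ∀ y : L ⧸ D', X * (a * y) * X⁻¹ = (X * a * X⁻¹) * (X * y * X⁻¹) := fun y => by group
          rw [e, show X * ((X * a * X⁻¹) * (X * b * X⁻¹)) * X⁻¹ =
            (X * (X * a * X⁻¹) * X⁻¹) * (X * (X * b * X⁻¹) * X⁻¹) by group]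
          calc a * b * (X * a * X⁻¹ * (X * b * X⁻¹)) * (X * (X * a * X⁻¹) * X⁻¹ * (X * (X * b * X⁻¹) * X⁻¹))
              = a * (b * (X * a * X⁻¹)) * ((X * b * X⁻¹) * (X * (X * a * X⁻¹) * X⁻¹)) *
                  (X * (X * b * X⁻¹) * X⁻¹) := by simp only [mul_assoc]
            _ = a * ((X * a * X⁻¹) * b) * ((X * (X * a * X⁻¹) * X⁻¹) * (X * b * X⁻¹)) *
                  (X * (X * b * X⁻¹) * X⁻¹) := by
                rw [hVc b hb _ (hVx a ha), hVc _ (hVx b hb) _ (hVx _ (hVx a ha))]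
            _ = a * (X * a * X⁻¹) * (b * (X * (X * a * X⁻¹) * X⁻¹)) * (X * b * X⁻¹) *
                  (X * (X * b * X⁻¹) * X⁻¹) := by simp only [mul_assoc]
            _ = a * (X * a * X⁻¹) * (X * (X * a * X⁻¹) * X⁻¹) * (b * (X * b * X⁻¹) *
                  (X * (X * b * X⁻¹) * X⁻¹)) := by
                rw [hVc b hb _ (hVx _ (hVx a ha))]; simp only [mul_assoc]
            _ = 1 := by rw [ha', hb', one_mul]
        inv_mem' := by
          rintro a ⟨ha, ha'⟩
          have e : a⁻¹ = a := inv_eq_of_mul_eq_one_right (hV2 a ha)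
          rw [e]; exact ⟨ha, ha'⟩ }
    have hWne : W ≠ ⊥ := by
      intro h
      have hmem : v₀ * (X * v₀ * X⁻¹) ∈ W := by
        refine ⟨mul_mem hv₀ (hVx _ hv₀), ?_⟩
        rw [show X * (v₀ * (X * v₀ * X⁻¹)) * X⁻¹ = (X * v₀ * X⁻¹) * (X * (X * v₀ * X⁻¹) * X⁻¹) by group]
        generalize hb : X * v₀ * X⁻¹ = b
        generalize hc : X * b * X⁻¹ = c
        rw [show X * (b * c) * X⁻¹ = (X * b * X⁻¹) * (X * c * X⁻¹) by group, hc,
          show X * c * X⁻¹ = v₀ by rw [← hc, ← hb]; exact hX3 v₀ hv₀]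
        have hbV : b ∈ V := hb ▸ hVx _ hv₀
        have hcV : c ∈ V := hc ▸ hVx _ hbV
        calc v₀ * b * (b * c) * (c * v₀) = v₀ * (b * b) * (c * c) * v₀ := by simp only [mul_assoc]
          _ = 1 := by rw [hV2 b hbV, hV2 c hcV, mul_one, mul_one, hV2 v₀ hv₀]
      rw [h, Subgroup.mem_bot] at hmem
      apply hne₀
      rw [← mul_left_cancel_iff (a := v₀), hmem, hV2 v₀ hv₀]
    have hτX : τ * X * τ⁻¹ = X⁻¹ := by
      rw [hτ, hX, ← map_inv, ← map_mul, ← map_mul, ← map_inv]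
      exact congrArg π (Subtype.ext htx)
    have hWτ : ∀ w ∈ W, τ * w * τ⁻¹ ∈ W := by
      rintro w ⟨hw, hw'⟩
      refine ⟨hVt w hw, ?_⟩
      have e1 : X * τ = τ * X⁻¹ := by
        have : X⁻¹ = τ⁻¹ * X * τ := by
          calc X⁻¹ = τ⁻¹ * (τ * X⁻¹ * τ⁻¹) * τ := by group
            _ = τ⁻¹ * (τ * X * τ⁻¹)⁻¹ * τ := by group
            _ = τ⁻¹ * X * τ := by rw [hτX, inv_inv]
        rw [this]; group
      have hx' : X⁻¹ * w * X = X * (X * w * X⁻¹) * X⁻¹ := by
        conv_lhs => rw [← hX3 w hw]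
        group
      have e2 : X * (τ * w * τ⁻¹) * X⁻¹ = τ * (X * (X * w * X⁻¹) * X⁻¹) * τ⁻¹ := by
        rw [← hx', show X * (τ * w * τ⁻¹) * X⁻¹ = (X * τ) * w * (X * τ)⁻¹ by group, e1]; group
      have e3 : X * (τ * (X * (X * w * X⁻¹) * X⁻¹) * τ⁻¹) * X⁻¹ = τ * (X * w * X⁻¹) * τ⁻¹ := by
        rw [show X * (τ * (X * (X * w * X⁻¹) * X⁻¹) * τ⁻¹) * X⁻¹ =
          (X * τ) * (X * (X * w * X⁻¹) * X⁻¹) * (X * τ)⁻¹ by group, e1]; group
      rw [e2, e3, show τ * w * τ⁻¹ * (τ * (X * (X * w * X⁻¹) * X⁻¹) * τ⁻¹) * (τ * (X * w * X⁻¹) * τ⁻¹) =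
        τ * (w * ((X * (X * w * X⁻¹) * X⁻¹) * (X * w * X⁻¹))) * τ⁻¹ by group,
        hVc _ (hVx _ (hVx w hw)) _ (hVx w hw), ← mul_assoc w, hw', mul_one, mul_inv_cancel]
    have hWd : 2 ∣ Nat.card W := by
      have hVp : IsPGroup 2 V := fun v => ⟨1, Subtype.ext (by rw [pow_one, pow_two]; exact hV2 _ v.2)⟩
      obtain ⟨j, hj⟩ := IsPGroup.iff_card.mp (hVp.to_le (show W ≤ V from fun w hw => hw.1))
      rw [hj]; refine dvd_pow_self 2 fun h0 => hWne ?_
      rw [h0, pow_zero] at hj; exact Subgroup.card_eq_one.mp hj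
    have hτg : IsPGroup 2 (zpowers τ) := by
      obtain ⟨j, hj⟩ := ht2g ⟨t, mem_zpowers t⟩
      have ht0 : (⟨t, hchar htN⟩ : L) ^ 2 ^ j = 1 := Subtype.ext (congrArg (fun z : zpowers t => (z : G)) hj)
      obtain ⟨i, -, hi⟩ := (Nat.dvd_prime_pow Nat.prime_two).mp (orderOf_dvd_of_pow_eq_one
        (show τ ^ 2 ^ j = 1 by rw [hτ, ← map_pow, ht0, map_one]))
      exact IsPGroup.of_card (n := i) (by rw [Nat.card_zpowers, hi])
    obtain ⟨r, ⟨hr, hr'⟩, hr1, hrfix⟩ := Core.RankTwoQd.exists_fixed hτg (W : Set (L ⧸ D')) (one_mem W) (fun y hy w hw => by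
      revert w
      have hsub : zpowers τ ≤ normalizer (W : Set (L ⧸ D')) :=
        zpowers_le.mpr (Coprime.mem_normalizer_of_conj_mem hWτ)
      exact fun w hw => (mem_normalizer_iff.mp (hsub hy) w).mp hw) hWd
    have hτr : τ * r * τ⁻¹ = r := mul_inv_eq_iff_eq_mul.mpr (hrfix τ (mem_zpowers τ)).eq
    set q := X * r * X⁻¹ with hq
    have hqV : q ∈ V := hVx r hr
    have hx2 : X * q * X⁻¹ = r * q := by
      have := eq_inv_of_mul_eq_one_right hr'
      rw [this]; exact inv_eq_of_mul_eq_one_right (hV2 _ (mul_mem hr hqV))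
    have hq1 : q ≠ 1 := fun h => hr1 (by rw [hq, conj_eq_one_iff] at h; exact h)
    have hτq : τ * q * τ⁻¹ = r * q := by
      calc τ * q * τ⁻¹ = (τ * X * τ⁻¹) * (τ * r * τ⁻¹) * (τ * X * τ⁻¹)⁻¹ := by rw [hq]; group
        _ = X⁻¹ * r * X := by rw [hτX, hτr, inv_inv]
        _ = X * (X * r * X⁻¹) * X⁻¹ := by
            conv_lhs => rw [← hX3 r hr]
            group
        _ = r * q := hx2
    have hwq : (X * τ * X⁻¹) * q * (X * τ * X⁻¹)⁻¹ = q := by
      rw [show (X * τ * X⁻¹) * q * (X * τ * X⁻¹)⁻¹ = X * (τ * r * τ⁻¹) * X⁻¹ by rw [hq]; group, hτr]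
    have hwr : (X * τ * X⁻¹) * r * (X * τ * X⁻¹)⁻¹ = q * r := by
      have e : X⁻¹ * r * X = r * q := by
        rw [← hx2]; conv_lhs => rw [← hX3 r hr]
        rw [hq]; group
      rw [show (X * τ * X⁻¹) * r * (X * τ * X⁻¹)⁻¹ = X * (τ * (X⁻¹ * r * X) * τ⁻¹) * X⁻¹ by group, e,
        show τ * (r * q) * τ⁻¹ = (τ * r * τ⁻¹) * (τ * q * τ⁻¹) by group, hτr, hτq, ← mul_assoc r r q, hV2 r hr, one_mul]
      rw [show X * q * X⁻¹ = r * q from hx2, hVc r hr q hqV]
    exact FusionZJ.involves_of_injective L.subtype L.subtype_injective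
      (FusionZJ.involves_of_surjective π (QuotientGroup.mk'_surjective D')
        (FusionZJ.involves_of_four_group (hVc r hr q hqV) (hV2 r hr) (hV2 q hqV) hr1 hq1 hτr hτq hwq hwr))

def dt : Fin 3 → Equiv.Perm (Fin 4) := ![Equiv.swap 0 1 * Equiv.swap 2 3, Equiv.swap 0 2 * Equiv.swap 1 3,
  Equiv.swap 0 3 * Equiv.swap 1 2]

def act (σ : Equiv.Perm (Fin 4)) (i : Fin 3) : Fin 3 :=
  if σ * dt i * σ⁻¹ = dt 0 then 0 else if σ * dt i * σ⁻¹ = dt 1 then 1 else 2

theorem act_spec : ∀ σ i, dt (act σ i) = σ * dt i * σ⁻¹ := by decide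

theorem dt_injective : Function.Injective dt := by decide

theorem act_mul (σ τ : Equiv.Perm (Fin 4)) (i : Fin 3) : act (σ * τ) i = act σ (act τ i) :=
  dt_injective (by rw [act_spec, act_spec, act_spec]; group)

theorem act_one (i : Fin 3) : act 1 i = i :=
  dt_injective (by rw [act_spec]; group)

def resolvent : Equiv.Perm (Fin 4) →* Equiv.Perm (Fin 3) :=
  MonoidHom.mk' (fun σ => ⟨act σ, act σ⁻¹, fun i => by rw [← act_mul, inv_mul_cancel, act_one],
    fun i => by rw [← act_mul, mul_inv_cancel, act_one]⟩) fun σ τ => Equiv.ext fun i => act_mul σ τ i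

theorem resolvent_surjective : Function.Surjective resolvent := by
  unfold Function.Surjective
  decide

theorem resolvent_spec (σ : Equiv.Perm (Fin 4)) :
    resolvent σ = 1 ↔ ∀ i, σ * dt i = dt i * σ := by
  rw [Equiv.ext_iff]
  refine forall_congr' fun i => ?_
  rw [← dt_injective.eq_iff, ← mul_inv_eq_iff_eq_mul]
  exact Eq.congr_left (act_spec σ i)

/-- For a finite group G, the symmetric group of degree 4 is involved in G if and only if there is a 2-subgroup T of G such that the symmetric group of degree 3 is involved in N(T)/C(T). -/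
theorem result {G : Type*} [Group G] [Finite G] : Cfsg.Involves (Equiv.Perm (Fin 4)) G ↔ ∃ T : Subgroup G, IsPGroup 2 ↥T ∧ Cfsg.Involves (Equiv.Perm (Fin 3)) (↥(Subgroup.normalizer (T : Set G)) ⧸ (Subgroup.centralizer (T : Set G)).subgroupOf (Subgroup.normalizer (T : Set G))) := by
  haveI := Fact.mk Nat.prime_two
  haveI := Fact.mk Nat.prime_three
  constructor
  · rintro ⟨K, R, hR, ⟨e⟩⟩
    haveI := hR
    let ψ : K →* Equiv.Perm (Fin 4) := e.toMonoidHom.comp (QuotientGroup.mk' (R.subgroupOf K))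
    have hψ : Function.Surjective ψ := e.surjective.comp (QuotientGroup.mk'_surjective _)
    let U : Subgroup (Equiv.Perm (Fin 4)) := resolvent.ker
    have hU : IsPGroup 2 U := fun u => ⟨1, Subtype.ext (by
      have : ∀ σ : Equiv.Perm (Fin 4), (∀ i, σ * dt i = dt i * σ) → σ ^ 2 ^ 1 = 1 := by decide
      exact this u ((resolvent_spec _).mp u.2))⟩
    let V := U.comap ψ
    obtain ⟨S⟩ := (inferInstance : Nonempty (Sylow 2 V))
    haveI : V.Normal := inferInstance
    have hfr := Sylow.normalizer_sup_eq_top S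
    set T₀ := (S : Subgroup V).map V.subtype with hT₀
    have hT₀ψ : ∀ u ∈ U, ∃ y ∈ T₀, ψ y = u := by
      intro u hu
      let ψ' : V →* U := (ψ.comp V.subtype).codRestrict U fun y => y.2
      have hψ' : Function.Surjective ψ' := fun w => by
        obtain ⟨y, hy⟩ := hψ w
        exact ⟨⟨y, show ψ y ∈ U from hy ▸ w.2⟩, Subtype.ext hy⟩
      have htop : ((S.mapSurjective hψ' : Sylow 2 U) : Subgroup U) = ⊤ :=
        ((S.mapSurjective hψ').is_maximal' (hU.of_equiv Subgroup.topEquiv.symm) le_top).symm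
      obtain ⟨y, hy, hyu⟩ := (show (⟨u, hu⟩ : U) ∈ ((S.mapSurjective hψ' : Sylow 2 U) : Subgroup U) from
        htop.symm ▸ mem_top _)
      exact ⟨y, ⟨y, hy, rfl⟩, congrArg Subtype.val hyu⟩
    set T := T₀.map K.subtype
    refine ⟨T, (S.isPGroup'.map _).map _, ?_⟩
    set N := normalizer (T : Set G)
    set C := (centralizer (T : Set G)).subgroupOf N
    let inc : normalizer (T₀ : Set K) →* N := (K.subtype.comp (normalizer (T₀ : Set K)).subtype).codRestrict N
      fun y => le_normalizer_map K.subtype ⟨_, y.2, rfl⟩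
    let θ := (QuotientGroup.mk' C).comp inc
    let g := resolvent.comp (ψ.comp (normalizer (T₀ : Set K)).subtype)
    have hker : θ.ker ≤ g.ker := by
      intro y hy
      have hy' : (inc y : G) ∈ centralizer (T : Set G) := (QuotientGroup.eq_one_iff (inc y)).mp hy
      show resolvent (ψ y) = 1
      rw [resolvent_spec]
      intro i
      obtain ⟨z, hz, hzu⟩ := hT₀ψ (dt i) ((resolvent_spec _).mpr (by revert i; decide))
      rw [← hzu, ← map_mul, ← map_mul]
      exact congrArg ψ (Subtype.ext (mem_centralizer_iff.mp hy' z ⟨z, hz, rfl⟩).symm)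
    refine involves_of_hom θ.range
      ((QuotientGroup.lift θ.ker g hker).comp (QuotientGroup.quotientKerEquivRange θ).symm.toMonoidHom) ?_
    rw [MonoidHom.coe_comp]
    refine Function.Surjective.comp ?_ (QuotientGroup.quotientKerEquivRange θ).symm.surjective
    intro w
    obtain ⟨σ, hσ⟩ := resolvent_surjective w
    obtain ⟨k, hk⟩ := hψ σ
    obtain ⟨n, hn, v, hv, hnv⟩ := mem_sup_of_normal_right.mp (hfr ▸ mem_top k)
    refine ⟨QuotientGroup.mk' θ.ker ⟨n, hn⟩, ?_⟩
    rw [QuotientGroup.mk'_apply, QuotientGroup.lift_mk]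
    show resolvent (ψ n) = w
    rw [← hσ, ← hk, ← hnv, map_mul, map_mul, show resolvent (ψ v) = 1 from hv, mul_one]
  · rintro ⟨T, hT, K, R, hR, ⟨e⟩⟩
    haveI := hR
    set N := normalizer (T : Set G)
    set C := (centralizer (T : Set G)).subgroupOf N
    let H := K.comap (QuotientGroup.mk' C)
    let φ : H →* Equiv.Perm (Fin 3) :=
      e.toMonoidHom.comp ((QuotientGroup.mk' (R.subgroupOf K)).comp ((QuotientGroup.mk' C).subgroupComap K))
    have hφ : Function.Surjective φ := e.surjective.comp ((QuotientGroup.mk'_surjective _).comp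
      (fun y => by
        obtain ⟨z, hz⟩ := QuotientGroup.mk'_surjective C y
        exact ⟨⟨z, show QuotientGroup.mk' C z ∈ K from hz ▸ y.2⟩, Subtype.ext hz⟩))
    have hC : ∀ h : H, ((h : N) : G) ∈ centralizer (T : Set G) → φ h = 1 := fun h hh => by
      show e (QuotientGroup.mk' _ ((QuotientGroup.mk' C).subgroupComap K h)) = 1
      rw [show (QuotientGroup.mk' C).subgroupComap K h = 1 from
        Subtype.ext ((QuotientGroup.eq_one_iff (h : N)).mpr hh), map_one, map_one]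
    let A := (Equiv.Perm.sign.comp φ).ker
    obtain ⟨P⟩ := (inferInstance : Nonempty (Sylow 3 A))
    have hfr := Sylow.normalizer_sup_eq_top P
    set P₀ := (P : Subgroup A).map A.subtype
    obtain ⟨h0, hh0⟩ := hφ (Equiv.swap 0 1)
    obtain ⟨n, hn, a, ha, hna⟩ := mem_sup_of_normal_right.mp (hfr ▸ mem_top h0)
    have hsn : Equiv.Perm.sign (φ n) = -1 := by
      have h := congrArg Equiv.Perm.sign hh0
      rw [← hna, map_mul, map_mul, show Equiv.Perm.sign (φ a) = 1 from ha, mul_one] at h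
      rw [h]; decide
    obtain ⟨i, m, hm, hno⟩ := Nat.exists_eq_pow_mul_and_not_dvd (orderOf_pos n).ne' 2 (by norm_num)
    set t := n ^ m with ht
    have hst : Equiv.Perm.sign (φ t) = -1 := by
      rw [ht, map_pow, map_pow, hsn]
      exact (Nat.not_even_iff_odd.mp (fun h => hm (even_iff_two_dvd.mp h))).neg_one_pow
    have ht2 : IsPGroup 2 (zpowers t) := by
      obtain ⟨j, -, hj⟩ := (Nat.dvd_prime_pow Nat.prime_two).mp (orderOf_dvd_of_pow_eq_one
        (show t ^ 2 ^ i = 1 by rw [ht, ← pow_mul, mul_comm, ← hno, pow_orderOf_eq_one]))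
      exact IsPGroup.of_card (n := j) (by rw [Nat.card_zpowers, hj])
    have htP : t ∈ normalizer (P₀ : Set H) := pow_mem hn m
    have hP₀ : IsPGroup 3 P₀ := P.isPGroup'.map _
    haveI : Group.IsSolvable (zpowers (t ^ 2)) := Group.isSolvable_of_comm fun a b => mul_comm' a b
    have hnP : zpowers (t ^ 2) ≤ normalizer (P₀ : Set H) := zpowers_le.mpr (pow_mem htP 2)
    have hcop : (Nat.card (zpowers (t ^ 2))).Coprime (Nat.card P₀) :=
      IsPGroup.coprime_card_of_ne 2 3 (by norm_num) _ _ (ht2.to_le (zpowers_le.mpr (pow_mem (mem_zpowers t) 2))) hP₀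
    have hsplit := Coprime.eq_commutator_sup_centralizer hnP hcop
    have ht2φ : φ (t ^ 2) = 1 := by
      have : ∀ σ : Equiv.Perm (Fin 3), Equiv.Perm.sign σ = -1 → σ ^ 2 = 1 := by decide
      rw [map_pow]; exact this _ hst
    obtain ⟨y, hy, hyφ⟩ : ∃ y ∈ P₀ ⊓ centralizer (zpowers (t ^ 2) : Set H), φ y ≠ 1 := by
      by_contra hcon
      push Not at hcon
      have hall : P₀ ≤ φ.ker := by
        rw [hsplit]
        refine sup_le ?_ fun z hz => hcon z hz
        rw [Subgroup.commutator_le]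
        intro u _ v hv
        obtain ⟨j, rfl⟩ := mem_zpowers_iff.mp hv
        rw [MonoidHom.mem_ker, map_commutatorElement, map_zpow, ht2φ, one_zpow, commutatorElement_one_right]
      obtain ⟨c, hc⟩ := hφ (Equiv.swap 0 1 * Equiv.swap 1 2)
      have hcA : c ∈ A := by show Equiv.Perm.sign (φ c) = 1; rw [hc]; decide
      have hidx : ∀ z : A, (z : H) ∈ P₀ → φ z = 1 := fun z hz => hall hz
      let φA : A →* Equiv.Perm (Fin 3) := φ.comp A.subtype
      have hle : (P : Subgroup A) ≤ φA.ker := fun z hz => hidx z ⟨z, hz, rfl⟩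
      have h3 : orderOf (φA ⟨c, hcA⟩) = 3 := by
        show orderOf (φ c) = 3
        rw [hc]
        exact orderOf_eq_prime (by decide) (by decide)
      have hd : 3 ∣ φA.ker.index := by
        rw [Subgroup.index_ker]
        exact h3.symm.dvd.trans (Subgroup.orderOf_dvd_natCard φA.range ⟨_, rfl⟩)
      exact P.not_dvd_index (hd.trans (index_dvd_of_le hle))
    obtain ⟨hyP, hyC⟩ := hy
    set x := y⁻¹ * (t * y * t⁻¹) with hx
    have hxP : x ∈ P₀ := mul_mem (inv_mem hyP) ((mem_normalizer_iff.mp htP y).mp hyP)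
    have hyt : t ^ 2 * y = y * t ^ 2 := mem_centralizer_iff.mp hyC _ (mem_zpowers _)
    have htx : t * x * t⁻¹ = x⁻¹ := by
      rw [hx, show t * (y⁻¹ * (t * y * t⁻¹)) * t⁻¹ = (t * y⁻¹ * t⁻¹) * (t ^ 2 * y * (t ^ 2)⁻¹) by group,
        hyt, mul_inv_cancel_right]
      group
    have hxφ : φ x ≠ 1 := by
      have key : ∀ σ τ : Equiv.Perm (Fin 3), σ ≠ 1 → Equiv.Perm.sign σ = 1 → Equiv.Perm.sign τ = -1 →
          σ⁻¹ * (τ * σ * τ⁻¹) ≠ 1 := by decide
      rw [hx, map_mul, map_inv, map_mul, map_mul, map_inv]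
      obtain ⟨y', -, hy'⟩ := hyP
      exact key _ _ hyφ (hy' ▸ y'.2) hst
    let x' : G := ((x : H) : N)
    let t' : G := ((t : H) : N)
    have hxC : x' ∉ centralizer (T : Set G) := fun h => hxφ (hC x h)
    obtain ⟨k, hk⟩ := hP₀ ⟨x, hxP⟩
    have hk' : x' ^ 3 ^ k = 1 := congrArg (fun z : H => ((z : N) : G)) (congrArg Subtype.val hk)
    have hex : ∃ j, x' ^ 3 ^ j ∈ centralizer (T : Set G) := ⟨k, hk' ▸ one_mem _⟩
    obtain ⟨j, hjC, hjs⟩ : ∃ j, x' ^ 3 ^ j ∉ centralizer (T : Set G) ∧ x' ^ 3 ^ (j + 1) ∈ centralizer (T : Set G) := by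
      classical
      rcases Nat.eq_zero_or_pos (Nat.find hex) with h0 | h0
      · exact absurd (by simpa [h0] using Nat.find_spec hex) hxC
      · exact ⟨Nat.find hex - 1, Nat.find_min hex (by omega), by
          rw [Nat.sub_add_cancel h0]; exact Nat.find_spec hex⟩
    refine involves_of_inverted (Nat.card T) T le_rfl hT (x' ^ 3 ^ j) t' (pow_mem (x : N).2 _) (t : N).2
      (by rw [← pow_mul, ← pow_succ]; exact hjs) hjC ?_ ?_ ?_
    · refine IsPGroup.to_le ?_ (zpowers_le.mpr (pow_mem (mem_zpowers x') _))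
      obtain ⟨i, -, hi⟩ := (Nat.dvd_prime_pow Nat.prime_three).mp (orderOf_dvd_of_pow_eq_one hk')
      exact IsPGroup.of_card (n := i) (by rw [Nat.card_zpowers, hi])
    · have := ht2.map (N.subtype.comp H.subtype)
      rwa [MonoidHom.map_zpowers] at this
    · rw [← conj_pow, show t' * x' * t'⁻¹ = x'⁻¹ from congrArg (fun z : H => ((z : N) : G)) htx, inv_pow]

end Cfsg.Agent.S2759
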