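import Cfsg.Statements.S2761
import Cfsg.Agent.FusionZJ.QdFrame

set_option autoImplicit false
open Cfsg

namespace Cfsg.Agent.S2761

open Matrix

/-- The four points. -/
def pt : Fin 4 → Fin 3 → ZMod 2 := ![![0, 0, 1], ![1, 0, 1], ![0, 1, 1], ![1, 1, 1]]

theorem pt_inj : Function.Injective pt := by unfold pt; decide

/-- The affine map of a permutation. -/
def aff (σ : Equiv.Perm (Fin 4)) : Matrix (Fin 3) (Fin 3) (ZMod 2) :=
  Matrix.of ![![pt (σ 1) 0 - pt (σ 0) 0, pt (σ 2) 0 - pt (σ 0) 0, pt (σ 0) 0],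
    ![pt (σ 1) 1 - pt (σ 0) 1, pt (σ 2) 1 - pt (σ 0) 1, pt (σ 0) 1], ![0, 0, 1]]

theorem aff_spec : ∀ σ : Equiv.Perm (Fin 4),
    (aff σ).det = 1 ∧ ∀ i, (aff σ).mulVec (pt i) = pt (σ i) := by
  simp only [Matrix.det_fin_three]
  decide +kernel

theorem aff_ext {A B : Matrix (Fin 3) (Fin 3) (ZMod 2)} (h : ∀ i, A.mulVec (pt i) = B.mulVec (pt i)) :
    A = B := by
  ext r j
  have h0 := congrFun (h 0) r
  have h1 := congrFun (h 1) r
  have h2 := congrFun (h 2) r
  simp [pt, mulVec, dotProduct, Fin.sum_univ_three] at h0 h1 h2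
  fin_cases j
  · simpa [h0] using h1
  · simpa [h0] using h2
  · simpa using h0

/-- The permutation to the group. -/
def toQd : Equiv.Perm (Fin 4) →* ↥(Cfsg.qd 2) where
  toFun σ := ⟨⟨aff σ, (aff_spec σ).1⟩, Subgroup.subset_closure ⟨rfl, rfl, rfl⟩⟩
  map_one' := Subtype.ext (Subtype.ext (aff_ext fun i => by
    rw [(aff_spec 1).2 i]
    simp))
  map_mul' σ τ := Subtype.ext (Subtype.ext (aff_ext fun i => by
    rw [FusionZJ.qd_coe_mul, ← mulVec_mulVec]
    show (aff (σ * τ)).mulVec (pt i) = (aff σ).mulVec ((aff τ).mulVec (pt i))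
    rw [(aff_spec _).2, (aff_spec _).2, (aff_spec _).2]
    rfl))

theorem toQd_injective : Function.Injective toQd := fun σ τ h => Equiv.ext fun i => pt_inj (by
  rw [← (aff_spec σ).2, ← (aff_spec τ).2]
  exact congrArg (fun g : ↥(Cfsg.qd 2) => (g.1 : Matrix (Fin 3) (Fin 3) (ZMod 2)).mulVec (pt i)) h)

theorem toQd_surjective : Function.Surjective toQd := by
  intro g
  have hr := S3835.qd_row g.2
  have hp : ∀ i, ∃ j, (g.1 : Matrix (Fin 3) (Fin 3) (ZMod 2)).mulVec (pt i) = pt j := by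
    intro i
    have hz : ∀ v : Fin 3 → ZMod 2, v 2 = 1 → ∃ j, v = pt j := by
      unfold pt; decide
    refine hz _ ?_
    fin_cases i <;> simp [pt, mulVec, dotProduct, Fin.sum_univ_three, hr]
  choose f hf using hp
  have hinj : Function.Injective f := by
    intro a b h
    apply pt_inj
    have h1 : (g⁻¹.1 : Matrix (Fin 3) (Fin 3) (ZMod 2)).mulVec ((g.1 : Matrix (Fin 3) (Fin 3) (ZMod 2)).mulVec (pt a)) =
        (g⁻¹.1 : Matrix (Fin 3) (Fin 3) (ZMod 2)).mulVec ((g.1 : Matrix (Fin 3) (Fin 3) (ZMod 2)).mulVec (pt b)) := by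
      rw [hf a, hf b, h]
    rw [mulVec_mulVec, mulVec_mulVec, ← FusionZJ.qd_coe_mul, inv_mul_cancel] at h1
    simpa using h1
  refine ⟨Equiv.ofBijective f ⟨hinj, Finite.injective_iff_surjective.mp hinj⟩,
    Subtype.ext (Subtype.ext (aff_ext fun i => ?_))⟩
  rw [hf]
  exact (aff_spec _).2 i

/-- The group Qd(2), the natural semidirect product of an elementary abelian group of order 4 by SL₂(2) (realised as the affine subgroup of SL₃(2)), is isomorphic to the symmetric group of degree 4. -/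
theorem result : Nonempty (↥(Cfsg.qd 2) ≃* Equiv.Perm (Fin 4)) := by
  exact ⟨(MulEquiv.ofBijective toQd ⟨toQd_injective, toQd_surjective⟩).symm⟩

end Cfsg.Agent.S2761
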