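import Cfsg.Statements.S2763
import Cfsg.Agent.FusionZJ.QdSylow

set_option autoImplicit false
open Cfsg

namespace Cfsg.Agent.S2763

open Cfsg.Agent.FusionZJ Subgroup in
theorem aux {p : ℕ} [Fact p.Prime] (U : Subgroup ↥(Cfsg.qd p)) (hU : U = qdP p) (C : Subgroup ↥U)
    (hC1 : C ≠ ⊥) (hC : C.Characteristic) :
    normalizer ((C.map U.subtype : Subgroup ↥(Cfsg.qd p)) : Set ↥(Cfsg.qd p)) =
      normalizer (U : Set ↥(Cfsg.qd p)) ∧ normalizer (U : Set ↥(Cfsg.qd p)) ≠ ⊤ := by
  subst hU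
  haveI := hC
  refine ⟨le_antisymm ?_ ?_, fun h => ?_⟩
  · rw [normalizer_qdP]
    refine normalizer_le_qdB (Subgroup.map_subtype_le C)
      (fun hb => hC1 ((Subgroup.map_eq_bot_iff_of_injective _ (qdP p).subtype_injective).mp hb))
      (char_ne_qdV hC) fun u hu => mem_normalizer_fintype ?_
    rintro _ ⟨z, hz, rfl⟩
    exact Subgroup.mem_map.mpr ⟨_, (Subgroup.normal_of_characteristic C).conj_mem z hz ⟨u, hu⟩, by simp⟩
  · intro x hx
    refine mem_normalizer_fintype ?_
    rintro _ ⟨z, hz, rfl⟩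
    have hm : ∀ y ∈ qdP p, x * y * x⁻¹ ∈ qdP p := fun y hy => (mem_normalizer_iff.mp hx y).mp hy
    let φ : qdP p ≃* qdP p :=
      ((qdP p).equivMapOfInjective (MulAut.conj x).toMonoidHom (MulAut.conj x).injective).trans
        (MulEquiv.subgroupCongr (mem_normalizer_iff_map_conj_eq.mp hx))
    exact ⟨φ z, (Subgroup.characteristic_iff_le_comap.mp hC φ) hz, rfl⟩
  · rw [normalizer_qdP] at h
    obtain ⟨g, hg⟩ := exists_conj_first (0 : ZMod p) 1 (Or.inr one_ne_zero)
    have hg' : g ∈ qdB p := h ▸ Subgroup.mem_top g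
    rw [mul_inv_eq_iff_eq_mul] at hg
    have h2 := congrArg (fun z : ↥(Cfsg.qd p) => (z.1 : Matrix (Fin 3) (Fin 3) (ZMod p)) 1 2) hg
    simp only [qd_coe_mul] at h2
    have hg0 : (g.1 : Matrix (Fin 3) (Fin 3) (ZMod p)) 1 0 = 0 := hg'
    simp [qdTr, Matrix.mul_apply, Fin.sum_univ_three, S3835.qd_row g.2, hg0] at h2

/-- In the group Qd(p) (p prime; the natural semidirect product of an elementary abelian group of order p² by SL₂(p)), the normalizer of every nontrivial characteristic subgroup of a Sylow p-subgroup S equals the normalizer of S, which is a proper subgroup; in particular no such characteristic subgroup is normal. -/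
theorem result {p : ℕ} [Fact p.Prime] (S : Sylow p ↥(Cfsg.qd p)) (T : Subgroup ↥(S : Subgroup ↥(Cfsg.qd p))) (hT : T ≠ ⊥) (hTc : T.Characteristic) : Subgroup.normalizer ((T.map (S : Subgroup ↥(Cfsg.qd p)).subtype : Subgroup ↥(Cfsg.qd p)) : Set ↥(Cfsg.qd p)) = Subgroup.normalizer ((S : Subgroup ↥(Cfsg.qd p)) : Set ↥(Cfsg.qd p)) ∧ Subgroup.normalizer ((S : Subgroup ↥(Cfsg.qd p)) : Set ↥(Cfsg.qd p)) ≠ ⊤ := by
  obtain ⟨S₀, hS₀⟩ := Cfsg.Agent.FusionZJ.coe_sylow_qdP (p := p)
  obtain ⟨g, hg⟩ := MulAction.exists_smul_eq (↥(Cfsg.qd p)) S S₀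
  have hmap : (S : Subgroup ↥(Cfsg.qd p)).map (MulAut.conj g).toMonoidHom = Cfsg.Agent.FusionZJ.qdP p := by
    rw [← hS₀, ← hg]; rfl
  let ε := (S : Subgroup ↥(Cfsg.qd p)).equivMapOfInjective (MulAut.conj g).toMonoidHom (MulAut.conj g).injective
  have hchar : (T.map ε.toMonoidHom).Characteristic := by
    refine Subgroup.characteristic_iff_map_eq.mpr fun φ => ?_
    have h1 := Subgroup.characteristic_iff_map_eq.mp hTc ((ε.trans φ).trans ε.symm)
    conv_rhs => rw [← h1, Subgroup.map_map]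
    rw [Subgroup.map_map]
    congr 1
    exact MonoidHom.ext fun x => (ε.apply_symm_apply _).symm
  obtain ⟨h1, h2⟩ := aux _ hmap (T.map ε.toMonoidHom)
    (fun hb => hT ((Subgroup.map_eq_bot_iff_of_injective _ ε.injective).mp hb)) hchar
  have e1 : (T.map ε.toMonoidHom).map ((S : Subgroup ↥(Cfsg.qd p)).map (MulAut.conj g).toMonoidHom).subtype =
      (T.map (S : Subgroup ↥(Cfsg.qd p)).subtype).map (MulAut.conj g).toMonoidHom := by
    rw [Subgroup.map_map, Subgroup.map_map]; rfl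
  rw [e1, ← Subgroup.map_equiv_normalizer_eq, ← Subgroup.map_equiv_normalizer_eq] at h1
  refine ⟨Subgroup.map_injective (MulAut.conj g).injective h1, fun h => h2 ?_⟩
  rw [← Subgroup.map_equiv_normalizer_eq, h]
  exact Subgroup.map_top_of_surjective _ (MulAut.conj g).surjective

end Cfsg.Agent.S2763
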