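import Cfsg.Statements.S2799
import Cfsg.Agent.LocalEven.GroupFusionApps

set_option autoImplicit false
open Cfsg

namespace Cfsg.Agent.S2799

/-- Let S be a Sylow p-subgroup of the finite group G, J(S) the subgroup generated by the abelian subgroups of S of largest order, and x an element of S lying in the centre of N_G(J(S)). Assume that p is odd, or that x is a p-th power of an element of Z(S), or that the symmetric group of degree 4 is not involved in G. Then x is weakly closed in S with respect to G: every G-conjugate of x that lies in S equals x. -/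
theorem result {G : Type*} [Group G] [Finite G] {p : ℕ} [Fact p.Prime] (S : Sylow p G) (x : G) (hxS : x ∈ (S : Subgroup G)) (hxZ : x ∈ (Subgroup.center ↥(Subgroup.normalizer ((Cfsg.thompsonSubgroupAOf (S : Subgroup G)) : Set G))).map (Subgroup.normalizer ((Cfsg.thompsonSubgroupAOf (S : Subgroup G)) : Set G)).subtype) (h : p ≠ 2 ∨ (∃ z ∈ (S : Subgroup G) ⊓ Subgroup.centralizer ((S : Subgroup G) : Set G), z ^ p = x) ∨ ¬ Cfsg.Involves (Equiv.Perm (Fin 4)) G) : ∀ g : G, g * x * g⁻¹ ∈ (S : Subgroup G) → g * x * g⁻¹ = x := by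
  classical
  have hS : IsPGroup p (S : Subgroup G) := S.isPGroup'
  set F := Cfsg.groupFusionSystem (S : Subgroup G) with hF
  set W := Cfsg.thompsonSubgroupAOf (S : Subgroup G) with hW
  have hsat : F.IsSaturated p := Cfsg.Agent.Fusion.groupFusion_saturated S
  have hWS : W ≤ (S : Subgroup G) := Subgroup.map_subtype_le _
  have hSW : (S : Subgroup G) ≤ Subgroup.normalizer (W : Set G) :=
    Cfsg.Agent.LocalEven.le_normalizer_thompson (p := p) (S : Subgroup G) hS
  obtain ⟨E, hE⟩ := Cfsg.Agent.Fusion.exists_normalizerSystem F W hWS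
  have hxN : ∀ g ∈ Subgroup.normalizer (W : Set G), g * x * g⁻¹ = x := by
    obtain ⟨z, hz, rfl⟩ := hxZ
    intro g hg
    have := congrArg (fun y : ↥(Subgroup.normalizer (W : Set G)) => (y : G))
      (Subgroup.mem_center_iff.mp hz ⟨g, hg⟩)
    simp only [Subgroup.coe_mul] at this
    rw [mul_inv_eq_iff_eq_mul]
    exact this
  have hxE : x ∈ E.center :=
    Cfsg.Agent.LocalEven.mem_center_normalizerSystem (S : Subgroup G) hSW hWS hE hxS hxN
  obtain ⟨h1, h2⟩ := Cfsg.Agent.S5193.result p hS F hsat E hE
  refine fun g hg => Cfsg.Agent.LocalEven.eq_of_mem_center S ?_ hg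
  rcases h with h | ⟨z, hz, rfl⟩ | h
  · exact (h2 (Or.inl h)).le hxE
  · exact h1 ⟨Subgroup.subset_closure ⟨z, hz, rfl⟩, hxE⟩
  · exact (h2 (Or.inr (Cfsg.Agent.LocalEven.sectionFree_of_not_involves S h))).le hxE


end Cfsg.Agent.S2799
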