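import Cfsg.Statements.S2800
import Cfsg.Agent.LocalEven.GroupFusionApps

set_option autoImplicit false
open Cfsg

namespace Cfsg.Agent.S2800

/-- Let S be a Sylow p-subgroup of the finite group G and J(S) the subgroup generated by the abelian subgroups of S of largest order. Suppose p is odd, or the symmetric group of degree 4 is not involved in G. If both C_G(Z(S)) and N_G(J(S)) have normal p-complements, then G has a normal p-complement. -/
theorem result {G : Type*} [Group G] [Finite G] {p : ℕ} [Fact p.Prime] (S : Sylow p G) (h : p ≠ 2 ∨ ¬ Cfsg.Involves (Equiv.Perm (Fin 4)) G) (hC : Cfsg.HasNormalPComplement p ↥(Subgroup.centralizer (((S : Subgroup G) ⊓ Subgroup.centralizer ((S : Subgroup G) : Set G) : Subgroup G) : Set G))) (hN : Cfsg.HasNormalPComplement p ↥(Subgroup.normalizer ((Cfsg.thompsonSubgroupAOf (S : Subgroup G)) : Set G))) : Cfsg.HasNormalPComplement p G := by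
  classical
  have hS : IsPGroup p (S : Subgroup G) := S.isPGroup'
  have hI := Cfsg.Agent.Fusion.groupFusion_inducedBy (S : Subgroup G)
  refine Cfsg.Agent.LocalEven.hasNormalPComplement_of_inner S ?_
  have key : ∀ (T M : Subgroup G), T ≤ (S : Subgroup G) → (S : Subgroup G) ≤ T → (S : Subgroup G) ≤ M →
      Cfsg.HasNormalPComplement p ↥M → ∀ P ≤ T, ∀ g ∈ M, (∀ x ∈ P, g * x * g⁻¹ ∈ T) →
      ∃ t ∈ T, ∀ x ∈ P, g * x * g⁻¹ = t * x * t⁻¹ := by
    intro T M hT1 hT2 hSM hM P hP g hg hgP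
    obtain rfl : T = (S : Subgroup G) := le_antisymm hT1 hT2
    exact Cfsg.Agent.LocalEven.exists_inner_of_complement hS hSM (fun hd => S.not_dvd_index
      (hd.trans (Dvd.intro _ (Subgroup.relIndex_mul_index hSM)))) hM hP hg hgP
  refine Cfsg.Agent.S5194.result p hS (Cfsg.groupFusionSystem (S : Subgroup G))
    (Cfsg.Agent.Fusion.groupFusion_saturated S)
    (h.imp id (Cfsg.Agent.LocalEven.sectionFree_of_not_involves S)) ?_ ?_
  · intro E hE P
    have hSC : (S : Subgroup G) ≤ Subgroup.centralizer (((S : Subgroup G) ⊓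
        Subgroup.centralizer ((S : Subgroup G) : Set G) : Subgroup G) : Set G) :=
      fun s hs z hz => (hz.2 s hs).symm
    ext φ
    refine ⟨fun hφ => ?_, fun hφ => ?_⟩
    · rw [hE P] at hφ
      obtain ⟨-, hP, hv, hext⟩ := hφ
      obtain ⟨g, hg, ge, gf⟩ := Cfsg.Agent.Fusion.fixExt_iff.mp hext
      obtain ⟨-, -, y, -, hy⟩ := (hI _ _).mp hg
      have hφy : ∀ x : P, φ x = y * (x : G) * y⁻¹ := fun x => by
        rw [← ge, hy _ (Subgroup.mem_sup_left x.2)]; rfl
      obtain ⟨t, ht, hte⟩ := key _ _ Cfsg.Agent.Fusion.centralizerIn_le (le_inf le_rfl hSC) hSC hC P hP y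
        (fun z hz => by
          have h1 := gf z hz
          rw [hy z (Subgroup.mem_sup_right hz)] at h1
          exact (mul_inv_eq_iff_eq_mul.mp h1).symm)
        (fun x hx => hφy ⟨x, hx⟩ ▸ hv ⟨x, hx⟩)
      exact ⟨hP, t, ht, fun x => (hφy x).trans (hte x x.2)⟩
    · obtain ⟨hP, t, ht, hte⟩ := hφ
      exact Cfsg.Agent.Fusion.mem_of_mor (Cfsg.Agent.Fusion.Mor.conj (F := E) hP ht) hte
  · intro E hE P
    have hSN : (S : Subgroup G) ≤
        Subgroup.normalizer (Cfsg.thompsonSubgroupAOf (S : Subgroup G) : Set G) :=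
      Cfsg.Agent.LocalEven.le_normalizer_thompson (p := p) (S : Subgroup G) hS
    ext φ
    refine ⟨fun hφ => ?_, fun hφ => ?_⟩
    · rw [hE P] at hφ
      obtain ⟨-, hP, hv, hext⟩ := hφ
      obtain ⟨g, hg, ge, gm⟩ := Cfsg.Agent.Fusion.stabExt_iff.mp hext
      obtain ⟨-, -, y, -, hy⟩ := (hI _ _).mp hg
      have hφy : ∀ x : P, φ x = y * (x : G) * y⁻¹ := fun x => by
        rw [← ge, hy _ (Subgroup.mem_sup_left x.2)]; rfl
      obtain ⟨t, ht, hte⟩ := key _ _ Cfsg.Agent.Fusion.normalizerIn_le (le_inf le_rfl hSN) hSN hN P hP y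
        (Subgroup.mem_normalizer_fintype fun q hq => by
          show Cfsg.Agent.Fusion.cj y q ∈ _
          rw [← hy q (Subgroup.mem_sup_right hq)]
          exact gm.le ⟨q, hq, rfl⟩)
        (fun x hx => hφy ⟨x, hx⟩ ▸ hv ⟨x, hx⟩)
      exact ⟨hP, t, ht, fun x => (hφy x).trans (hte x x.2)⟩
    · obtain ⟨hP, t, ht, hte⟩ := hφ
      exact Cfsg.Agent.Fusion.mem_of_mor (Cfsg.Agent.Fusion.Mor.conj (F := E) hP ht) hte


end Cfsg.Agent.S2800
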