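import Cfsg.Statements.S2809
import Cfsg.Agent.LocalEven.Commutator


set_option autoImplicit false
open Cfsg

namespace Cfsg.Agent.S2809

/-- Let H be a finite group, p a prime, R a p-subgroup of H with C_H(R) ≤ R, and L a subgroup of N_H(R) acting nilpotently on R (some iterated commutator [R, L, …, L] is trivial). Then L is a p-group. -/
theorem result {H : Type*} [Group H] [Finite H] {p : ℕ} [Fact p.Prime] (R : Subgroup H) (hR : IsPGroup p ↥R) (hC : Subgroup.centralizer (R : Set H) ≤ R) (L : Subgroup H) (hL : L ≤ Subgroup.normalizer (R : Set H)) (hnil : ∃ n : ℕ, Cfsg.iterCommutator R L n = ⊥) : IsPGroup p ↥L := by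
  obtain ⟨n, hn⟩ := hnil
  refine LocalEven.isPGroup_of_coprime fun g hg hcop => ?_
  have hC : g ∈ Subgroup.centralizer (R : Set H) := LocalEven.coprime_stab hR (hL hg) hcop
    (le_bot_iff.mp ((LocalEven.iterCommutator_mono le_rfl (Subgroup.zpowers_le.mpr hg) n).trans hn.le))
  obtain ⟨k, hk⟩ := IsPGroup.iff_orderOf.mp hR ⟨g, by exact (‹Subgroup.centralizer (R : Set H) ≤ R›) hC⟩
  rw [Subgroup.orderOf_mk] at hk
  have h1 : orderOf g = 1 := Nat.eq_one_of_dvd_coprimes (hcop.pow_right k) dvd_rfl hk.dvd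
  exact orderOf_eq_one_iff.mp h1

end Cfsg.Agent.S2809
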