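import Cfsg.Statements.S2810
import Cfsg.Agent.LocalEven.Commutator


set_option autoImplicit false
open Cfsg
open scoped commutatorElement

namespace Cfsg.Agent.S2810

/-- Let H be a finite group of characteristic p and L a subgroup of H centralizing every factor of some H-invariant chain 1 = A₀ ≤ A₁ ≤ … ≤ Aₙ = O_p(H) of normal subgroups (that is, [A_{i+1}, L] ≤ Aᵢ for each i). Then L ≤ O_p(H). -/
theorem result {H : Type*} [Group H] [Finite H] {p : ℕ} [Fact p.Prime] (hchar : Subgroup.centralizer (Cfsg.pCore p H : Set H) ≤ Cfsg.pCore p H) (L : Subgroup H) (n : ℕ) (A : Fin (n + 1) → Subgroup H) (h0 : A 0 = ⊥) (hn : A (Fin.last n) = Cfsg.pCore p H) (hmono : Monotone A) (hnorm : ∀ i, (A i).Normal) (hcent : ∀ i : Fin n, ⁅A i.succ, L⁆ ≤ A i.castSucc) : L ≤ Cfsg.pCore p H := by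
  set V := Cfsg.pCore p H
  have hV : IsPGroup p V := Core.isPGroup_pCore p H
  let K : Fin n → Subgroup H := fun i =>
    haveI := hnorm i.castSucc
    (Subgroup.centralizer ((A i.succ).map (QuotientGroup.mk' (A i.castSucc)) : Set (H ⧸ A i.castSucc))).comap
      (QuotientGroup.mk' (A i.castSucc))
  have hK : ∀ (i : Fin n) (B : Subgroup H), ⁅A i.succ, B⁆ ≤ A i.castSucc ↔ B ≤ K i := by
    intro i B
    haveI := hnorm i.castSucc
    simp only [K]
    rw [← Subgroup.map_le_iff_le_comap, ← Subgroup.commutator_eq_bot_iff_le_centralizer,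
      Subgroup.commutator_comm, ← Subgroup.map_commutator, Subgroup.map_eq_bot_iff,
      QuotientGroup.ker_mk']
  have hKn : ∀ i, (K i).Normal := by
    intro i
    haveI := hnorm i.castSucc
    haveI := (hnorm i.succ).map (QuotientGroup.mk' (A i.castSucc))
      (QuotientGroup.mk'_surjective _)
    simp only [K]
    infer_instance
  set N := ⨅ i, K i
  have hLN : L ≤ N := le_iInf fun i => (hK i L).mp (hcent i)
  haveI hNn : N.Normal := Subgroup.normal_iInf_normal hKn
  refine hLN.trans (Core.le_pCore hNn (LocalEven.isPGroup_of_coprime fun g hg hcop => ?_))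
  have hiter : ∀ (j : ℕ) (hj : j ≤ n),
      Cfsg.iterCommutator V (Subgroup.zpowers g) j ≤ A ⟨n - j, by omega⟩ := by
    intro j
    induction j with
    | zero => intro _; exact (show A (Fin.last n) = V from hn).ge.trans (le_of_eq rfl)
    | succ j ih =>
      intro hj
      let i : Fin n := ⟨n - (j + 1), by omega⟩
      have h1 : (⟨n - j, by omega⟩ : Fin (n + 1)) = i.succ := Fin.ext (by simp [i]; omega)
      have h2 : (⟨n - (j + 1), by omega⟩ : Fin (n + 1)) = i.castSucc := Fin.ext (by simp [i])
      rw [h2]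
      have := ih (by omega)
      rw [h1] at this
      exact (Subgroup.commutator_mono this (Subgroup.zpowers_le.mpr (iInf_le K i hg))).trans
        ((hK i (K i)).mpr le_rfl)
  have hbot : Cfsg.iterCommutator V (Subgroup.zpowers g) n = ⊥ := by
    have := hiter n le_rfl
    rw [show (⟨n - n, by omega⟩ : Fin (n + 1)) = 0 from Fin.ext (by simp), h0] at this
    exact le_bot_iff.mp this
  have hC : g ∈ Subgroup.centralizer (V : Set H) := LocalEven.coprime_stab hV
    (by rw [Subgroup.normalizer_eq_top_iff.mpr (Cfsg.pCore_normal p H)]; exact Subgroup.mem_top g)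
    hcop hbot
  obtain ⟨k, hk⟩ := IsPGroup.iff_orderOf.mp hV ⟨g, hchar hC⟩
  rw [Subgroup.orderOf_mk] at hk
  exact orderOf_eq_one_iff.mp (Nat.eq_one_of_dvd_coprimes (hcop.pow_right k) dvd_rfl hk.dvd)

end Cfsg.Agent.S2810
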