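import Cfsg.Statements.S2813
import Cfsg.Agent.LocalEven.CharP


set_option autoImplicit false
open Cfsg
open scoped commutatorElement

namespace Cfsg.Agent.S2813

/-- Let K be a subgroup of the finite group H with O_p(K) = 1 and Y a p-subgroup of N_H(K) with [K, Y, Y] = 1. Then [K, Y] = 1. -/
theorem result {H : Type*} [Group H] [Finite H] {p : ℕ} [Fact p.Prime] (K : Subgroup H) (hO : Cfsg.pCore p ↥K = ⊥) (Y : Subgroup H) (hY : IsPGroup p ↥Y) (hYK : Y ≤ Subgroup.normalizer (K : Set H)) (hq : ⁅⁅K, Y⁆, Y⁆ = ⊥) : ⁅K, Y⁆ = ⊥ := by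
  set D := ⁅K, Y⁆
  have hDK : D ≤ K := Subgroup.le_normalizer_iff_commutator_le_left.mp hYK
  have hKD : K ≤ Subgroup.normalizer (D : Set H) := Subgroup.normalizer_commutator_ge_left K Y
  have hDD : ⁅D, D⁆ = ⊥ := by
    refine Subgroup.commutator_commutator_eq_bot_of_rotate ?_ ?_
    · show ⁅⁅Y, D⁆, K⁆ = ⊥
      rw [Subgroup.commutator_comm Y D, hq, Subgroup.commutator_bot_left]
    · show ⁅⁅D, K⁆, Y⁆ = ⊥
      exact le_bot_iff.mp
        ((Subgroup.commutator_mono (Subgroup.le_normalizer_iff_commutator_le_left.mp hKD) le_rfl).trans hq.le)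
  have hcomm : ∀ a ∈ D, ∀ b ∈ D, a * b = b * a := fun a ha b hb =>
    (Subgroup.mem_centralizer_iff.mp
      ((Subgroup.commutator_eq_bot_iff_le_centralizer.mp hDD) hb) a ha)
  have hDY : ∀ d ∈ D, ∀ y ∈ Y, y * d = d * y := fun d hd y hy =>
    (Subgroup.mem_centralizer_iff.mp
      ((Subgroup.commutator_eq_bot_iff_le_centralizer.mp hq) hd) y hy)
  have hpow : ∀ k ∈ K, ∀ y ∈ Y, ∀ m : ℕ, ⁅k, y ^ m⁆ = ⁅k, y⁆ ^ m := by
    intro k hk y hy m
    induction m with
    | zero => simp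
    | succ m ih =>
      have hd : ⁅k, y⁆ ∈ D := Subgroup.commutator_mem_commutator hk hy
      calc ⁅k, y ^ (m + 1)⁆ = ⁅k, y ^ m⁆ * (y ^ m * ⁅k, y⁆ * (y ^ m)⁻¹) := by
            simp only [commutatorElement_def, pow_succ]; group
        _ = ⁅k, y⁆ ^ m * ⁅k, y⁆ := by
            rw [ih, hDY _ hd _ (Y.pow_mem hy m), mul_inv_cancel_right]
        _ = _ := (pow_succ _ _).symm
  have hDp : IsPGroup p D := by
    rintro ⟨d, hd⟩
    have : ∃ j : ℕ, d ^ p ^ j = 1 := by
      have hd' : d ∈ Subgroup.closure {g | ∃ g₁ ∈ K, ∃ g₂ ∈ Y, ⁅g₁, g₂⁆ = g} := by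
        rw [← Subgroup.commutator_def]; exact hd
      induction hd' using Subgroup.closure_induction with
      | mem x hx =>
        obtain ⟨k, hk, y, hy, rfl⟩ := hx
        obtain ⟨j, hj⟩ := hY ⟨y, hy⟩
        refine ⟨j, ?_⟩
        have hj' : y ^ p ^ j = 1 := by simpa using congrArg Subtype.val hj
        rw [← hpow k hk y hy, hj']
        simp
      | one => exact ⟨0, one_pow _⟩
      | mul a b ha hb iha ihb =>
        rw [← Subgroup.commutator_def] at ha hb
        obtain ⟨i, hi⟩ := iha ha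
        obtain ⟨j, hj⟩ := ihb hb
        refine ⟨i + j, ?_⟩
        rw [(show Commute a b from hcomm a ha b hb).mul_pow, pow_add, pow_mul, hi, one_pow, one_mul,
          mul_comm, pow_mul, hj, one_pow]
      | inv a ha iha =>
        rw [← Subgroup.commutator_def] at ha
        obtain ⟨i, hi⟩ := iha ha
        exact ⟨i, by rw [inv_pow, hi, inv_one]⟩
    obtain ⟨j, hj⟩ := this
    exact ⟨j, Subtype.ext (by simpa using hj)⟩
  have := LocalEven.le_op hDK hKD hDp
  rw [LocalEven.op, hO, Subgroup.map_bot] at this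
  exact le_bot_iff.mp this

end Cfsg.Agent.S2813
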