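import Cfsg.Statements.S2814
import Cfsg.Agent.LocalEven.Conj
import Cfsg.Agent.FGS4.Subnormal
import Cfsg.Agent.Core.Residual

set_option autoImplicit false
open Cfsg

open scoped commutatorElement

namespace Cfsg.Agent.S2814

/-- Let A be a subgroup of the finite group H and K the subnormal closure of A (intersection of the subnormal subgroups containing A). Then K is the normal closure of A inside K and N_H(A) ≤ N_H(K); K = A·O^p(K), O^p(K) being generated by the elements of K of order prime to p; and if A is a p-group, O^p(K) = [O^p(K), A]. -/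
theorem result {H : Type*} [Group H] [Finite H] {p : ℕ} [Fact p.Prime] (A : Subgroup H) (K : Subgroup H) (hK : K = Cfsg.subnormalClosure A) : (Subgroup.normalClosure ((A.subgroupOf K : Subgroup ↥K) : Set ↥K)).map K.subtype = K ∧ Subgroup.normalizer (A : Set H) ≤ Subgroup.normalizer (K : Set H) ∧ A ⊔ (Cfsg.pResidual p ↥K).map K.subtype = K ∧ (IsPGroup p ↥A → ⁅(Cfsg.pResidual p ↥K).map K.subtype, A⁆ = (Cfsg.pResidual p ↥K).map K.subtype) := by
  classical
  have hKs : A ≤ K ∧ K.IsSubnormal := by
    subst hK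
    haveI : Fintype (Subgroup H) := Fintype.ofFinite _
    have : ∀ s : Finset (Subgroup H), (∀ X ∈ s, A ≤ X ∧ X.IsSubnormal) →
        A ≤ s.inf id ∧ (s.inf id).IsSubnormal := by
      intro s
      induction s using Finset.induction with
      | empty => intro _; rw [Finset.inf_empty]; exact ⟨le_top, Subgroup.IsSubnormal.top⟩
      | @insert X s _ ih =>
        intro h
        obtain ⟨h1, h2⟩ := h X (Finset.mem_insert_self _ _)
        obtain ⟨h3, h4⟩ := ih fun Y hY => h Y (Finset.mem_insert_of_mem hY)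
        rw [Finset.inf_insert]
        exact ⟨le_inf h1 h3, h2.inf h4⟩
    have h0 := this (Finset.univ.filter fun X : Subgroup H => A ≤ X ∧ X.IsSubnormal) (fun X hX => (Finset.mem_filter.mp hX).2)
    have he : (Finset.univ.filter fun X : Subgroup H => A ≤ X ∧ X.IsSubnormal).inf id = Cfsg.subnormalClosure A := by
      rw [Finset.inf_eq_iInf, Cfsg.subnormalClosure, sInf_eq_iInf]
      simp
    rwa [he] at h0
  obtain ⟨hAK, hKsn⟩ := hKs
  have hmin : ∀ X : Subgroup H, A ≤ X → X.IsSubnormal → K ≤ X := fun X h1 h2 => by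
    rw [hK]; exact sInf_le ⟨h1, h2⟩
  set A' := A.subgroupOf K with hA'
  have hmin' : ∀ X : Subgroup K, A' ≤ X → X.IsSubnormal → X = ⊤ := by
    intro X h1 h2
    have h3 := hmin (X.map K.subtype) (by
      intro a ha
      exact ⟨⟨a, hAK ha⟩, h1 ha, rfl⟩) (h2.trans' hKsn)
    refine eq_top_iff.mpr fun k _ => ?_
    obtain ⟨y, hy, e⟩ := h3 k.2
    rwa [← Subtype.ext (show y.1 = k.1 from e)]
  have htop : (⊤ : Subgroup K).map K.subtype = K := by rw [← MonoidHom.range_eq_map, Subgroup.range_subtype]
  have hnc : Subgroup.normalClosure (A' : Set K) = ⊤ :=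
    hmin' _ Subgroup.le_normalClosure (Subgroup.normalClosure_normal.isSubnormal)
  set L := Cfsg.pResidual p K with hL
  haveI hLn : L.Normal := by rw [hL]; infer_instance
  have hAL : A' ⊔ L = ⊤ := by
    refine hmin' _ le_sup_left ?_
    haveI : Group.IsNilpotent (K ⧸ L) := (Core.isPGroup_quotient_pResidual p K).isNilpotent
    have h1 := (FGS4.isSubnormal_of_isNilpotent (A'.map (QuotientGroup.mk' L))).comap (QuotientGroup.mk' L)
    rwa [Subgroup.comap_map_eq, QuotientGroup.ker_mk'] at h1
  have hmapA : A'.map K.subtype = A := Subgroup.map_subgroupOf_eq_of_le hAK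
  refine ⟨?_, ?_, ?_, fun hAp => ?_⟩
  · rw [hnc, htop]
  · intro g hg
    rw [← LocalEven.cj_eq_self_iff] at hg ⊢
    exact (Subgroup.eq_of_le_of_card_ge (hmin _ (by rw [← hg]; exact LocalEven.cj_mono hAK)
      (hKsn.map (MulAut.conj g).surjective)) (LocalEven.card_cj g K).le).symm
  · calc A ⊔ L.map K.subtype = (A' ⊔ L).map K.subtype := by rw [Subgroup.map_sup, hmapA]
      _ = K := by rw [hAL, htop]
  · have key : L ≤ ⁅L, A'⁆ := by
      have hn1 : (⊤ : Subgroup K) ≤ Subgroup.normalizer ((⁅L, A'⁆ : Subgroup K) : Set K) := by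
        rw [← hAL]
        exact sup_le (Subgroup.normalizer_commutator_ge_right L A') (Subgroup.normalizer_commutator_ge_left L A')
      haveI hCn : (⁅L, A'⁆ : Subgroup K).Normal := Subgroup.normalizer_eq_top_iff.mp (top_le_iff.mp hn1)
      set B := ⁅L, A'⁆ ⊔ A' with hB
      have hBn : (⊤ : Subgroup K) ≤ Subgroup.normalizer (B : Set K) := by
        rw [← hAL]
        refine sup_le (le_trans le_sup_right Subgroup.le_normalizer) fun l hl => ?_
        rw [← LocalEven.cj_eq_self_iff]
        refine Subgroup.eq_of_le_of_card_ge ?_ (LocalEven.card_cj l B).ge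
        rw [hB, LocalEven.cj, Subgroup.map_sup]
        refine sup_le ?_ ?_
        · rintro _ ⟨x, hx, rfl⟩
          exact (le_sup_left : _ ≤ ⁅L, A'⁆ ⊔ A') (hCn.conj_mem x hx l)
        · rintro _ ⟨a, ha, rfl⟩
          have : l * a * l⁻¹ = ⁅l, a⁆ * a := by simp only [commutatorElement_def]; group
          show l * a * l⁻¹ ∈ _
          rw [this]
          exact Subgroup.mul_mem_sup (Subgroup.commutator_mem_commutator hl ha) ha
      have hBtop : B = ⊤ := hmin' B le_sup_right (Subgroup.normalizer_eq_top_iff.mp (top_le_iff.mp hBn)).isSubnormal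
      refine Core.pResidual_le_of_isPGroup (fun q => ?_)
      have hsurj := QuotientGroup.mk'_surjective (⁅L, A'⁆ : Subgroup K)
      have htopQ : A'.map (QuotientGroup.mk' (⁅L, A'⁆ : Subgroup K)) = ⊤ := by
        rw [← Subgroup.map_top_of_surjective _ hsurj, ← hBtop, hB, Subgroup.map_sup, QuotientGroup.map_mk'_self, bot_sup_eq]
      obtain ⟨a, ha, rfl⟩ := (htopQ ▸ Subgroup.mem_top q : q ∈ A'.map (QuotientGroup.mk' (⁅L, A'⁆ : Subgroup K)))
      obtain ⟨k, hk⟩ := hAp ⟨a.1, ha⟩
      refine ⟨k, ?_⟩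
      have hk' : a ^ p ^ k = 1 := Subtype.ext (by simpa using congrArg Subtype.val hk)
      rw [← map_pow, hk', map_one]
    have h1 : ⁅L, A'⁆ = L := le_antisymm (Subgroup.commutator_le_left L A') key
    conv_rhs => rw [← h1]
    rw [Subgroup.map_commutator, hmapA]


end Cfsg.Agent.S2814
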