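import Cfsg.Statements.S2815
import Cfsg.Agent.LocalEven.FStarP
import Cfsg.Agent.LocalEven.PClosed
import Cfsg.Agent.LocalEven.PReducedTheory

set_option autoImplicit false
open Cfsg

namespace Cfsg.Agent.S2815

/-- Let H be a finite group and p a prime dividing its order with O_p(H) = 1, and suppose K = O^p(H) (generated by the elements of order prime to p) is quasisimple. Then K = F*(H); for every nontrivial p-subgroup Y of H, K = [K, Y] and K lies in the subgroup generated by the K-conjugates of Y; every normal subgroup of H not containing K has order prime to p; and H is p-irreducible. -/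
theorem result {H : Type*} [Group H] [Finite H] {p : ℕ} [Fact p.Prime] (hp : p ∣ Nat.card H) (hO : Cfsg.pCore p H = ⊥) (hq : Cfsg.IsQuasisimple ↥(Cfsg.pResidual p H)) : Cfsg.pResidual p H = Cfsg.generalizedFittingSubgroup H ∧ (∀ Y : Subgroup H, IsPGroup p ↥Y → Y ≠ ⊥ → ⁅Cfsg.pResidual p H, Y⁆ = Cfsg.pResidual p H ∧ Cfsg.pResidual p H ≤ ⨆ k : ↥(Cfsg.pResidual p H), Y.map (MulAut.conj (k : H)).toMonoidHom) ∧ (∀ C : Subgroup H, C.Normal → ¬ Cfsg.pResidual p H ≤ C → (Nat.card ↥C).Coprime p) ∧ Cfsg.IsPIrreducible p H := by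
  set K := Cfsg.pResidual p H with hKdef
  haveI hKn : K.Normal := inferInstance
  have hKc : Cfsg.IsComponent K := ⟨hKn.isSubnormal, hq⟩
  set X := Cfsg.generalizedFittingSubgroup H with hX
  have hcomp : ∀ L : Subgroup H, Cfsg.IsComponent L → L ≤ K := by
    intro L hL
    rcases Components.component_le_or_commutator_normal hL K with h | h
    · exact h
    · exfalso
      obtain ⟨P⟩ : Nonempty (Sylow p H) := inferInstance
      have hsur : ∀ x : H, ∃ k, x ^ p ^ k ∈ K := by
        intro x
        obtain ⟨k, hk⟩ := LocalEven.coprime_pow_ppart (p := p) x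
        exact ⟨k, Core.mem_pResidual hk⟩
      have hq' : IsPGroup p (H ⧸ K) := fun q => by
        obtain ⟨x, rfl⟩ := QuotientGroup.mk'_surjective K q
        obtain ⟨k, hk⟩ := hsur x
        exact ⟨k, by rw [← map_pow]; exact (QuotientGroup.eq_one_iff _).mpr hk⟩
      haveI : Group.IsNilpotent (H ⧸ K) := hq'.isNilpotent
      have hperf := Components.component_commutator_self hL
      have hLK : L ≤ K := by
        have hs : Group.IsSolvable ↥(L.map (QuotientGroup.mk' K)) := inferInstance
        have h1 := Components.perfect_eq_bot_of_le_solvable (K := L.map (QuotientGroup.mk' K))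
          (S := L.map (QuotientGroup.mk' K)) (by rw [← Subgroup.map_commutator, hperf]) le_rfl hs
        rw [Subgroup.map_eq_bot_iff, QuotientGroup.ker_mk'] at h1
        exact h1
      apply Components.component_not_commute hL
      rw [← le_bot_iff, ← h]
      exact Subgroup.commutator_mono le_rfl hLK
  have hFK : Cfsg.fittingSubgroup H ≤ K := fun x hx => Core.mem_pResidual (by
    refine (LocalEven.fitting_coprime hO).coprime_dvd_left ?_
    rw [← Subgroup.orderOf_mk x hx]
    exact orderOf_dvd_natCard _)
  have hKX : K = X := le_antisymm (Components.component_le_generalizedFitting hKc)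
    (sup_le (Components.layer_le_iff.mpr hcomp) hFK)
  have hcent : ∀ P : Subgroup H, IsPGroup p ↥P → P ≤ Subgroup.centralizer (K : Set H) → P = ⊥ := by
    intro P hP h
    rw [hKX] at h
    exact LocalEven.eq_bot_of_centralize hO hP h
  have hY : ∀ Y : Subgroup H, IsPGroup p ↥Y → Y ≠ ⊥ → ⁅K, Y⁆ = K := by
    intro Y hYp hY1
    set N := ⁅K, Y⁆ with hN
    have hNK : N ≤ K := Subgroup.commutator_le_left K Y
    have hNsn : N.IsSubnormal := Subgroup.IsSubnormal.step _ K hNK hKn.isSubnormal
      (Subgroup.normal_subgroupOf_of_le_normalizer (Subgroup.normalizer_commutator_ge_left K Y))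
    rcases Components.component_le_or_commutator_subnormal hKc hNsn with h | h
    · exact le_antisymm hNK h
    · refine absurd (hcent Y hYp ?_) hY1
      rw [← Subgroup.commutator_eq_bot_iff_le_centralizer, Subgroup.commutator_comm]
      refine Components.commutator_eq_bot_of_perfect (Components.component_commutator_self hKc) ?_
      rw [Subgroup.commutator_comm Y K, ← hN, Subgroup.commutator_comm, h]
  have hnormal : ∀ C : Subgroup H, C.Normal → ¬ K ≤ C → (Nat.card ↥C).Coprime p := by
    intro C hC hKC
    obtain ⟨P⟩ : Nonempty (Sylow p C) := inferInstance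
    have hP : (P : Subgroup C).map C.subtype = ⊥ := by
      by_contra hne
      refine hKC ?_
      rw [← hY _ (P.isPGroup'.map _) hne]
      exact (Subgroup.commutator_mono le_rfl (Subgroup.map_subtype_le _)).trans (Subgroup.commutator_le_right K C)
    rw [Subgroup.map_eq_bot_iff_of_injective _ C.subtype_injective] at hP
    have h2 := P.not_dvd_index' (by rw [hP, Subgroup.relIndex_bot_left]; exact Nat.card_pos.ne')
    rw [hP, Subgroup.index_bot] at h2
    exact Nat.Coprime.symm ((Fact.out : p.Prime).coprime_iff_not_dvd.mpr h2)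
  refine ⟨hKX, fun Y hYp hY1 => ⟨hY Y hYp hY1, ?_⟩, hnormal, ?_, fun N hN hNc => ?_⟩
  · refine (hY Y hYp hY1).ge.trans ?_
    rw [Subgroup.commutator_le]
    intro k hk y hy
    have h1 : k * y * k⁻¹ ∈ ⨆ k : ↥(Cfsg.pResidual p H), Y.map (MulAut.conj (k : H)).toMonoidHom :=
      Subgroup.mem_iSup_of_mem ⟨k, hk⟩ ⟨y, hy, rfl⟩
    have h2 : y⁻¹ ∈ ⨆ k : ↥(Cfsg.pResidual p H), Y.map (MulAut.conj (k : H)).toMonoidHom :=
      Subgroup.mem_iSup_of_mem 1 ⟨y⁻¹, Y.inv_mem hy, by simp⟩
    exact mul_mem h1 h2
  · intro hcl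
    obtain ⟨P⟩ : Nonempty (Sylow p H) := inferInstance
    have h1 := Core.le_pCore (hcl P) P.isPGroup'
    rw [hO, le_bot_iff] at h1
    have h2 := P.not_dvd_index' (by rw [h1, Subgroup.relIndex_bot_left]; exact Nat.card_pos.ne')
    rw [h1, Subgroup.index_bot] at h2
    exact h2 hp
  · by_contra hKN
    refine hNc (LocalEven.isPClosed_iff.mpr fun x hx => ?_)
    obtain ⟨k, hk⟩ := hx
    have h1 := orderOf_dvd_natCard x
    rw [hk] at h1
    rcases k.eq_zero_or_pos with rfl | hk0
    · rw [pow_zero, orderOf_eq_one_iff] at hk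
      rw [hk]; exact one_mem _
    · exact absurd ((hnormal N hN hKN).coprime_dvd_left ((dvd_pow_self p hk0.ne').trans h1))
        (by rw [Nat.coprime_self]; exact (Fact.out : p.Prime).ne_one)


end Cfsg.Agent.S2815
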