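import Cfsg.Statements.S2816
import Cfsg.Agent.LocalEven.FStarP

set_option autoImplicit false
open Cfsg

namespace Cfsg.Agent.S2816

/-- Let H be a finite group and p a prime with O_p(H) = 1, and Y a p-subgroup of H. Then for every subnormal subgroup K of H containing Y, [F*(H), Y] = [F*(K), Y] = [F*(K), Y, Y]; and if Y₀ ≤ Y with [F*(H), Y, Y₀] = 1 then Y₀ = 1 (in particular [F*(H), Y] = 1 forces Y = 1). -/
theorem result {H : Type*} [Group H] [Finite H] {p : ℕ} [Fact p.Prime] (hO : Cfsg.pCore p H = ⊥) (Y : Subgroup H) (hY : IsPGroup p ↥Y) : (∀ K : Subgroup H, K.IsSubnormal → Y ≤ K → ⁅Cfsg.generalizedFittingSubgroup H, Y⁆ = ⁅(Cfsg.generalizedFittingSubgroup ↥K).map K.subtype, Y⁆ ∧ ⁅(Cfsg.generalizedFittingSubgroup ↥K).map K.subtype, Y⁆ = ⁅⁅(Cfsg.generalizedFittingSubgroup ↥K).map K.subtype, Y⁆, Y⁆) ∧ (∀ Y₀ : Subgroup H, Y₀ ≤ Y → ⁅⁅Cfsg.generalizedFittingSubgroup H, Y⁆, Y₀⁆ = ⊥ → Y₀ = ⊥) := by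
  refine ⟨fun K hK hYK => ⟨LocalEven.fstar_commutator_eq hO hY hK hYK, ?_⟩, fun Y₀ hY₀ h => ?_⟩
  · have hsn : ((Cfsg.generalizedFittingSubgroup ↥K).map K.subtype).IsSubnormal :=
      (Components.generalizedFitting_normal (G := ↥K)).isSubnormal.trans' hK
    have hYL : Y ≤ Subgroup.normalizer ((Cfsg.generalizedFittingSubgroup ↥K).map K.subtype : Set H) := by
      refine hYK.trans (le_trans ?_ (Subgroup.le_normalizer_map K.subtype))
      rw [Subgroup.normalizer_eq_top_iff.mpr inferInstance, ← MonoidHom.range_eq_map, Subgroup.range_subtype]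
    exact LocalEven.commutator_commutator_of_sup hYL (LocalEven.sup_centralizer_eq_top hO hY
      (Components.generalizedFitting_map_subtype_le hK) hsn hYL)
  · refine LocalEven.eq_bot_of_centralize hO (hY.to_le hY₀) ?_
    set X := Cfsg.generalizedFittingSubgroup H
    have hXn : Y ≤ Subgroup.normalizer (X : Set H) := by
      rw [Subgroup.normalizer_eq_top X]; exact le_top
    rw [Subgroup.le_centralizer_iff]
    refine (LocalEven.sup_centralizer_eq_top hO hY le_rfl (inferInstance : X.Normal).isSubnormal hXn).ge.trans ?_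
    exact sup_le (Subgroup.commutator_eq_bot_iff_le_centralizer.mp h)
      (inf_le_right.trans (Subgroup.centralizer_le hY₀))


end Cfsg.Agent.S2816
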