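import Cfsg.Statements.S2817
import Cfsg.Agent.LocalEven.FStarP2
import Cfsg.Agent.LocalEven.CharP

set_option autoImplicit false
open Cfsg

namespace Cfsg.Agent.S2817

/-- Let H be a finite group and p a prime with O_p(H) = 1, Q a p-subgroup of H, L = [F*(H), Q], and F the largest normal subgroup of F*(H) centralized by Q (a normal subgroup of F*(H) centralized by Q and containing every such). Then F = C_{F*(H)}(LQ); L = [L, Q]; L ∩ F ≤ Φ(L); every p-subgroup B of N_H(Q) with [L, B] ≤ F satisfies [L, B] = 1; and C_H(FL) has order prime to p. -/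
theorem result {H : Type*} [Group H] [Finite H] {p : ℕ} [Fact p.Prime] (hO : Cfsg.pCore p H = ⊥) (Q : Subgroup H) (hQ : IsPGroup p ↥Q) (L : Subgroup H) (hL : L = ⁅Cfsg.generalizedFittingSubgroup H, Q⁆) (F : Subgroup H) (hF : F ≤ Cfsg.generalizedFittingSubgroup H ∧ Cfsg.generalizedFittingSubgroup H ≤ Subgroup.normalizer (F : Set H) ∧ Q ≤ Subgroup.centralizer (F : Set H) ∧ ∀ N : Subgroup H, N ≤ Cfsg.generalizedFittingSubgroup H → Cfsg.generalizedFittingSubgroup H ≤ Subgroup.normalizer (N : Set H) → Q ≤ Subgroup.centralizer (N : Set H) → N ≤ F) : F = Cfsg.generalizedFittingSubgroup H ⊓ Subgroup.centralizer ((L ⊔ Q : Subgroup H) : Set H) ∧ ⁅L, Q⁆ = L ∧ L ⊓ F ≤ (frattini ↥L).map L.subtype ∧ (∀ B : Subgroup H, IsPGroup p ↥B → B ≤ Subgroup.normalizer (Q : Set H) → ⁅L, B⁆ ≤ F → ⁅L, B⁆ = ⊥) ∧ (Nat.card ↥(Subgroup.centralizer ((F ⊔ L : Subgroup H) : Set H))).Coprime p := by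
  obtain ⟨hFX, hXF, hQF, hmax⟩ := hF
  set X := Cfsg.generalizedFittingSubgroup H with hXdef
  set W₀ := Cfsg.fittingSubgroup H with hW₀
  have hXn : ∀ Y : Subgroup H, Y ≤ Subgroup.normalizer (X : Set H) := fun Y => by
    rw [Subgroup.normalizer_eq_top X]; exact le_top
  have hXsn : X.IsSubnormal := (inferInstance : X.Normal).isSubnormal
  have hdec0 := LocalEven.sup_centralizer_eq_top hO hQ le_rfl hXsn (hXn Q)
  rw [← hL] at hdec0
  have hLX : L ≤ X := hL.le.trans (Subgroup.commutator_le_left X Q)
  have hXL : X ≤ Subgroup.normalizer (L : Set H) := by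
    rw [hL]; exact Subgroup.normalizer_commutator_ge_left X Q
  have hQL : Q ≤ Subgroup.normalizer (L : Set H) := by
    rw [hL]; exact LocalEven.le_normalizer_comm (hXn Q) Subgroup.le_normalizer
  have hLQ : ⁅L, Q⁆ = L := by
    have h := LocalEven.commutator_commutator_of_sup (hXn Q) (hL ▸ hdec0)
    rw [← hL] at h
    exact h.symm
  have hLsn : L.IsSubnormal :=
    Subgroup.IsSubnormal.step _ X hLX hXsn (Subgroup.normal_subgroupOf_of_le_normalizer hXL)
  have hFC : F ≤ Subgroup.centralizer (L : Set H) := by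
    rw [← Subgroup.commutator_eq_bot_iff_le_centralizer, Subgroup.commutator_comm, hL]
    refine Subgroup.commutator_commutator_eq_bot_of_rotate ?_ ?_
    · rw [Subgroup.commutator_eq_bot_iff_le_centralizer.mpr hQF, Subgroup.commutator_bot_left]
    · rw [← le_bot_iff]
      refine (Subgroup.commutator_mono (Subgroup.le_normalizer_iff_commutator_le_left.mp hXF) le_rfl).trans ?_
      rw [Subgroup.commutator_comm, Subgroup.commutator_eq_bot_iff_le_centralizer.mpr hQF]
  have hFeq : F = X ⊓ Subgroup.centralizer ((L ⊔ Q : Subgroup H) : Set H) := by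
    refine le_antisymm (le_inf hFX ?_) (hmax _ inf_le_left ?_ ?_)
    · rw [Subgroup.le_centralizer_iff]
      exact sup_le (Subgroup.le_centralizer_iff.mp hFC) hQF
    · refine hdec0.ge.trans (sup_le ?_ ?_)
      · refine le_trans ?_ (Subgroup.centralizer_le_normalizer _)
        rw [Subgroup.le_centralizer_iff]
        exact inf_le_right.trans (Subgroup.centralizer_le (SetLike.coe_subset_coe.mpr le_sup_left))
      · refine (le_inf (hXn _) ((le_inf (inf_le_left.trans hXL) (inf_le_right.trans
          (Subgroup.centralizer_le_normalizer _))).trans ?_)).trans Subgroup.inf_normalizer_le_normalizer_inf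
        intro g hg
        obtain ⟨h1, h2⟩ := Subgroup.mem_inf.mp hg
        refine LocalEven.normalizer_le_normalizer_cent _ ?_
        rw [← LocalEven.cj_eq_self_iff, LocalEven.cj, Subgroup.map_sup]
        change LocalEven.cj g L ⊔ LocalEven.cj g Q = _
        rw [LocalEven.cj_eq_self_iff.mpr h1, LocalEven.cj_eq_self_iff.mpr h2]
    · rw [Subgroup.le_centralizer_iff]
      exact inf_le_right.trans (Subgroup.centralizer_le (SetLike.coe_subset_coe.mpr le_sup_right))
  set D := L ⊓ F with hD
  have hWnorm : ∀ Y : Subgroup H, Y ≤ Subgroup.normalizer (W₀ : Set H) := fun Y => by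
    rw [Subgroup.normalizer_eq_top W₀]; exact le_top
  have hdecL := Components.subnormal_le_generalizedFitting hLsn hLX
  set E₁ := sSup {K : Subgroup H | Cfsg.IsComponent K ∧ K ≤ L} with hE₁
  have hE₁L : E₁ ≤ ⁅L, L⁆ := sSup_le fun K hK =>
    (Components.component_commutator_self hK.1).ge.trans (Subgroup.commutator_mono hK.2 hK.2)
  have hfcop : ∀ k, (Nat.card W₀).Coprime (p ^ k) := fun k => (LocalEven.fitting_coprime hO).pow_right k
  have hDL' : D ≤ ⁅L, L⁆ := by
    intro d hd
    obtain ⟨hdL, hdF⟩ := Subgroup.mem_inf.mp hd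
    have h1 := LocalEven.pow_card_mem_commutator hQL hLQ (d := ⟨d, hdL⟩) fun q hq =>
      (Subgroup.mem_centralizer_iff.mp (hQF hq) d hdF).symm
    obtain ⟨k, hk⟩ := IsPGroup.iff_card.mp hQ
    rw [hk] at h1
    have hd' : d ∈ ⁅L, L⁆ ⊔ (L ⊓ W₀) := (hdecL.le.trans (sup_le (hE₁L.trans le_sup_left) le_sup_right)) hdL
    rw [← SetLike.mem_coe, Subgroup.coe_mul_of_right_le_normalizer_left _ _
      (inf_le_left.trans (Subgroup.normalizer_commutator_ge_left L L))] at hd'
    obtain ⟨a, ha, w, hw, hawd⟩ := hd'
    obtain ⟨a', ha', rfl⟩ := (Subgroup.map_subtype_commutator L).symm ▸ ha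
    obtain ⟨hwL, hwW⟩ := Subgroup.mem_inf.mp hw
    have h2 : Abelianization.of (⟨d, hdL⟩ : L) = Abelianization.of (⟨w, hwL⟩ : L) := by
      rw [show (⟨d, hdL⟩ : L) = a' * ⟨w, hwL⟩ from Subtype.ext hawd.symm, map_mul,
        show Abelianization.of a' = 1 from (QuotientGroup.eq_one_iff a').mpr ha', one_mul]
    have h3 : orderOf (Abelianization.of (⟨d, hdL⟩ : L)) ∣ Nat.card W₀ := by
      rw [h2]
      refine (orderOf_map_dvd _ _).trans ?_
      rw [Subgroup.orderOf_mk, ← Subgroup.orderOf_mk w hwW]
      exact orderOf_dvd_natCard _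
    have h4 := Nat.eq_one_of_dvd_coprimes (hfcop k) h3 (orderOf_dvd_of_pow_eq_one h1)
    rw [orderOf_eq_one_iff] at h4
    rw [← Subgroup.map_subtype_commutator]
    exact ⟨⟨d, hdL⟩, (QuotientGroup.eq_one_iff _).mp h4, rfl⟩
  refine ⟨hFeq, hLQ, LocalEven.le_map_frattini inf_le_left (inf_le_right.trans hFC) hDL', ?_, ?_⟩
  · intro B hB hBQ hBF
    have hBL : B ≤ Subgroup.normalizer (L : Set H) := by
      rw [hL]; exact LocalEven.le_normalizer_comm (hXn B) hBQ
    have hLBD : ⁅L, B⁆ ≤ D := le_inf (Coprime.commutator_le_of_le_normalizer hBL) hBF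
    have hDLbot : ⁅D, L⁆ = ⊥ := Subgroup.commutator_eq_bot_iff_le_centralizer.mpr (inf_le_right.trans hFC)
    have h1 : ⁅⁅L, L⁆, B⁆ = ⊥ := Subgroup.commutator_commutator_eq_bot_of_rotate
      (le_bot_iff.mp ((Subgroup.commutator_mono hLBD le_rfl).trans hDLbot.le))
      (le_bot_iff.mp ((Subgroup.commutator_mono ((Subgroup.commutator_comm B L).le.trans hLBD) le_rfl).trans hDLbot.le))
    rw [LocalEven.commutator_commutator_of_sup hBL (LocalEven.sup_centralizer_eq_top hO hB hLX hLsn hBL),
      ← le_bot_iff]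
    exact (Subgroup.commutator_mono (hLBD.trans hDL') le_rfl).trans h1.le
  · set Z := Subgroup.centralizer ((F ⊔ L : Subgroup H) : Set H) with hZ
    obtain ⟨P⟩ : Nonempty (Sylow p Z) := inferInstance
    set P' := (P : Subgroup Z).map Z.subtype with hP'def
    have hPZ : P' ≤ Z := Subgroup.map_subtype_le _
    have hPL : L ≤ Subgroup.centralizer (P' : Set H) :=
      Subgroup.le_centralizer_iff.mp (hPZ.trans (Subgroup.centralizer_le (SetLike.coe_subset_coe.mpr le_sup_right)))
    have hPF : F ≤ Subgroup.centralizer (P' : Set H) :=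
      Subgroup.le_centralizer_iff.mp (hPZ.trans (Subgroup.centralizer_le (SetLike.coe_subset_coe.mpr le_sup_left)))
    have hlayer : Cfsg.layer H ≤ Subgroup.centralizer (P' : Set H) := by
      rw [Components.layer_le_iff]
      intro K hK
      rcases Components.component_le_or_commutator_subnormal hK hLsn with h | h
      · exact h.trans hPL
      · refine le_trans ?_ hPF
        have hKX : K ≤ X := Components.component_le_generalizedFitting hK
        rw [hFeq]
        refine le_inf hKX ?_
        rw [Subgroup.le_centralizer_iff]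
        refine sup_le (Subgroup.commutator_eq_bot_iff_le_centralizer.mp ((Subgroup.commutator_comm L K).trans h)) ?_
        rw [← Subgroup.commutator_eq_bot_iff_le_centralizer, Subgroup.commutator_comm]
        refine Components.commutator_eq_bot_of_perfect (Components.component_commutator_self hK) ?_
        rw [← le_bot_iff, ← h, Subgroup.commutator_comm K L, Subgroup.commutator_comm Q K]
        exact Subgroup.commutator_mono ((Subgroup.commutator_mono hKX le_rfl).trans hL.ge) le_rfl
    set N := L ⊓ W₀ with hN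
    set Cn := W₀ ⊓ Subgroup.centralizer (N : Set H) with hCn
    set A := N ⊔ Cn with hA
    have hE₁E : E₁ ≤ Cfsg.layer H := sSup_le fun K hK => Components.component_le_layer hK.1
    have hQN : Q ≤ Subgroup.normalizer (N : Set H) :=
      (le_inf hQL (hWnorm Q)).trans Subgroup.inf_normalizer_le_normalizer_inf
    have hQCn : Q ≤ Subgroup.normalizer (Cn : Set H) :=
      (le_inf (hWnorm Q) (hQN.trans (LocalEven.normalizer_le_normalizer_cent N))).trans
        Subgroup.inf_normalizer_le_normalizer_inf
    haveI := Coprime.isSolvable_of_isPGroup hQ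
    haveI := Coprime.isSolvable_of_isPGroup (P.isPGroup'.map Z.subtype)
    have hcopW : ∀ {Y V : Subgroup H}, IsPGroup p ↥Y → V ≤ W₀ → (Nat.card Y).Coprime (Nat.card V) := by
      intro Y V hY hV
      obtain ⟨k, hk⟩ := IsPGroup.iff_card.mp hY
      rw [hk]
      exact ((hfcop k).coprime_dvd_left (Subgroup.card_dvd_of_le hV)).symm
    have hAP : A ≤ Subgroup.centralizer (P' : Set H) := by
      refine sup_le (inf_le_left.trans hPL) ?_
      rw [Coprime.eq_commutator_sup_centralizer hQCn (hcopW hQ inf_le_left)]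
      refine sup_le ?_ ?_
      · refine le_trans ((Subgroup.commutator_mono ?_ le_rfl).trans hL.ge) hPL
        exact inf_le_left.trans Components.fitting_le_generalizedFitting
      · refine le_trans ?_ hPF
        rw [hFeq]
        refine le_inf ((inf_le_left.trans inf_le_left).trans Components.fitting_le_generalizedFitting) ?_
        rw [Subgroup.le_centralizer_iff]
        refine sup_le (hdecL.le.trans (sup_le ?_ ?_)) ?_
        · exact (hE₁E.trans Components.layer_le_centralizer_fitting).trans
            (Subgroup.centralizer_le (inf_le_left.trans inf_le_left))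
        · exact Subgroup.le_centralizer_iff.mp (inf_le_left.trans inf_le_right)
        · exact Subgroup.le_centralizer_iff.mp inf_le_right
    have hW₀N : W₀ ≤ Subgroup.normalizer (N : Set H) :=
      (le_inf (Components.fitting_le_generalizedFitting.trans hXL) Subgroup.le_normalizer).trans
        Subgroup.inf_normalizer_le_normalizer_inf
    have hW₀Cn : W₀ ≤ Subgroup.normalizer (Cn : Set H) :=
      (le_inf Subgroup.le_normalizer (hW₀N.trans (LocalEven.normalizer_le_normalizer_cent N))).trans
        Subgroup.inf_normalizer_le_normalizer_inf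
    have hW₀A : ⁅A, W₀⁆ ≤ A := by
      rw [← Subgroup.le_normalizer_iff_commutator_le_left]
      intro g hg
      rw [← LocalEven.cj_eq_self_iff, hA, LocalEven.cj, Subgroup.map_sup]
      change LocalEven.cj g N ⊔ LocalEven.cj g Cn = _
      rw [LocalEven.cj_eq_self_iff.mpr (hW₀N hg), LocalEven.cj_eq_self_iff.mpr (hW₀Cn hg)]
    have hAPbot : ⁅A, P'⁆ = ⊥ := Subgroup.commutator_eq_bot_iff_le_centralizer.mpr hAP
    have h3 : ⁅⁅W₀, P'⁆, A⁆ = ⊥ := Subgroup.commutator_commutator_eq_bot_of_rotate
      (by rw [Subgroup.commutator_comm P' A, hAPbot, Subgroup.commutator_bot_left])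
      (le_bot_iff.mp ((Subgroup.commutator_mono hW₀A le_rfl).trans hAPbot.le))
    have h4 : ⁅W₀, P'⁆ ≤ A := by
      refine le_trans (le_inf (Subgroup.commutator_le_left W₀ P') ?_) le_sup_right
      exact (Subgroup.commutator_eq_bot_iff_le_centralizer.mp h3).trans (Subgroup.centralizer_le (SetLike.coe_subset_coe.mpr le_sup_left))
    have h5 : ⁅W₀, P'⁆ = ⊥ := Coprime.commutator_eq_bot_of_commutator_commutator (hWnorm P')
      (hcopW (P.isPGroup'.map Z.subtype) le_rfl)
      (le_bot_iff.mp ((Subgroup.commutator_mono h4 le_rfl).trans hAPbot.le))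
    have hP : P' = ⊥ := LocalEven.eq_bot_of_centralize hO (P.isPGroup'.map Z.subtype) (by
      rw [Subgroup.le_centralizer_iff]
      exact sup_le hlayer (Subgroup.commutator_eq_bot_iff_le_centralizer.mp h5))
    rw [hP'def, Subgroup.map_eq_bot_iff_of_injective _ Z.subtype_injective] at hP
    have h2 := P.not_dvd_index' (by rw [hP, Subgroup.relIndex_bot_left]; exact Nat.card_pos.ne')
    rw [hP, Subgroup.index_bot] at h2
    exact Nat.Coprime.symm ((Fact.out : p.Prime).coprime_iff_not_dvd.mpr h2)


end Cfsg.Agent.S2817
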