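import Cfsg.Statements.S2818
import Cfsg.Agent.FGS3.PGroupFrattini
import Cfsg.Prelude.Def_PLocal


set_option autoImplicit false
open Cfsg
open scoped commutatorElement

namespace Cfsg.Agent.S2818

/-- Let P be a finite p-subgroup of a group G and H a subgroup of N_G(P) with [P, H] ≤ Ω₁(Z(P)) (the elements of order dividing p in the centre of P). Then H centralizes the Frattini subgroup of P. -/
theorem result {G : Type*} [Group G] [Finite G] {p : ℕ} [Fact p.Prime] (P : Subgroup G) (hP : IsPGroup p ↥P) (H : Subgroup G) (hH : H ≤ Subgroup.normalizer (P : Set G)) (h : ⁅P, H⁆ ≤ Cfsg.omegaOne p (P ⊓ Subgroup.centralizer (P : Set G))) : ⁅(frattini ↥P).map P.subtype, H⁆ = ⊥ := by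
  set Z := P ⊓ Subgroup.centralizer (P : Set G)
  have hΩ : ∀ x ∈ Cfsg.omegaOne p Z, x ∈ Z ∧ x ^ p = 1 := by
    intro x hx
    induction hx using Subgroup.closure_induction with
    | mem x hx => exact hx
    | one => exact ⟨one_mem _, one_pow _⟩
    | mul a b _ _ ha hb =>
      have hc : Commute a b := Subgroup.mem_centralizer_iff.mp (Subgroup.mem_inf.mp hb.1).2 a
        (Subgroup.mem_inf.mp ha.1).1
      exact ⟨mul_mem ha.1 hb.1, by rw [hc.mul_pow, ha.2, hb.2, one_mul]⟩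
    | inv a _ ha => exact ⟨inv_mem ha.1, by rw [inv_pow, ha.2, inv_one]⟩
  have hval : ∀ a ∈ P, ∀ g ∈ H, ⁅a, g⁆ ∈ Z ∧ ⁅a, g⁆ ^ p = 1 := fun a ha g hg =>
    hΩ _ (h (Subgroup.commutator_mem_commutator ha hg))
  have hmul : ∀ a ∈ P, ∀ b ∈ P, ∀ g ∈ H, ⁅a * b, g⁆ = ⁅b, g⁆ * ⁅a, g⁆ := by
    intro a ha b hb g hg
    have hc := Subgroup.mem_centralizer_iff.mp (Subgroup.mem_inf.mp (hval b hb g hg).1).2 a ha
    calc ⁅a * b, g⁆ = a * ⁅b, g⁆ * a⁻¹ * ⁅a, g⁆ := by simp only [commutatorElement_def]; group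
      _ = _ := by rw [hc, mul_inv_cancel_right]
  have hcg : ∀ a ∈ P, ∀ b ∈ P, ∀ g ∈ H, ⁅b, g⁆ * ⁅a, g⁆ = ⁅a, g⁆ * ⁅b, g⁆ := fun a ha b hb g hg =>
    Subgroup.mem_centralizer_iff.mp (Subgroup.mem_inf.mp (hval a ha g hg).1).2 _
      (Subgroup.mem_inf.mp (hval b hb g hg).1).1
  rw [Subgroup.commutator_eq_bot_iff_le_centralizer, Subgroup.map_le_iff_le_comap,
    FGS3.frattini_eq_sup hP, sup_le_iff]
  constructor
  · rw [commutator_def, Subgroup.commutator_le]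
    rintro ⟨a, ha⟩ - ⟨b, hb⟩ -
    rw [Subgroup.mem_comap, Subgroup.mem_centralizer_iff]
    intro g hg
    have ha' := P.inv_mem ha
    have hb' := P.inv_mem hb
    have e1 : ⁅a⁻¹ * b⁻¹, g⁆ = ⁅b⁻¹ * a⁻¹, g⁆ := by
      rw [hmul _ ha' _ hb' g hg, hmul _ hb' _ ha' g hg, hcg _ ha' _ hb' g hg]
    simp only [commutatorElement_def] at e1
    have e2 : (a⁻¹ * b⁻¹) * g * (a⁻¹ * b⁻¹)⁻¹ = (b⁻¹ * a⁻¹) * g * (b⁻¹ * a⁻¹)⁻¹ :=
      mul_right_cancel e1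
    show g * (a * b * a⁻¹ * b⁻¹) = a * b * a⁻¹ * b⁻¹ * g
    calc g * (a * b * a⁻¹ * b⁻¹)
        = (b⁻¹ * a⁻¹)⁻¹ * ((b⁻¹ * a⁻¹) * g * (b⁻¹ * a⁻¹)⁻¹) * (a⁻¹ * b⁻¹) := by group
      _ = (b⁻¹ * a⁻¹)⁻¹ * ((a⁻¹ * b⁻¹) * g * (a⁻¹ * b⁻¹)⁻¹) * (a⁻¹ * b⁻¹) := by rw [e2]
      _ = a * b * a⁻¹ * b⁻¹ * g := by group
  · rw [Subgroup.closure_le]
    rintro _ ⟨⟨a, ha⟩, rfl⟩
    rw [SetLike.mem_coe, Subgroup.mem_comap, Subgroup.mem_centralizer_iff]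
    intro g hg
    have hpw : ∀ m : ℕ, ⁅a ^ m, g⁆ = ⁅a, g⁆ ^ m := by
      intro m
      induction m with
      | zero => simp
      | succ m ih => rw [pow_succ, hmul _ (P.pow_mem ha m) a ha g hg, ih, ← pow_succ']
    have h1 := commutatorElement_eq_one_iff_commute.mp ((hpw p).trans (hval a ha g hg).2)
    simpa using h1.symm.eq

end Cfsg.Agent.S2818
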