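import Cfsg.Statements.S2819
import Cfsg.Agent.LocalEven.FStarP
import Cfsg.Agent.LocalEven.CharP
import Cfsg.Agent.FGS3.PGroupFrattini

set_option autoImplicit false
open Cfsg

open scoped commutatorElement

namespace Cfsg.Agent.S2819

/-- Let P be a finite p-subgroup of a group G, H a subgroup of N_G(P), and Y a subgroup of H centralizing the derived subgroup P' such that [P, Y] is elementary abelian. Then O^p(⟨Y^H⟩), the subgroup of the normal closure of Y in H generated by its elements of order prime to p, centralizes the Frattini subgroup of P. -/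
theorem result {G : Type*} [Group G] [Finite G] {p : ℕ} [Fact p.Prime] (P : Subgroup G) (hP : IsPGroup p ↥P) (H : Subgroup G) (hH : H ≤ Subgroup.normalizer (P : Set G)) (Y : Subgroup G) (hYH : Y ≤ H) (hYc : Y ≤ Subgroup.centralizer ((⁅P, P⁆ : Subgroup G) : Set G)) (hel : Cfsg.IsElementaryAbelian p ⁅P, Y⁆) (NY : Subgroup G) (hNY : NY = (Subgroup.normalClosure ((Y.subgroupOf H : Subgroup ↥H) : Set ↥H)).map H.subtype) : (Cfsg.pResidual p ↥NY).map NY.subtype ≤ Subgroup.centralizer (((frattini ↥P).map P.subtype : Subgroup G) : Set G) := by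
  classical
  subst hNY
  set Φ := (frattini ↥P).map P.subtype with hΦ
  set P' := ⁅P, P⁆ with hP'
  have hPP' : P' = (commutator ↥P).map P.subtype := (Subgroup.map_subtype_commutator P).symm
  have hHP' : H ≤ Subgroup.normalizer (P' : Set G) := LocalEven.le_normalizer_comm hH hH
  have hHΦ : H ≤ Subgroup.normalizer (Φ : Set G) := hH.trans (LocalEven.normalizer_le_normalizer_map _)
  have hY : ∀ y ∈ Y, ∀ f ∈ Φ, y * f * y⁻¹ * f⁻¹ ∈ P' := by
    rintro y hy _ ⟨f, hf, rfl⟩
    have hyP : y ∈ Subgroup.normalizer (P : Set G) := hH (hYH hy)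
    let φ := LocalEven.conjV (V := P) y hyP
    let ψ := (Abelianization.of : ↥P →* Abelianization ↥P)
    have hle : frattini ↥P ≤ (ψ.comp φ).eqLocus ψ := by
      rw [FGS3.frattini_eq_sup hP]
      refine sup_le (fun a ha => ?_) ((Subgroup.closure_le _).mpr ?_)
      · show ψ (φ a) = ψ a
        have h1 : ψ a = 1 := (QuotientGroup.eq_one_iff a).mpr ha
        have h2 : φ a = a := by
          apply Subtype.ext
          have ha' : (a : G) ∈ P' := hPP' ▸ Subgroup.mem_map_of_mem P.subtype ha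
          show y * (a : G) * y⁻¹ = a
          rw [← Subgroup.mem_centralizer_iff.mp (hYc hy) _ ha', mul_inv_cancel_right]
        rw [h2]
      · rintro _ ⟨x, rfl⟩
        show ψ (φ (x ^ p)) = ψ (x ^ p)
        have hc : (φ x * x⁻¹) ^ p = 1 := by
          apply Subtype.ext
          rw [Subgroup.coe_pow, Subgroup.coe_one, Subgroup.coe_mul, Subgroup.coe_inv, LocalEven.coe_conjV]
          refine hel.2 _ ?_
          rw [Subgroup.commutator_comm]
          exact Subgroup.commutator_mem_commutator hy x.2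
        rw [map_pow, map_pow, map_pow, show ψ (φ x) = ψ (φ x * x⁻¹) * ψ x by
          rw [← map_mul, inv_mul_cancel_right], mul_pow, ← map_pow, hc, map_one, one_mul]
    have h1 : ψ (φ f * f⁻¹) = 1 := by
      rw [map_mul, map_inv, show ψ (φ f) = ψ f from hle hf, mul_inv_cancel]
    rw [hPP']
    exact ⟨φ f * f⁻¹, (QuotientGroup.eq_one_iff _).mp h1, rfl⟩
  let K : Subgroup ↥H :=
    { carrier := {x | (∀ f ∈ Φ, (x : G) * f * (x : G)⁻¹ * f⁻¹ ∈ P') ∧ (x : G) ∈ Subgroup.centralizer (P' : Set G)}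
      one_mem' := ⟨fun f _ => by simp, one_mem _⟩
      mul_mem' := fun {a b} ha hb => ⟨fun f hf => by
        have h1 := (Subgroup.mem_normalizer_iff.mp (hHP' a.2) _).mp (hb.1 f hf)
        have h2 := P'.mul_mem h1 (ha.1 f hf)
        simpa [mul_assoc] using h2, mul_mem ha.2 hb.2⟩
      inv_mem' := fun {a} ha => ⟨fun f hf => by
        have h1 := ha.1 _ ((Subgroup.mem_normalizer_iff''.mp (hHΦ a.2) f).mp hf)
        have h2 := P'.inv_mem h1
        simpa [mul_assoc] using h2, inv_mem ha.2⟩ }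
  haveI : K.Normal := ⟨fun a ha h => ⟨fun f hf => by
      have h1 := (Subgroup.mem_normalizer_iff.mp (hHP' h.2) _).mp
        (ha.1 _ ((Subgroup.mem_normalizer_iff''.mp (hHΦ h.2) f).mp hf))
      simpa [mul_assoc] using h1, by
    refine Subgroup.mem_centralizer_iff.mpr fun c hc => ?_
    have h1 := Subgroup.mem_centralizer_iff.mp ha.2 _ ((Subgroup.mem_normalizer_iff''.mp (hHP' h.2) c).mp hc)
    show c * ((h : G) * (a : G) * (h : G)⁻¹) = (h : G) * (a : G) * (h : G)⁻¹ * c
    calc c * ((h : G) * (a : G) * (h : G)⁻¹) = (h : G) * (((h : G)⁻¹ * c * h) * a) * (h : G)⁻¹ := by group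
      _ = (h : G) * ((a : G) * ((h : G)⁻¹ * c * h)) * (h : G)⁻¹ := by rw [h1]
      _ = _ := by group⟩⟩
  have hNK : Subgroup.normalClosure ((Y.subgroupOf H : Subgroup ↥H) : Set ↥H) ≤ K :=
    Subgroup.normalClosure_le_normal fun y hy => ⟨hY _ hy, hYc hy⟩
  rw [Cfsg.pResidual, MonoidHom.map_closure, Subgroup.closure_le]
  rintro _ ⟨x, hx, rfl⟩
  obtain ⟨x', hx', hxe⟩ := x.2
  have hxH : (x : G) ∈ H := hxe ▸ x'.2
  obtain ⟨hxΦ, hxP'⟩ : (∀ f ∈ Φ, (x : G) * f * (x : G)⁻¹ * f⁻¹ ∈ P') ∧ (x : G) ∈ Subgroup.centralizer (P' : Set G) :=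
    hxe ▸ hNK hx'
  refine LocalEven.coprime_stab (hP.to_le (Subgroup.map_subtype_le _)) (hHΦ hxH)
    (by show (orderOf (x : G)).Coprime p; rw [Subgroup.orderOf_coe]; exact hx) (LocalEven.iter_eq_bot_of_chain (M := P') ?_ ?_)
  · rw [Subgroup.commutator_le]
    intro f hf z hz
    obtain ⟨m, rfl⟩ := Subgroup.mem_zpowers_iff.mp hz
    have hm0 : (⟨x, hxH⟩ : ↥H) ∈ K := ⟨hxΦ, hxP'⟩
    have hm : (⟨x, hxH⟩ : ↥H) ^ m ∈ K := zpow_mem hm0 m
    have h1 := P'.inv_mem (hm.1 f hf)
    simpa [commutatorElement_def, mul_assoc] using h1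
  · rw [Subgroup.commutator_eq_bot_iff_le_centralizer, Subgroup.le_centralizer_iff, Subgroup.zpowers_le]
    exact hxP'


end Cfsg.Agent.S2819
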