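import Cfsg.Statements.S2820
import Cfsg.Agent.LocalEven.PClosed
import Cfsg.Agent.Core.Cores
import Cfsg.Agent.LocalEven.Conj

set_option autoImplicit false
open Cfsg

namespace Cfsg.Agent.S2820

/-- Let A and B be subnormal subgroups of the finite group H with A a p-group and B = O^p(B) (B generated by its elements of order prime to p). Then A normalizes B and B = O^p(AB), the subgroup of ⟨A, B⟩ generated by its elements of order prime to p. -/
theorem result {H : Type*} [Group H] [Finite H] {p : ℕ} [Fact p.Prime] (A B : Subgroup H) (hA : A.IsSubnormal) (hB : B.IsSubnormal) (hAp : IsPGroup p ↥A) (hBres : (Cfsg.pResidual p ↥B).map B.subtype = B) : A ≤ Subgroup.normalizer (B : Set H) ∧ (Cfsg.pResidual p ↥(A ⊔ B)).map (A ⊔ B).subtype = B := by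
  classical
  set L := (Cfsg.pResidual p B).map B.subtype with hLdef
  -- a subnormal subgroup of `X = PB` equal to its own residual is `O^p(X)`
  set P := Cfsg.pCore p H with hP
  have hAP : A ≤ P := Core.le_pCore_of_isSubnormal hA hAp
  set X := P ⊔ B with hX
  have hres : ∀ (Y : Subgroup H) (hBY : B ≤ Y), B ≤ (Cfsg.pResidual p Y).map Y.subtype := by
    intro Y hBY b hb
    rw [← hBres] at hb
    obtain ⟨x, hx, rfl⟩ := hb
    exact ⟨Subgroup.inclusion hBY x, Core.map_pResidual_le (Subgroup.inclusion hBY) ⟨x, hx, rfl⟩, rfl⟩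
  have hquot : ∀ (K : Subgroup X) [K.Normal], (∀ x ∈ B, ∀ hx : x ∈ X, (⟨x, hx⟩ : X) ∈ K) → IsPGroup p (X ⧸ K) := by
    intro K _ hK q
    obtain ⟨⟨x, hx⟩, rfl⟩ := QuotientGroup.mk'_surjective _ q
    have hx' := hx
    rw [hX, ← SetLike.mem_coe, Subgroup.normal_mul] at hx'
    obtain ⟨u, hu, b, hb, rfl⟩ := hx'
    obtain ⟨k, hk⟩ := Core.isPGroup_pCore p H ⟨u, hu⟩
    refine ⟨k, ?_⟩
    have he : (⟨u * b, hx⟩ : X) = ⟨u, (le_sup_left : P ≤ P ⊔ B) hu⟩ * ⟨b, (le_sup_right : B ≤ P ⊔ B) hb⟩ := rfl
    rw [he, QuotientGroup.mk'_apply, QuotientGroup.mk_mul,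
      (QuotientGroup.eq_one_iff (⟨b, _⟩ : X)).mpr (hK b hb _), mul_one, ← QuotientGroup.mk_pow,
      show (⟨u, (le_sup_left : P ≤ P ⊔ B) hu⟩ : X) ^ p ^ k = 1 from
        Subtype.ext (by simpa using congrArg Subtype.val hk), QuotientGroup.mk_one]
  have key : ∀ K : Subgroup X, K.IsSubnormal → B.subgroupOf X ≤ K → Cfsg.pResidual p X ≤ K := by
    intro K hK
    induction hK with
    | top => intro _; exact le_top
    | step K1 K2 h12 _ hn ih =>
      intro hBK
      have h2 := ih (hBK.trans h12)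
      -- `K1` is normal in `K2` with `p`-group quotient
      set R := Cfsg.pResidual p X
      have hRn : R ≤ Subgroup.normalizer (K1 : Set X) :=
        h2.trans ((Subgroup.normal_subgroupOf_iff_le_normalizer h12).mp hn)
      haveI : (K1.subgroupOf R).Normal := Subgroup.normal_subgroupOf_of_le_normalizer hRn
      have h3 : Cfsg.pResidual p R ≤ K1.subgroupOf R := by
        refine Core.pResidual_le_of_isPGroup fun q => ?_
        obtain ⟨⟨⟨x, hx⟩, hxR⟩, rfl⟩ := QuotientGroup.mk'_surjective _ q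
        have hx' := hx
        rw [hX, ← SetLike.mem_coe, Subgroup.normal_mul] at hx'
        obtain ⟨u, hu, b, hb, rfl⟩ := hx'
        have hK2mem : (⟨u * b, hx⟩ : X) ∈ K2 := h2 hxR
        have hbK : (⟨b, (le_sup_right : B ≤ P ⊔ B) hb⟩ : X) ∈ K1 := hBK hb
        have huK : (⟨u, (le_sup_left : P ≤ P ⊔ B) hu⟩ : X) ∈ K2 := by
          have := mul_mem hK2mem (inv_mem (h12 hbK))
          convert this using 1
          exact Subtype.ext (show u = u * b * b⁻¹ by group)
        set u' : X := ⟨u, (le_sup_left : P ≤ P ⊔ B) hu⟩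
        set b' : X := ⟨b, (le_sup_right : B ≤ P ⊔ B) hb⟩
        obtain ⟨k, hk⟩ := Core.isPGroup_pCore p H ⟨u, hu⟩
        have hu1 : u' ^ p ^ k = 1 := Subtype.ext (by simpa [u'] using congrArg Subtype.val hk)
        refine ⟨k, ?_⟩
        rw [← map_pow]
        refine (QuotientGroup.eq_one_iff _).mpr ?_
        show (u' * b') ^ p ^ k ∈ K1
        have hKn := (Subgroup.normal_subgroupOf_iff_le_normalizer h12).mp hn huK
        have : ∀ n : ℕ, (u' * b') ^ n * (u' ^ n)⁻¹ ∈ K1 := by
          intro n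
          induction n with
          | zero => simp
          | succ n ihn =>
            have h4 : u' ^ n * (u' * b' * u'⁻¹) * (u' ^ n)⁻¹ ∈ K1 :=
              (Subgroup.mem_normalizer_iff.mp (pow_mem hKn n) _).mp ((Subgroup.mem_normalizer_iff.mp hKn _).mp hbK)
            have := mul_mem ihn h4
            convert this using 1
            rw [pow_succ, pow_succ]; group
        have h5 := this (p ^ k)
        rwa [hu1, inv_one, mul_one] at h5
      rw [Core.pResidual_pResidual, top_le_iff] at h3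
      exact Subgroup.subgroupOf_eq_top.mp h3
  have hRB : (Cfsg.pResidual p X).map X.subtype = B := by
    refine le_antisymm ?_ (hres X le_sup_right)
    rw [Subgroup.map_le_iff_le_comap]
    exact key (B.subgroupOf X) hB.subgroupOf le_rfl
  have hnorm : X ≤ Subgroup.normalizer (B : Set H) := by
    rw [← hRB]
    refine le_trans ?_ (Subgroup.le_normalizer_map X.subtype)
    rw [Subgroup.normalizer_eq_top, ← MonoidHom.range_eq_map, Subgroup.range_subtype]
  have hAX : A ≤ X := hAP.trans le_sup_left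
  refine ⟨hAX.trans hnorm, le_antisymm ?_ (hres _ le_sup_right)⟩
  set Y := A ⊔ B with hY
  rintro _ ⟨y, hy, rfl⟩
  have h := Core.map_pResidual_le (Subgroup.inclusion (sup_le hAX le_sup_right : Y ≤ X)) ⟨y, hy, rfl⟩
  rw [← hRB]
  exact ⟨_, h, rfl⟩


end Cfsg.Agent.S2820
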