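import Cfsg.Statements.S2822
import Cfsg.Agent.LocalEven.LargestPReduced

set_option autoImplicit false
open Cfsg

namespace Cfsg.Agent.S2822

/-- Let H be a finite group, p a prime, T a Sylow p-subgroup, and L, M subgroups of characteristic p containing T, with largest p-reduced normal subgroups Y_L, Y_M. If L·C_H(Y_M) = M·C_H(Y_M), then Y_M ≤ Y_L. -/
theorem result {H : Type*} [Group H] [Finite H] {p : ℕ} [Fact p.Prime] (T : Sylow p H) (L M : Subgroup H) (hTL : (T : Subgroup H) ≤ L) (hTM : (T : Subgroup H) ≤ M) (hL : Subgroup.centralizer (Cfsg.pCore p ↥L : Set ↥L) ≤ Cfsg.pCore p ↥L) (hM : Subgroup.centralizer (Cfsg.pCore p ↥M : Set ↥M) ≤ Cfsg.pCore p ↥M) : L ⊔ Subgroup.centralizer (((Cfsg.largestPReducedOf p M) : Subgroup H) : Set H) = M ⊔ Subgroup.centralizer (((Cfsg.largestPReducedOf p M) : Subgroup H) : Set H) → (Cfsg.largestPReducedOf p M) ≤ (Cfsg.largestPReducedOf p L) := by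
  intro hfac
  have hM' := LocalEven.largestOf_reduced (p := p) M
  have hMmax : LocalEven.IsMaxP p (T : Subgroup H) M :=
    ⟨hTM, T.isPGroup', fun R hR _ hle => T.is_maximal' hR hle⟩
  have hYL : Cfsg.largestPReducedOf p M ≤ L :=
    ((LocalEven.reduced_le_op (LocalEven.largestOf_le M) hM').trans hMmax.pCore_le).trans hTL
  exact LocalEven.le_largestOf hYL
    (LocalEven.reduced_of_factor (LocalEven.largestOf_le M) hYL hM' hfac)


end Cfsg.Agent.S2822
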