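import Cfsg.Statements.S2823
import Cfsg.Agent.LocalEven.LargestPReduced2

set_option autoImplicit false
open Cfsg

open scoped commutatorElement

namespace Cfsg.Agent.S2823

/-- Let H be a finite group, p a prime, T a Sylow p-subgroup and L a subgroup of characteristic p containing T; let Z_L be the subgroup generated by the Ω₁(Z(S)) over the Sylow p-subgroups S of L and O^p(L) the subgroup generated by the elements of L of order prime to p. Then Z_L = Ω₁(Z(L))·[Z_L, O^p(L)] and [Z_L, L] = [Z_L, O^p(L)]. -/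
theorem result {H : Type*} [Group H] [Finite H] {p : ℕ} [Fact p.Prime] (T : Sylow p H) (L : Subgroup H) (hTL : (T : Subgroup H) ≤ L) (hL : Subgroup.centralizer (Cfsg.pCore p ↥L : Set ↥L) ≤ Cfsg.pCore p ↥L) : Cfsg.sylowCenterClosure p L = (Cfsg.omegaOne p (L ⊓ Subgroup.centralizer ((L : Subgroup H) : Set H))) ⊔ ⁅Cfsg.sylowCenterClosure p L, (Cfsg.pResidual p ↥L).map L.subtype⁆ ∧ ⁅Cfsg.sylowCenterClosure p L, L⁆ = ⁅Cfsg.sylowCenterClosure p L, (Cfsg.pResidual p ↥L).map L.subtype⁆ := by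
  classical
  have hY := LocalEven.largestOf_reduced (p := p) L
  have hYle := LocalEven.largestOf_le (p := p) L
  have hTL' : LocalEven.IsMaxP p (T : Subgroup H) L :=
    ⟨hTL, T.isPGroup', fun R hR _ hle => T.is_maximal' hR hle⟩
  set Z := Cfsg.sylowCenterClosure p L with hZ
  set R := (Cfsg.pResidual p ↥L).map L.subtype with hR
  set D := ⁅Z, R⁆ with hD
  have hZV : Z ≤ LocalEven.omegaZ p (LocalEven.op p L) := by
    refine (iSup_le fun S => ?_).trans (LocalEven.reduced_le_omegaZ hYle hY)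
    refine (LocalEven.omegaZ_map_le (S := (S : Subgroup L))).trans ?_
    rw [Cfsg.largestPReducedOf]
    refine Subgroup.map_mono (Subgroup.subset_normalClosure.trans (LocalEven.le_largest ?_))
    exact (LocalEven.isPReducedNormal_normalClosure hL S le_rfl
      ((LocalEven.omegaOne_le _).trans inf_le_left) (LocalEven.omegaZ_reduced_self S.isPGroup')).1
  set V := LocalEven.omegaZ p (LocalEven.op p L) with hVdef
  have hVab := LocalEven.isElementaryAbelian_omegaOne (p := p) (LocalEven.inf_centralizer_abelian (LocalEven.op p L))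
  haveI : IsMulCommutative V := hVab.1
  have hVL : V ≤ L := ((LocalEven.omegaOne_le _).trans inf_le_left).trans (LocalEven.op_le L)
  have hLV : L ≤ Subgroup.normalizer (V : Set H) :=
    (LocalEven.map_pCore_normalized L).trans (LocalEven.normalizer_le_normalizer_omegaZ _)
  have hLR : L ≤ Subgroup.normalizer (R : Set H) := by
    refine le_trans ?_ (Subgroup.le_normalizer_map L.subtype)
    rw [Subgroup.normalizer_eq_top_iff.mpr inferInstance, ← MonoidHom.range_eq_map, Subgroup.range_subtype]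
  have hLZ : L ≤ Subgroup.normalizer (Z : Set H) := by
    intro g hg
    rw [← LocalEven.cj_eq_self_iff]
    refine Subgroup.eq_of_le_of_card_ge ?_ (LocalEven.card_cj _ _).ge
    rw [LocalEven.cj, hZ, Cfsg.sylowCenterClosure, Subgroup.map_iSup]
    refine iSup_le fun S => le_iSup_of_le ((⟨g, hg⟩ : L) • S) ?_
    rintro _ ⟨x, hx, rfl⟩
    obtain ⟨⟨y, hy, rfl⟩, hxC, hxp⟩ := LocalEven.mem_omegaZ.mp hx
    refine LocalEven.mem_omegaZ.mpr ⟨⟨⟨g, hg⟩ * y * ⟨g, hg⟩⁻¹, ?_, rfl⟩, ?_, ?_⟩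
    · exact Subgroup.smul_mem_pointwise_smul y (MulAut.conj (⟨g, hg⟩ : L)) (S : Subgroup L) hy
    · refine Subgroup.mem_centralizer_iff.mpr ?_
      rintro _ ⟨s, hs, rfl⟩
      obtain ⟨s', hs', rfl⟩ := hs
      have h1 : (s' : H) * (y : H) = (y : H) * s' := Subgroup.mem_centralizer_iff.mp hxC _ ⟨s', hs', rfl⟩
      show (g * (s' : H) * g⁻¹) * (g * (y : H) * g⁻¹) = (g * (y : H) * g⁻¹) * (g * (s' : H) * g⁻¹)
      calc (g * (s' : H) * g⁻¹) * (g * (y : H) * g⁻¹) = g * ((s' : H) * y) * g⁻¹ := by group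
        _ = g * ((y : H) * s') * g⁻¹ := by rw [h1]
        _ = _ := by group
    · show (g * (y : H) * g⁻¹) ^ p = 1
      rw [conj_pow, show (y : H) ^ p = 1 from hxp, mul_one, mul_inv_cancel]
  have hLD : L ≤ Subgroup.normalizer (D : Set H) := LocalEven.le_normalizer_comm hLZ hLR
  have hfac : ∀ S : Sylow p L, ∀ x ∈ L, ∃ s ∈ (S : Subgroup L).map L.subtype, ∃ r ∈ R, x = s * r := by
    intro S x hx
    have h1 : (⟨x, hx⟩ : L) ∈ (S : Subgroup L) ⊔ Cfsg.pResidual p L := by
      rw [Core.sylow_sup_pResidual]; exact Subgroup.mem_top _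
    rw [← SetLike.mem_coe, Subgroup.mul_normal] at h1
    obtain ⟨s, hs, r, hr, e⟩ := h1
    exact ⟨s, ⟨s, hs, rfl⟩, r, ⟨r, hr, rfl⟩, (congrArg Subtype.val e).symm⟩
  have hgen : ∀ S : Sylow p L, ∀ z ∈ LocalEven.omegaZ p ((S : Subgroup L).map L.subtype), ∀ x ∈ L,
      ⁅z, x⁆ ∈ D := by
    intro S z hz x hx
    obtain ⟨s, hs, r, hr, rfl⟩ := hfac S x hx
    obtain ⟨-, hzC, -⟩ := LocalEven.mem_omegaZ.mp hz
    rw [show ⁅z, s * r⁆ = ⁅z, s⁆ * (s * ⁅z, r⁆ * s⁻¹) by simp only [commutatorElement_def]; group,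
      commutatorElement_eq_one_iff_mul_comm.mpr (Subgroup.mem_centralizer_iff.mp hzC s hs).symm, one_mul]
    exact (Subgroup.mem_normalizer_iff.mp (hLD (Subgroup.map_subtype_le _ hs)) _).mp
      (Subgroup.commutator_mem_commutator (le_iSup (fun S : Sylow p L => Cfsg.omegaOne p (((S : Subgroup L).map L.subtype) ⊓
        Subgroup.centralizer (((S : Subgroup L).map L.subtype : Subgroup H) : Set H))) S hz) hr)
  let K : Subgroup H :=
    { carrier := {z | z ∈ L ∧ ∀ x ∈ L, ⁅z, x⁆ ∈ D}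
      one_mem' := ⟨L.one_mem, fun x _ => by rw [commutatorElement_one_left]; exact D.one_mem⟩
      mul_mem' := fun {a b} ha hb => ⟨L.mul_mem ha.1 hb.1, fun x hx => by
        rw [show ⁅a * b, x⁆ = (a * ⁅b, x⁆ * a⁻¹) * ⁅a, x⁆ by simp only [commutatorElement_def]; group]
        exact D.mul_mem ((Subgroup.mem_normalizer_iff.mp (hLD ha.1) _).mp (hb.2 x hx)) (ha.2 x hx)⟩
      inv_mem' := fun {a} ha => ⟨L.inv_mem ha.1, fun x hx => by
        rw [show ⁅a⁻¹, x⁆ = a⁻¹ * ⁅a, x⁆⁻¹ * a⁻¹⁻¹ by simp only [commutatorElement_def]; group]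
        exact (Subgroup.mem_normalizer_iff.mp (hLD (L.inv_mem ha.1)) _).mp (D.inv_mem (ha.2 x hx))⟩ }
  have hZK : Z ≤ K := iSup_le fun S z hz =>
    ⟨Subgroup.map_subtype_le _ (LocalEven.mem_omegaZ.mp hz).1, hgen S z hz⟩
  refine ⟨le_antisymm (iSup_le fun S z hz => ?_) (sup_le ?_ ?_),
    le_antisymm (Subgroup.commutator_le.mpr fun z hz x hx => (hZK hz).2 x hx)
      (Subgroup.commutator_mono le_rfl (Subgroup.map_subtype_le _))⟩
  · obtain ⟨hzS, hzC, hzp⟩ := LocalEven.mem_omegaZ.mp hz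
    have hzV : z ∈ V := hZV (le_iSup (fun S : Sylow p L => Cfsg.omegaOne p (((S : Subgroup L).map L.subtype) ⊓
      Subgroup.centralizer (((S : Subgroup L).map L.subtype : Subgroup H) : Set H))) S hz)
    set S' := (S : Subgroup L).map L.subtype with hS'
    have hfix : ∀ s ∈ S', s * ((⟨z, hzV⟩ : V) : H) = (⟨z, hzV⟩ : V) * s :=
      fun s hs => Subgroup.mem_centralizer_iff.mp hzC s hs
    set a := LocalEven.avg hLV S' ⟨z, hzV⟩
    set n := S'.relIndex L
    have hn : ¬ p ∣ n := (LocalEven.sylow_isMaxP S).not_dvd_relIndex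
    have haA : (a : H) ∈ LocalEven.omegaZ p L := LocalEven.mem_omegaZ.mpr ⟨hVL a.2,
      Subgroup.mem_centralizer_iff.mpr fun x hx => LocalEven.avg_fixed hLV hfix hx, hVab.2 _ a.2⟩
    have hd : ((a * ((⟨z, hzV⟩ : V) ^ n)⁻¹ : V) : H) ∈ D := LocalEven.avg_mod hLV fun x hx => by
      have h1 := D.inv_mem (hgen S z hz x hx)
      rw [commutatorElement_inv, commutatorElement_def] at h1
      exact h1
    refine LocalEven.mem_of_pow_mem hzp hn ?_
    rw [Subgroup.coe_mul, Subgroup.coe_inv, Subgroup.coe_pow] at hd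
    rw [show z ^ n = ((a : H) * (z ^ n)⁻¹)⁻¹ * a by group]
    exact mul_mem (Subgroup.mem_sup_right (D.inv_mem hd)) (Subgroup.mem_sup_left haA)
  · intro z hz
    obtain ⟨hzL, hzC, hzp⟩ := LocalEven.mem_omegaZ.mp hz
    have hzop : z ∈ LocalEven.op p L := by
      refine LocalEven.le_op (N := Subgroup.zpowers z) (Subgroup.zpowers_le.mpr hzL) ?_ ?_ (Subgroup.mem_zpowers z)
      · refine le_trans ?_ (Subgroup.centralizer_le_normalizer _)
        rw [Subgroup.le_centralizer_iff, Subgroup.zpowers_le]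
        exact hzC
      · intro w
        obtain ⟨m, hm⟩ := Subgroup.mem_zpowers_iff.mp w.2
        refine ⟨1, Subtype.ext ?_⟩
        rw [pow_one, Subgroup.coe_pow, Subgroup.coe_one, ← hm, ← zpow_natCast, ← zpow_mul, mul_comm, zpow_mul,
          zpow_natCast, hzp, one_zpow]
    have hzT : z ∈ (T : Subgroup H) := hTL'.pCore_le hzop
    refine le_iSup (fun S : Sylow p L => Cfsg.omegaOne p (((S : Subgroup L).map L.subtype) ⊓
      Subgroup.centralizer (((S : Subgroup L).map L.subtype : Subgroup H) : Set H))) (T.subtype hTL) ?_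
    refine LocalEven.mem_omegaZ.mpr ⟨⟨⟨z, hzL⟩, hzT, rfl⟩, ?_, hzp⟩
    refine Subgroup.mem_centralizer_iff.mpr ?_
    rintro _ ⟨s, -, rfl⟩
    exact Subgroup.mem_centralizer_iff.mp hzC s s.2
  · rw [hD, Subgroup.commutator_comm, Subgroup.commutator_le]
    intro r hr z hz
    rw [commutatorElement_def, mul_assoc, mul_assoc]
    rw [← mul_assoc, ← mul_assoc]
    exact Z.mul_mem ((Subgroup.mem_normalizer_iff.mp (hLZ (Subgroup.map_subtype_le _ hr)) _).mp hz) (Z.inv_mem hz)


end Cfsg.Agent.S2823
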