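import Cfsg.Statements.S2825
import Cfsg.Agent.LocalEven.LargestPReduced2

set_option autoImplicit false
open Cfsg

namespace Cfsg.Agent.S2825

/-- Let L be a subnormal subgroup of the finite group H, p a prime, Y_H and Y_L the largest p-reduced normal subgroups. Then Y_H ∩ L = Y_H ∩ Y_L and this subgroup is a p-reduced normal subgroup of L; C_L(Y_L) = C_L(Y_H) = C_L(Y_H ∩ L); and if O^p(H) ≤ L, then [Y_L, L] = 1 if and only if [Y_H, H] = 1. -/
theorem result {H : Type*} [Group H] [Finite H] {p : ℕ} [Fact p.Prime] (L : Subgroup H) (hL : L.IsSubnormal) : Cfsg.largestPReduced p H ⊓ L = Cfsg.largestPReduced p H ⊓ (Cfsg.largestPReducedOf p L) ∧ Cfsg.IsPReducedNormal p ((Cfsg.largestPReduced p H ⊓ L).subgroupOf L) ∧ L ⊓ Subgroup.centralizer ((Cfsg.largestPReducedOf p L : Subgroup H) : Set H) = L ⊓ Subgroup.centralizer (Cfsg.largestPReduced p H : Set H) ∧ L ⊓ Subgroup.centralizer (Cfsg.largestPReduced p H : Set H) = L ⊓ Subgroup.centralizer ((Cfsg.largestPReduced p H ⊓ L : Subgroup H)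 : Set H) ∧ (Cfsg.pResidual p H ≤ L → (⁅(Cfsg.largestPReducedOf p L), L⁆ = ⊥ ↔ ⁅Cfsg.largestPReduced p H, (⊤ : Subgroup H)⁆ = ⊥)) := by
  have hV := LocalEven.isPReducedNormal_largest (p := p) (L := H)
  have hVL := LocalEven.isPReducedNormal_inf_subnormal hV hL
  have hle : Cfsg.largestPReduced p H ⊓ L ≤ Cfsg.largestPReducedOf p L :=
    LocalEven.le_largestOf inf_le_right hVL
  have hcent := LocalEven.inf_centralizer_inf_subnormal hV hL
  have hC : L ⊓ Subgroup.centralizer (Cfsg.largestPReducedOf p L : Set H) =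
      L ⊓ Subgroup.centralizer (Cfsg.largestPReduced p H : Set H) :=
    le_antisymm ((inf_le_inf_left L (Subgroup.centralizer_le hle)).trans hcent.le)
      (le_inf inf_le_left (LocalEven.subnormal_inf_centralizer_le hL))
  refine ⟨le_antisymm (le_inf inf_le_left hle) (inf_le_inf_left _ (LocalEven.largestOf_le L)), hVL, hC,
    hcent.symm, fun hres => ?_⟩
  rw [Subgroup.commutator_comm, Subgroup.commutator_eq_bot_iff_le_centralizer, Subgroup.commutator_comm,
    Subgroup.commutator_eq_bot_iff_le_centralizer]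
  constructor
  · intro h
    refine LocalEven.pReduced_le_centralizer hV inferInstance fun y _ => ?_
    obtain ⟨k, hk⟩ := LocalEven.coprime_pow_ppart (p := p) y
    exact ⟨k, (Subgroup.mem_inf.mp (hC.le (Subgroup.mem_inf.mpr
      ⟨hres (Core.mem_pResidual hk), h (hres (Core.mem_pResidual hk))⟩))).2⟩
  · intro h x hx
    exact (Subgroup.mem_inf.mp (hC.ge (Subgroup.mem_inf.mpr ⟨hx, h (Subgroup.mem_top x)⟩))).2


end Cfsg.Agent.S2825
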