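import Cfsg.Statements.S2826
import Cfsg.Agent.LocalEven.LargestPReduced2

set_option autoImplicit false
open Cfsg

open scoped commutatorElement

namespace Cfsg.Agent.S2826

/-- Let H be a finite group of characteristic p, T a Sylow p-subgroup, and V a normal elementary abelian p-subgroup of H containing Ω₁(Z(T)). Then C_H(Ω₁(Z(T))) = C_H([V, O^p(H)] ∩ Ω₁(Z(T))), O^p(H) being generated by the elements of order prime to p. -/
theorem result {H : Type*} [Group H] [Finite H] {p : ℕ} [Fact p.Prime] (hH : Subgroup.centralizer (Cfsg.pCore p H : Set H) ≤ Cfsg.pCore p H) (T : Sylow p H) (V : Subgroup H) [V.Normal] (hV : Cfsg.IsElementaryAbelian p V) (hZV : (Cfsg.omegaOne p ((T : Subgroup H) ⊓ Subgroup.centralizer (((T : Subgroup H) : Subgroup H) : Set H))) ≤ V) : Subgroup.centralizer ((Cfsg.omegaOne p ((T : Subgroup H) ⊓ Subgroup.centralizer (((T : Subgroup H) : Subgroup H) : Set H))) : Set H) = Subgroup.centralizer (((⁅V, Cfsg.pResidual p H⁆ ⊓ (Cfsg.omegaOne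 p ((T : Subgroup H) ⊓ Subgroup.centralizer (((T : Subgroup H) : Subgroup H) : Set H)))) : Subgroup H) : Set H) := by
  classical
  set Ω := LocalEven.omegaZ p (T : Subgroup H) with hΩ
  set D := ⁅V, Cfsg.pResidual p H⁆ with hD
  haveI : IsMulCommutative V := hV.1
  refine le_antisymm (Subgroup.centralizer_le inf_le_right) ?_
  set X := Subgroup.centralizer ((D ⊓ Ω : Subgroup H) : Set H) with hX
  rw [Subgroup.le_centralizer_iff]
  intro z hz
  obtain ⟨hzT, hzC, hzp⟩ := LocalEven.mem_omegaZ.mp hz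
  have hVT : V ≤ (T : Subgroup H) :=
    (Core.le_pCore inferInstance (LocalEven.isPGroup_of_elementary hV)).trans (Core.pCore_le_sylow T)
  have hTX : (T : Subgroup H) ≤ X := fun t ht => Subgroup.mem_centralizer_iff.mpr fun w hw =>
    (Subgroup.mem_centralizer_iff.mp (LocalEven.mem_omegaZ.mp (Subgroup.mem_inf.mp hw).2).2.1 t ht).symm
  have hXV : X ≤ Subgroup.normalizer (V : Set H) := by
    rw [Subgroup.normalizer_eq_top V]; exact le_top
  have hTX' : LocalEven.IsMaxP p (T : Subgroup H) X :=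
    ⟨hTX, T.isPGroup', fun R hR _ hle => T.is_maximal' hR hle⟩
  set v : V := ⟨z, hZV hz⟩ with hv
  have hfix : ∀ t ∈ (T : Subgroup H), t * (v : H) = v * t := fun t ht => Subgroup.mem_centralizer_iff.mp hzC t ht
  set a := LocalEven.avg hXV (T : Subgroup H) v
  set n := (T : Subgroup H).relIndex X
  have ha : ∀ x ∈ X, x * (a : H) = a * x := fun x hx => LocalEven.avg_fixed hXV hfix hx
  have hmod : ∀ x : H, x * (v : H) * x⁻¹ * (v : H)⁻¹ ∈ D := by
    intro x
    have h1 : x ∈ (T : Subgroup H) ⊔ Cfsg.pResidual p H := by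
      rw [Core.sylow_sup_pResidual]; exact Subgroup.mem_top _
    rw [← SetLike.mem_coe, Subgroup.mul_normal] at h1
    obtain ⟨t, ht, r, hr, rfl⟩ := h1
    have e : t * z * t⁻¹ = z := by
      rw [Subgroup.mem_centralizer_iff.mp hzC t ht, mul_inv_cancel_right]
    have h2 : ⁅r, z⁆ ∈ D := by
      rw [hD, Subgroup.commutator_comm]
      exact Subgroup.commutator_mem_commutator hr (hZV hz)
    have h3 : t * ⁅r, z⁆ * t⁻¹ = t * r * z * (t * r)⁻¹ * z⁻¹ := by
      rw [commutatorElement_def]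
      calc t * (r * z * r⁻¹ * z⁻¹) * t⁻¹ = t * r * z * r⁻¹ * (t⁻¹ * t) * z⁻¹ * t⁻¹ := by group
        _ = t * r * z * r⁻¹ * t⁻¹ * (t * z * t⁻¹)⁻¹ := by group
        _ = _ := by rw [e]; group
    show t * r * z * (t * r)⁻¹ * z⁻¹ ∈ D
    rw [← h3]
    exact (inferInstance : D.Normal).conj_mem _ h2 t
  have hd : ((a * (v ^ n)⁻¹ : V) : H) ∈ D ⊓ Ω := by
    refine Subgroup.mem_inf.mpr ⟨LocalEven.avg_mod hXV fun x _ => hmod x, ?_⟩
    refine LocalEven.mem_omegaZ.mpr ⟨hVT (a * (v ^ n)⁻¹ : V).2, Subgroup.mem_centralizer_iff.mpr fun t ht => ?_,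
      hV.2 _ (a * (v ^ n)⁻¹ : V).2⟩
    rw [Subgroup.coe_mul, Subgroup.coe_inv, Subgroup.coe_pow]
    exact (Commute.mul_right (ha t (hTX ht)) ((show Commute t (v : H) from hfix t ht).pow_right n).inv_right).eq
  refine LocalEven.mem_of_pow_mem hzp hTX'.not_dvd_relIndex ?_
  rw [show z ^ n = ((a * (v ^ n)⁻¹ : V) : H)⁻¹ * (a : H) by
    rw [Subgroup.coe_mul, Subgroup.coe_inv, Subgroup.coe_pow, hv]; group]
  exact mul_mem (inv_mem (Subgroup.mem_centralizer_iff.mpr fun x hx =>
    (Subgroup.mem_centralizer_iff.mp hx _ hd).symm)) (Subgroup.mem_centralizer_iff.mpr ha)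


end Cfsg.Agent.S2826
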