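import Cfsg.Statements.S2827
import Cfsg.Agent.LocalEven.PClosed
import Cfsg.Agent.LocalEven.Commutator

set_option autoImplicit false
open Cfsg

open scoped commutatorElement

namespace Cfsg.Agent.S2827

/-- Let H be a finite p-irreducible group (not p-closed, and O^p(H) lies in every normal subgroup that is not p-closed) and T a Sylow p-subgroup. Then H is generated by the conjugates of T and H = H'·T; O^p(H) ≤ H'; and for every normal subgroup Y of T not contained in O_p(H), O^p(H) = [O^p(H), Y] and O^p(H) is contained in the normal closure of Y in H. -/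
theorem result {H : Type*} [Group H] [Finite H] {p : ℕ} [Fact p.Prime] (hH : Cfsg.IsPIrreducible p H) (T : Sylow p H) : Subgroup.normalClosure ((T : Subgroup H) : Set H) = ⊤ ∧ commutator H ⊔ (T : Subgroup H) = ⊤ ∧ Cfsg.pResidual p H ≤ commutator H ∧ ∀ Y : Subgroup H, Y ≤ (T : Subgroup H) → (T : Subgroup H) ≤ Subgroup.normalizer (Y : Set H) → ¬ Y ≤ Cfsg.pCore p H → ⁅Cfsg.pResidual p H, Y⁆ = Cfsg.pResidual p H ∧ Cfsg.pResidual p H ≤ Subgroup.normalClosure (Y : Set H) := by
  classical
  obtain ⟨hnc, hirr⟩ := hH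
  set L := Cfsg.pResidual p H with hLdef
  haveI : L.Normal := by rw [hLdef]; infer_instance
  have hTL : (T : Subgroup H) ⊔ L = ⊤ := Core.sylow_sup_pResidual T
  have hTelt : ∀ x ∈ (T : Subgroup H), ∃ k, orderOf x = p ^ k := fun x hx => by
    obtain ⟨k, hk⟩ := IsPGroup.iff_orderOf.mp T.isPGroup' ⟨x, hx⟩
    exact ⟨k, by rw [← hk, Subgroup.orderOf_mk]⟩
  have hclosure : ∀ Y : Subgroup H, Y ≤ (T : Subgroup H) → ¬ Y ≤ Cfsg.pCore p H →
      L ≤ Subgroup.normalClosure (Y : Set H) := by
    intro Y hY hne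
    refine hirr _ Subgroup.normalClosure_normal fun hc => hne fun y hy => ?_
    exact LocalEven.isPClosed_normal_iff.mp hc y (Subgroup.le_normalClosure hy) (hTelt y (hY hy))
  have hTO : ¬ (T : Subgroup H) ≤ Cfsg.pCore p H := by
    intro hle
    refine hnc (LocalEven.isPClosed_iff.mpr fun x hx => hle ?_)
    haveI hn : (T : Subgroup H).Normal := by
      rw [le_antisymm hle (Core.pCore_le_sylow T)]; infer_instance
    exact LocalEven.pElement_mem_of_sylow_normal hn hx
  have hgen : Subgroup.normalClosure ((T : Subgroup H) : Set H) = ⊤ := by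
    refine top_le_iff.mp (hTL ▸ sup_le Subgroup.le_normalClosure (hclosure T le_rfl hTO))
  have hcT : commutator H ⊔ (T : Subgroup H) = ⊤ := by
    haveI : (commutator H ⊔ (T : Subgroup H)).Normal := Subgroup.Normal.of_commutator_le H le_sup_left
    exact top_le_iff.mp (hgen ▸ Subgroup.normalClosure_le_normal (SetLike.coe_subset_coe.mpr le_sup_right))
  refine ⟨hgen, hcT, Core.pResidual_le_of_isPGroup fun q => ?_, fun Y hY hTY hne => ⟨?_, hclosure Y hY hne⟩⟩
  · obtain ⟨x, rfl⟩ := QuotientGroup.mk'_surjective _ q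
    have hx : x ∈ commutator H ⊔ (T : Subgroup H) := hcT ▸ Subgroup.mem_top x
    rw [← SetLike.mem_coe, Subgroup.normal_mul] at hx
    obtain ⟨c, hc, t, ht, rfl⟩ := hx
    obtain ⟨k, hk⟩ := T.isPGroup' ⟨t, ht⟩
    refine ⟨k, ?_⟩
    rw [QuotientGroup.mk'_apply, QuotientGroup.mk_mul, (QuotientGroup.eq_one_iff c).mpr hc, one_mul,
      ← QuotientGroup.mk_pow, show t ^ p ^ k = 1 from congrArg Subtype.val hk, QuotientGroup.mk_one]
  · refine le_antisymm (Subgroup.commutator_le_left L Y) ?_
    set K := ⁅L, Y⁆ with hK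
    have hLn : ∀ X : Subgroup H, X ≤ Subgroup.normalizer (L : Set H) := fun X => by
      rw [Subgroup.normalizer_eq_top L]; exact le_top
    haveI hKn : K.Normal := by
      rw [← Subgroup.normalizer_eq_top_iff, eq_top_iff, ← hTL]
      exact sup_le (LocalEven.le_normalizer_comm (hLn _) hTY) (Subgroup.normalizer_commutator_ge_left L Y)
    set B := K ⊔ Y with hB
    haveI hBn : B.Normal := by
      rw [← Subgroup.normalizer_eq_top_iff, eq_top_iff, ← hTL]
      refine sup_le (fun t ht => ?_) fun l hl => ?_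
      · rw [← LocalEven.cj_eq_self_iff, hB, LocalEven.cj, Subgroup.map_sup]
        change LocalEven.cj t K ⊔ LocalEven.cj t Y = _
        rw [LocalEven.cj_eq_self_iff.mpr (hTY ht), LocalEven.cj_eq_self_iff.mpr (by rw [Subgroup.normalizer_eq_top K]; trivial)]
      · rw [← LocalEven.cj_eq_self_iff]
        refine Subgroup.eq_of_le_of_card_ge ?_ (LocalEven.card_cj l B).ge
        rw [hB, LocalEven.cj, Subgroup.map_sup]
        refine sup_le ?_ ?_
        · rintro _ ⟨x, hx, rfl⟩
          exact (le_sup_left : K ≤ K ⊔ Y) (hKn.conj_mem x hx l)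
        · rintro _ ⟨y, hy, rfl⟩
          show l * y * l⁻¹ ∈ _
          rw [show l * y * l⁻¹ = ⁅l, y⁆ * y by simp only [commutatorElement_def]; group]
          exact Subgroup.mul_mem_sup (Subgroup.commutator_mem_commutator hl hy) hy
    have hLB : L ≤ B := (hclosure Y hY hne).trans (Subgroup.normalClosure_le_normal (SetLike.coe_subset_coe.mpr le_sup_right))
    have hBT : B ≤ K ⊔ (T : Subgroup H) := sup_le_sup_left hY K
    have htop : K ⊔ (T : Subgroup H) = ⊤ := top_le_iff.mp (hTL ▸ sup_le le_sup_right (hLB.trans hBT))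
    refine Core.pResidual_le_of_isPGroup fun q => ?_
    obtain ⟨x, rfl⟩ := QuotientGroup.mk'_surjective _ q
    have hx : x ∈ K ⊔ (T : Subgroup H) := htop ▸ Subgroup.mem_top x
    rw [← SetLike.mem_coe, Subgroup.normal_mul] at hx
    obtain ⟨c, hc, t, ht, rfl⟩ := hx
    obtain ⟨k, hk⟩ := T.isPGroup' ⟨t, ht⟩
    refine ⟨k, ?_⟩
    rw [QuotientGroup.mk'_apply, QuotientGroup.mk_mul, (QuotientGroup.eq_one_iff c).mpr hc, one_mul,
      ← QuotientGroup.mk_pow, show t ^ p ^ k = 1 from congrArg Subtype.val hk, QuotientGroup.mk_one]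


end Cfsg.Agent.S2827
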