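import Cfsg.Statements.S2828
import Cfsg.Agent.LocalEven.PClosed

set_option autoImplicit false
open Cfsg

namespace Cfsg.Agent.S2828

/-- Let H be a finite group, p a prime and D a normal p-subgroup of H. Then H is p-irreducible if and only if H/D is p-irreducible, and H is strongly p-irreducible if and only if H/D is strongly p-irreducible. -/
theorem result {H : Type*} [Group H] [Finite H] {p : ℕ} [Fact p.Prime] (D : Subgroup H) [D.Normal] (hD : IsPGroup p ↥D) : (Cfsg.IsPIrreducible p H ↔ Cfsg.IsPIrreducible p (H ⧸ D)) ∧ (Cfsg.IsStronglyPIrreducible p H ↔ Cfsg.IsStronglyPIrreducible p (H ⧸ D)) := by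
  classical
  set π := QuotientGroup.mk' D with hπ
  have hs := QuotientGroup.mk'_surjective D
  set L := Cfsg.pResidual p H with hL
  have hLmap : L.map π = Cfsg.pResidual p (H ⧸ D) := Core.map_pResidual_eq hs
  have hcomm : ∀ N : Subgroup H, ⁅N.map π, (⊤ : Subgroup (H ⧸ D))⁆ ≤ Cfsg.pCore p (H ⧸ D) ↔
      ⁅N, (⊤ : Subgroup H)⁆ ≤ Cfsg.pCore p H := by
    intro N
    rw [← Subgroup.map_top_of_surjective π hs, ← Subgroup.map_commutator, Subgroup.map_le_iff_le_comap,
      Core.comap_pCore_quotient D hD]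
  have hback : ∀ N : Subgroup H, N.Normal → Cfsg.pResidual p (H ⧸ D) ≤ N.map π → L ≤ N := by
    intro N hN h
    haveI := hN
    refine LocalEven.pResidual_le_of_le_sup hD ?_
    rw [← hLmap, Subgroup.map_le_map_iff, QuotientGroup.ker_mk'] at h
    exact h
  have hcl : Cfsg.IsPClosed p (H ⧸ D) ↔ Cfsg.IsPClosed p H := LocalEven.isPClosed_quotient_iff hD
  refine ⟨⟨fun ⟨h1, h2⟩ => ⟨fun e => h1 (hcl.mp e), fun N hN hNc => ?_⟩,
    fun ⟨h1, h2⟩ => ⟨fun e => h1 (hcl.mpr e), fun N hN hNc => ?_⟩⟩,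
    ⟨fun ⟨h1, h2⟩ => ⟨fun e => h1 (hcl.mp e), fun N hN hNc => ?_⟩,
    fun ⟨h1, h2⟩ => ⟨fun e => h1 (hcl.mpr e), fun N hN hNc => ?_⟩⟩⟩
  · haveI : (N.comap π).Normal := inferInstance
    have e : (N.comap π).map π = N := Subgroup.map_comap_eq_self_of_surjective hs N
    have := h2 (N.comap π) inferInstance fun hc => hNc (by rw [← e]; exact (LocalEven.isPClosed_map_iff hD).mpr hc)
    rw [← hLmap]
    exact (Subgroup.map_mono this).trans e.le
  · haveI := hN
    haveI hmn : (N.map π).Normal := Subgroup.Normal.map hN _ hs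
    exact hback N hN (h2 _ hmn fun hc => hNc ((LocalEven.isPClosed_map_iff hD).mp hc))
  · have e : (N.comap π).map π = N := Subgroup.map_comap_eq_self_of_surjective hs N
    have := h2 (N.comap π) inferInstance fun hc => hNc (by rw [← e]; exact (hcomm _).mpr hc)
    rw [← hLmap]
    exact (Subgroup.map_mono this).trans e.le
  · haveI := hN
    exact hback N hN (h2 _ (Subgroup.Normal.map hN _ hs) fun hc => hNc ((hcomm N).mp hc))


end Cfsg.Agent.S2828
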