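import Cfsg.Statements.S2829
import Cfsg.Agent.LocalEven.PClosed

set_option autoImplicit false
open Cfsg

open scoped commutatorElement

namespace Cfsg.Agent.S2829

/-- Every strongly p-irreducible finite group is p-irreducible. -/
theorem result {H : Type*} [Group H] [Finite H] {p : ℕ} [Fact p.Prime] (hH : Cfsg.IsStronglyPIrreducible p H) : Cfsg.IsPIrreducible p H := by
  refine ⟨hH.1, fun N hN hNc => hH.2 N hN fun hle => hNc ?_⟩
  haveI := hN
  refine fun S => ⟨fun s hs g => ?_⟩
  have h1 : ⁅(g : H), (s : H)⁆ ∈ Cfsg.pCore p H ⊓ N := by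
    refine Subgroup.mem_inf.mpr ⟨hle ?_, ?_⟩
    · rw [Subgroup.commutator_comm]; exact Subgroup.commutator_mem_commutator (Subgroup.mem_top _) s.2
    · exact (Subgroup.commutator_le_right ⊤ N) (Subgroup.commutator_mem_commutator (Subgroup.mem_top _) s.2)
  rw [← Core.map_pCore_subtype] at h1
  obtain ⟨y, hy, e⟩ := h1
  have h2 : g * s * g⁻¹ = y * s := by
    apply Subtype.ext
    show (g : H) * s * (g : H)⁻¹ = (y : H) * s
    rw [show (y : H) = ⁅(g : H), (s : H)⁆ from e]
    simp only [commutatorElement_def]; group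
  rw [h2]
  exact mul_mem (Core.pCore_le_sylow S hy) hs


end Cfsg.Agent.S2829
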