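import Cfsg.Statements.S2830
import Cfsg.Agent.LocalEven.PClosed
import Cfsg.Agent.LocalEven.Conj

set_option autoImplicit false
open Cfsg

namespace Cfsg.Agent.S2830

/-- Let H act by conjugation on the elementary abelian p-subgroup V of a finite group G (H ≤ N(V)), with H p-irreducible and O^p(H) not centralizing V. Then C_H(V) is p-closed and C_T(V) ≤ O_p(H) for every p-subgroup T of H. If in addition O_p(H) centralizes V, then C_T(V) = T ∩ O_p(H) for every p-subgroup T of H, and V is p-reduced for H: O_p(H/C_H(V)) = 1. -/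
theorem result {G : Type*} [Group G] [Finite G] {p : ℕ} [Fact p.Prime] (V H : Subgroup G) (hV : Cfsg.IsElementaryAbelian p V) (hHV : H ≤ Subgroup.normalizer (V : Set G)) (hH : Cfsg.IsPIrreducible p ↥H) (hnc : ¬ (Cfsg.pResidual p ↥H).map H.subtype ≤ Subgroup.centralizer (V : Set G)) [hn : ((Subgroup.centralizer (V : Set G)).subgroupOf H).Normal] : Cfsg.IsPClosed p ↥(H ⊓ Subgroup.centralizer (V : Set G)) ∧ (∀ T : Subgroup G, T ≤ H → IsPGroup p ↥T → T ⊓ Subgroup.centralizer (V : Set G) ≤ Cfsg.pCoreOf p H) ∧ (Cfsg.pCoreOf p H ≤ Subgroup.centralizer (V : Set G) → (∀ T : Subgroup G, T ≤ H → IsPGroup p ↥T → T ⊓ Subgroup.centralizer (V : Set G) = T ⊓ Cfsg.pCoreOf p H) ∧ Cfsg.pCore p (↥H ⧸ (Subgroup.centralizer (V : Set G)).subgroupOf H) = ⊥) := by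
  classical
  obtain ⟨-, hirr⟩ := hH
  set C := (Subgroup.centralizer (V : Set G)).subgroupOf H with hC
  have hLC : ¬ Cfsg.pResidual p H ≤ C := fun h => hnc (Subgroup.map_le_iff_le_comap.mpr h)
  have hCc : Cfsg.IsPClosed p C := by_contra fun h => hLC (hirr C hn h)
  have helt : ∀ x : G, x ∈ H → x ∈ Subgroup.centralizer (V : Set G) → (∃ k, orderOf x = p ^ k) → x ∈ Cfsg.pCoreOf p H := by
    intro x hx hxc hk
    exact ⟨⟨x, hx⟩, LocalEven.isPClosed_normal_iff.mp hCc ⟨x, hx⟩ hxc (by simpa [Subgroup.orderOf_mk] using hk), rfl⟩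
  have hTle : ∀ T : Subgroup G, T ≤ H → IsPGroup p T → T ⊓ Subgroup.centralizer (V : Set G) ≤ Cfsg.pCoreOf p H := by
    intro T hTH hT x hx
    obtain ⟨h1, h2⟩ := Subgroup.mem_inf.mp hx
    obtain ⟨k, hk⟩ := IsPGroup.iff_orderOf.mp hT ⟨x, h1⟩
    exact helt x (hTH h1) h2 ⟨k, by rw [← hk, Subgroup.orderOf_mk]⟩
  refine ⟨?_, hTle, fun hO => ⟨fun T hTH hT => le_antisymm (le_inf inf_le_left (hTle T hTH hT))
    (le_inf inf_le_left (inf_le_right.trans hO)), ?_⟩⟩
  · rw [LocalEven.isPClosed_iff]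
    intro x hk
    have hD : Cfsg.pCoreOf p H ⊓ Subgroup.centralizer (V : Set G) ≤ H ⊓ Subgroup.centralizer (V : Set G) :=
      inf_le_inf_right _ (Subgroup.map_subtype_le _)
    set D := (Cfsg.pCoreOf p H ⊓ Subgroup.centralizer (V : Set G)).subgroupOf (H ⊓ Subgroup.centralizer (V : Set G))
    haveI : D.Normal := by
      rw [Subgroup.normal_subgroupOf_iff_le_normalizer hD]
      intro g hg
      obtain ⟨hg1, hg2⟩ := Subgroup.mem_inf.mp hg
      rw [Subgroup.mem_normalizer_iff]
      intro y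
      rw [Subgroup.mem_inf, Subgroup.mem_inf]
      refine and_congr (Subgroup.mem_normalizer_iff.mp ?_ y) (Subgroup.mem_normalizer_iff.mp (Subgroup.le_normalizer hg2) y)
      exact Subgroup.le_normalizer_map H.subtype ⟨⟨g, hg1⟩, by rw [Subgroup.normalizer_eq_top]; trivial, rfl⟩
    have hDp : IsPGroup p D :=
      (((Core.isPGroup_pCore p H).map H.subtype).to_le inf_le_left).of_equiv (Subgroup.subgroupOfEquivOfLe hD).symm
    refine Core.le_pCore inferInstance hDp ?_
    obtain ⟨h1, h2⟩ := Subgroup.mem_inf.mp x.2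
    exact Subgroup.mem_inf.mpr ⟨helt x h1 h2 (by simpa [Subgroup.orderOf_coe] using hk), h2⟩
  · have hs := QuotientGroup.mk'_surjective C
    set π := QuotientGroup.mk' C with hπ
    set K := (Cfsg.pCore p (H ⧸ C)).comap π with hK
    have hKp : ∀ x ∈ K, ∃ k, x ^ p ^ k ∈ C := fun x hx => by
      obtain ⟨k, hk⟩ := Core.isPGroup_pCore p (H ⧸ C) ⟨π x, hx⟩
      refine ⟨k, (QuotientGroup.eq_one_iff _).mp ?_⟩
      have := congrArg Subtype.val hk
      simpa [π] using this
    have hOC : Cfsg.pCore p H ≤ C := fun x hx => hO ⟨x, hx, rfl⟩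
    have hKC : K ≤ C := by
      by_cases hKc : Cfsg.IsPClosed p K
      · intro x hx
        obtain ⟨k, hk⟩ := hKp x hx
        -- split off the `p`-part
        obtain ⟨a, m, hm, he⟩ := Nat.exists_eq_pow_mul_and_not_dvd (orderOf_pos x).ne' p (Fact.out : p.Prime).ne_one
        have hxm : x ^ m ∈ C := hOC (LocalEven.isPClosed_normal_iff.mp hKc (x ^ m) (K.pow_mem hx m) (by
          have h1 : (x ^ m) ^ p ^ a = 1 := by rw [← pow_mul, mul_comm, ← he, pow_orderOf_eq_one]
          obtain ⟨j, -, hj⟩ := (Nat.dvd_prime_pow Fact.out).mp (orderOf_dvd_of_pow_eq_one h1)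
          exact ⟨j, hj⟩))
        have hcop : Nat.Coprime m (p ^ k) :=
          ((Nat.coprime_comm).mp ((Fact.out : p.Prime).coprime_iff_not_dvd.mpr hm)).pow_right k
        rw [← QuotientGroup.eq_one_iff, ← orderOf_eq_one_iff]
        refine Nat.eq_one_of_dvd_coprimes hcop (orderOf_dvd_of_pow_eq_one ?_) (orderOf_dvd_of_pow_eq_one ?_)
        · rw [← QuotientGroup.mk_pow]; exact (QuotientGroup.eq_one_iff _).mpr hxm
        · rw [← QuotientGroup.mk_pow]; exact (QuotientGroup.eq_one_iff _).mpr hk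
      · exfalso
        apply hLC
        have hle := hirr K inferInstance hKc
        set L := Cfsg.pResidual p H
        have h1 : Cfsg.pResidual p L ≤ C.subgroupOf L := Core.pResidual_le_of_isPGroup fun q => by
          obtain ⟨⟨x, hx⟩, rfl⟩ := QuotientGroup.mk'_surjective _ q
          obtain ⟨k, hk⟩ := hKp x (hle hx)
          exact ⟨k, by rw [← map_pow]; exact (QuotientGroup.eq_one_iff _).mpr hk⟩
        rw [Core.pResidual_pResidual, top_le_iff] at h1
        exact Subgroup.subgroupOf_eq_top.mp h1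
    rw [eq_bot_iff, ← Subgroup.map_comap_eq_self_of_surjective hs (Cfsg.pCore p _)]
    exact (Subgroup.map_mono hKC).trans (by rw [QuotientGroup.map_mk'_self])


end Cfsg.Agent.S2830
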