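import Cfsg.Statements.S2831
import Cfsg.Agent.LocalEven.PClosed
import Cfsg.Agent.LocalEven.MinimalOver

set_option autoImplicit false
open Cfsg

namespace Cfsg.Agent.S2831

/-- Let H be a finite group with Sylow p-subgroup T such that H is T-minimal (H is generated by the conjugates of T and T lies in exactly one maximal subgroup of H). Then H is p-irreducible: H is not p-closed and O^p(H) lies in every normal subgroup of H that is not p-closed. -/
theorem result {H : Type*} [Group H] [Finite H] {p : ℕ} [Fact p.Prime] (T : Sylow p H) (hmin : Cfsg.IsMinimalOver (T : Subgroup H)) : Cfsg.IsPIrreducible p H := by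
  classical
  obtain ⟨M, ⟨hM, hTM⟩, -⟩ := hmin.2
  refine ⟨fun hc => ?_, fun N hN hNc => ?_⟩
  · haveI := hc T
    have : (⊤ : Subgroup H) ≤ M := hmin.1 ▸ (Subgroup.normalClosure_le_normal (subset_refl _)).trans hTM
    exact hM.1 (top_le_iff.mp this)
  haveI := hN
  have htop : N ⊔ (T : Subgroup H) = ⊤ := by
    by_contra hne
    obtain ⟨k, hk⟩ : ∃ k, k = 0 := ⟨0, rfl⟩
    have hNM : N ⊔ (T : Subgroup H) ≤ M := LocalEven.isMinimalOver_le hmin hM hTM le_sup_right hne
    set S := (T : Subgroup H) ⊓ N with hS
    -- `S` is a Sylow subgroup of `N`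
    have hSp : IsPGroup p (S.subgroupOf N) :=
      (T.isPGroup'.to_le inf_le_left).of_equiv (Subgroup.subgroupOfEquivOfLe inf_le_right).symm
    have hidx : ¬ p ∣ (S.subgroupOf N).index := by
      rw [show (S.subgroupOf N).index = (T : Subgroup H).relIndex N by
        rw [← Subgroup.relIndex, hS, Subgroup.inf_relIndex_right]]
      intro hd
      refine T.not_dvd_index ?_
      have hrel : (T : Subgroup H).relIndex ((T : Subgroup H) ⊔ N) = (T : Subgroup H).relIndex N := by
        have h1 := Core.card_mul_relIndex (le_sup_left : (T : Subgroup H) ≤ (T : Subgroup H) ⊔ N)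
        have h2 := Core.card_mul_relIndex (inf_le_right : (T : Subgroup H) ⊓ N ≤ N)
        rw [Subgroup.inf_relIndex_right] at h2
        have h3 := Core.card_sup_mul_card_inf (T : Subgroup H) N
        rw [← h1, ← h2] at h3
        refine Nat.eq_of_mul_eq_mul_left (Nat.mul_pos (Nat.card_pos (α := (T : Subgroup H))) (Nat.card_pos (α := ↥((T : Subgroup H) ⊓ N)))) ?_
        calc _ = Nat.card (T : Subgroup H) * (T : Subgroup H).relIndex ((T : Subgroup H) ⊔ N) * Nat.card ↥((T : Subgroup H) ⊓ N) := by ring
          _ = _ := by rw [h3]; ring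
      rw [← Subgroup.relIndex_mul_index (le_sup_left : (T : Subgroup H) ≤ (T : Subgroup H) ⊔ N), hrel]
      exact Dvd.dvd.mul_right hd _
    set Q := hSp.toSylow hidx with hQ
    have hfr := Sylow.normalizer_sup_eq_top Q
    have hQS : (Q : Subgroup N).map N.subtype = S := by
      rw [hQ]
      show (S.subgroupOf N).map N.subtype = S
      rw [Subgroup.subgroupOf_map_subtype, inf_of_le_left (inf_le_right : S ≤ N)]
    rw [hQS] at hfr
    have hTN : (T : Subgroup H) ≤ Subgroup.normalizer (S : Set H) := by
      intro t ht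
      rw [Subgroup.mem_normalizer_iff]
      intro y
      rw [hS, Subgroup.mem_inf, Subgroup.mem_inf]
      exact and_congr (Subgroup.mem_normalizer_iff.mp (Subgroup.le_normalizer ht) y)
        (Subgroup.mem_normalizer_iff.mp (by rw [Subgroup.normalizer_eq_top N]; trivial) y)
    have hN1 : Subgroup.normalizer (S : Set H) = ⊤ := by
      by_contra h1
      exact hM.1 (top_le_iff.mp (hfr ▸ sup_le (LocalEven.isMinimalOver_le hmin hM hTM hTN h1) (le_sup_left.trans hNM)))
    haveI hSn : S.Normal := Subgroup.normalizer_eq_top_iff.mp hN1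
    haveI : (Q : Subgroup N).Normal := by
      rw [hQ]; show (S.subgroupOf N).Normal; infer_instance
    haveI := Sylow.unique_of_normal Q ‹_›
    exact hNc fun R => by rw [Subsingleton.elim R Q]; infer_instance
  refine Core.pResidual_le_of_isPGroup fun q => ?_
  obtain ⟨x, rfl⟩ := QuotientGroup.mk'_surjective _ q
  have hx : x ∈ N ⊔ (T : Subgroup H) := htop ▸ Subgroup.mem_top x
  rw [← SetLike.mem_coe, Subgroup.normal_mul] at hx
  obtain ⟨c, hc, t, ht, rfl⟩ := hx
  obtain ⟨k, hk⟩ := T.isPGroup' ⟨t, ht⟩
  refine ⟨k, ?_⟩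
  rw [QuotientGroup.mk'_apply, QuotientGroup.mk_mul, (QuotientGroup.eq_one_iff c).mpr hc, one_mul,
    ← QuotientGroup.mk_pow, show t ^ p ^ k = 1 from congrArg Subtype.val hk, QuotientGroup.mk_one]


end Cfsg.Agent.S2831
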