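import Cfsg.Statements.S2832
import Cfsg.Agent.LocalEven.MinimalOver

set_option autoImplicit false
open Cfsg

namespace Cfsg.Agent.S2832

/-- Let H be a finite group with Sylow p-subgroup T such that H is T-minimal (generated by the conjugates of T, with T in exactly one maximal subgroup), and let N be a normal subgroup of H. Then either H/N is a p-group or H/N is minimal over the image of T in the same sense. -/
theorem result {H : Type*} [Group H] [Finite H] {p : ℕ} [Fact p.Prime] (T : Sylow p H) (hmin : Cfsg.IsMinimalOver (T : Subgroup H)) (N : Subgroup H) [N.Normal] : IsPGroup p (H ⧸ N) ∨ Cfsg.IsMinimalOver ((T : Subgroup H).map (QuotientGroup.mk' N)) := by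
  classical
  set π := QuotientGroup.mk' N with hπ
  have hs := QuotientGroup.mk'_surjective N
  by_cases htop : (T : Subgroup H).map π = ⊤
  · left
    exact (T.isPGroup'.map π).of_equiv ((MulEquiv.subgroupCongr htop).trans Subgroup.topEquiv)
  right
  obtain ⟨M, ⟨hM, hTM⟩, hu⟩ := hmin.2
  refine ⟨?_, ?_⟩
  · have h1 : (Subgroup.normalClosure ((T : Subgroup H) : Set H)).map π = Subgroup.normalClosure (((T : Subgroup H).map π : Subgroup (H ⧸ N)) : Set (H ⧸ N)) := by
      rw [Subgroup.map_normalClosure _ _ hs, Subgroup.coe_map]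
    rw [← h1, hmin.1, Subgroup.map_top_of_surjective _ hs]
  obtain ⟨Mb, hMb, hTMb⟩ := LocalEven.exists_coatom_ge htop
  refine ⟨Mb, ⟨hMb, hTMb⟩, ?_⟩
  have key : ∀ X : Subgroup (H ⧸ N), IsCoatom X → (T : Subgroup H).map π ≤ X → X.comap π = M := by
    intro X hX hTX
    refine hu _ ⟨⟨fun e => hX.1 ?_, fun Y hY => ?_⟩, Subgroup.map_le_iff_le_comap.mp hTX⟩
    · rw [← Subgroup.map_comap_eq_self_of_surjective hs X, e, Subgroup.map_top_of_surjective _ hs]
    · have hker : π.ker ≤ Y := (MonoidHom.ker_le_comap _ _).trans hY.le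
      have := hX.2 (Y.map π) (lt_of_le_of_ne ((Subgroup.map_comap_eq_self_of_surjective hs X).ge.trans (Subgroup.map_mono hY.le))
        fun e => hY.ne (by rw [e, Subgroup.comap_map_eq_self hker]))
      rw [← Subgroup.comap_map_eq_self hker, this, Subgroup.comap_top]
  rintro X ⟨hX, hTX⟩
  exact Subgroup.comap_injective hs ((key X hX hTX).trans (key Mb hMb hTMb).symm)


end Cfsg.Agent.S2832
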