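import Cfsg.Statements.S2833
import Cfsg.Agent.LocalEven.Conj
import Cfsg.Agent.LocalEven.Commutator

set_option autoImplicit false
open Cfsg

open scoped commutatorElement

namespace Cfsg.Agent.S2833

/-- Let V be a subgroup of a finite group G normalized by the subgroup L, let X ≤ L and g ∈ L with [V, X, X] = 1 and L generated by X and gXg⁻¹. Put W = [V, L]. Then W = [V, X]·[V, gXg⁻¹], C_W(X) = [V, X], and C_W(L) = [V, X] ∩ [V, gXg⁻¹]. -/
theorem result {G : Type*} [Group G] [Finite G] (V L : Subgroup G) (hLV : L ≤ Subgroup.normalizer (V : Set G)) (X : Subgroup G) (hX : X ≤ L) (g : G) (hg : g ∈ L) (hq : ⁅⁅V, X⁆, X⁆ = ⊥) (hgen : X ⊔ X.map (MulAut.conj g).toMonoidHom = L) (W : Subgroup G) (hW : W = ⁅V, L⁆) : ⁅V, X⁆ ⊔ ⁅V, X.map (MulAut.conj g).toMonoidHom⁆ = W ∧ W ⊓ Subgroup.centralizer (X : Set G) = ⁅V, X⁆ ∧ W ⊓ Subgroup.centralizer (L : Set G) = ⁅V, X⁆ ⊓ ⁅V, X.map (MulAut.conj g).toMonoidHom⁆ := by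
  classical
  subst hW
  set X' := LocalEven.cj g X with hX'
  have hVN : ∀ Z : Subgroup G, Z ≤ L → ⁅V, Z⁆ ≤ V := fun Z hZ =>
    Subgroup.le_normalizer_iff_commutator_le_left.mp (hZ.trans hLV)
  have hX'L : X' ≤ L := by
    rw [hX', ← LocalEven.cj_eq_self_iff.mpr (Subgroup.le_normalizer hg)]
    exact LocalEven.cj_mono hX
  have hgV : LocalEven.cj g V = V := LocalEven.cj_eq_self_iff.mpr (hLV hg)
  have hA' : ⁅V, X'⁆ = LocalEven.cj g ⁅V, X⁆ := by
    rw [LocalEven.cj, Subgroup.map_commutator]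
    show _ = ⁅LocalEven.cj g V, X'⁆
    rw [hgV]
  have hq' : ⁅⁅V, X'⁆, X'⁆ = ⊥ := by
    rw [hA', hX', LocalEven.cj, ← Subgroup.map_commutator, hq, Subgroup.map_bot]
  -- a general normalization fact
  have hnorm : ∀ A B : Subgroup G, A ≤ L → B ≤ L → ⁅⁅V, A⁆, A⁆ = ⊥ →
      A ≤ Subgroup.normalizer ((⁅V, A⁆ ⊔ ⁅V, B⁆ : Subgroup G) : Set G) := by
    intro A B hA hB hqA a ha
    rw [← LocalEven.cj_eq_self_iff]
    refine Subgroup.eq_of_le_of_card_ge ?_ (LocalEven.card_cj _ _).ge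
    rw [LocalEven.cj, Subgroup.map_sup]
    refine sup_le ?_ ?_
    · change LocalEven.cj a ⁅V, A⁆ ≤ _
      rw [LocalEven.cj_eq_self_iff.mpr (Subgroup.normalizer_commutator_ge_right V A ha)]
      exact le_sup_left
    · rintro _ ⟨w, hw, rfl⟩
      show a * w * a⁻¹ ∈ _
      rw [show a * w * a⁻¹ = ⁅w, a⁆⁻¹ * w by simp only [commutatorElement_def]; group]
      exact Subgroup.mul_mem_sup (inv_mem (Subgroup.commutator_mem_commutator (hVN B hB hw) ha)) hw
  set U := ⁅V, X⁆ ⊔ ⁅V, X'⁆ with hU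
  have hUW : ⁅V, L⁆ = U := by
    refine le_antisymm ?_ (sup_le (Subgroup.commutator_mono le_rfl hX) (Subgroup.commutator_mono le_rfl hX'L))
    rw [Subgroup.commutator_comm, ← hgen]
    refine LocalEven.comm_sup_le (hnorm X X' hX hX'L hq) ?_ ?_ ?_
    · rw [hU, sup_comm]; exact hnorm X' X hX'L hX hq'
    · rw [Subgroup.commutator_comm]; exact le_sup_left
    · rw [Subgroup.commutator_comm]; exact le_sup_right
  have hVL : ∀ c ∈ L, c ∈ Subgroup.normalizer ((⁅V, L⁆ : Subgroup G) : Set G) := fun c hc =>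
    Subgroup.normalizer_commutator_ge_right V L hc
  have hC1 : ⁅V, L⁆ ⊓ Subgroup.centralizer (X : Set G) = ⁅V, X⁆ := by
    refine le_antisymm ?_ (le_inf (Subgroup.commutator_mono le_rfl hX)
      (Subgroup.commutator_eq_bot_iff_le_centralizer.mp hq))
    intro w hw
    obtain ⟨hwW, hwC⟩ := Subgroup.mem_inf.mp hw
    have hN : ⁅V, X'⁆ ≤ Subgroup.normalizer ((⁅V, X⁆ : Subgroup G) : Set G) :=
      (hVN X' hX'L).trans (Subgroup.normalizer_commutator_ge_left V X)
    rw [hUW, hU] at hwW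
    rw [← SetLike.mem_coe, sup_comm, Subgroup.coe_mul_of_left_le_normalizer_right _ _ hN] at hwW
    obtain ⟨b, hb, a, ha, rfl⟩ := hwW
    refine mul_mem ?_ ha
    have hbX : b ∈ Subgroup.centralizer (X : Set G) := by
      have ha' : a ∈ Subgroup.centralizer (X : Set G) := Subgroup.commutator_eq_bot_iff_le_centralizer.mp hq ha
      simpa using mul_mem hwC (inv_mem ha')
    have hbL : b ∈ Subgroup.centralizer (L : Set G) := by
      rw [← hgen, ← Subgroup.zpowers_le, Subgroup.le_centralizer_iff]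
      exact sup_le (Subgroup.le_centralizer_iff.mp (Subgroup.zpowers_le.mpr hbX))
        (Subgroup.le_centralizer_iff.mp (Subgroup.zpowers_le.mpr (Subgroup.commutator_eq_bot_iff_le_centralizer.mp hq' hb)))
    have hb' := hb
    rw [hA', SetLike.mem_coe, LocalEven.mem_cj, mul_assoc, ← Subgroup.mem_centralizer_iff.mp hbL g hg, inv_mul_cancel_left] at hb'
    exact hb'
  have hC2 : ⁅V, L⁆ ⊓ Subgroup.centralizer (X' : Set G) = ⁅V, X'⁆ := by
    rw [hA', ← hC1]
    ext w
    rw [Subgroup.mem_inf, LocalEven.mem_cj, Subgroup.mem_inf]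
    refine and_congr ?_ ?_
    · have := Subgroup.mem_normalizer_iff''.mp (hVL g hg) w
      simpa using this
    · rw [Subgroup.mem_centralizer_iff, Subgroup.mem_centralizer_iff]
      constructor
      · intro h x hx
        have := h _ (LocalEven.conj_mem_cj (g := g) hx)
        calc x * (g⁻¹ * w * g) = g⁻¹ * ((g * x * g⁻¹) * w) * g := by group
          _ = g⁻¹ * (w * (g * x * g⁻¹)) * g := by rw [this]
          _ = _ := by group
      · intro h y hy
        obtain ⟨x, hx, rfl⟩ := hy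
        have := h x hx
        show g * x * g⁻¹ * w = w * (g * x * g⁻¹)
        calc g * x * g⁻¹ * w = g * (x * (g⁻¹ * w * g)) * g⁻¹ := by group
          _ = g * ((g⁻¹ * w * g) * x) * g⁻¹ := by rw [this]
          _ = _ := by group
  refine ⟨hUW.symm, hC1, le_antisymm ?_ ?_⟩
  · refine le_inf (le_trans (inf_le_inf_left _ (Subgroup.centralizer_le hX)) hC1.le) ?_
    exact le_trans (inf_le_inf_left _ (Subgroup.centralizer_le hX'L)) hC2.le
  · intro w hw
    obtain ⟨h1, h2⟩ := Subgroup.mem_inf.mp hw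
    rw [← hC1] at h1
    obtain ⟨h1, h1'⟩ := Subgroup.mem_inf.mp h1
    have h2' : w ∈ Subgroup.centralizer (X' : Set G) := Subgroup.commutator_eq_bot_iff_le_centralizer.mp hq' h2
    refine Subgroup.mem_inf.mpr ⟨h1, ?_⟩
    rw [← hgen, ← Subgroup.zpowers_le, Subgroup.le_centralizer_iff]
    exact sup_le (Subgroup.le_centralizer_iff.mp (Subgroup.zpowers_le.mpr h1'))
      (Subgroup.le_centralizer_iff.mp (Subgroup.zpowers_le.mpr h2'))


end Cfsg.Agent.S2833
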