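import Cfsg.Statements.S2834
import Cfsg.Agent.LocalEven.MinimalOver
import Cfsg.Agent.LocalEven.Average
import Cfsg.Agent.LocalEven.CharP
import Cfsg.Agent.LocalEven.SylowMk

set_option autoImplicit false
open Cfsg

namespace Cfsg.Agent.S2834

open Cfsg.Agent.LocalEven

variable {H : Type*} [Group H] [Finite H] {p : ℕ} [Fact p.Prime]

/-- Candidates for the subgroup in the L-Lemma. -/
def Good (p : ℕ) (M A C L : Subgroup H) : Prop :=
  C ≤ L ∧ ¬ A ≤ op p L ∧ ∃ g : H, ∃ T : Subgroup H, IsMaxP p T L ∧ A ≤ T ∧ T ≤ cj g M ∧ ¬ L ≤ cj g M ∧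
    ∀ Z : Subgroup H, Z < L → T ≤ Z → Z ≤ cj g M

theorem good_unique {M A C : Subgroup H} (hA : IsPGroup p A) (hAC : A ≤ C) (hC : IsPGroup p C)
    (hCn : ∀ g : H, ∀ T K : Subgroup H, IsMaxP p T K → A ≤ T → C ≤ K → C ≤ T)
    (hCg : ∀ g : H, ∀ T : Subgroup H, C ≤ T → A ≤ cj g T → C ≤ cj g T)
    {L : Subgroup H} (hmin : ∀ L', Good p M A C L' → Nat.card L ≤ Nat.card L')
    (hCL : C ≤ L) (hAL : ¬ A ≤ op p L) (g : H) {T : Subgroup H} (hT : IsMaxP p T L) (hAT : A ≤ T)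
    (hTM : T ≤ cj g M) (hLM : ¬ L ≤ cj g M) (hG : ∀ Z : Subgroup H, Z < L → T ≤ Z → Z ≤ cj g M) :
    ∀ X : Subgroup H, C ≤ X → X < L → X ≤ L ⊓ cj g M := by
  classical
  set L₀ := L ⊓ cj g M with hL₀
  have hTL₀ : T ≤ L₀ := le_inf hT.1 hTM
  have hT₀ : IsMaxP p T L₀ := hT.of_le hTL₀ inf_le_left
  have hCT : C ≤ T := hCn 1 T L hT hAT hCL
  by_contra hcon
  push Not at hcon
  obtain ⟨X₀, hCX₀, hX₀L, hX₀⟩ := hcon
  set S : Set (Subgroup H × Subgroup H) := {q | C ≤ q.1 ∧ q.1 < L ∧ ¬ q.1 ≤ L₀ ∧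
    IsMaxP p q.2 (q.1 ⊓ L₀) ∧ C ≤ q.2} with hS
  have hSne : S.Nonempty := by
    obtain ⟨R, hR, hCR⟩ := exists_isMaxP_le hC (le_inf hCX₀ (hCT.trans hTL₀) : C ≤ X₀ ⊓ L₀)
    exact ⟨(X₀, R), hCX₀, hX₀L, hX₀, hR, hCR⟩
  obtain ⟨q₁, hq₁, hmax⟩ := (Set.toFinite S).exists_maximalFor (fun q => Nat.card q.2) _ hSne
  obtain ⟨⟨Y, R⟩, ⟨hYS, hYR⟩, hYmin⟩ :=
    (Set.toFinite {q ∈ S | Nat.card q.2 = Nat.card q₁.2}).exists_minimalFor (fun q => Nat.card q.1) _
      ⟨q₁, hq₁, rfl⟩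
  obtain ⟨hCY, hYL, hYL₀, hR, hCR⟩ := hYS
  have hbig : ∀ q ∈ S, Nat.card q.2 ≤ Nat.card R := fun q hq => by
    by_contra hlt
    push Not at hlt
    have hq₁R : Nat.card R = Nat.card q₁.2 := hYR
    have := hmax (j := q) hq (by show Nat.card q₁.2 ≤ Nat.card q.2; omega)
    simp only at this
    omega
  have hsmall : ∀ Z : Subgroup H, C ≤ Z → Z < Y → R ≤ Z → Z ≤ L₀ := by
    intro Z hCZ hZY hRZ
    by_contra hZ
    have hmem : (Z, R) ∈ {q ∈ S | Nat.card q.2 = Nat.card q₁.2} :=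
      ⟨⟨hCZ, hZY.trans hYL, hZ, hR.of_le (le_inf hRZ (hR.1.trans inf_le_right)) (inf_le_inf_right _ hZY.le), hCR⟩, hYR⟩
    have hlt : Nat.card Z < Nat.card Y := by
      refine (Subgroup.card_le_of_le hZY.le).lt_of_ne fun e => hZY.ne ?_
      exact Subgroup.eq_of_le_of_card_ge hZY.le e.ge
    exact hlt.not_ge (hYmin (j := (Z, R)) hmem hlt.le)
  have hAR : A ≤ R := hAC.trans hCR
  have hRL : R ≤ L := (hR.1.trans inf_le_left).trans hYL.le
  obtain ⟨T₂, hT₂, hRT₂⟩ := exists_isMaxP_le hR.2.1 (hR.1.trans inf_le_right)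
  -- `R` is not a Sylow subgroup of `L₀`
  have hRne : R ≠ T₂ := by
    intro e
    obtain ⟨l, hl, hlT⟩ := hT₀.conj_le hT₂.2.1 hT₂.1
    have hcjL : cj l L = L := cj_eq_self_iff.mpr (Subgroup.le_normalizer (Subgroup.mem_inf.mp hl).1)
    have hlY : cj l Y < L := by
      refine lt_of_le_of_ne ((cj_mono hYL.le).trans hcjL.le) fun e' => hYL.ne ?_
      exact Subgroup.eq_of_le_of_card_ge hYL.le (by rw [← card_cj l Y, e'])
    have hlR : cj l T₂ = T := (hT₀.cj l).2.2 |> fun _ => by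
      have h1 : IsMaxP p (cj l T₂) L₀ := by
        have := hT₂.cj l
        rwa [cj_eq_self_iff.mpr (Subgroup.le_normalizer hl)] at this
      exact (h1.2.2 T hT₀.2.1 hT₀.1 hlT).symm
    have h1 := hG _ hlY (hlR ▸ cj_mono (e ▸ hR.1.trans inf_le_left))
    refine hYL₀ ?_
    have h2 := le_inf hlY.le h1
    have hcjL₀ : cj l L₀ = L₀ := cj_eq_self_iff.mpr (Subgroup.le_normalizer hl)
    rwa [← hL₀, ← hcjL₀, cj_le_iff] at h2
  set R' := T₂ ⊓ Subgroup.normalizer (R : Set H)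
  have hRR' : R < R' := by
    refine lt_of_le_of_ne (le_inf hRT₂ Subgroup.le_normalizer) fun e => hRne ?_
    exact eq_of_normalizer_le hT₂.2.1 hRT₂ e.ge
  have hcardR' : Nat.card R < Nat.card R' :=
    (Subgroup.card_le_of_le hRR'.le).lt_of_ne fun e => hRR'.ne (Subgroup.eq_of_le_of_card_ge hRR'.le e.ge)
  -- no subgroup of `L` over `R'` lies outside `L₀`
  have hbigger : ∀ N : Subgroup H, N < L → R' ≤ N → N ≤ L₀ := by
    intro N hN hR'N
    by_contra hNL₀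
    obtain ⟨Q, hQ, hR'Q⟩ := exists_isMaxP_le (hT₂.2.1.to_le (inf_le_left : R' ≤ T₂))
      (le_inf hR'N (inf_le_left.trans hT₂.1) : R' ≤ N ⊓ L₀)
    have hCR' : C ≤ R' := hCR.trans hRR'.le
    have h1 := hbig (N, Q) ⟨hCR'.trans hR'N, hN, hNL₀, hQ, hCR'.trans hR'Q⟩
    exact absurd (hcardR'.trans_le (Subgroup.card_le_of_le hR'Q)) (not_lt.mpr h1)
  have hR'L : R' ≤ L := (inf_le_left.trans hT₂.1).trans inf_le_left
  have hNR : L ⊓ Subgroup.normalizer (R : Set H) ≤ L₀ := by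
    refine hbigger _ (lt_of_le_of_ne inf_le_left fun e => hAL ?_) (le_inf hR'L inf_le_right)
    exact hAR.trans (le_op hRL (e.ge.trans inf_le_right) hR.2.1)
  have hRY : IsMaxP p R Y := by
    refine ⟨hR.1.trans inf_le_left, hR.2.1, fun P hP hPY hRP => ?_⟩
    refine (eq_of_normalizer_le hP hRP ?_).symm
    have h1 : P ⊓ Subgroup.normalizer (R : Set H) ≤ Y ⊓ L₀ :=
      le_inf (inf_le_left.trans hPY) ((le_inf (inf_le_left.trans (hPY.trans hYL.le)) inf_le_right).trans hNR)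
    exact (hR.2.2 _ (hP.to_le inf_le_left) h1 (le_inf hRP Subgroup.le_normalizer)).le
  -- the conjugates of `A` inside `R` lie in `op p Y`
  have hconj : ∀ l ∈ L, cj l A ≤ R → cj l A ≤ op p Y := by
    intro l hl hlR
    by_contra hno
    have hcjL : cj l⁻¹ L = L := cj_eq_self_iff.mpr (Subgroup.le_normalizer (L.inv_mem hl))
    have hback : ∀ X Z : Subgroup H, cj l X ≤ Z → X ≤ cj l⁻¹ Z := fun X Z h => by
      have := cj_mono (g := l⁻¹) h
      rwa [cj_cj, inv_mul_cancel, cj_one] at this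
    have hback' : ∀ X Z : Subgroup H, X ≤ cj l⁻¹ Z → cj l X ≤ Z := fun X Z h => by
      have := cj_mono (g := l) h
      rwa [cj_cj, mul_inv_cancel, cj_one] at this
    have hAR' : A ≤ cj l⁻¹ R := hback A R hlR
    have hCR' : C ≤ cj l⁻¹ R := hCg l⁻¹ R hCR hAR'
    have hgood : Good p M A C (cj l⁻¹ Y) := by
      refine ⟨hCR'.trans (cj_mono hRY.1), ?_, l⁻¹ * g, cj l⁻¹ R, hRY.cj _, hAR', ?_, ?_, ?_⟩
      · intro h
        rw [op, map_pCore_cj] at h
        exact hno (hback' _ _ h)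
      · rw [← cj_cj]
        exact cj_mono ((hR.1.trans inf_le_right).trans inf_le_right)
      · intro h
        rw [← cj_cj, cj_le_iff] at h
        exact hYL₀ (le_inf hYL.le h)
      · intro Z hZ hRZ
        rw [← cj_cj]
        refine hback Z _ ?_
        have h1 : R ≤ cj l Z := by
          have := cj_mono (g := l) hRZ
          rwa [cj_cj, mul_inv_cancel, cj_one] at this
        have h2 : cj l Z ≤ Y := hback' _ _ hZ.le
        have h3 : cj l Z < Y := by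
          refine lt_of_le_of_ne h2 fun e => hZ.ne (Subgroup.eq_of_le_of_card_ge hZ.le ?_)
          rw [card_cj, ← e, card_cj]
        exact (hsmall _ (hCR.trans h1) h3 h1).trans inf_le_right
    exact absurd (hmin _ hgood) (not_le.mpr (by
      rw [card_cj]
      exact (Subgroup.card_le_of_le hYL.le).lt_of_ne fun e => hYL.ne (Subgroup.eq_of_le_of_card_ge hYL.le e.ge)))
  set 𝒜 : Set (Subgroup H) := {B | ∃ l ∈ L, B = cj l A ∧ B ≤ R} with h𝒜
  set E := sSup 𝒜 with hE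
  have hER : E ≤ R := sSup_le fun B hB => by obtain ⟨_, _, _, h⟩ := hB; exact h
  have hAE : A ≤ E := le_sSup ⟨1, L.one_mem, (cj_one A).symm, hAR⟩
  have hinv : ∀ y ∈ L, (∀ B ∈ 𝒜, cj y B ≤ R) → y ∈ Subgroup.normalizer (E : Set H) := by
    intro y hy h
    rw [← cj_eq_self_iff]
    refine Subgroup.eq_of_le_of_card_ge ?_ (card_cj _ _).ge
    rw [cj, hE, Subgroup.map_le_iff_le_comap]
    refine sSup_le fun B hB => ?_
    rw [← Subgroup.map_le_iff_le_comap]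
    obtain ⟨l, hl, rfl, hBR⟩ := hB
    exact le_sSup ⟨y * l, L.mul_mem hy hl, cj_cj y l A, h _ ⟨l, hl, rfl, hBR⟩⟩
  have hYE : Y ≤ Subgroup.normalizer (E : Set H) := fun y hy => hinv y (hYL.le hy) fun B hB => by
    obtain ⟨l, hl, rfl, hB⟩ := hB
    refine ((cj_mono (hconj l hl hB)).trans ?_).trans hRY.pCore_le
    exact (cj_eq_self_iff.mpr (map_pCore_normalized Y hy)).le
  have hR'E : R' ≤ Subgroup.normalizer (E : Set H) := fun y hy => hinv y (hR'L hy) fun B hB => by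
    obtain ⟨l, hl, rfl, hB⟩ := hB
    exact (cj_mono hB).trans (cj_eq_self_iff.mpr (Subgroup.mem_inf.mp hy).2).le
  refine hYL₀ ((le_inf hYL.le hYE).trans (hbigger _ (lt_of_le_of_ne inf_le_left fun e => hAL ?_) (le_inf hR'L hR'E)))
  exact hAE.trans (le_op (hER.trans hRL) (e.ge.trans inf_le_right) (hR.2.1.to_le hER))


/-- The L-Lemma: let H be a finite group with Sylow p-subgroup T such that H is T-minimal (generated by the conjugates of T, T in exactly one maximal subgroup M), and let A ≤ T with A not contained in O_p(H). Then there is a subgroup L of H containing A·O_p(H) such that (a) A·O_p(L) lies in exactly one maximal subgroup L₀ of L, and L₀ = L ∩ gMg⁻¹ for some g ∈ H; (b) L = ⟨A, xAx⁻¹⟩·O_p(L) for every x ∈ L outside L₀. -/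
theorem result {H : Type*} [Group H] [Finite H] {p : ℕ} [Fact p.Prime] (T : Sylow p H) (hmin : Cfsg.IsMinimalOver (T : Subgroup H)) (M : Subgroup H) (hM : IsCoatom M ∧ (T : Subgroup H) ≤ M) (A : Subgroup H) (hAT : A ≤ (T : Subgroup H)) (hA : ¬ A ≤ Cfsg.pCore p H) : ∃ L : Subgroup H, A ⊔ Cfsg.pCore p H ≤ L ∧ ∃ L₀ : Subgroup H, A ⊔ (Cfsg.pCoreOf p L) ≤ L₀ ∧ L₀ < L ∧ (∀ X : Subgroup H, A ⊔ (Cfsg.pCoreOf p L) ≤ X → X < L → X ≤ L₀) ∧ (∃ g : H, L₀ = L ⊓ ((M : Subgroup H).map (MulAut.conj (g : H)).toMonoidHom)) ∧ ∀ x ∈ L, x ∉ L₀ → (A ⊔ ((A : Subgroup H).map (MulAut.conj (x : H)).toMonoidHom)) ⊔ (Cfsg.pCoreOf p L) = L := by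
  classical
  obtain ⟨hM, hTM⟩ := hM
  set O := Cfsg.pCore p H with hO
  set C := A ⊔ O with hCdef
  have hA' : IsPGroup p A := T.isPGroup'.to_le hAT
  have hCp : IsPGroup p C := T.isPGroup'.to_le (sup_le hAT (Core.pCore_le_sylow T))
  have hCn : ∀ g : H, ∀ T' K : Subgroup H, LocalEven.IsMaxP p T' K → A ≤ T' → C ≤ K → C ≤ T' :=
    fun _ T' K hT' hAT' hCK => sup_le hAT' (hT'.normal_le (Core.isPGroup_pCore p H) (le_sup_right.trans hCK)
      (by rw [Subgroup.normalizer_eq_top O]; exact le_top))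
  have hCg : ∀ g : H, ∀ T' : Subgroup H, C ≤ T' → A ≤ LocalEven.cj g T' → C ≤ LocalEven.cj g T' :=
    fun g T' hCT hAT' => sup_le hAT' ((LocalEven.cj_normal g O).ge.trans (LocalEven.cj_mono (le_sup_right.trans hCT)))
  have hTmax : LocalEven.IsMaxP p (T : Subgroup H) ⊤ :=
    ⟨le_top, T.isPGroup', fun R hR _ hle => T.is_maximal' hR hle⟩
  have hne : {L : Subgroup H | Good p M A C L}.Nonempty := by
    refine ⟨⊤, le_top, ?_, 1, (T : Subgroup H), hTmax, hAT, ?_, ?_, fun Z hZ hTZ => ?_⟩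
    · rw [LocalEven.op_top]; exact hA
    · rw [LocalEven.cj_one]; exact hTM
    · rw [LocalEven.cj_one]; exact fun h => hM.1 (top_le_iff.mp h)
    · rw [LocalEven.cj_one]; exact LocalEven.isMinimalOver_le hmin hM hTM hTZ hZ.ne
  obtain ⟨L, hL, hLmin⟩ := Set.Finite.exists_minimalFor (fun L : Subgroup H => Nat.card L) {L | Good p M A C L}
    (Set.toFinite _) hne
  obtain ⟨hCL, hAL, g, T', hT', hAT', hT'M, hLM, hG⟩ := hL
  have huniq := good_unique (M := M) hA' le_sup_left hCp hCn hCg (L := L) (fun L' hL' => by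
    rcases le_total (Nat.card L) (Nat.card L') with h | h
    · exact h
    · exact hLmin (j := L') hL' h) hCL hAL g hT' hAT' hT'M hLM hG
  set L₀ := L ⊓ LocalEven.cj g M with hL₀
  have hT'L₀ : T' ≤ L₀ := le_inf hT'.1 hT'M
  have hopL₀ : LocalEven.op p L ≤ L₀ := hT'.pCore_le.trans hT'L₀
  have hCL₀ : C ≤ L₀ := (hCn 1 T' L hT' hAT' hCL).trans hT'L₀
  have hL₀L : L₀ < L := lt_of_le_of_ne inf_le_left fun e => hLM (e.ge.trans inf_le_right)
  have hOop : O ≤ LocalEven.op p L := LocalEven.le_op (le_sup_right.trans hCL)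
    (by rw [Subgroup.normalizer_eq_top O]; exact le_top) (Core.isPGroup_pCore p H)
  have hnot : ¬ L ≤ Subgroup.normalizer (L₀ : Set H) := by
    intro hn
    have hmax : LocalEven.IsMaxP p T' L₀ := hT'.of_le hT'L₀ inf_le_left
    have hN : L ⊓ Subgroup.normalizer (T' : Set H) < L := by
      refine lt_of_le_of_ne inf_le_left fun e => hAL ?_
      exact hAT'.trans (LocalEven.le_op hT'.1 (e.ge.trans inf_le_right) hT'.2.1)
    have hN' := huniq _ (le_inf hCL ((hCn 1 T' L hT' hAT' hCL).trans Subgroup.le_normalizer)) hN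
    refine hL₀L.not_ge fun l hl => ?_
    have hsub : LocalEven.cj l T' ≤ L₀ := (LocalEven.cj_mono hT'L₀).trans (LocalEven.cj_eq_self_iff.mpr (hn hl)).le
    obtain ⟨k, hk, hkT⟩ := hmax.conj_le (LocalEven.isPGroup_cj hT'.2.1) hsub
    rw [LocalEven.cj_cj] at hkT
    have h1 := hN' (Subgroup.mem_inf.mpr ⟨L.mul_mem (hL₀L.le hk) hl,
      LocalEven.cj_eq_self_iff.mp (Subgroup.eq_of_le_of_card_ge hkT (LocalEven.card_cj _ _).ge)⟩)
    simpa using L₀.mul_mem (L₀.inv_mem hk) h1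
  refine ⟨L, hCL, L₀, sup_le (le_sup_left.trans hCL₀) hopL₀, hL₀L,
    fun X hX hXL => huniq X (sup_le (le_sup_left.trans hX) ((hOop.trans le_sup_right).trans hX)) hXL,
    ⟨g, rfl⟩, fun x hxL hx => ?_⟩
  have hxA : LocalEven.cj x A ≤ L :=
    (LocalEven.cj_mono (le_sup_left.trans hCL)).trans (LocalEven.cj_eq_self_iff.mpr (Subgroup.le_normalizer hxL)).le
  have hle : (A ⊔ LocalEven.cj x A) ⊔ LocalEven.op p L ≤ L :=
    sup_le (sup_le (le_sup_left.trans hCL) hxA) (LocalEven.op_le L)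
  by_contra hne'
  have hlt := lt_of_le_of_ne hle hne'
  have hCX : C ≤ (A ⊔ LocalEven.cj x A) ⊔ LocalEven.op p L :=
    sup_le (le_sup_left.trans le_sup_left) (hOop.trans le_sup_right)
  have h1 := (le_sup_right.trans le_sup_left).trans (huniq _ hCX hlt)
  have hcjL : LocalEven.cj x⁻¹ L = L := LocalEven.cj_eq_self_iff.mpr (Subgroup.le_normalizer (L.inv_mem hxL))
  have h2 : LocalEven.cj x⁻¹ L₀ < L := by
    refine lt_of_le_of_ne ((LocalEven.cj_mono hL₀L.le).trans hcjL.le) fun e => hL₀L.ne ?_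
    exact Subgroup.eq_of_le_of_card_ge hL₀L.le (by rw [← LocalEven.card_cj x⁻¹ L₀, e])
  have h3 : C ≤ LocalEven.cj x⁻¹ L₀ := by
    refine hCg x⁻¹ L₀ hCL₀ ?_
    have := LocalEven.cj_mono (g := x⁻¹) h1
    rwa [LocalEven.cj_cj, inv_mul_cancel, LocalEven.cj_one] at this
  have h4 : x⁻¹ ∈ Subgroup.normalizer (L₀ : Set H) :=
    LocalEven.cj_eq_self_iff.mp (Subgroup.eq_of_le_of_card_ge (huniq _ h3 h2) (LocalEven.card_cj _ _).ge)
  rw [inv_mem_iff] at h4
  refine hx ((huniq (L ⊓ Subgroup.normalizer (L₀ : Set H)) (le_inf hCL (hCL₀.trans Subgroup.le_normalizer))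
    (lt_of_le_of_ne inf_le_left fun e => hnot (e.ge.trans inf_le_right))) (Subgroup.mem_inf.mpr ⟨hxL, h4⟩))


end Cfsg.Agent.S2834
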