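import Cfsg.Statements.S2835
import Cfsg.Agent.LocalEven.MinimalOver
import Cfsg.Agent.Core.Fitting
import Cfsg.Agent.Core.Cores

set_option autoImplicit false
open Cfsg

namespace Cfsg.Agent.S2835

/-- Let L be a finite group, L₀ a maximal subgroup, T a Sylow p-subgroup of L₀ and Y ≤ T, and suppose L is Y-minimal (generated by the conjugates of Y, with Y in exactly one maximal subgroup, necessarily L₀). Then N_L(T) ≤ L₀, O_p(L) ≤ L₀ and T is a Sylow p-subgroup of L; N_L(L₀) = L₀; L = ⟨Y, gYg⁻¹⟩ for each g ∈ L outside L₀; and if Y is abelian then Y ∩ gYg⁻¹ = C_Y(L) for each such g. -/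
theorem result {L : Type*} [Group L] [Finite L] {p : ℕ} [Fact p.Prime] (L₀ : Subgroup L) (hL₀ : IsCoatom L₀) (T : Sylow p ↥L₀) (Y : Subgroup L) (hYT : Y ≤ (T : Subgroup ↥L₀).map L₀.subtype) (hmin : Cfsg.IsMinimalOver Y) : Subgroup.normalizer (((T : Subgroup ↥L₀).map L₀.subtype : Subgroup L) : Set L) ≤ L₀ ∧ Cfsg.pCore p L ≤ L₀ ∧ (∃ P : Sylow p L, (P : Subgroup L) = (T : Subgroup ↥L₀).map L₀.subtype) ∧ Subgroup.normalizer (L₀ : Set L) = L₀ ∧ (∀ g : L, g ∉ L₀ → Y ⊔ Y.map (MulAut.conj g).toMonoidHom = ⊤) ∧ (IsMulCommutative ↥Y → ∀ g : L, g ∉ L₀ → Y ⊓ Y.map (MulAut.conj g).toMonoidHom = Y ⊓ Subgroup.center L) := by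
  classical
  set T' := (T : Subgroup L₀).map L₀.subtype with hT'
  have hTL : T' ≤ L₀ := Subgroup.map_subtype_le _
  have hYL : Y ≤ L₀ := hYT.trans hTL
  have hT'p : IsPGroup p T' := T.isPGroup'.map _
  have hnotp : ¬ IsPGroup p L := by
    intro h
    haveI := h.isNilpotent
    exact LocalEven.isMinimalOver_not_normal hmin hL₀ hYL
      (Subgroup.NormalizerCondition.normal_of_coatom L₀ Group.normalizerCondition_of_isNilpotent hL₀)
  have hNT : Subgroup.normalizer (T' : Set L) ≤ L₀ := by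
    refine LocalEven.isMinimalOver_le hmin hL₀ hYL (hYT.trans Subgroup.le_normalizer) fun e => ?_
    haveI := Subgroup.normalizer_eq_top_iff.mp e
    exact hL₀.1 (top_le_iff.mp (hmin.1 ▸ (Subgroup.normalClosure_le_normal (SetLike.coe_subset_coe.mpr hYT)).trans hTL))
  refine ⟨hNT, ?_, ?_, LocalEven.normalizer_coatom hmin hL₀ hYL, ?_, ?_⟩
  · refine le_trans le_sup_left (LocalEven.isMinimalOver_le hmin hL₀ hYL (le_sup_right : Y ≤ Cfsg.pCore p L ⊔ Y) fun e => hnotp ?_)
    have h : IsPGroup p ↥(Cfsg.pCore p L ⊔ Y) :=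
      (Core.isPGroup_pCore p L).to_sup_of_normal_left (hT'p.to_le hYT)
    exact h.of_equiv ((MulEquiv.subgroupCongr e).trans Subgroup.topEquiv)
  · obtain ⟨P, hP⟩ := hT'p.exists_le_sylow
    refine ⟨P, (LocalEven.eq_of_normalizer_le P.isPGroup' hP ?_).symm⟩
    set X := (P : Subgroup L) ⊓ Subgroup.normalizer (T' : Set L) with hX
    have hXL : X ≤ L₀ := inf_le_right.trans hNT
    have h2 := T.is_maximal' (Q := X.subgroupOf L₀)
      ((P.isPGroup'.to_le inf_le_left).of_equiv (Subgroup.subgroupOfEquivOfLe hXL).symm)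
      (fun a ha => (le_inf hP Subgroup.le_normalizer) ⟨a, ha, rfl⟩)
    intro z hz
    exact ⟨⟨z, hXL hz⟩, h2 ▸ hz, rfl⟩
  all_goals
    have hgen : ∀ g : L, g ∉ L₀ → Y ⊔ Y.map (MulAut.conj g).toMonoidHom = ⊤ := by
      intro g hg
      by_contra hne
      have h1 := LocalEven.isMinimalOver_le hmin hL₀ hYL (le_sup_left : Y ≤ Y ⊔ LocalEven.cj g Y) hne
      have h2 : LocalEven.cj g Y ≤ L₀ := le_sup_right.trans h1
      have h3 : Y ≤ LocalEven.cj g⁻¹ L₀ := by
        have h3' := LocalEven.cj_mono (g := g⁻¹) h2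
        rwa [LocalEven.cj_cj, inv_mul_cancel, LocalEven.cj_one] at h3'
      have hne' : LocalEven.cj g⁻¹ L₀ ≠ ⊤ := fun e => hL₀.1 (Subgroup.eq_top_of_card_eq _ (by
        rw [← LocalEven.card_cj g⁻¹ L₀, e, Subgroup.card_top]))
      have h4 := LocalEven.isMinimalOver_le hmin hL₀ hYL h3 hne'
      have h5 : g⁻¹ ∈ Subgroup.normalizer (L₀ : Set L) :=
        LocalEven.cj_eq_self_iff.mp (Subgroup.eq_of_le_of_card_ge h4 (LocalEven.card_cj _ _).ge)
      rw [LocalEven.normalizer_coatom hmin hL₀ hYL] at h5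
      exact hg (L₀.inv_mem_iff.mp h5)
  · exact hgen
  · intro hYc g hg
    haveI := hYc
    refine le_antisymm (le_inf inf_le_left ?_) fun z hz => ?_
    · have hconj : LocalEven.cj g Y ≤ Subgroup.centralizer (LocalEven.cj g Y : Set L) := by
        haveI : IsMulCommutative (LocalEven.cj g Y) := ⟨⟨by
          rintro ⟨_, a, ha, rfl⟩ ⟨_, b, hb, rfl⟩
          exact Subtype.ext (((map_mul (MulAut.conj g).toMonoidHom a b).symm.trans (congrArg (MulAut.conj g).toMonoidHom (congrArg Subtype.val (mul_comm' (⟨a, ha⟩ : Y) ⟨b, hb⟩)))).trans (map_mul (MulAut.conj g).toMonoidHom b a))⟩⟩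
        exact Subgroup.le_centralizer_iff_isMulCommutative.mpr inferInstance
      rw [← Subgroup.centralizer_univ, ← Subgroup.coe_top, ← hgen g hg, Subgroup.le_centralizer_iff]
      exact sup_le (Subgroup.le_centralizer_iff.mp (inf_le_left.trans (Subgroup.le_centralizer_iff_isMulCommutative.mpr hYc)))
        (Subgroup.le_centralizer_iff.mp (inf_le_right.trans hconj))
    · obtain ⟨h1, h2⟩ := Subgroup.mem_inf.mp hz
      refine Subgroup.mem_inf.mpr ⟨h1, ?_⟩
      show z ∈ LocalEven.cj g Y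
      rw [LocalEven.mem_cj, mul_assoc, ← Subgroup.mem_center_iff.mp h2 g, inv_mul_cancel_left]
      exact h1


end Cfsg.Agent.S2835
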