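import Cfsg.Statements.S2836
import Cfsg.Agent.LocalEven.PClosed
import Cfsg.Agent.LocalEven.MinimalOver
import Cfsg.Agent.LocalEven.Average
import Cfsg.Agent.LocalEven.PReducedTheory
import Cfsg.Agent.Coprime.PxQ
import Cfsg.Agent.Core.Fitting

set_option autoImplicit false
open Cfsg

namespace Cfsg.Agent.S2836

open Cfsg.Agent.LocalEven in
theorem core_facts {L : Type*} [Group L] [Finite L] {p : ℕ} [Fact p.Prime] (L₀ : Subgroup L)
    (hL₀ : IsCoatom L₀) (T : Sylow p ↥L₀) (Y : Subgroup L) (hYT : Y ≤ (T : Subgroup ↥L₀).map L₀.subtype)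
    (hmin : Cfsg.IsMinimalOver Y) :
    Cfsg.pCore p L ≤ L₀ ∧ ∀ N : Subgroup L, N.Normal → N ≤ L₀ →
      Cfsg.IsPClosed p ↥N ∧ (Nat.card (↥N ⧸ Cfsg.pCore p ↥N)).Coprime p := by
  have hYL : Y ≤ L₀ := hYT.trans (Subgroup.map_subtype_le _)
  have hT := sylow_isMaxP T
  set T' := (T : Subgroup ↥L₀).map L₀.subtype
  have hYp : IsPGroup p Y := hT.2.1.to_le hYT
  refine ⟨?_, fun N hN hNL => ?_⟩
  · by_contra hc
    have hle : Y ≤ Y ⊔ Cfsg.pCore p L := le_sup_left
    by_cases htop : Y ⊔ Cfsg.pCore p L = ⊤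
    · have hp' : IsPGroup p (⊤ : Subgroup L) := htop ▸ hYp.to_sup_of_normal_right (Core.isPGroup_pCore p L)
      haveI : Group.IsNilpotent L := (hp'.of_equiv Subgroup.topEquiv).isNilpotent
      exact isMinimalOver_not_normal hmin hL₀ hYL (Subgroup.NormalizerCondition.normal_of_coatom L₀
        Group.normalizerCondition_of_isNilpotent hL₀)
    · exact hc (le_sup_right.trans (isMinimalOver_le hmin hL₀ hYL hle htop))
  · haveI := hN
    have hT0 : IsMaxP p (T' ⊓ N) N := hT.inf_normal hNL (by
      rw [Subgroup.normalizer_eq_top N]; exact le_top)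
    set T0 := T' ⊓ N
    have hT0n : T0.Normal := by
      rw [← Subgroup.normalizer_eq_top_iff]
      by_contra hne
      have hle := isMinimalOver_le hmin hL₀ hYL (hYT.trans ((le_inf Subgroup.le_normalizer
        (le_top.trans (Subgroup.normalizer_eq_top N).ge)).trans Subgroup.inf_normalizer_le_normalizer_inf)) hne
      refine hL₀.1 (top_le_iff.mp fun g _ => ?_)
      have hsub : cj g T0 ≤ N := (cj_mono inf_le_right).trans
        (cj_eq_self_iff.mpr ((Subgroup.normalizer_eq_top N).ge (Subgroup.mem_top g))).le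
      obtain ⟨k, hk, hkT⟩ := hT0.conj_le (isPGroup_cj hT0.2.1) hsub
      rw [cj_cj] at hkT
      have h1 := hle (cj_eq_self_iff.mp (Subgroup.eq_of_le_of_card_ge hkT (card_cj _ _).ge))
      simpa using L₀.mul_mem (L₀.inv_mem (hNL hk)) h1
    haveI := hT0n
    have hT0O : T0 ≤ Cfsg.pCore p L := Core.le_pCore hT0n hT0.2.1
    have hmem : ∀ x ∈ N, (∃ k, orderOf x = p ^ k) → x ∈ T0 := by
      rintro x hx ⟨k, hk⟩
      obtain ⟨k', -, hkT⟩ := hT0.conj_le (P := Subgroup.zpowers x)
        (IsPGroup.of_card (n := k) (by rw [Nat.card_zpowers, hk])) (Subgroup.zpowers_le.mpr hx)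
      have h1 := hT0n.conj_mem _ (hkT ⟨x, Subgroup.mem_zpowers x, rfl⟩) k'⁻¹
      simpa [mul_assoc] using h1
    refine ⟨isPClosed_normal_iff.mpr fun x hx hk => hT0O (hmem x hx hk), ?_⟩
    refine Nat.Coprime.symm ((Fact.out : p.Prime).coprime_iff_not_dvd.mpr fun hd => ?_)
    obtain ⟨q, hq⟩ := exists_prime_orderOf_dvd_card' p hd
    obtain ⟨x, rfl⟩ := QuotientGroup.mk'_surjective _ q
    obtain ⟨k, hk⟩ := coprime_pow_ppart (p := p) (x : L)
    -- the `p`-part of `x` lies in `T0`
    have h2 : (QuotientGroup.mk' (Cfsg.pCore p ↥N) x) ^ orderOf ((x : L) ^ p ^ k) = 1 := by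
      rw [← map_pow]
      refine (QuotientGroup.eq_one_iff _).mpr ?_
      rw [Core.pCore_eq_subgroupOf, Subgroup.mem_subgroupOf, Subgroup.coe_pow]
      refine hT0O (hmem _ (N.pow_mem x.2 _) ?_)
      have h3 : ((x : L) ^ orderOf ((x : L) ^ p ^ k)) ^ p ^ k = 1 := by
        rw [← pow_mul, mul_comm, pow_mul, pow_orderOf_eq_one]
      obtain ⟨i, -, hi⟩ := (Nat.dvd_prime_pow (Fact.out : p.Prime)).mp (orderOf_dvd_of_pow_eq_one h3)
      exact ⟨i, hi⟩
    have h4 := orderOf_dvd_of_pow_eq_one h2
    rw [hq] at h4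
    exact (Fact.out : p.Prime).ne_one (Nat.eq_one_of_dvd_coprimes hk h4 dvd_rfl)


/-- Let L be a finite group, L₀ a maximal subgroup, T a Sylow p-subgroup of L₀, Y ≤ T, and suppose L is Y-minimal. Let D be the intersection of the conjugates of L₀ (the core of L₀). Then D contains O_p(L) and D/O_p(L) is the Frattini subgroup of L/O_p(L), so D is p-closed; and every normal subgroup N of L contained in L₀ is p-closed with N/O_p(N) a nilpotent group of order prime to p. -/
theorem result {L : Type*} [Group L] [Finite L] {p : ℕ} [Fact p.Prime] (L₀ : Subgroup L) (hL₀ : IsCoatom L₀) (T : Sylow p ↥L₀) (Y : Subgroup L) (hYT : Y ≤ (T : Subgroup ↥L₀).map L₀.subtype) (hmin : Cfsg.IsMinimalOver Y) : (Cfsg.pCore p L ≤ L₀.normalCore ∧ (L₀.normalCore).map (QuotientGroup.mk' (Cfsg.pCore p L)) = frattini (L ⧸ Cfsg.pCore p L) ∧ Cfsg.IsPClosed p ↥(L₀.normalCore)) ∧ ∀ (N : Subgroup L) [N.Normal], N ≤ L₀ → Cfsg.IsPClosed p ↥N ∧ Group.IsNilpotent (↥N ⧸ Cfsg.pCore p ↥N) ∧ (Nat.card (↥N ⧸ Cfsg.pCore p ↥N)).Coprime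 p := by
  classical
  obtain ⟨hOL, hN⟩ := core_facts L₀ hL₀ T Y hYT hmin
  have hYL : Y ≤ L₀ := hYT.trans (Subgroup.map_subtype_le _)
  have hYp : IsPGroup p Y := (T.isPGroup'.map L₀.subtype).to_le hYT
  set O := Cfsg.pCore p L with hO
  set π := QuotientGroup.mk' O with hπ
  have hsurj : Function.Surjective π := QuotientGroup.mk'_surjective O
  have hOD : O ≤ L₀.normalCore := Subgroup.normal_le_normalCore.mpr hOL
  refine ⟨⟨hOD, ?_, (hN _ inferInstance (Subgroup.normalCore_le _)).1⟩, fun N _ hNL =>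
    ⟨(hN N inferInstance hNL).1, ?_, (hN N inferInstance hNL).2⟩⟩
  · refine le_antisymm ?_ ?_
    · simp only [frattini, Order.radical, le_iInf_iff]
      intro Mb hMb
      set M := Mb.comap π with hMdef
      have hker : O ≤ M := fun x hx => by
        show π x ∈ Mb
        rw [(QuotientGroup.eq_one_iff x).mpr hx |> fun h => (h : π x = 1)]
        exact one_mem _
      rw [Subgroup.map_le_iff_le_comap, ← hMdef]
      by_contra hDM
      set D := L₀.normalCore
      have hMco : ∀ X : Subgroup L, M ≤ X → X ≠ M → X = ⊤ := by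
        intro X hMX hne
        have h1 : (X.map π).comap π = X := Subgroup.comap_map_eq_self (by
          rw [QuotientGroup.ker_mk']; exact hker.trans hMX)
        have h2 : Mb ≤ X.map π := by
          intro q hq
          obtain ⟨x, rfl⟩ := hsurj q
          exact ⟨x, hMX hq, rfl⟩
        rcases h2.lt_or_eq with h3 | h3
        · rw [← h1, hMb.2 _ h3, Subgroup.comap_top]
        · exact absurd (by rw [← h1, ← h3]) hne
      have htop : M ⊔ D = ⊤ := hMco _ le_sup_left fun e => hDM (e ▸ le_sup_right)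
      obtain ⟨-, hcop⟩ := hN D inferInstance (Subgroup.normalCore_le _)
      have hidx : ¬ p ∣ M.index := by
        intro hd
        have h1 : M.relIndex D = M.index := by
          have e1 := Subgroup.relIndex_mul_index (inf_le_left : M ⊓ D ≤ M)
          have e2 := Subgroup.relIndex_mul_index (inf_le_right : M ⊓ D ≤ D)
          rw [Subgroup.inf_relIndex_left] at e1
          rw [Subgroup.inf_relIndex_right] at e2
          have e3 : D.relIndex M = D.index := by
            rw [← Subgroup.relIndex_sup_right, htop, Subgroup.relIndex_top_right]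
          rw [e3, ← e2, mul_comm (M.relIndex D)] at e1
          exact (Nat.eq_of_mul_eq_mul_left (Nat.pos_of_ne_zero Subgroup.index_ne_zero_of_finite) e1).symm
        have h2 : M.relIndex D ∣ (Cfsg.pCore p ↥D).index := by
          refine Subgroup.index_dvd_of_le ?_
          intro x hx
          rw [Core.pCore_eq_subgroupOf] at hx
          exact hker hx
        rw [h1, Subgroup.index_eq_card (Cfsg.pCore p ↥D)] at h2
        exact (Fact.out : p.Prime).ne_one (Nat.eq_one_of_dvd_coprimes hcop (hd.trans h2) dvd_rfl)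
      obtain ⟨P⟩ : Nonempty (Sylow p M) := inferInstance
      obtain ⟨Q, hQ⟩ := (P.isPGroup'.map M.subtype).exists_le_sylow
      obtain ⟨R, hR⟩ := hYp.exists_le_sylow
      obtain ⟨g, hg⟩ := MulAction.exists_smul_eq L R Q
      have hQM : (Q : Subgroup L) ≤ M := by
        have hcard : Nat.card ↥((P : Subgroup M).map M.subtype) = Nat.card Q := by
          refine Nat.dvd_antisymm (Subgroup.card_dvd_of_le hQ) ?_
          rw [Core.card_map_subtype, P.card_eq_multiplicity, Q.card_eq_multiplicity,
            ← Subgroup.card_mul_index M, Nat.factorization_mul Nat.card_pos.ne' Subgroup.index_ne_zero_of_finite,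
            Finsupp.add_apply, Nat.factorization_eq_zero_of_not_dvd hidx, add_zero]
        rw [← Subgroup.eq_of_le_of_card_ge hQ hcard.ge]
        exact Subgroup.map_subtype_le _
      have hgY : LocalEven.cj g Y ≤ M := by
        refine le_trans (le_trans (LocalEven.cj_mono hR) (le_of_eq ?_)) hQM
        rw [← hg, Sylow.coe_subgroup_smul]
        rfl
      have hMtop : M ≠ ⊤ := by
        intro e
        exact hDM (e ▸ le_top)
      have hM' : LocalEven.cj g⁻¹ M ≠ ⊤ := fun e => hMtop
        (Subgroup.eq_top_of_card_eq _ (by rw [← LocalEven.card_cj g⁻¹ M, e, Subgroup.card_top]))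
      have h3 : LocalEven.cj g⁻¹ M ≤ L₀ := LocalEven.isMinimalOver_le hmin hL₀ hYL (by
        have := LocalEven.cj_mono (g := g⁻¹) hgY
        rwa [LocalEven.cj_cj, inv_mul_cancel, LocalEven.cj_one] at this) hM'
      have h4 : LocalEven.cj g⁻¹ M = L₀ := by
        rcases h3.lt_or_eq with h5 | h5
        · exfalso
          have h6 := LocalEven.cj_mono (g := g) h3
          rw [LocalEven.cj_cj, mul_inv_cancel, LocalEven.cj_one] at h6
          rcases eq_or_ne (LocalEven.cj g L₀) M with h7 | h7
          · exact h5.ne (by rw [← h7, LocalEven.cj_cj, inv_mul_cancel, LocalEven.cj_one])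
          · exact hL₀.1 (Subgroup.eq_top_of_card_eq _ (by
              rw [← LocalEven.card_cj g L₀, hMco _ h6 h7, Subgroup.card_top]))
        · exact h5
      refine hDM fun d hd => ?_
      have h5 : g⁻¹ * d * g⁻¹⁻¹ ∈ L₀ := Subgroup.normalCore_le _ ((inferInstance : D.Normal).conj_mem d hd g⁻¹)
      rw [← h4] at h5
      obtain ⟨m, hm, hme⟩ := h5
      have : m = d := by
        have hme' : g⁻¹ * m * g⁻¹⁻¹ = g⁻¹ * d * g⁻¹⁻¹ := hme
        simpa using hme'
      exact this ▸ hm
    · intro q hq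
      obtain ⟨x, rfl⟩ := hsurj q
      refine ⟨x, ?_, rfl⟩
      have hco : IsCoatom (L₀.map π) := by
        have hcm : (L₀.map π).comap π = L₀ := Subgroup.comap_map_eq_self (by
          rw [QuotientGroup.ker_mk']; exact hOL)
        refine ⟨fun e => hL₀.1 (by rw [← hcm, e, Subgroup.comap_top]), fun X hX => ?_⟩
        have h1 : L₀ < X.comap π := by
          rw [← hcm]; exact (Subgroup.comap_lt_comap_of_surjective hsurj).mpr hX
        rw [← Subgroup.map_comap_eq_self_of_surjective hsurj X, hL₀.2 _ h1,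
          Subgroup.map_top_of_surjective _ hsurj]
      intro g
      have h1 : π (g * x * g⁻¹) ∈ frattini (L ⧸ O) := by
        rw [map_mul, map_mul, map_inv]
        exact (inferInstance : (frattini (L ⧸ O)).Normal).conj_mem _ hq _
      obtain ⟨l, hl, hle⟩ := frattini_le_coatom hco h1
      have h2 : l⁻¹ * (g * x * g⁻¹) ∈ O := (QuotientGroup.eq).mp hle
      simpa using L₀.mul_mem hl (hOL h2)
  · obtain ⟨-, hcop⟩ := hN N inferInstance hNL
    set Nb := N.map π with hNb
    haveI : Nb.Normal := Subgroup.Normal.map inferInstance _ hsurj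
    let e : ↥N ⧸ Cfsg.pCore p ↥N ≃* ↥Nb :=
      (QuotientGroup.quotientMulEquivOfEq (by
        rw [Core.pCore_eq_subgroupOf]
        ext x
        simp [MonoidHom.mem_ker, Subgroup.mem_subgroupOf, π]
        rfl
        : Cfsg.pCore p ↥N = (π.comp N.subtype).ker)).trans
      ((QuotientGroup.quotientKerEquivRange _).trans (MulEquiv.subgroupCongr (by
        rw [MonoidHom.range_comp, Subgroup.range_subtype])))
    refine Core.isNilpotent_congr e.symm (Core.isNilpotent_of_sylow_normal fun q hq P => ?_)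
    set Yb := Y.map π
    have hYb : IsPGroup p Yb := hYp.map π
    haveI := Coprime.isSolvable_of_isPGroup hYb
    have hcop' : (Nat.card Yb).Coprime (Nat.card Nb) := by
      obtain ⟨k, hk⟩ := IsPGroup.iff_card.mp hYb
      rw [hk, ← Nat.card_congr e.toEquiv]
      exact (hcop.pow_right k).symm
    obtain ⟨R, hRN, hRq, hRi, hRY⟩ := Coprime.exists_invariant_sylow (N := Nb) (A := Yb)
      (by rw [Subgroup.normalizer_eq_top Nb]; exact le_top) hcop' q
    obtain ⟨R', hR'⟩ : ∃ R' : Sylow q Nb, (R' : Subgroup Nb).map Nb.subtype = R :=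
      ⟨(hRq.of_equiv (Subgroup.subgroupOfEquivOfLe hRN).symm).toSylow hRi,
        by
          show (R.subgroupOf Nb).map Nb.subtype = R
          rw [Subgroup.subgroupOf_map_subtype, inf_of_le_left hRN]⟩
    have hfr := Sylow.normalizer_sup_eq_top R'
    rw [hR'] at hfr
    have hRn : Subgroup.normalizer (R : Set (L ⧸ O)) = ⊤ := by
      by_contra hne
      have hne' : (Subgroup.normalizer (R : Set (L ⧸ O))).comap π ≠ ⊤ := fun e => hne (by
        rw [← Subgroup.map_comap_eq_self_of_surjective hsurj (Subgroup.normalizer (R : Set (L ⧸ O))), e,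
          Subgroup.map_top_of_surjective _ hsurj])
      have hle := LocalEven.isMinimalOver_le hmin hL₀ hYL
        (fun y hy => hRY (Subgroup.mem_map_of_mem π hy)) hne'
      refine hL₀.1 (top_le_iff.mp fun g _ => ?_)
      have hg : π g ∈ Subgroup.normalizer (R : Set (L ⧸ O)) ⊔ Nb := hfr ▸ Subgroup.mem_top _
      rw [← SetLike.mem_coe, Subgroup.mul_normal] at hg
      obtain ⟨a, ha, _, ⟨n, hn, rfl⟩, h⟩ := hg
      obtain ⟨a', rfl⟩ := hsurj a
      have h' : π a' * π n = π g := h
      rw [← map_mul] at h'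
      have h2 : (a' * n)⁻¹ * g ∈ O := (QuotientGroup.eq).mp h'
      rw [show g = a' * n * ((a' * n)⁻¹ * g) by group]
      exact L₀.mul_mem (L₀.mul_mem (hle ha) (hNL hn)) (hOL h2)
    have hR'n : (R' : Subgroup Nb).Normal := by
      haveI : R.Normal := Subgroup.normalizer_eq_top_iff.mp hRn
      rw [← Subgroup.comap_map_eq_self_of_injective Nb.subtype_injective (R' : Subgroup Nb), hR']
      infer_instance
    haveI := hR'n
    haveI := Sylow.unique_of_normal R' hR'n
    rw [Subsingleton.elim P R']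
    exact hR'n


end Cfsg.Agent.S2836
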