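import Cfsg.Statements.S2837
import Cfsg.Agent.LocalEven.MinimalOver
import Cfsg.Agent.Core.Cores
import Cfsg.Agent.FGS3.PGroupFrattini

set_option autoImplicit false
open Cfsg

namespace Cfsg.Agent.S2837

/-- Let L be a finite group of characteristic p, L₀ a maximal subgroup, Y an elementary abelian p-subgroup of L₀ with L Y-minimal and O_p(L) ≤ N_L(Y). Put A = the normal closure of O_p(L) ∩ Y in L. Then for every g ∈ L outside L₀: Φ(A) = A' = [A ∩ Y, A] = [A ∩ Y, A ∩ gYg⁻¹] ≤ C_Y(L), and Y ∩ gYg⁻¹ = (A ∩ Y) ∩ (A ∩ gYg⁻¹) = C_Y(L) = C_A(L). -/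
theorem result {L : Type*} [Group L] [Finite L] {p : ℕ} [Fact p.Prime] (hchar : Subgroup.centralizer (Cfsg.pCore p L : Set L) ≤ Cfsg.pCore p L) (L₀ : Subgroup L) (hL₀ : IsCoatom L₀) (Y : Subgroup L) (hYL₀ : Y ≤ L₀) (hYel : Cfsg.IsElementaryAbelian p Y) (hmin : Cfsg.IsMinimalOver Y) (hOY : Cfsg.pCore p L ≤ Subgroup.normalizer (Y : Set L)) (A : Subgroup L) (hA : A = Subgroup.normalClosure (((Cfsg.pCore p L ⊓ Y : Subgroup L)) : Set L)) (g : L) (hg : g ∉ L₀) : (frattini ↥A).map A.subtype = ⁅A, A⁆ ∧ ⁅A, A⁆ = ⁅A ⊓ Y, A⁆ ∧ ⁅A ⊓ Y, A⁆ = ⁅A ⊓ Y, A ⊓ Y.map (MulAut.conj g).toMonoidHom⁆ ∧ ⁅A ⊓ Y, A⁆ ≤ Y ⊓ Subgroup.center L ∧ Y ⊓ Y.map (MulAut.conj g).toMonoidHom = Y ⊓ Subgroup.center L ∧ (A ⊓ Y) ⊓ (A ⊓ Y.map (MulAut.conj g).toMonoidHom) = Y ⊓ Subgroup.center L ∧ A ⊓ Subgroup.center L = Y ⊓ Subgroup.center L := by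
  classical
  set O := Cfsg.pCore p L with hO
  set Yg := Y.map (MulAut.conj g).toMonoidHom with hYg
  haveI := hYel.1
  have hYab := Subgroup.le_centralizer_iff_isMulCommutative.mpr hYel.1
  have hYgab : Yg ≤ Subgroup.centralizer (Yg : Set L) := by
    rintro _ ⟨y, hy, rfl⟩
    refine Subgroup.mem_centralizer_iff.mpr ?_
    rintro _ ⟨z, hz, rfl⟩
    rw [← map_mul, ← map_mul, Subgroup.mem_centralizer_iff.mp (hYab hy) z hz]
  have hgen : Y ⊔ Yg = ⊤ := by
    by_contra hne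
    have h1 := le_sup_right.trans (LocalEven.isMinimalOver_le hmin hL₀ hYL₀ le_sup_left hne)
    have h2 : LocalEven.cj g⁻¹ L₀ ≠ ⊤ := fun e => hL₀.1 (Subgroup.eq_top_of_card_eq _
      (by rw [← LocalEven.card_cj g⁻¹ L₀, e, Subgroup.card_top]))
    have h3 : Y ≤ LocalEven.cj g⁻¹ L₀ := by
      have := LocalEven.cj_mono (g := g⁻¹) h1
      rwa [hYg, show Subgroup.map (MulAut.conj g).toMonoidHom Y = LocalEven.cj g Y from rfl, LocalEven.cj_cj,
        inv_mul_cancel, LocalEven.cj_one] at this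
    have h4 := LocalEven.isMinimalOver_le hmin hL₀ hYL₀ h3 h2
    have h5 : g⁻¹ ∈ Subgroup.normalizer (L₀ : Set L) :=
      LocalEven.cj_eq_self_iff.mp (Subgroup.eq_of_le_of_card_ge h4 (LocalEven.card_cj _ _).ge)
    rw [LocalEven.normalizer_coatom hmin hL₀ hYL₀, inv_mem_iff] at h5
    exact hg h5
  have hcent : ∀ z : L, z ∈ Subgroup.centralizer (Y : Set L) → z ∈ Subgroup.centralizer (Yg : Set L) →
      z ∈ Subgroup.center L := fun z h1 h2 => by
    have h3 : (Y ⊔ Yg) ≤ Subgroup.centralizer (({z} : Set L)) := by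
      refine sup_le ?_ ?_ <;> intro y hy <;> rw [Subgroup.mem_centralizer_singleton_iff]
      · exact Subgroup.mem_centralizer_iff.mp h1 y hy
      · exact Subgroup.mem_centralizer_iff.mp h2 y hy
    rw [hgen] at h3
    exact Subgroup.mem_center_iff.mpr fun y => Subgroup.mem_centralizer_singleton_iff.mp (h3 (Subgroup.mem_top y))
  have hfix : ∀ z ∈ Y ⊓ Subgroup.center L, z ∈ Yg := fun z hz => by
    obtain ⟨hzY, hzC⟩ := Subgroup.mem_inf.mp hz
    refine ⟨z, hzY, ?_⟩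
    show g * z * g⁻¹ = z
    rw [Subgroup.mem_center_iff.mp hzC g, mul_inv_cancel_right]
  have hYZ : Y ⊓ Yg = Y ⊓ Subgroup.center L := by
    refine le_antisymm (fun z hz => ?_) (fun z hz => Subgroup.mem_inf.mpr ⟨(Subgroup.mem_inf.mp hz).1, hfix z hz⟩)
    obtain ⟨h1, h2⟩ := Subgroup.mem_inf.mp hz
    exact Subgroup.mem_inf.mpr ⟨h1, hcent z (hYab h1) (hYgab h2)⟩
  have hYgZ : Yg ⊓ Subgroup.center L ≤ Y := fun z hz => by
    obtain ⟨⟨y, hy, rfl⟩, hzC⟩ := Subgroup.mem_inf.mp hz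
    have h1 : g * y * g⁻¹ ∈ Subgroup.center L := hzC
    have h2 : g * y * g⁻¹ = y := by
      have h3 := Subgroup.mem_center_iff.mp h1 g
      calc g * y * g⁻¹ = g⁻¹ * (g * (g * y * g⁻¹)) := by group
        _ = g⁻¹ * ((g * y * g⁻¹) * g) := by rw [h3]
        _ = y := by group
    show g * y * g⁻¹ ∈ Y
    rw [h2]; exact hy
  have hZO : Y ⊓ Subgroup.center L ≤ O := by
    haveI : (Y ⊓ Subgroup.center L).Normal := ⟨fun n hn x => by
      rw [Subgroup.mem_center_iff.mp (Subgroup.mem_inf.mp hn).2 x, mul_inv_cancel_right]; exact hn⟩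
    refine Core.le_pCore inferInstance (IsPGroup.to_le (fun v => ⟨1, ?_⟩) inf_le_left)
    rw [pow_one]; exact Subtype.ext (hYel.2 v.1 v.2)
  set B := O ⊓ Y with hB
  set Bg := O ⊓ Yg with hBg
  have hOYg : O ≤ Subgroup.normalizer (Yg : Set L) := by
    intro o ho
    rw [← LocalEven.cj_eq_self_iff, hYg, show Subgroup.map (MulAut.conj g).toMonoidHom Y = LocalEven.cj g Y from rfl,
      LocalEven.cj_cj]
    have h1 : g⁻¹ * o * g⁻¹⁻¹ ∈ O := (inferInstance : O.Normal).conj_mem o ho g⁻¹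
    rw [show o * g = g * (g⁻¹ * o * g⁻¹⁻¹) by group, ← LocalEven.cj_cj, LocalEven.cj_eq_self_iff.mpr (hOY h1)]
  have hBgconj : ∀ y ∈ Y, ∀ c ∈ Bg, y * c * y⁻¹ ∈ B ⊔ Bg := by
    intro y hy c hc
    obtain ⟨hcO, -⟩ := Subgroup.mem_inf.mp hc
    have h1 : y * c * y⁻¹ * c⁻¹ ∈ B := by
      refine Subgroup.mem_inf.mpr ⟨O.mul_mem ((inferInstance : O.Normal).conj_mem c hcO y) (O.inv_mem hcO), ?_⟩
      rw [mul_assoc, mul_assoc]
      exact Y.mul_mem hy (by rw [← mul_assoc]; exact (Subgroup.mem_normalizer_iff.mp (hOY hcO) _).mp (Y.inv_mem hy))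
    have h2 := (B ⊔ Bg).mul_mem (Subgroup.mem_sup_left h1) (Subgroup.mem_sup_right hc)
    simpa using h2
  have hBconj : ∀ y ∈ Yg, ∀ c ∈ B, y * c * y⁻¹ ∈ B ⊔ Bg := by
    intro y hy c hc
    obtain ⟨hcO, -⟩ := Subgroup.mem_inf.mp hc
    have h1 : y * c * y⁻¹ * c⁻¹ ∈ Bg := by
      refine Subgroup.mem_inf.mpr ⟨O.mul_mem ((inferInstance : O.Normal).conj_mem c hcO y) (O.inv_mem hcO), ?_⟩
      rw [mul_assoc, mul_assoc]
      exact Yg.mul_mem hy (by rw [← mul_assoc]; exact (Subgroup.mem_normalizer_iff.mp (hOYg hcO) _).mp (Yg.inv_mem hy))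
    have h2 := (B ⊔ Bg).mul_mem (Subgroup.mem_sup_right h1) (Subgroup.mem_sup_left hc)
    simpa using h2
  haveI hBBn : (B ⊔ Bg).Normal := by
    rw [← Subgroup.normalizer_eq_top_iff, eq_top_iff, ← hgen]
    refine sup_le ?_ ?_ <;> intro y hy <;> rw [← LocalEven.cj_eq_self_iff] <;>
      refine Subgroup.eq_of_le_of_card_ge ?_ (LocalEven.card_cj _ _).ge <;>
      rw [LocalEven.cj, Subgroup.map_le_iff_le_comap] <;> refine sup_le (fun c hc => ?_) (fun c hc => ?_)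
    · show y * c * y⁻¹ ∈ B ⊔ Bg
      rw [Subgroup.mem_centralizer_iff.mp (hYab (Subgroup.mem_inf.mp hc).2) y hy, mul_inv_cancel_right]
      exact Subgroup.mem_sup_left hc
    · exact hBgconj y hy c hc
    · exact hBconj y hy c hc
    · show y * c * y⁻¹ ∈ B ⊔ Bg
      rw [Subgroup.mem_centralizer_iff.mp (hYgab (Subgroup.mem_inf.mp hc).2) y hy, mul_inv_cancel_right]
      exact Subgroup.mem_sup_right hc
  haveI : A.Normal := hA ▸ Subgroup.normalClosure_normal
  have hBA : B ≤ A := hA ▸ Subgroup.subset_normalClosure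
  have hBgA : Bg ≤ A := by
    intro c hc
    obtain ⟨hcO, y, hy, rfl⟩ := Subgroup.mem_inf.mp hc
    have h1 : y ∈ B := Subgroup.mem_inf.mpr ⟨by
      have hcO' : g * y * g⁻¹ ∈ O := hcO
      simpa [mul_assoc] using (inferInstance : O.Normal).conj_mem _ hcO' g⁻¹, hy⟩
    exact (inferInstance : A.Normal).conj_mem y (hBA h1) g
  have hAeq : A = B ⊔ Bg := le_antisymm (hA.le.trans (Subgroup.normalClosure_le_normal
    (SetLike.coe_subset_coe.mpr le_sup_left))) (sup_le hBA hBgA)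
  have hAO : A ≤ O := hAeq.le.trans (sup_le inf_le_left inf_le_left)
  have hAY : A ⊓ Y = B := le_antisymm (inf_le_inf_right Y hAO) (le_inf hBA inf_le_right)
  have hAYg : A ⊓ Yg = Bg := le_antisymm (inf_le_inf_right Yg hAO) (le_inf hBgA inf_le_right)
  have hOB : O ≤ Subgroup.normalizer (B : Set L) :=
    (le_inf Subgroup.le_normalizer hOY).trans Subgroup.inf_normalizer_le_normalizer_inf
  have hOBg : O ≤ Subgroup.normalizer (Bg : Set L) :=
    (le_inf Subgroup.le_normalizer hOYg).trans Subgroup.inf_normalizer_le_normalizer_inf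
  have hcap : B ⊓ Bg = Y ⊓ Subgroup.center L := by
    rw [← hYZ, hB, hBg, inf_inf_inf_comm, inf_idem, inf_eq_right, hYZ]
    exact hZO
  set D := ⁅B, Bg⁆ with hD
  have hDZ : D ≤ Y ⊓ Subgroup.center L := hcap ▸ le_inf
    (Subgroup.le_normalizer_iff_commutator_le_left.mp (inf_le_left.trans hOB))
    (Subgroup.le_normalizer_iff_commutator_le_right.mp (inf_le_left.trans hOBg))
  haveI : D.Normal := ⟨fun n hn x => by
    rw [Subgroup.mem_center_iff.mp (Subgroup.mem_inf.mp (hDZ hn)).2 x, mul_inv_cancel_right]; exact hn⟩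
  set π := QuotientGroup.mk' D with hπ
  have hAbar : A.map π = B.map π ⊔ Bg.map π := by rw [hAeq, Subgroup.map_sup]
  have hab : A.map π ≤ Subgroup.centralizer (A.map π : Set (L ⧸ D)) := by
    have hBB : B.map π ≤ Subgroup.centralizer (Bg.map π : Set (L ⧸ D)) := by
      rw [← Subgroup.commutator_eq_bot_iff_le_centralizer, ← Subgroup.map_commutator, ← hD,
        Subgroup.map_eq_bot_iff, QuotientGroup.ker_mk']
    have hself : ∀ X : Subgroup L, X ≤ Subgroup.centralizer (X : Set L) →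
        X.map π ≤ Subgroup.centralizer (X.map π : Set (L ⧸ D)) := by
      rintro X hX _ ⟨a, ha, rfl⟩
      refine Subgroup.mem_centralizer_iff.mpr ?_
      rintro _ ⟨b, hb, rfl⟩
      rw [← map_mul, ← map_mul, Subgroup.mem_centralizer_iff.mp (hX ha) b hb]
    have hB1 := hself B ((inf_le_right.trans hYab).trans (Subgroup.centralizer_le inf_le_right))
    have hBg1 := hself Bg ((inf_le_right.trans hYgab).trans (Subgroup.centralizer_le inf_le_right))
    rw [Subgroup.le_centralizer_iff, hAbar]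
    refine sup_le ?_ ?_ <;> rw [Subgroup.le_centralizer_iff]
    · exact sup_le hB1 (Subgroup.le_centralizer_iff.mp hBB)
    · exact sup_le hBB hBg1
  have hA' : ⁅A, A⁆ ≤ D := by
    rw [← QuotientGroup.ker_mk' D, ← Subgroup.map_eq_bot_iff, Subgroup.map_commutator,
      Subgroup.commutator_eq_bot_iff_le_centralizer]
    exact hab
  have hDA' : D ≤ ⁅A, A⁆ := Subgroup.commutator_mono hBA hBgA
  have hpow : ∀ x ∈ A, x ^ p ∈ D := by
    intro x hx
    rw [← QuotientGroup.eq_one_iff, QuotientGroup.mk_pow]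
    have h1 : π x ∈ B.map π ⊔ Bg.map π := hAbar ▸ Subgroup.mem_map_of_mem π hx
    have hBB : B.map π ≤ Subgroup.normalizer (Bg.map π : Set (L ⧸ D)) :=
      ((Subgroup.map_mono hBA).trans (hab.trans (Subgroup.centralizer_le (Subgroup.map_mono hBgA)))).trans
        (Subgroup.centralizer_le_normalizer _)
    rw [← SetLike.mem_coe, Subgroup.coe_mul_of_left_le_normalizer_right _ _ hBB] at h1
    obtain ⟨_, ⟨b, hb, rfl⟩, _, ⟨c, hc, rfl⟩, h⟩ := h1
    show (π x) ^ p = 1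
    have hcomm : Commute (π b) (π c) := Subgroup.mem_centralizer_iff.mp
      (hab (Subgroup.mem_map_of_mem π (hBgA hc))) _ (Subgroup.mem_map_of_mem π (hBA hb))
    obtain ⟨-, y, hy, rfl⟩ := Subgroup.mem_inf.mp hc
    rw [← h, hcomm.mul_pow, ← map_pow, ← map_pow, hYel.2 b (Subgroup.mem_inf.mp hb).2, map_one, one_mul,
      ← map_pow (MulAut.conj g).toMonoidHom y p, hYel.2 y hy, map_one, map_one]
  have hAp : IsPGroup p A := (Core.isPGroup_pCore p L).to_le hAO
  have hDeq : ⁅A, A⁆ = D := le_antisymm hA' hDA'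
  have hBAD : ⁅B, A⁆ = D := le_antisymm ((Subgroup.commutator_mono hBA le_rfl).trans hA')
    (Subgroup.commutator_mono le_rfl hBgA)
  rw [hAY, hAYg, hBAD, hDeq]
  refine ⟨le_antisymm ?_ ?_, rfl, rfl, hDZ, hYZ, hcap, le_antisymm (fun z hz => ?_) (le_inf ?_ inf_le_right)⟩
  · refine (Subgroup.map_mono (FGS3.frattini_le_of_elementary (p := p) (N := D.subgroupOf A) ?_ ?_)).trans
      (by rw [Subgroup.subgroupOf_map_subtype]; exact inf_le_left)
    · intro x hx
      have h1 : (x : L) ∈ ⁅A, A⁆ := by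
        rw [← Subgroup.map_subtype_commutator]; exact ⟨x, hx, rfl⟩
      exact hA' h1
    · exact fun a => hpow a a.2
  · rw [← hDeq, ← Subgroup.map_subtype_commutator]
    exact Subgroup.map_mono (FGS3.commutator_le_frattini hAp)
  · obtain ⟨hzA, hzC⟩ := Subgroup.mem_inf.mp hz
    refine Subgroup.mem_inf.mpr ⟨?_, hzC⟩
    rw [hAeq, ← SetLike.mem_coe, Subgroup.coe_mul_of_left_le_normalizer_right _ _ (inf_le_left.trans hOBg)] at hzA
    obtain ⟨b, hb, c, hc, rfl⟩ := hzA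
    obtain ⟨-, hbY⟩ := Subgroup.mem_inf.mp hb
    have hcY : c ∈ Subgroup.centralizer (Y : Set L) := by
      rw [show c = b⁻¹ * (b * c) by group]
      exact mul_mem (inv_mem (hYab hbY)) (Subgroup.mem_centralizer_iff.mpr fun y _ => Subgroup.mem_center_iff.mp hzC y)
    have hcYg := (Subgroup.mem_inf.mp hc).2
    exact Y.mul_mem hbY (hYgZ (Subgroup.mem_inf.mpr ⟨hcYg, hcent c hcY (hYgab hcYg)⟩))
  · exact (hcap.ge.trans inf_le_left).trans hBA


end Cfsg.Agent.S2837
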