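import Cfsg.Statements.S2839
import Cfsg.Agent.LocalEven.WeaklyClosed
import Cfsg.Agent.Core.Residual
import Cfsg.Agent.Core.PiNumber
import Cfsg.Agent.LocalEven.SylowMk

set_option autoImplicit false
open Cfsg

namespace Cfsg.Agent.S2839

/-- Let Q be a nontrivial p-subgroup of the finite group H that is a weakly closed subgroup, K a subgroup containing Q and N a normal subgroup of H. Then Q is a weakly closed subgroup of K; every H-conjugate of Q contained in K is a K-conjugate of Q; N_K(Q) contains a Sylow p-subgroup of K; N = N_N(Q)·O^p(N); and QN/N is a weakly closed subgroup of H/N. -/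
theorem result {H : Type*} [Group H] [Finite H] {p : ℕ} [Fact p.Prime] (Q : Subgroup H) (hQp : IsPGroup p ↥Q) (hQ1 : Q ≠ ⊥) (hwc : Cfsg.IsWeaklyClosedSubgroup p Q) (K : Subgroup H) (hQK : Q ≤ K) (N' : Subgroup H) [N'.Normal] : Cfsg.IsWeaklyClosedSubgroup p (Q.subgroupOf K) ∧ (∀ g : H, ((Q : Subgroup H).map (MulAut.conj (g : H)).toMonoidHom) ≤ K → ∃ k ∈ K, ((Q : Subgroup H).map (MulAut.conj (g : H)).toMonoidHom) = ((Q : Subgroup H).map (MulAut.conj (k : H)).toMonoidHom)) ∧ Cfsg.IsParabolic p ((Subgroup.normalizer ((Q : Subgroup H) : Set H)).subgroupOf K) ∧ (N' ⊓ Subgroup.normalizer ((Q : Subgroup H) : Set H)) ⊔ (Cfsg.pResidual p ↥N').map N'.subtype = N' ∧ Cfsg.IsWeaklyClosedSubgroup p (Q.map (QuotientGroup.mk' N')) := by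
  classical
  refine ⟨?_, fun g hg => LocalEven.wc_conj_mem hQp hwc hQK hg, ?_, ?_, ?_⟩
  · obtain ⟨S, hS⟩ := (hQp.of_equiv (Subgroup.subgroupOfEquivOfLe hQK).symm).exists_le_sylow
    refine ⟨S, hS, fun k hk => ?_⟩
    have hQS : Q ≤ (S : Subgroup K).map K.subtype := fun q hq => ⟨⟨q, hQK hq⟩, hS hq, rfl⟩
    have h1 : LocalEven.cj (k : H) Q ≤ (S : Subgroup K).map K.subtype := by
      rintro _ ⟨q, hq, rfl⟩
      exact ⟨k * ⟨q, hQK hq⟩ * k⁻¹, hk ⟨⟨q, hQK hq⟩, hq, rfl⟩, rfl⟩
    have h2 := LocalEven.wc_unique hwc (S.isPGroup'.map _) hQS h1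
    refine Subgroup.map_injective K.subtype_injective ?_
    rw [Subgroup.subgroupOf_map_subtype, inf_of_le_left hQK, Subgroup.map_map]
    have : (K.subtype.comp (MulAut.conj k).toMonoidHom) = ((MulAut.conj (k : H)).toMonoidHom).comp K.subtype := by
      ext x; rfl
    rw [this, ← Subgroup.map_map, Subgroup.subgroupOf_map_subtype, inf_of_le_left hQK]
    exact h2
  · obtain ⟨S, hS⟩ := (hQp.of_equiv (Subgroup.subgroupOfEquivOfLe hQK).symm).exists_le_sylow
    refine ⟨S, fun x hx => ?_⟩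
    have hQS : Q ≤ (S : Subgroup K).map K.subtype := fun q hq => ⟨⟨q, hQK hq⟩, hS hq, rfl⟩
    exact LocalEven.wc_le_normalizer hwc (S.isPGroup'.map _) hQS ⟨x, hx, rfl⟩
  · refine le_antisymm (sup_le inf_le_left (Subgroup.map_subtype_le _)) ?_
    obtain ⟨T, hQT⟩ := hQp.exists_le_sylow
    have hTN : (T : Subgroup H) ≤ Subgroup.normalizer (Q : Set H) :=
      LocalEven.wc_le_normalizer hwc T.isPGroup' hQT
    obtain ⟨U, hU⟩ : ∃ U : Sylow p N', (U : Subgroup N').map N'.subtype ≤ (T : Subgroup H) := by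
      obtain ⟨U⟩ : Nonempty (Sylow p N') := inferInstance
      obtain ⟨R, hR, hTR, k, -, hkR⟩ : ∃ R : Subgroup H, IsPGroup p R ∧ (T : Subgroup H) ≤ R ∧ ∃ k ∈ (⊤ : Subgroup H), LocalEven.cj k ((U : Subgroup N').map N'.subtype) ≤ R := by
        obtain ⟨R, -, hR, hTR, k, hk, hkR⟩ := LocalEven.exists_cj_le_common (K := (⊤ : Subgroup H)) T.isPGroup' (U.isPGroup'.map N'.subtype) le_top le_top
        exact ⟨R, hR, hTR, k, hk, hkR⟩
      rw [T.is_maximal' hR hTR] at hkR
      set X := LocalEven.cj k ((U : Subgroup N').map N'.subtype)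
      have hXN : X ≤ N' := by
        rintro _ ⟨_, ⟨y, hy, rfl⟩, rfl⟩
        exact (inferInstance : N'.Normal).conj_mem _ y.2 k
      obtain ⟨U', hU'⟩ := ((T.isPGroup'.to_le hkR).of_equiv (Subgroup.subgroupOfEquivOfLe hXN).symm).exists_le_sylow
      refine ⟨U', ?_⟩
      have hcard : Nat.card X = Nat.card (U' : Subgroup N') := by
        rw [LocalEven.card_cj, Subgroup.card_map_of_injective N'.subtype_injective, U.card_eq_multiplicity, U'.card_eq_multiplicity]
      have heq : X.subgroupOf N' = (U' : Subgroup N') := Subgroup.eq_of_le_of_card_ge hU'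
        (by rw [Nat.card_congr (Subgroup.subgroupOfEquivOfLe hXN).toEquiv]; exact hcard.ge)
      rw [← heq, Subgroup.subgroupOf_map_subtype, inf_of_le_left hXN]
      exact hkR
    intro n hn
    have h1 : (⟨n, hn⟩ : N') ∈ (U : Subgroup N') ⊔ Cfsg.pResidual p N' := by
      rw [Core.sylow_sup_pResidual]; exact Subgroup.mem_top _
    have h2 := Subgroup.mem_map_of_mem N'.subtype h1
    rw [Subgroup.map_sup] at h2
    refine sup_le_sup_right (le_inf (Subgroup.map_subtype_le _) (hU.trans hTN)) _ h2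
  · set π := QuotientGroup.mk' N'
    have hs := QuotientGroup.mk'_surjective N'
    obtain ⟨T, hQT⟩ := hQp.exists_le_sylow
    refine ⟨T.mapSurjective hs, Subgroup.map_mono hQT, fun g hg => ?_⟩
    obtain ⟨g, rfl⟩ := hs g
    have hcomp : ∀ x : H, (Q.map π).map (MulAut.conj (π x)).toMonoidHom = (LocalEven.cj x Q).map π := fun x => by
      rw [LocalEven.cj, Subgroup.map_map, Subgroup.map_map]
      congr 1
    have hg' : (LocalEven.cj g Q).map π ≤ (T : Subgroup H).map π := hcomp g ▸ hg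
    rw [Subgroup.map_le_map_iff, QuotientGroup.ker_mk'] at hg'
    obtain ⟨k, hk, he⟩ := LocalEven.wc_conj_mem hQp hwc (hQT.trans le_sup_left) hg'
    have hTN : (T : Subgroup H) ≤ Subgroup.normalizer (Q : Set H) := LocalEven.wc_le_normalizer hwc T.isPGroup' hQT
    rw [sup_comm, ← SetLike.mem_coe, Subgroup.normal_mul] at hk
    obtain ⟨n, hn, t, ht, rfl⟩ := hk
    rw [hcomp, he, ← LocalEven.cj_cj, LocalEven.cj_eq_self_iff.mpr (hTN ht), ← hcomp,
      show π n = 1 from (QuotientGroup.eq_one_iff n).mpr hn, map_one]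
    exact Subgroup.map_id _


end Cfsg.Agent.S2839
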