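import Cfsg.Statements.S2840
import Cfsg.Agent.LocalEven.WeaklyClosed

set_option autoImplicit false
open Cfsg

namespace Cfsg.Agent.S2840

/-- Let Q be a nontrivial p-subgroup of the finite group H that is a weakly closed subgroup and K a subgroup containing Q; let K° be the weak closure of Q in K (generated by the H-conjugates of Q inside K). Then K° is generated by the K-conjugates of Q, and K° is the subnormal closure of Q in K. -/
theorem result {H : Type*} [Group H] [Finite H] {p : ℕ} [Fact p.Prime] (Q : Subgroup H) (hQp : IsPGroup p ↥Q) (hQ1 : Q ≠ ⊥) (hwc : Cfsg.IsWeaklyClosedSubgroup p Q) (K : Subgroup H) (hQK : Q ≤ K) (Kc : Subgroup H) (hKc : Kc = Cfsg.weakClosure Q K) : Kc = ⨆ k : ↥K, ((Q : Subgroup H).map (MulAut.conj ((k : H) : H)).toMonoidHom) ∧ Kc = (Cfsg.subnormalClosure (Q.subgroupOf K)).map K.subtype := by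
  classical
  subst hKc
  have h1 : Cfsg.weakClosure Q K = ⨆ k : ↥K, LocalEven.cj (k : H) Q := by
    refine le_antisymm (iSup_le ?_) (iSup_le fun k => ?_)
    · rintro ⟨g, hg⟩
      obtain ⟨k, hk, he⟩ := LocalEven.wc_conj_mem hQp hwc hQK hg
      exact he.le.trans (le_iSup (fun k : ↥K => LocalEven.cj (k : H) Q) ⟨k, hk⟩)
    · have hk : LocalEven.cj (k : H) Q ≤ K :=
        (LocalEven.cj_mono hQK).trans (LocalEven.cj_eq_self_iff.mpr (Subgroup.le_normalizer k.2)).le
      exact le_iSup (fun g : {g : H // Q.map (MulAut.conj g).toMonoidHom ≤ K} => Q.map (MulAut.conj (g : H)).toMonoidHom) ⟨k, hk⟩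
  refine ⟨h1, le_antisymm ?_ ?_⟩
  · rw [h1]
    refine iSup_le fun k => ?_
    rintro _ ⟨q, hq, rfl⟩
    refine ⟨k * ⟨q, hQK hq⟩ * k⁻¹, ?_, rfl⟩
    -- every subnormal subgroup containing `Q` contains all its conjugates
    rw [Cfsg.subnormalClosure, SetLike.mem_coe, Subgroup.mem_sInf]
    rintro X ⟨hQX, hX⟩
    suffices h : ∀ a : K, LocalEven.cj (a : H) Q ≤ X.map K.subtype by
      obtain ⟨y, hy, e⟩ := h k (LocalEven.conj_mem_cj hq)
      rwa [← Subtype.ext (show (y : H) = ((k * ⟨q, hQK hq⟩ * k⁻¹ : K) : H) from e)]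
    clear hq q
    induction hX with
    | top =>
      intro a
      rw [← MonoidHom.range_eq_map, Subgroup.range_subtype]
      exact (LocalEven.cj_mono hQK).trans (LocalEven.cj_eq_self_iff.mpr (Subgroup.le_normalizer a.2)).le
    | step X Y hXY _ hn ih =>
      intro a
      have hQX' : Q ≤ X.map K.subtype := fun q hq => ⟨⟨q, hQK hq⟩, hQX hq, rfl⟩
      have hQY : Q ≤ Y.map K.subtype := hQX'.trans (Subgroup.map_mono hXY)
      obtain ⟨_, ⟨y, hy, rfl⟩, he⟩ := LocalEven.wc_conj_mem hQp hwc hQY (ih (fun z hz => hXY (hQX hz)) a)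
      rw [he]
      refine (LocalEven.cj_mono hQX').trans (LocalEven.cj_eq_self_iff.mpr ?_).le
      exact Subgroup.le_normalizer_map K.subtype ⟨y, (Subgroup.normal_subgroupOf_iff_le_normalizer hXY).mp hn hy, rfl⟩
  · have hle : Cfsg.weakClosure Q K ≤ K := iSup_le fun g => g.2
    refine le_trans (Subgroup.map_mono (sInf_le ⟨?_, ?_⟩ : Cfsg.subnormalClosure (Q.subgroupOf K) ≤ (Cfsg.weakClosure Q K).subgroupOf K))
      (by rw [Subgroup.subgroupOf_map_subtype]; exact inf_le_left)
    · intro q hq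
      refine le_iSup (fun g : {g : H // Q.map (MulAut.conj g).toMonoidHom ≤ K} => Q.map (MulAut.conj (g : H)).toMonoidHom)
        ⟨1, (LocalEven.cj_one Q).le.trans hQK⟩ ?_
      show (q : H) ∈ LocalEven.cj (1 : H) Q
      rw [LocalEven.cj_one]; exact hq
    · refine (Subgroup.normal_subgroupOf_of_le_normalizer ?_).isSubnormal
      intro k hk
      rw [← LocalEven.cj_eq_self_iff]
      refine Subgroup.eq_of_le_of_card_ge ?_ (LocalEven.card_cj _ _).ge
      rw [Cfsg.weakClosure, LocalEven.cj, Subgroup.map_iSup]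
      refine iSup_le ?_
      rintro ⟨g, hg⟩
      change LocalEven.cj k (LocalEven.cj g Q) ≤ _
      rw [LocalEven.cj_cj]
      refine le_iSup (fun g : {g : H // Q.map (MulAut.conj g).toMonoidHom ≤ K} => Q.map (MulAut.conj (g : H)).toMonoidHom) ⟨k * g, ?_⟩
      show LocalEven.cj (k * g) Q ≤ K
      rw [← LocalEven.cj_cj]
      exact (LocalEven.cj_mono hg).trans (LocalEven.cj_eq_self_iff.mpr (Subgroup.le_normalizer hk)).le


end Cfsg.Agent.S2840
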