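import Cfsg.Statements.S2843
import Cfsg.Agent.LocalEven.WeaklyClosed

set_option autoImplicit false
open Cfsg

open scoped commutatorElement

namespace Cfsg.Agent.S2843

/-- Let Q be a nontrivial large p-subgroup of the finite group H, Q ≤ L ≤ H, and Y a nontrivial p-subgroup of H normalized by L. Let L° be the weak closure of Q in L (generated by the conjugates of Q inside L). Then L° equals the weak closure of Q in L·C_H(Y), and [L°, C_H(Y)] ≤ O_p(L°); in particular C_H(Y) normalizes L°. -/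
theorem result {H : Type*} [Group H] [Finite H] {p : ℕ} [Fact p.Prime] (Q : Subgroup H) (hQp : IsPGroup p ↥Q) (hQ1 : Q ≠ ⊥) (hL : Cfsg.IsLarge Q) (L : Subgroup H) (hQL : Q ≤ L) (Y : Subgroup H) (hYp : IsPGroup p ↥Y) (hY1 : Y ≠ ⊥) (hLY : L ≤ Subgroup.normalizer ((Y : Subgroup H) : Set H)) : Cfsg.weakClosure Q L = Cfsg.weakClosure Q (L ⊔ Subgroup.centralizer ((Y : Subgroup H) : Set H)) ∧ ⁅Cfsg.weakClosure Q L, Subgroup.centralizer ((Y : Subgroup H) : Set H)⁆ ≤ (Cfsg.pCoreOf p (Cfsg.weakClosure Q L)) ∧ Subgroup.centralizer ((Y : Subgroup H) : Set H) ≤ Subgroup.normalizer (((Cfsg.weakClosure Q L) : Subgroup H) : Set H) := by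
  classical
  set C := Subgroup.centralizer (Y : Set H) with hC
  set W := Cfsg.weakClosure Q L with hW
  have hwc := LocalEven.large_wc hL hQ1 hQp
  have hLC : L ≤ Subgroup.normalizer (C : Set H) := hLY.trans (LocalEven.normalizer_le_normalizer_cent _)
  have hsub : ∀ (M : Subgroup H) (g : H), LocalEven.cj g Q ≤ M → LocalEven.cj g Q ≤ Cfsg.weakClosure Q M :=
    fun M g hg => le_iSup (fun g : {g : H // Q.map (MulAut.conj g).toMonoidHom ≤ M} => Q.map (MulAut.conj (g : H)).toMonoidHom) ⟨g, hg⟩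
  -- every conjugate of `Q` in `L` is normalized by `C`
  have hnorm : ∀ g : H, LocalEven.cj g Q ≤ L → C ≤ Subgroup.normalizer (LocalEven.cj g Q : Set H) := by
    intro g hg
    obtain ⟨⟨u, hu⟩, hu1⟩ := (Subgroup.ne_bot_iff_exists_ne_one).mp
      (LocalEven.exists_fixed_ne_bot hYp hY1 (LocalEven.isPGroup_cj (g := g) hQp) (hg.trans hLY))
    obtain ⟨huY, huC⟩ := Subgroup.mem_inf.mp hu
    intro c hc
    have h1 : g⁻¹ * u * g ∈ Subgroup.centralizer (Q : Set H) := by
      rw [Subgroup.mem_centralizer_iff]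
      intro q hq
      have := Subgroup.mem_centralizer_iff.mp huC _ (LocalEven.conj_mem_cj (g := g) hq)
      calc q * (g⁻¹ * u * g) = g⁻¹ * ((g * q * g⁻¹) * u) * g := by group
        _ = g⁻¹ * (u * (g * q * g⁻¹)) * g := by rw [this]
        _ = _ := by group
    have h2 : g⁻¹ * c * g ∈ Subgroup.normalizer (Q : Set H) := by
      refine LocalEven.large_cent_le hL h1 ?_ ?_
      · intro e
        refine hu1 (Subtype.ext (show u = 1 from ?_))
        calc u = g * (g⁻¹ * u * g) * g⁻¹ := by group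
          _ = 1 := by rw [e]; group
      · rw [Subgroup.mem_centralizer_singleton_iff]
        calc g⁻¹ * c * g * (g⁻¹ * u * g) = g⁻¹ * (c * u) * g := by group
          _ = g⁻¹ * (u * c) * g := by rw [Subgroup.mem_centralizer_iff.mp hc u huY]
          _ = _ := by group
    rw [← LocalEven.cj_normalizer, LocalEven.mem_cj]
    exact h2
  have hCW : C ≤ Subgroup.normalizer (W : Set H) := by
    intro c hc
    rw [← LocalEven.cj_eq_self_iff]
    refine Subgroup.eq_of_le_of_card_ge ?_ (LocalEven.card_cj _ _).ge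
    rw [hW, Cfsg.weakClosure, LocalEven.cj, Subgroup.map_iSup]
    refine iSup_le ?_
    rintro ⟨g, hg⟩
    change LocalEven.cj c (LocalEven.cj g Q) ≤ _
    rw [LocalEven.cj_eq_self_iff.mpr (hnorm g hg hc)]
    exact hsub L g hg
  have hWn : ∀ l ∈ L, l ∈ Subgroup.normalizer (W : Set H) := by
    intro l hl
    rw [← LocalEven.cj_eq_self_iff]
    refine Subgroup.eq_of_le_of_card_ge ?_ (LocalEven.card_cj _ _).ge
    rw [hW, Cfsg.weakClosure, LocalEven.cj, Subgroup.map_iSup]
    refine iSup_le ?_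
    rintro ⟨g, hg⟩
    change LocalEven.cj l (LocalEven.cj g Q) ≤ _
    rw [LocalEven.cj_cj]
    refine hsub L _ ?_
    rw [← LocalEven.cj_cj]
    exact (LocalEven.cj_mono hg).trans (LocalEven.cj_eq_self_iff.mpr (Subgroup.le_normalizer hl)).le
  refine ⟨le_antisymm (iSup_le fun g => hsub _ g (g.2.trans le_sup_left)) (iSup_le ?_), ?_, hCW⟩
  · rintro ⟨g, hg⟩
    obtain ⟨k, hk, he⟩ := LocalEven.wc_conj_mem hQp hwc (hQL.trans le_sup_left) hg
    rw [← SetLike.mem_coe, Subgroup.coe_mul_of_left_le_normalizer_right _ _ hLC] at hk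
    obtain ⟨l, hl, c, hc, rfl⟩ := hk
    change LocalEven.cj g Q ≤ _
    have hQ1' : LocalEven.cj (1 : H) Q ≤ L := (LocalEven.cj_one Q).le.trans hQL
    have hcQ : c ∈ Subgroup.normalizer (Q : Set H) := by
      have := hnorm 1 hQ1' hc
      rwa [LocalEven.cj_one] at this
    rw [he, ← LocalEven.cj_cj, LocalEven.cj_eq_self_iff.mpr hcQ]
    exact hsub L l ((LocalEven.cj_mono hQL).trans (LocalEven.cj_eq_self_iff.mpr (Subgroup.le_normalizer hl)).le)
  · -- the subgroup generated by the intersections with `C`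
    set D := ⨆ g : {g : H // LocalEven.cj g Q ≤ L}, LocalEven.cj (g : H) Q ⊓ C with hD
    have hWL : W ≤ L := iSup_le fun g => g.2
    have hDW : D ≤ W := iSup_le fun g => inf_le_left.trans (hsub L g g.2)
    have hDC : D ≤ C := iSup_le fun g => inf_le_right
    have hDp : IsPGroup p D := by
      refine (LocalEven.isPGroup_op C).to_le (iSup_le fun g => LocalEven.le_op inf_le_right ?_
        ((LocalEven.isPGroup_cj hQp).to_le inf_le_left))
      exact (le_inf (hnorm g g.2) Subgroup.le_normalizer).trans Subgroup.inf_normalizer_le_normalizer_inf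
    have hcom : ∀ g : {g : H // LocalEven.cj g Q ≤ L}, ⁅LocalEven.cj (g : H) Q, C⁆ ≤ D := fun g =>
      le_trans (le_inf (Subgroup.le_normalizer_iff_commutator_le_left.mp (hnorm g g.2))
        (Subgroup.le_normalizer_iff_commutator_le_right.mp (g.2.trans hLC))) (le_iSup (fun g : {g : H // LocalEven.cj g Q ≤ L} => LocalEven.cj (g : H) Q ⊓ C) g)
    have hgD : ∀ g : {g : H // LocalEven.cj g Q ≤ L}, LocalEven.cj (g : H) Q ≤ Subgroup.normalizer (D : Set H) := fun g => by
      rw [Subgroup.le_normalizer_iff_commutator_le_right]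
      exact (Subgroup.commutator_mono le_rfl hDC).trans (hcom g)
    have hWD : W ≤ Subgroup.normalizer (D : Set H) := iSup_le fun g => hgD g
    refine le_trans ?_ (LocalEven.le_op hDW hWD hDp)
    refine Subgroup.commutator_le.mpr fun x hx c hc => ?_
    rw [hW, Cfsg.weakClosure] at hx
    have key : x ∈ Subgroup.normalizer (D : Set H) ∧ ∀ c ∈ C, ⁅x, c⁆ ∈ D := by
      refine Subgroup.iSup_induction (C := fun x => x ∈ Subgroup.normalizer (D : Set H) ∧ ∀ c ∈ C, ⁅x, c⁆ ∈ D) _ hx ?_ ?_ ?_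
      · intro g y hy
        exact ⟨hgD ⟨g.1, g.2⟩ hy, fun c hc => hcom ⟨g.1, g.2⟩ (Subgroup.commutator_mem_commutator hy hc)⟩
      · exact ⟨one_mem _, fun c _ => by simp⟩
      · intro a b ha hb
        refine ⟨mul_mem ha.1 hb.1, fun c hc => ?_⟩
        rw [show ⁅a * b, c⁆ = a * ⁅b, c⁆ * a⁻¹ * ⁅a, c⁆ by simp only [commutatorElement_def]; group]
        exact mul_mem ((Subgroup.mem_normalizer_iff.mp ha.1 _).mp (hb.2 c hc)) (ha.2 c hc)
    exact key.2 c hc


end Cfsg.Agent.S2843
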