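import Cfsg.Statements.S2844
import Cfsg.Agent.LocalEven.WeaklyClosed

set_option autoImplicit false
open Cfsg

namespace Cfsg.Agent.S2844

/-- Let Q be a nontrivial large p-subgroup of the finite group H and Q• = O_p(N_H(Q)). Then for every g ∈ H outside N_H(Q): C_H(Q) ∩ C_H(gQg⁻¹) = 1, C_H(Q•) ∩ C_H(gQ•g⁻¹) = 1, Z(Q) ∩ Z(gQg⁻¹) = 1 and Z(Q•) ∩ Z(gQ•g⁻¹) = 1; moreover N_H(Q) = N_H(Q•) and Q• is large in H. -/
theorem result {H : Type*} [Group H] [Finite H] {p : ℕ} [Fact p.Prime] (Q : Subgroup H) (hQp : IsPGroup p ↥Q) (hQ1 : Q ≠ ⊥) (hL : Cfsg.IsLarge Q) (Qb : Subgroup H) (hQb : Qb = Cfsg.largeBullet p Q) : (∀ g : H, g ∉ Subgroup.normalizer ((Q : Subgroup H) : Set H) → Subgroup.centralizer ((Q : Subgroup H) : Set H) ⊓ Subgroup.centralizer ((((Q : Subgroup H).map (MulAut.conj (g : H)).toMonoidHom) : Subgroup H) : Set H) = ⊥ ∧ Subgroup.centralizer ((Qb : Subgroup H) : Set H) ⊓ Subgroup.centralizer ((((Qb : Subgroup H).map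 (MulAut.conj (g : H)).toMonoidHom) : Subgroup H) : Set H) = ⊥ ∧ (Q ⊓ Subgroup.centralizer ((Q : Subgroup H) : Set H)) ⊓ (((Q : Subgroup H).map (MulAut.conj (g : H)).toMonoidHom) ⊓ Subgroup.centralizer ((((Q : Subgroup H).map (MulAut.conj (g : H)).toMonoidHom) : Subgroup H) : Set H)) = ⊥ ∧ (Qb ⊓ Subgroup.centralizer ((Qb : Subgroup H) : Set H)) ⊓ (((Qb : Subgroup H).map (MulAut.conj (g : H)).toMonoidHom) ⊓ Subgroup.centralizer ((((Qb : Subgroup H).map (MulAut.conj (g : H)).toMonoidHom) : Subgroup H) : Set H)) = ⊥) ∧ Subgroup.normalizer ((Q : Subgroup H) : Set H) = Subgroup.normalizer ((Qb : Subgroup H) : Set H) ∧ Cfsg.IsLarge Qb := by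
  classical
  subst hQb
  set N := Subgroup.normalizer (Q : Set H) with hN
  set B := Cfsg.largeBullet p Q with hB
  have hBop : B = LocalEven.op p N := rfl
  have hQB : Q ≤ B := hBop ▸ LocalEven.le_op Subgroup.le_normalizer le_rfl hQp
  have hBp : IsPGroup p B := hBop ▸ LocalEven.isPGroup_op N
  have hB1 : B ≠ ⊥ := fun e => hQ1 (le_bot_iff.mp (e ▸ hQB))
  have hcen : Subgroup.centralizer (B : Set H) ≤ Subgroup.centralizer (Q : Set H) := Subgroup.centralizer_le hQB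
  have hNB : N = Subgroup.normalizer (B : Set H) :=
    le_antisymm (hBop ▸ LocalEven.map_pCore_normalized N) (LocalEven.large_normalizer_le hL hQ1 hBp hQB)
  refine ⟨fun g hg => ?_, hNB, hcen.trans (hL.1.trans hQB), fun U hU hU1 => hNB ▸ hL.2 U (hU.trans hcen) hU1⟩
  have h1 := LocalEven.large_inf_eq_bot hL hQ1 hQp hg
  have h2 : Subgroup.centralizer (B : Set H) ⊓ Subgroup.centralizer ((LocalEven.cj g B : Subgroup H) : Set H) = ⊥ :=
    le_bot_iff.mp ((inf_le_inf hcen (Subgroup.centralizer_le (LocalEven.cj_mono hQB))).trans h1.le)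
  exact ⟨h1, h2, le_bot_iff.mp ((inf_le_inf inf_le_right inf_le_right).trans h1.le),
    le_bot_iff.mp ((inf_le_inf inf_le_right inf_le_right).trans h2.le)⟩


end Cfsg.Agent.S2844
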