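import Cfsg.Statements.S2845
import Cfsg.Agent.LocalEven.WeaklyClosed

set_option autoImplicit false
open Cfsg

namespace Cfsg.Agent.S2845

/-- Let Q be a nontrivial large p-subgroup of the finite group H. Then for every subgroup L ≥ Q with O_p(L) ≠ 1, C_H(O_p(L)) is a p-group and L has characteristic p, and either the weak closure L° of Q in L equals Q or C_H(L°) = 1; for every subgroup R of H containing a Sylow p-subgroup of H with O_p(R) ≠ 1, C_H(O_p(R)) ≤ O_p(R); and H has parabolic characteristic p. -/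
theorem result {H : Type*} [Group H] [Finite H] {p : ℕ} [Fact p.Prime] (Q : Subgroup H) (hQp : IsPGroup p ↥Q) (hQ1 : Q ≠ ⊥) (hL : Cfsg.IsLarge Q) : (∀ L : Subgroup H, Q ≤ L → Cfsg.pCore p ↥L ≠ ⊥ → IsPGroup p ↥(Subgroup.centralizer (((Cfsg.pCoreOf p L) : Subgroup H) : Set H)) ∧ Subgroup.centralizer (Cfsg.pCore p ↥L : Set ↥L) ≤ Cfsg.pCore p ↥L ∧ (Cfsg.weakClosure Q L = Q ∨ Subgroup.centralizer (((Cfsg.weakClosure Q L) : Subgroup H) : Set H) = ⊥)) ∧ (∀ R : Subgroup H, Cfsg.IsParabolic p R → Cfsg.pCore p ↥R ≠ ⊥ → Subgroup.centralizer (((Cfsg.pCoreOf p R) : Subgroup H) : Set H) ≤ (Cfsg.pCoreOf p R)) ∧ Cfsg.IsOfParabolicCharacteristic p H := by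
  classical
  have hop : ∀ L : Subgroup H, Cfsg.pCore p ↥L ≠ ⊥ → LocalEven.op p L ≠ ⊥ := fun L h e =>
    h ((Subgroup.map_eq_bot_iff_of_injective _ L.subtype_injective).mp e)
  have hpara : ∀ R : Subgroup H, Cfsg.IsParabolic p R → Cfsg.pCore p ↥R ≠ ⊥ →
      Subgroup.centralizer (LocalEven.op p R : Set H) ≤ LocalEven.op p R := by
    rintro R ⟨T, hT⟩ hne
    obtain ⟨U, hU⟩ := hQp.exists_le_sylow
    obtain ⟨h, hh⟩ := MulAction.exists_smul_eq H U T
    set Q' := LocalEven.cj h Q
    have hQ'T : Q' ≤ (T : Subgroup H) := by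
      rw [← hh, Sylow.coe_subgroup_smul]; exact LocalEven.cj_mono hU
    have hL' : Cfsg.IsLarge Q' := by
      constructor
      · have h1 := LocalEven.cj_mono (g := h) hL.1
        rw [LocalEven.cj_centralizer] at h1
        exact h1
      · intro U' hU' hU1
        have h2 : LocalEven.cj h⁻¹ U' ≤ Subgroup.centralizer (Q : Set H) := by
          have h3 := LocalEven.cj_mono (g := h⁻¹) hU'
          rw [LocalEven.cj_centralizer] at h3
          have e : (fun x => h⁻¹ * x * h⁻¹⁻¹) '' (Q' : Set H) = (Q : Set H) := by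
            change ((LocalEven.cj h⁻¹ (LocalEven.cj h Q) : Subgroup H) : Set H) = _
            rw [LocalEven.cj_cj, inv_mul_cancel, LocalEven.cj_one]
          rwa [e] at h3
        have h4 := LocalEven.cj_mono (g := h) (hL.2 _ h2 fun e => hU1
          ((Subgroup.map_eq_bot_iff_of_injective _ (MulAut.conj h⁻¹).injective).mp e))
        rwa [LocalEven.cj_normalizer, LocalEven.cj_cj, mul_inv_cancel, LocalEven.cj_one, LocalEven.cj_normalizer] at h4
    have hQ'1 : Q' ≠ ⊥ := fun e => hQ1 ((Subgroup.map_eq_bot_iff_of_injective _ (MulAut.conj h).injective).mp e)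
    set C := Subgroup.centralizer (LocalEven.op p R : Set H)
    have hC : IsPGroup p C :=
      LocalEven.large_centralizer_op hL' hQ'1 (LocalEven.isPGroup_cj hQp) (hQ'T.trans hT) (hop R hne)
    have hRC : R ≤ Subgroup.normalizer (C : Set H) :=
      (LocalEven.map_pCore_normalized R).trans (LocalEven.normalizer_le_normalizer_cent _)
    have hCT : C ≤ (T : Subgroup H) := by
      rw [← T.is_maximal' (T.isPGroup'.to_sup_of_normal_right' hC (hT.trans hRC)) le_sup_left]
      exact le_sup_right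
    exact LocalEven.le_op (hCT.trans hT) hRC hC
  refine ⟨fun L hQL hne => ?_, hpara, fun R hR hR1 hpar => ?_⟩
  · have h1 := LocalEven.large_centralizer_op hL hQ1 hQp hQL (hop L hne)
    refine ⟨h1, (LocalEven.charP_iff L).mpr (LocalEven.charP_of_cent_pGroup h1), ?_⟩
    by_cases h : ∀ g : H, LocalEven.cj g Q ≤ L → LocalEven.cj g Q = Q
    · left
      refine le_antisymm (iSup_le fun g => (h g g.2).le) ?_
      refine le_trans (LocalEven.cj_one Q).ge (le_iSup (fun g : {g : H // Q.map (MulAut.conj g).toMonoidHom ≤ L} => Q.map (MulAut.conj (g : H)).toMonoidHom) ⟨1, (LocalEven.cj_one Q).le.trans hQL⟩)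
    · right
      push Not at h
      obtain ⟨g, hgL, hgQ⟩ := h
      refine le_bot_iff.mp (le_trans (le_inf ?_ ?_) (LocalEven.large_inf_eq_bot hL hQ1 hQp
        (fun hg => hgQ (LocalEven.cj_eq_self_iff.mpr hg))).le)
      · exact Subgroup.centralizer_le (le_trans (LocalEven.cj_one Q).ge (le_iSup (fun g : {g : H // Q.map (MulAut.conj g).toMonoidHom ≤ L} => Q.map (MulAut.conj (g : H)).toMonoidHom) ⟨1, (LocalEven.cj_one Q).le.trans hQL⟩))
      · exact Subgroup.centralizer_le (le_iSup (fun g : {g : H // Q.map (MulAut.conj g).toMonoidHom ≤ L} => Q.map (MulAut.conj (g : H)).toMonoidHom) ⟨g, hgL⟩)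
  · have hle : R ≤ LocalEven.op p (Subgroup.normalizer (R : Set H)) := LocalEven.le_op Subgroup.le_normalizer le_rfl hR
    have hne : Cfsg.pCore p ↥(Subgroup.normalizer (R : Set H)) ≠ ⊥ := fun e => hR1 (le_bot_iff.mp (hle.trans (by
      rw [LocalEven.op, e, Subgroup.map_bot])))
    exact (LocalEven.charP_iff _).mpr (inf_le_right.trans (hpara _ hpar hne))


end Cfsg.Agent.S2845
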