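import Cfsg.Statements.S2846
import Cfsg.Agent.LocalEven.FrakM
import Cfsg.Agent.S2843
import Cfsg.Agent.S2845

set_option autoImplicit false
open Cfsg

namespace Cfsg.Agent.S2846

/-- Let Q be a nontrivial large p-subgroup of the finite group H, S a Sylow p-subgroup containing Q, and L a subgroup containing S with O_p(L) ≠ 1 and C_H(O_p(L)) ≤ O_p(L). Then there are a subgroup M containing S having the basic property (M ∈ 𝔐_H, writing Y_X for the largest p-reduced normal subgroup of X and 𝓛_H for the set of subgroups X with O_p(X) ≠ 1 and C_H(O_p(X)) ≤ O_p(X): M ∈ 𝓛_H, M·C_H(Y_M) is the only maximal member of 𝓛_H containing M and its largest p-reduced normal subgroup is again Y_M, C_M(Y_M) is p-closed, and the image of C_M(Y_M) in M/O_p(M) lies in the Frattini subgroup of M/O_p(M)) and a subgroup L* with S ≤ L* ≤ M, O_p(L*) ≠ 1, C_H(O_p(L*)) ≤ O_p(L*), such that L·C_H(Y_L) = L*·C_H(Y_L), the weak closures of Q in L and in L* agree and lie in that of M, and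 Y_L = Y_{L*} ≤ Y_M. If moreover Q is not normal in L, then Q is normal in neither L* nor M. -/
theorem result {H : Type*} [Group H] [Finite H] {p : ℕ} [Fact p.Prime] (Q : Subgroup H) (hQp : IsPGroup p ↥Q) (hQ1 : Q ≠ ⊥) (hLg : Cfsg.IsLarge Q) (S : Sylow p H) (hQS : Q ≤ (S : Subgroup H)) (L : Subgroup H) (hSL : (S : Subgroup H) ≤ L) (hL : L ∈ Cfsg.charPSubgroups p H) : ∃ M Ls : Subgroup H, (S : Subgroup H) ≤ M ∧ Cfsg.IsInFrakM p M ∧ (S : Subgroup H) ≤ Ls ∧ Ls ≤ M ∧ Ls ∈ Cfsg.charPSubgroups p H ∧ L ⊔ Subgroup.centralizer (((Cfsg.largestPReducedOf p L) : Subgroup H) : Set H) = Ls ⊔ Subgroup.centralizer (((Cfsg.largestPReducedOf p L) : Subgroup H) : Set H) ∧ Cfsg.weakClosure Q L = Cfsg.weakClosure Q Ls ∧ Cfsg.weakClosure Q Ls ≤ Cfsg.weakClosure Q M ∧ (Cfsg.largestPReducedOf p L) = (Cfsg.largestPReducedOf p Ls) ∧ (Cfsg.largestPReducedOf p Ls) ≤ (Cfsg.largestPReducedOf p M) ∧ (¬ L ≤ Subgroup.normalizer ((Q : Subgroup H) : Set H) → ¬ Ls ≤ Subgroup.normalizer ((Q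 : Subgroup H) : Set H) ∧ ¬ M ≤ Subgroup.normalizer ((Q : Subgroup H) : Set H)) := by
  classical
  have hQL : Q ≤ L := hQS.trans hSL
  have hpar := (S2845.result Q hQp hQ1 hLg).2.2
  obtain ⟨M, Ls, hSM, hM, hSLs, hLsM, hLs, hY, hYM, hfac⟩ := LocalEven.exists_frakM hpar S hSL hL
  have hQLs : Q ≤ Ls := hQS.trans hSLs
  have hne := LocalEven.largestOf_ne_bot S hSL hL
  have hwcl : Cfsg.weakClosure Q L = Cfsg.weakClosure Q Ls := by
    rw [(S2843.result Q hQp hQ1 hLg L hQL _ (LocalEven.largestOf_isPGroup L) hne (LocalEven.le_normalizer_largestOf L)).1,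
      hfac, ← (S2843.result Q hQp hQ1 hLg Ls hQLs _ (LocalEven.largestOf_isPGroup L) hne
        (hY ▸ LocalEven.le_normalizer_largestOf Ls)).1]
  refine ⟨M, Ls, hSM, hM, hSLs, hLsM, hLs, hfac, hwcl, iSup_le fun g => ?_, hY, hY ▸ hYM, fun hLQ => ?_⟩
  · exact le_iSup (fun g : {g : H // Q.map (MulAut.conj g).toMonoidHom ≤ M} => Q.map (MulAut.conj (g : H)).toMonoidHom) ⟨g, g.2.trans hLsM⟩
  have key : ¬ Ls ≤ Subgroup.normalizer (Q : Set H) := by
    intro hn
    have hwc := LocalEven.large_wc hLg hQ1 hQp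
    have h1 : Cfsg.weakClosure Q Ls ≤ Q := by
      refine iSup_le fun g => ?_
      refine (LocalEven.wc_comm hQp hwc (g := (g : H)) ?_).le
      refine le_inf (Subgroup.le_normalizer_iff_commutator_le_left.mp (g.2.trans hn)) ?_
      exact Subgroup.le_normalizer_iff_commutator_le_right.mp (by
        intro q hq
        have h2 : (g : H)⁻¹ * q * g ∈ Subgroup.normalizer (Q : Set H) := by
          have hQN : Q ≤ Subgroup.normalizer (Q : Set H) := Subgroup.le_normalizer
          exact (LocalEven.mem_cj).mp ((LocalEven.wc_unique hwc (hQp.to_sup_of_normal_left' (LocalEven.isPGroup_cj hQp)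
            (g.2.trans hn)) le_sup_left le_sup_right).ge hq) |> fun h => hQN h
        have h3 := LocalEven.conj_mem_cj (g := (g : H)) h2
        rw [LocalEven.cj_normalizer] at h3
        simpa [mul_assoc] using h3)
    refine hLQ fun l hl => ?_
    rw [← LocalEven.cj_eq_self_iff]
    refine Subgroup.eq_of_le_of_card_ge ?_ (LocalEven.card_cj _ _).ge
    have hcjQ : LocalEven.cj l Q ≤ L := (LocalEven.cj_mono hQL).trans
      (LocalEven.cj_eq_self_iff.mpr (Subgroup.le_normalizer hl)).le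
    exact (le_iSup (fun g : {g : H // Q.map (MulAut.conj g).toMonoidHom ≤ L} => Q.map (MulAut.conj (g : H)).toMonoidHom)
      ⟨l, hcjQ⟩).trans (hwcl.le.trans h1)
  exact ⟨key, fun hn => key (hLsM.trans hn)⟩


end Cfsg.Agent.S2846
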