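import Cfsg.Statements.S2848
import Cfsg.Agent.LocalEven.WeaklyClosed
import Cfsg.Agent.LocalEven.PReduced

set_option autoImplicit false
open Cfsg

namespace Cfsg.Agent.S2848

/-- Standing hypotheses: G a finite group, S a Sylow p-subgroup, Q a nontrivial large p-subgroup of G contained in S (C_G(Q) ≤ Q and N_G(U) ≤ N_G(Q) for all nontrivial U ≤ C_G(Q)), and M a subgroup containing S with the basic property (M ∈ 𝔐_G(S)); Y_M denotes the largest p-reduced normal subgroup of M and M† = M·C_G(Y_M). Then O_p(M) is a weakly closed subgroup of M† (for p): it is the only M†-conjugate of itself inside some Sylow p-subgroup of M† containing it. -/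
theorem result {G : Type*} [Group G] [Finite G] {p : ℕ} [Fact p.Prime] (S : Sylow p G) (Q : Subgroup G) (hQp : IsPGroup p ↥Q) (hQ1 : Q ≠ ⊥) (hQS : Q ≤ (S : Subgroup G)) (hQ : Cfsg.IsLarge Q) (M : Subgroup G) (hSM : (S : Subgroup G) ≤ M) (hM : Cfsg.IsInFrakM p M) : Cfsg.IsWeaklyClosedSubgroup p (((Cfsg.pCoreOf p M)).subgroupOf (M ⊔ Subgroup.centralizer (((Cfsg.largestPReducedOf p M) : Subgroup G) : Set G))) := by
  classical
  obtain ⟨-, -, -, -, hcl, -⟩ := hM
  set Y := Cfsg.largestPReducedOf p M with hY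
  set C := Subgroup.centralizer (Y : Set G) with hC
  set Md := M ⊔ C with hMd
  set O := Cfsg.pCoreOf p M with hO
  have hOp : IsPGroup p O := LocalEven.isPGroup_op M
  have hMY : M ≤ Subgroup.normalizer (Y : Set G) := by
    rw [hY, Cfsg.largestPReducedOf]
    refine le_trans ?_ (Subgroup.le_normalizer_map M.subtype)
    rw [(LocalEven.isPReducedNormal_largest (p := p) (L := M)).1 |> Subgroup.normalizer_eq_top_iff.mpr, ← MonoidHom.range_eq_map, Subgroup.range_subtype]
  have hOC : O ≤ C := by
    rw [hC, hY, Cfsg.largestPReducedOf, hO, Cfsg.pCoreOf]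
    rintro _ ⟨x, hx, rfl⟩
    rw [Subgroup.mem_centralizer_iff]
    rintro _ ⟨y, hy, rfl⟩
    exact congrArg Subtype.val (Subgroup.mem_centralizer_iff.mp
      (LocalEven.pCore_le_centralizer LocalEven.isPReducedNormal_largest hx) y hy)
  have hOS : O ≤ (S : Subgroup G) := by
    refine le_trans le_sup_left (S.is_maximal' (hOp.to_sup_of_normal_left' S.isPGroup' (hSM.trans (LocalEven.map_pCore_normalized M))) le_sup_right).le
  have hSC : (S : Subgroup G) ⊓ C ≤ O := by
    set MC := M ⊓ C
    have hle : (S : Subgroup G) ⊓ C ≤ MC := inf_le_inf_right _ hSM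
    have hn : M ≤ Subgroup.normalizer (MC : Set G) :=
      (le_inf Subgroup.le_normalizer (hMY.trans (LocalEven.normalizer_le_normalizer_cent _))).trans
        Subgroup.inf_normalizer_le_normalizer_inf
    obtain ⟨P, hP⟩ := ((S.isPGroup'.to_le inf_le_left).of_equiv (Subgroup.subgroupOfEquivOfLe hle).symm).exists_le_sylow
    haveI := hcl P
    have hPle : (P : Subgroup MC) ≤ Cfsg.pCore p MC := Core.le_pCore inferInstance P.isPGroup'
    have hcore : LocalEven.op p MC ≤ O := LocalEven.le_op ((LocalEven.op_le MC).trans inf_le_left)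
      (hn.trans (LocalEven.normalizer_le_normalizer_op MC)) (LocalEven.isPGroup_op MC)
    intro x hx
    exact hcore ⟨⟨x, hle hx⟩, hPle (hP hx), rfl⟩
  have hSMd : (S : Subgroup G) ≤ Md := hSM.trans le_sup_left
  refine ⟨S.subtype hSMd, ?_, fun g hg => ?_⟩
  · intro x hx
    exact hOS hx
  have hMdC : Md ≤ Subgroup.normalizer (C : Set G) :=
    sup_le (hMY.trans (LocalEven.normalizer_le_normalizer_cent _)) Subgroup.le_normalizer
  refine Subgroup.eq_of_le_of_card_ge ?_ (Subgroup.card_map_of_injective (MulAut.conj g).injective).ge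
  rintro _ ⟨x, hx, rfl⟩
  refine hSC (Subgroup.mem_inf.mpr ⟨hg ⟨x, hx, rfl⟩, ?_⟩)
  exact (Subgroup.mem_normalizer_iff.mp (hMdC g.2) x).mp (hOC hx)


end Cfsg.Agent.S2848
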