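import Cfsg.Statements.S2849
import Cfsg.Agent.LocalEven.Dagger

set_option autoImplicit false
open Cfsg

namespace Cfsg.Agent.S2849

/-- Standing hypotheses: G a finite group, S a Sylow p-subgroup, Q a nontrivial large p-subgroup of G contained in S (C_G(Q) ≤ Q and N_G(U) ≤ N_G(Q) for all nontrivial U ≤ C_G(Q)), and M a subgroup containing S with the basic property (M ∈ 𝔐_G(S)); Y_M denotes the largest p-reduced normal subgroup of M and M† = M·C_G(Y_M). Suppose Y_M is asymmetric in G. Then for every subgroup R with Y_M ≤ R ≤ M†, the normal closure of Y_M in N_G(R) is elementary abelian. -/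
theorem result {G : Type*} [Group G] [Finite G] {p : ℕ} [Fact p.Prime] (S : Sylow p G) (Q : Subgroup G) (hQp : IsPGroup p ↥Q) (hQ1 : Q ≠ ⊥) (hQS : Q ≤ (S : Subgroup G)) (hQ : Cfsg.IsLarge Q) (M : Subgroup G) (hSM : (S : Subgroup G) ≤ M) (hM : Cfsg.IsInFrakM p M) (hasym : ¬ Cfsg.IsSymmetricIn (Cfsg.largestPReducedOf p M)) (R : Subgroup G) (hYR : (Cfsg.largestPReducedOf p M) ≤ R) (hRM : R ≤ (M ⊔ Subgroup.centralizer (((Cfsg.largestPReducedOf p M) : Subgroup G) : Set G))) : Cfsg.IsElementaryAbelian p ((Subgroup.normalClosure ((((Cfsg.largestPReducedOf p M)).subgroupOf (Subgroup.normalizer ((R : Subgroup G) : Set G)) : Subgroup ↥(Subgroup.normalizer ((R : Subgroup G) : Set G))) : Set ↥(Subgroup.normalizer ((R : Subgroup G) : Set G)))).map (Subgroup.normalizer ((R : Subgroup G) : Set G)).subtype) := by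
  classical
  set Y := Cfsg.largestPReducedOf p M with hY
  set N := Subgroup.normalizer (R : Set G)
  have hYN : R ≤ Subgroup.normalizer (Y : Set G) := hRM.trans (LocalEven.dagger_normalizes M)
  have hYel := LocalEven.reduced_elementary (LocalEven.largestOf_le M) (LocalEven.largestOf_reduced (p := p) M)
  have hcomm : ∀ a ∈ N, ∀ b ∈ N, LocalEven.cj a Y ≤ Subgroup.centralizer (LocalEven.cj b Y : Set G) := by
    intro a ha b hb
    set g := a⁻¹ * b
    have hg : g ∈ N := N.mul_mem (N.inv_mem ha) hb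
    have hgR : LocalEven.cj g Y ≤ R := (LocalEven.cj_mono hYR).trans (LocalEven.cj_eq_self_iff.mpr hg).le
    have h1 : ⁅Y, LocalEven.cj g Y⁆ ≤ Y ⊓ LocalEven.cj g Y := by
      refine le_inf (Subgroup.le_normalizer_iff_commutator_le_left.mp (hgR.trans hYN))
        (Subgroup.le_normalizer_iff_commutator_le_right.mp ?_)
      have h2 := LocalEven.cj_mono (g := g) hYN
      rw [LocalEven.cj_normalizer, LocalEven.cj_eq_self_iff.mpr hg] at h2
      exact hYR.trans h2
    have h3 : ⁅Y, LocalEven.cj g Y⁆ = ⊥ := by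
      by_contra hne
      exact hasym ⟨g, hne, h1⟩
    have h4 := congrArg (LocalEven.cj a) h3
    rw [LocalEven.cj, Subgroup.map_commutator] at h4
    simp only [LocalEven.cj, Subgroup.map_bot] at h4
    change ⁅LocalEven.cj a Y, LocalEven.cj a (LocalEven.cj g Y)⁆ = ⊥ at h4
    rw [LocalEven.cj_cj, show a * g = b by simp [g], Subgroup.commutator_eq_bot_iff_le_centralizer] at h4
    exact h4
  set V := ⨆ a : ↥N, LocalEven.cj (a : G) Y with hV
  have hle : (Subgroup.normalClosure ((Y.subgroupOf N : Subgroup ↥N) : Set ↥N)).map N.subtype ≤ V := by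
    rw [Subgroup.map_le_iff_le_comap, Subgroup.normalClosure, Subgroup.closure_le]
    intro x hx
    obtain ⟨y, hy, hxy⟩ := Group.mem_conjugatesOfSet_iff.mp hx
    obtain ⟨c, rfl⟩ := isConj_iff.mp hxy
    exact Subgroup.mem_iSup_of_mem c ⟨(y : G), hy, rfl⟩
  have hab : V ≤ Subgroup.centralizer (V : Set G) := by
    refine iSup_le fun a => ?_
    rw [Subgroup.le_centralizer_iff]
    exact iSup_le fun b => Subgroup.le_centralizer_iff.mp (hcomm a a.2 b b.2)
  have hVel : Cfsg.IsElementaryAbelian p V := by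
    refine ⟨Subgroup.le_centralizer_iff_isMulCommutative.mp hab, fun x hx => ?_⟩
    induction hx using Subgroup.iSup_induction' with
    | hp a x hx =>
      obtain ⟨y, hy, rfl⟩ := hx
      rw [← map_pow, hYel.2 y hy, map_one]
    | h1 => exact one_pow p
    | hmul x y hx hy ihx ihy =>
      rw [(show Commute x y from Subgroup.mem_centralizer_iff.mp (hab hy) x hx).mul_pow, ihx, ihy, one_mul]
  refine ⟨Subgroup.le_centralizer_iff_isMulCommutative.mp ?_, fun a ha => hVel.2 a (hle ha)⟩
  exact hle.trans (hab.trans (Subgroup.centralizer_le hle))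


end Cfsg.Agent.S2849
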