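import Cfsg.Statements.S2850
import Cfsg.Agent.LocalEven.Asymmetric
import Cfsg.Agent.S2845

set_option autoImplicit false
open Cfsg

namespace Cfsg.Agent.S2850

/-- Standing hypotheses: G a finite group, S a Sylow p-subgroup, Q a nontrivial large p-subgroup of G contained in S (C_G(Q) ≤ Q and N_G(U) ≤ N_G(Q) for all nontrivial U ≤ C_G(Q)), and M a subgroup containing S with the basic property (M ∈ 𝔐_G(S)); Y_M denotes the largest p-reduced normal subgroup of M and M† = M·C_G(Y_M). Suppose Y_M is asymmetric in G. Then N_G(L) ≤ N_G(O_p(M)) ≤ M† for every p-subgroup L containing O_p(M); O_p(M) is a weakly closed subgroup of G; for every subgroup L containing O_p(M), L ∩ M† contains a Sylow p-subgroup of L; and two elements of Y_M conjugate in G are conjugate in M. -/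
theorem result {G : Type*} [Group G] [Finite G] {p : ℕ} [Fact p.Prime] (S : Sylow p G) (Q : Subgroup G) (hQp : IsPGroup p ↥Q) (hQ1 : Q ≠ ⊥) (hQS : Q ≤ (S : Subgroup G)) (hQ : Cfsg.IsLarge Q) (M : Subgroup G) (hSM : (S : Subgroup G) ≤ M) (hM : Cfsg.IsInFrakM p M) (hasym : ¬ Cfsg.IsSymmetricIn (Cfsg.largestPReducedOf p M)) : (∀ L : Subgroup G, IsPGroup p ↥L → (Cfsg.pCoreOf p M) ≤ L → Subgroup.normalizer ((L : Subgroup G) : Set G) ≤ Subgroup.normalizer (((Cfsg.pCoreOf p M) : Subgroup G) : Set G) ∧ Subgroup.normalizer (((Cfsg.pCoreOf p M) : Subgroup G) : Set G) ≤ (M ⊔ Subgroup.centralizer (((Cfsg.largestPReducedOf p M) : Subgroup G) : Set G))) ∧ Cfsg.IsWeaklyClosedSubgroup p (Cfsg.pCoreOf p M) ∧ (∀ L : Subgroup G, (Cfsg.pCoreOf p M) ≤ L → Cfsg.IsParabolic p ((L ⊓ (M ⊔ Subgroup.centralizer (((Cfsg.largestPReducedOf p M) : Subgroup G) : Set G))).subgroupOf L)) ∧ (∀ x ∈ (Cfsg.largestPReducedOf p M), ∀ g : G, g * x * g⁻¹ ∈ (Cfsg.largestPReducedOf p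 M) → ∃ m ∈ M, m * x * m⁻¹ = g * x * g⁻¹) := by
  classical
  have hpar := (S2845.result Q hQp hQ1 hQ).2.2
  set Md := M ⊔ Subgroup.centralizer (Cfsg.largestPReducedOf p M : Set G) with hMd
  have hwc := LocalEven.op_weaklyClosed hpar S hSM hM hasym
  have hN := LocalEven.normalizer_op_le_dagger hpar S hSM hM
  refine ⟨fun L hL hOL => ⟨LocalEven.wc_normalizer_le hwc hL hOL, hN⟩, hwc, fun L hOL => ?_, fun x hx g hgx => ?_⟩
  · obtain ⟨T, hT, hOT⟩ := LocalEven.exists_isMaxP_le (p := p) (LocalEven.isPGroup_op M) hOL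
    obtain ⟨P, hP⟩ := hT.exists_sylow
    refine ⟨P, fun y hy => ?_⟩
    have hy' : (y : G) ∈ T := hP ▸ Subgroup.mem_map_of_mem L.subtype hy
    exact Subgroup.mem_inf.mpr ⟨y.2, hN (LocalEven.wc_le_normalizer hwc hT.2.1 hOT hy')⟩
  · set O := LocalEven.op p M
    have hOC := LocalEven.op_le_centralizer_largest (p := p) M
    set K := Subgroup.centralizer ({x} : Set G)
    have h1 : O ≤ K := hOC.trans (Subgroup.centralizer_le (Set.singleton_subset_iff.mpr hx))
    have h2 : LocalEven.cj g⁻¹ O ≤ K := by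
      rintro _ ⟨o, ho, rfl⟩
      rw [Subgroup.mem_centralizer_singleton_iff]
      have h3 := Subgroup.mem_centralizer_iff.mp (hOC ho) _ hgx
      show g⁻¹ * o * g⁻¹⁻¹ * x = x * (g⁻¹ * o * g⁻¹⁻¹)
      calc g⁻¹ * o * g⁻¹⁻¹ * x = g⁻¹ * (o * (g * x * g⁻¹)) * g := by group
        _ = g⁻¹ * ((g * x * g⁻¹) * o) * g := by rw [h3]
        _ = _ := by group
    obtain ⟨k, hk, hke⟩ := LocalEven.wc_conj_mem (LocalEven.isPGroup_op M) hwc h1 h2
    have hd : g * k ∈ Md := hN (by
      rw [LocalEven.cj_eq_iff] at hke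
      have := (Subgroup.normalizer (O : Set G)).inv_mem hke
      simpa using this)
    rw [hMd, ← SetLike.mem_coe, Subgroup.coe_mul_of_left_le_normalizer_right _ _
      ((LocalEven.le_normalizer_largestOf M).trans (LocalEven.normalizer_le_normalizer_cent _))] at hd
    obtain ⟨m, hm, c, hc, hmc⟩ := hd
    refine ⟨m, hm, ?_⟩
    have hkx : x * k = k * x := ((Subgroup.mem_centralizer_singleton_iff).mp hk).symm
    have hcx : x * c = c * x := Subgroup.mem_centralizer_iff.mp hc x hx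
    have hmc' : m * c = g * k := hmc
    calc m * x * m⁻¹ = m * (x * c) * c⁻¹ * m⁻¹ := by group
      _ = m * (c * x) * c⁻¹ * m⁻¹ := by rw [hcx]
      _ = (m * c) * x * (m * c)⁻¹ := by group
      _ = (g * k) * x * (g * k)⁻¹ := by rw [hmc']
      _ = g * (k * x) * k⁻¹ * g⁻¹ := by group
      _ = g * (x * k) * k⁻¹ * g⁻¹ := by rw [hkx]
      _ = _ := by group


end Cfsg.Agent.S2850
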