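import Cfsg.Statements.S2851
import Cfsg.Agent.LocalEven.Asymmetric
import Cfsg.Agent.S2845
import Cfsg.Agent.Components.FStar

set_option autoImplicit false
open Cfsg

namespace Cfsg.Agent.S2851

/-- Standing hypotheses: G a finite group, S a Sylow p-subgroup, Q a nontrivial large p-subgroup of G contained in S, M a subgroup containing S with the basic property (M ∈ 𝔐_G(S)); Y_M the largest p-reduced normal subgroup of M and M† = M·C_G(Y_M). Let F be the preimage in M† of the generalized Fitting subgroup of M†/C_{M†}(Y_M). If Y_M is asymmetric in G and H is a subgroup of characteristic p containing F, then Y_M ≤ Y_H. -/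
theorem result {G : Type*} [Group G] [Finite G] {p : ℕ} [Fact p.Prime] (S : Sylow p G) (Q : Subgroup G) (hQp : IsPGroup p ↥Q) (hQ1 : Q ≠ ⊥) (hQS : Q ≤ (S : Subgroup G)) (hQ : Cfsg.IsLarge Q) (M : Subgroup G) (hSM : (S : Subgroup G) ≤ M) (hM : Cfsg.IsInFrakM p M) (hasym : ¬ Cfsg.IsSymmetricIn (Cfsg.largestPReducedOf p M)) [hn : ((Subgroup.centralizer (((Cfsg.largestPReducedOf p M) : Subgroup G) : Set G)).subgroupOf (M ⊔ Subgroup.centralizer (((Cfsg.largestPReducedOf p M) : Subgroup G) : Set G))).Normal] (F : Subgroup G) (hF : F = ((Cfsg.generalizedFittingSubgroup (↥(M ⊔ Subgroup.centralizer (((Cfsg.largestPReducedOf p M) : Subgroup G) : Set G)) ⧸ (Subgroup.centralizer (((Cfsg.largestPReducedOf p M) : Subgroup G) : Set G)).subgroupOf (M ⊔ Subgroup.centralizer (((Cfsg.largestPReducedOf p M) : Subgroup G) : Set G)))).comap (QuotientGroup.mk' ((Subgroup.centralizer (((Cfsg.largestPReducedOf p M) : Subgroup G) : Set G)).subgroupOf (M ⊔ Subgroup.centralizer (((Cfsg.largestPReducedOf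 p M) : Subgroup G) : Set G))))).map ((M ⊔ Subgroup.centralizer (((Cfsg.largestPReducedOf p M) : Subgroup G) : Set G))).subtype) (H : Subgroup G) (hFH : F ≤ H) (hH : Subgroup.centralizer (Cfsg.pCore p ↥H : Set ↥H) ≤ Cfsg.pCore p ↥H) : (Cfsg.largestPReducedOf p M) ≤ Cfsg.largestPReducedOf p H := by
  classical
  have hpar := (S2845.result Q hQp hQ1 hQ).2.2
  have hwc := LocalEven.op_weaklyClosed hpar S hSM hM hasym
  have hNO := LocalEven.normalizer_op_le_dagger hpar S hSM hM
  set Y := Cfsg.largestPReducedOf p M with hYdef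
  set C := Subgroup.centralizer (Y : Set G) with hC
  set Md := M ⊔ C with hMd
  set O := LocalEven.op p M
  have hOC : O ≤ C := LocalEven.op_le_centralizer_largest M
  set C' := C.subgroupOf Md with hC'
  set π := QuotientGroup.mk' C' with hπ
  set X0 := Cfsg.generalizedFittingSubgroup (↥Md ⧸ C')
  have hFMd : F ≤ Md := hF.le.trans (Subgroup.map_subtype_le _)
  have hCF : C ≤ F := by
    intro c hc
    rw [hF]
    refine ⟨⟨c, Subgroup.mem_sup_right hc⟩, ?_, rfl⟩
    show π _ ∈ X0
    rw [show π ⟨c, Subgroup.mem_sup_right hc⟩ = 1 from (QuotientGroup.eq_one_iff _).mpr hc]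
    exact one_mem _
  have hO1 : Cfsg.pCore p (↥Md ⧸ C') = ⊥ := by
    obtain ⟨-, -, -, hY, -⟩ := hM
    have h := LocalEven.largestOf_reduced (p := p) Md
    rw [← hY] at h
    rw [eq_bot_iff]
    intro q hq
    obtain ⟨x, rfl⟩ := QuotientGroup.mk'_surjective C' q
    have h1 := LocalEven.le_centralizer_of_reduced_subgroupOf (K := ((Cfsg.pCore p (↥Md ⧸ C')).comap π).map Md.subtype)
      (((LocalEven.largestOf_le M).trans le_sup_left : Y ≤ Md)) h (Subgroup.map_subtype_le _) (by
        refine le_trans ?_ (Subgroup.le_normalizer_map Md.subtype)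
        rw [Subgroup.normalizer_eq_top_iff.mpr inferInstance, ← MonoidHom.range_eq_map, Subgroup.range_subtype])
      (by
        rintro _ ⟨y, hy, rfl⟩
        obtain ⟨k, hk⟩ := Core.isPGroup_pCore p _ ⟨π y, hy⟩
        refine ⟨k, ?_⟩
        have h2 : π (y ^ p ^ k) = 1 := by rw [map_pow]; exact congrArg Subtype.val hk
        have h4 : y ^ p ^ k ∈ C' := (QuotientGroup.eq_one_iff _).mp h2
        exact h4)
    exact Subgroup.mem_bot.mpr ((QuotientGroup.eq_one_iff x).mpr (h1 ⟨x, hq, rfl⟩))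
  -- a subgroup of `Md` normalized by `F` and a `p`-group modulo `C` centralizes `Y`
  have hA : ∀ U : Subgroup G, U ≤ Md → F ≤ Subgroup.normalizer (U : Set G) →
      (∀ x ∈ U, ∃ k, x ^ p ^ k ∈ C) → U ≤ C := by
    intro U hU hFU hp'
    set Ub := (U.subgroupOf Md).map π
    have hUp : IsPGroup p Ub := by
      rintro ⟨_, u, hu, rfl⟩
      obtain ⟨k, hk⟩ := hp' u hu
      exact ⟨k, Subtype.ext (show π u ^ p ^ k = 1 by
        rw [← map_pow]; exact (QuotientGroup.eq_one_iff _).mpr (show ((u ^ p ^ k : ↥Md) : G) ∈ C by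
          rw [Subgroup.coe_pow]; exact hk))⟩
    have hXU : X0 ≤ Subgroup.normalizer (Ub : Set (↥Md ⧸ C')) := by
      intro q hq
      obtain ⟨x, rfl⟩ := QuotientGroup.mk'_surjective C' q
      have hx : (x : G) ∈ Subgroup.normalizer (U : Set G) := hFU (hF ▸ ⟨x, hq, rfl⟩)
      rw [← LocalEven.cj_eq_self_iff]
      refine Subgroup.eq_of_le_of_card_ge ?_ (LocalEven.card_cj _ _).ge
      rintro _ ⟨_, ⟨u, hu, rfl⟩, rfl⟩
      exact ⟨x * u * x⁻¹, (Subgroup.mem_normalizer_iff.mp hx _).mp hu, by simp [π]⟩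
    have hXn : Ub ≤ Subgroup.normalizer (X0 : Set (↥Md ⧸ C')) := by
      rw [Subgroup.normalizer_eq_top X0]; exact le_top
    have hint : Ub ⊓ X0 = ⊥ := by
      have hsn : (Ub ⊓ X0).IsSubnormal := Subgroup.IsSubnormal.step _ X0 inf_le_right
        (inferInstance : X0.Normal).isSubnormal (Subgroup.normal_subgroupOf_of_le_normalizer
          ((le_inf hXU Subgroup.le_normalizer).trans Subgroup.inf_normalizer_le_normalizer_inf))
      have := Core.le_pCore_of_isSubnormal hsn (hUp.to_le inf_le_left)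
      rwa [hO1, le_bot_iff] at this
    have hcomm : ⁅Ub, X0⁆ = ⊥ := by
      rw [← le_bot_iff, ← hint]
      exact le_inf (Subgroup.le_normalizer_iff_commutator_le_left.mp hXU)
        (Subgroup.le_normalizer_iff_commutator_le_right.mp hXn)
    have hle : Ub ≤ X0 :=
      (Subgroup.commutator_eq_bot_iff_le_centralizer.mp hcomm).trans Components.centralizer_generalizedFitting_le
    have hbot : Ub = ⊥ := by rw [← inf_of_le_left hle, hint]
    intro u hu
    have h1 : π ⟨u, hU hu⟩ ∈ Ub := ⟨⟨u, hU hu⟩, hu, rfl⟩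
    rw [hbot, Subgroup.mem_bot] at h1
    have h2 : (⟨u, hU hu⟩ : ↥Md) ∈ C' := (QuotientGroup.eq_one_iff _).mp h1
    exact h2
  -- the same without assuming that the subgroup lies in `Md`
  have hB : ∀ N Q0 : Subgroup G, F ≤ Subgroup.normalizer (N : Set G) → Q0 ≤ N → Q0 ≤ C →
      F ≤ Subgroup.normalizer (Q0 : Set G) → N ≤ Subgroup.normalizer (Q0 : Set G) →
      (∀ x ∈ N, ∃ k, x ^ p ^ k ∈ Q0) → N ≤ C := by
    intro N Q0 hFN hQN hQC hFQ hNQ hNp
    have hU : N ⊓ Md ≤ C := hA _ inf_le_right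
      ((le_inf hFN (hFMd.trans Subgroup.le_normalizer)).trans Subgroup.inf_normalizer_le_normalizer_inf)
      fun x hx => by obtain ⟨k, hk⟩ := hNp x (Subgroup.mem_inf.mp hx).1; exact ⟨k, hQC hk⟩
    refine fun n hn => hU (Subgroup.mem_inf.mpr ⟨hn, ?_⟩)
    set X := N ⊔ O with hX
    have hON : O ≤ Subgroup.normalizer (N : Set G) := (hOC.trans hCF).trans hFN
    have hXQ : X ≤ Subgroup.normalizer (Q0 : Set G) := sup_le hNQ ((hOC.trans hCF).trans hFQ)
    haveI : (Q0.subgroupOf X).Normal := Subgroup.normal_subgroupOf_of_le_normalizer hXQ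
    set ρ := QuotientGroup.mk' (Q0.subgroupOf X)
    have hXp : IsPGroup p (↥X ⧸ Q0.subgroupOf X) := by
      have h1 : IsPGroup p ↥((N.subgroupOf X).map ρ) := by
        rintro ⟨_, u, hu, rfl⟩
        obtain ⟨k, hk⟩ := hNp u hu
        exact ⟨k, Subtype.ext (show ρ u ^ p ^ k = 1 by
          rw [← map_pow]; exact (QuotientGroup.eq_one_iff _).mpr (show ((u ^ p ^ k : ↥X) : G) ∈ Q0 by
            rw [Subgroup.coe_pow]; exact hk))⟩
      haveI : (N.subgroupOf X).Normal :=
        Subgroup.normal_subgroupOf_of_le_normalizer (sup_le Subgroup.le_normalizer hON)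
      haveI : ((N.subgroupOf X).map ρ).Normal := Subgroup.Normal.map inferInstance _ (QuotientGroup.mk'_surjective _)
      have h2 : IsPGroup p ↥((N.subgroupOf X).map ρ ⊔ (O.subgroupOf X).map ρ) :=
        h1.to_sup_of_normal_left (((LocalEven.isPGroup_op M).of_equiv
          (Subgroup.subgroupOfEquivOfLe (le_sup_right : O ≤ X)).symm).map ρ)
      rw [← Subgroup.map_sup, ← Subgroup.subgroupOf_sup le_sup_left le_sup_right, Subgroup.subgroupOf_self,
        Subgroup.map_top_of_surjective _ (QuotientGroup.mk'_surjective _)] at h2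
      exact h2.of_equiv Subgroup.topEquiv
    haveI := hXp.isNilpotent
    by_contra hnMd
    set Xd := X ⊓ Md
    have hQXd : Q0 ≤ Xd := le_inf (hQN.trans le_sup_left) (hQC.trans le_sup_right)
    have hOMd : O ≤ Md := hOC.trans le_sup_right
    have hXdC : Xd ≤ C := by
      intro x hx
      obtain ⟨hxX, hxM⟩ := Subgroup.mem_inf.mp hx
      rw [hX, ← SetLike.mem_coe, Subgroup.coe_mul_of_right_le_normalizer_left _ _ hON] at hxX
      obtain ⟨a, ha, o, ho, rfl⟩ := hxX
      have ha' : a ∈ Md := by simpa using Md.mul_mem hxM (Md.inv_mem (hOMd ho))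
      exact C.mul_mem (hU (Subgroup.mem_inf.mpr ⟨ha, ha'⟩)) (hOC ho)
    set Xb := (Xd.subgroupOf X).map ρ
    have hne : Xb ≠ ⊤ := by
      intro e
      have h1 : ρ ⟨n, Subgroup.mem_sup_left hn⟩ ∈ Xb := e ▸ Subgroup.mem_top _
      obtain ⟨y, hy, hye⟩ := h1
      have h2 : y⁻¹ * ⟨n, Subgroup.mem_sup_left hn⟩ ∈ Q0.subgroupOf X := QuotientGroup.eq.mp hye
      have h3 := Md.mul_mem (Subgroup.mem_inf.mp hy).2 ((hQC.trans le_sup_right) h2)
      exact hnMd (by simpa using h3)
    obtain ⟨q, hq1, hq2⟩ := SetLike.exists_of_lt (Group.normalizerCondition_of_isNilpotent Xb (lt_top_iff_ne_top.mpr hne))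
    obtain ⟨x, rfl⟩ := QuotientGroup.mk'_surjective _ q
    have hxXd : LocalEven.cj (x : G) O ≤ Xd := by
      rintro _ ⟨o, ho, rfl⟩
      have hoX : o ∈ Xd := Subgroup.mem_inf.mpr ⟨Subgroup.mem_sup_right ho, hOMd ho⟩
      have h1 : ρ (x * ⟨o, Subgroup.mem_sup_right ho⟩ * x⁻¹) ∈ Xb := by
        rw [map_mul, map_mul, map_inv]
        exact (Subgroup.mem_normalizer_iff.mp hq1 _).mp ⟨_, hoX, rfl⟩
      obtain ⟨y, hy, hye⟩ := h1
      have h2 : y⁻¹ * (x * ⟨o, Subgroup.mem_sup_right ho⟩ * x⁻¹) ∈ Q0.subgroupOf X := QuotientGroup.eq.mp hye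
      have h3 := Xd.mul_mem hy (hQXd h2)
      show (x : G) * o * (x : G)⁻¹ ∈ Xd
      simpa using h3
    obtain ⟨c, hc, hce⟩ := LocalEven.wc_conj_mem (LocalEven.isPGroup_op M) hwc
      (le_inf le_sup_right hOMd : O ≤ Xd) hxXd
    rw [LocalEven.cj_eq_iff] at hce
    have hxMd : (x : G) ∈ Md := by
      have h3 := Md.mul_mem (Subgroup.mem_inf.mp hc).2 (hNO hce)
      simpa using h3
    exact hq2 ⟨x, Subgroup.mem_inf.mpr ⟨x.2, hxMd⟩, rfl⟩
  set R := LocalEven.op p H
  have hHR : H ≤ Subgroup.normalizer (R : Set G) := LocalEven.map_pCore_normalized H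
  have hRC : R ≤ C := hB R ⊥ (hFH.trans hHR) bot_le bot_le
    (by rw [Subgroup.normalizer_eq_top (⊥ : Subgroup G)]; exact le_top)
    (by rw [Subgroup.normalizer_eq_top (⊥ : Subgroup G)]; exact le_top)
    fun x hx => by
      obtain ⟨k, hk⟩ := LocalEven.isPGroup_op H ⟨x, hx⟩
      exact ⟨k, Subgroup.mem_bot.mpr (congrArg Subtype.val hk)⟩
  have hYel := LocalEven.reduced_elementary (LocalEven.largestOf_le M) (LocalEven.largestOf_reduced (p := p) M)
  rw [← hYdef] at hYel
  have hYH : Y ≤ H := ((Subgroup.le_centralizer_iff_isMulCommutative.mpr hYel.1).trans hCF).trans hFH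
  have hYR : Y ≤ R := (le_inf hYH (Subgroup.le_centralizer_iff.mp hRC)).trans ((LocalEven.charP_iff H).mp hH)
  have hYW : Y ≤ LocalEven.omegaZ p R := fun y hy => LocalEven.mem_omegaZ.mpr
    ⟨hYR hy, Subgroup.le_centralizer_iff.mp hRC hy, hYel.2 y hy⟩
  set W := (LocalEven.omegaZ p R).subgroupOf H
  haveI : W.Normal := Subgroup.normal_subgroupOf_of_le_normalizer (hHR.trans (LocalEven.normalizer_le_normalizer_omegaZ R))
  set K := Subgroup.normalClosure ((Y.subgroupOf H : Subgroup ↥H) : Set ↥H) with hK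
  have hKW : K ≤ W := Subgroup.normalClosure_le_normal fun y hy => hYW hy
  have hKel : Cfsg.IsElementaryAbelian p K := by
    have he := LocalEven.isElementaryAbelian_omegaOne (p := p) (LocalEven.inf_centralizer_abelian R)
    refine ⟨⟨⟨fun a b => Subtype.ext (Subtype.ext ?_)⟩⟩, fun a ha => Subtype.ext (he.2 _ (hKW ha))⟩
    exact Subgroup.mem_centralizer_iff.mp ((Subgroup.le_centralizer_iff_isMulCommutative.mpr he.1) (hKW b.2)) _ (hKW a.2)
  have hred : Cfsg.IsPReducedNormal p K := by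
    refine LocalEven.isPReducedNormal_of Subgroup.normalClosure_normal hKel fun N hN hp' => ?_
    haveI := hN
    haveI : K.Normal := Subgroup.normalClosure_normal
    set Q0 := N ⊓ Subgroup.centralizer (K : Set ↥H)
    have hNn : ∀ Z : Subgroup ↥H, Z.Normal → H ≤ Subgroup.normalizer (Z.map H.subtype : Set G) := fun Z hZ => by
      refine le_trans ?_ (Subgroup.le_normalizer_map H.subtype)
      rw [Subgroup.normalizer_eq_top_iff.mpr hZ, ← MonoidHom.range_eq_map, Subgroup.range_subtype]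
    have h1 : N.map H.subtype ≤ C := by
      refine hB _ (Q0.map H.subtype) (hFH.trans (hNn N hN)) (Subgroup.map_mono inf_le_left) ?_
        (hFH.trans (hNn Q0 inferInstance)) ((Subgroup.map_subtype_le N).trans (hNn Q0 inferInstance)) ?_
      · rintro _ ⟨q, hq, rfl⟩
        refine Subgroup.mem_centralizer_iff.mpr fun y hy => ?_
        exact congrArg Subtype.val (Subgroup.mem_centralizer_iff.mp (Subgroup.mem_inf.mp hq).2 ⟨y, hYH hy⟩
          (Subgroup.subset_normalClosure hy))
      · rintro _ ⟨x, hx, rfl⟩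
        obtain ⟨k, hk⟩ := hp' x hx
        exact ⟨k, ⟨x ^ p ^ k, Subgroup.mem_inf.mpr ⟨N.pow_mem hx _, hk⟩, rfl⟩⟩
    rw [Subgroup.le_centralizer_iff]
    refine Subgroup.normalClosure_le_normal fun y hy => Subgroup.mem_centralizer_iff.mpr fun x hx => ?_
    exact Subtype.ext (Subgroup.mem_centralizer_iff.mp (h1 ⟨x, hx, rfl⟩) _ hy).symm
  intro y hy
  exact ⟨⟨y, hYH hy⟩, LocalEven.le_largest hred (Subgroup.subset_normalClosure hy), rfl⟩


end Cfsg.Agent.S2851
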