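import Cfsg.Statements.S2852
import Cfsg.Agent.LocalEven.Asymmetric
import Cfsg.Agent.S2845
import Cfsg.Agent.S2839
import Cfsg.Agent.S2842

set_option autoImplicit false
open Cfsg

namespace Cfsg.Agent.S2852

/-- Standing hypotheses: G a finite group, S a Sylow p-subgroup, Q a nontrivial large p-subgroup of G contained in S, M a subgroup containing S with the basic property (M ∈ 𝔐_G(S)); Y_M the largest p-reduced normal subgroup of M. If Y_M is char-p-tall and asymmetric in G, then some subgroup H of G lies in ℌ_G(O_p(M)): H has characteristic p, O_p(M) ≤ H, Y_M ≰ O_p(H), and Y_M ≤ O_p(P) for every proper subgroup P of H containing O_p(M). -/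
theorem result {G : Type*} [Group G] [Finite G] {p : ℕ} [Fact p.Prime] (S : Sylow p G) (Q : Subgroup G) (hQp : IsPGroup p ↥Q) (hQ1 : Q ≠ ⊥) (hQS : Q ≤ (S : Subgroup G)) (hQ : Cfsg.IsLarge Q) (M : Subgroup G) (hSM : (S : Subgroup G) ≤ M) (hM : Cfsg.IsInFrakM p M) (htall : Cfsg.IsCharPTall p (Cfsg.largestPReducedOf p M)) (hasym : ¬ Cfsg.IsSymmetricIn (Cfsg.largestPReducedOf p M)) : ∃ H : Subgroup G, Cfsg.IsInFrakH p M H := by
  classical
  have hpar := (S2845.result Q hQp hQ1 hQ).2.2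
  have hwc := LocalEven.op_weaklyClosed hpar S hSM hM hasym
  set Y := Cfsg.largestPReducedOf p M
  set O := LocalEven.op p M with hO
  have hmax := LocalEven.op_isMaxP_centralizer S hSM hM
  set C := Subgroup.centralizer (Y : Set G)
  obtain ⟨T, L, hTL, hLc, hYL⟩ := htall
  obtain ⟨c, hc, hcT⟩ := hmax.conj_le (T.isPGroup'.map C.subtype) (Subgroup.map_subtype_le _)
  have hTO : LocalEven.cj c ((T : Subgroup ↥C).map C.subtype) = O := by
    have h1 := (LocalEven.sylow_isMaxP T).cj c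
    rw [LocalEven.cj_eq_self_iff.mpr (Subgroup.le_normalizer hc)] at h1
    exact (h1.2.2 O hmax.2.1 hmax.1 hcT).symm
  have hne : {H : Subgroup G | Subgroup.centralizer (Cfsg.pCore p ↥H : Set ↥H) ≤ Cfsg.pCore p ↥H ∧ O ≤ H ∧
      ¬ Y ≤ LocalEven.op p H}.Nonempty := by
    refine ⟨LocalEven.cj c L, (LocalEven.charP_iff _).mpr ?_, hTO ▸ LocalEven.cj_mono hTL, fun h => hYL ?_⟩
    · have h1 := LocalEven.cj_mono (g := c) ((LocalEven.charP_iff L).mp hLc)
      rw [LocalEven.cj, Subgroup.map_inf _ _ _ (MulAut.conj c).injective] at h1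
      change LocalEven.cj c L ⊓ LocalEven.cj c _ ≤ _ at h1
      rw [LocalEven.cj_centralizer] at h1
      rw [LocalEven.op, LocalEven.map_pCore_cj]
      exact h1
    · rw [LocalEven.op, LocalEven.map_pCore_cj, ← LocalEven.cj_eq_self_iff.mpr (Subgroup.centralizer_le_normalizer _ hc : c ∈ Subgroup.normalizer (Y : Set G)),
        LocalEven.cj_le_iff] at h
      exact h
  obtain ⟨H, ⟨hHc, hOH, hYH⟩, hmin⟩ := Set.Finite.exists_minimalFor id _ (Set.toFinite _) hne
  refine ⟨H, hHc, hOH, hYH, fun P hOP hPH => ?_⟩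
  by_contra hYP
  have hOP' : O ≤ P := hOP
  have hPc : Subgroup.centralizer (Cfsg.pCore p ↥P : Set ↥P) ≤ Cfsg.pCore p ↥P := by
    have hO1 : O.subgroupOf H ≠ ⊥ := by
      intro e
      rw [Subgroup.subgroupOf_eq_bot, disjoint_iff, inf_of_le_left hOH] at e
      exact LocalEven.op_ne_bot_of_pCore hM.1.1 e
    have hCO : Subgroup.centralizer ((O.subgroupOf H : Subgroup ↥H) : Set ↥H) ≤ O.subgroupOf H := fun x hx =>
      hM.1.2 (Subgroup.mem_centralizer_iff.mpr fun y hy =>
        congrArg Subtype.val (Subgroup.mem_centralizer_iff.mp hx ⟨y, hOH hy⟩ hy))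
    obtain ⟨-, -, h3⟩ := S2842.result (O.subgroupOf H)
      ((LocalEven.isPGroup_op M).of_equiv (Subgroup.subgroupOfEquivOfLe hOH).symm) hO1
      (S2839.result O (LocalEven.isPGroup_op M) (LocalEven.op_ne_bot_of_pCore hM.1.1) hwc H hOH (⊥ : Subgroup G)).1 hCO
      (P.subgroupOf H) (fun x hx => hOP' hx) (Or.inl hHc)
    have h4 := Subgroup.map_mono (f := H.subtype) ((LocalEven.charP_iff _).mp h3)
    have e : (LocalEven.op p (P.subgroupOf H)).map H.subtype = LocalEven.op p P := by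
      rw [LocalEven.op, LocalEven.op, ← Core.pCore_map_equiv (Subgroup.subgroupOfEquivOfLe hPH.le), Subgroup.map_map,
        Subgroup.map_map]
      rfl
    rw [e] at h4
    refine (LocalEven.charP_iff P).mpr fun x hx => h4 ?_
    obtain ⟨hxP, hxC⟩ := Subgroup.mem_inf.mp hx
    refine ⟨⟨x, hPH.le hxP⟩, Subgroup.mem_inf.mpr ⟨hxP, Subgroup.mem_centralizer_iff.mpr fun y hy => Subtype.ext ?_⟩, rfl⟩
    exact Subgroup.mem_centralizer_iff.mp hxC _ (e ▸ Subgroup.mem_map_of_mem H.subtype hy)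
  exact hPH.not_ge (hmin (j := P) ⟨hPc, hOP', hYP⟩ hPH.le)


end Cfsg.Agent.S2852
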