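import Cfsg.Statements.S2853
import Cfsg.Agent.LocalEven.Asymmetric
import Cfsg.Agent.S2845
import Cfsg.Agent.Core.Residual

set_option autoImplicit false
open Cfsg

open scoped commutatorElement

namespace Cfsg.Agent.S2853

/-- Standing hypotheses: G a finite group, S a Sylow p-subgroup, Q a nontrivial large p-subgroup of G contained in S, M a subgroup containing S with the basic property (M ∈ 𝔐_G(S)); Y_M the largest p-reduced normal subgroup of M and M† = M·C_G(Y_M). Suppose Y_M is char-p-tall and asymmetric in G and H ∈ ℌ_G(O_p(M)). Then every Sylow p-subgroup of H ∩ M† is a Sylow p-subgroup of H; O_p(H) normalizes O_p(M) and Y_M; O^p(H) = [O^p(H), Y_M] and H = O^p(H)·O_p(M); O^p(H)·Y_M is the normal closure of Y_M in H; and H is the normal closure of O_p(M) in H. Here O^p(H) is the subgroup generated by the elements of H of order prime to p. -/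
theorem result {G : Type*} [Group G] [Finite G] {p : ℕ} [Fact p.Prime] (S : Sylow p G) (Q : Subgroup G) (hQp : IsPGroup p ↥Q) (hQ1 : Q ≠ ⊥) (hQS : Q ≤ (S : Subgroup G)) (hQ : Cfsg.IsLarge Q) (M : Subgroup G) (hSM : (S : Subgroup G) ≤ M) (hM : Cfsg.IsInFrakM p M) (htall : Cfsg.IsCharPTall p (Cfsg.largestPReducedOf p M)) (hasym : ¬ Cfsg.IsSymmetricIn (Cfsg.largestPReducedOf p M)) (H : Subgroup G) (hH : Cfsg.IsInFrakH p M H) (R : Subgroup G) (hR : R = (Cfsg.pResidual p ↥H).map H.subtype) : (∀ T : Sylow p ↥(H ⊓ (M ⊔ Subgroup.centralizer (((Cfsg.largestPReducedOf p M) : Subgroup G) : Set G))), ∃ P : Sylow p ↥H, ((P : Subgroup ↥H).map H.subtype) = (T : Subgroup ↥(H ⊓ (M ⊔ Subgroup.centralizer (((Cfsg.largestPReducedOf p M) : Subgroup G) : Set G)))).map (H ⊓ (M ⊔ Subgroup.centralizer (((Cfsg.largestPReducedOf p M) : Subgroup G) : Set G))).subtype) ∧ Cfsg.pCoreOf p H ≤ Subgroup.normalizer (((Cfsg.pCoreOf p M) : Subgroup G) : Set G) ⊓ Subgroup.normalizer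 (((Cfsg.largestPReducedOf p M) : Subgroup G) : Set G) ∧ ⁅R, (Cfsg.largestPReducedOf p M)⁆ = R ∧ R ⊔ (Cfsg.pCoreOf p M) = H ∧ R ⊔ (Cfsg.largestPReducedOf p M) = (Subgroup.normalClosure ((((Cfsg.largestPReducedOf p M)).subgroupOf H : Subgroup ↥H) : Set ↥H)).map H.subtype ∧ (Subgroup.normalClosure ((((Cfsg.pCoreOf p M)).subgroupOf H : Subgroup ↥H) : Set ↥H)).map H.subtype = H := by
  classical
  subst hR
  have hpar := (S2845.result Q hQp hQ1 hQ).2.2
  have hwc := LocalEven.op_weaklyClosed hpar S hSM hM hasym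
  have hNO := LocalEven.normalizer_op_le_dagger hpar S hSM hM
  set Y := Cfsg.largestPReducedOf p M
  set Md := M ⊔ Subgroup.centralizer (Y : Set G)
  set O := Cfsg.pCoreOf p M with hOdef
  have hOp : IsPGroup p O := LocalEven.isPGroup_op M
  obtain ⟨-, hOH, hYH, hprop⟩ := hH
  have hYO : Y ≤ O := LocalEven.reduced_le_op (LocalEven.largestOf_le M) (LocalEven.largestOf_reduced M)
  obtain ⟨T, hT, hOT⟩ := LocalEven.exists_isMaxP_le hOp hOH
  have hTN : T ≤ Subgroup.normalizer (O : Set G) := LocalEven.wc_le_normalizer hwc hT.2.1 hOT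
  have hTY : T ≤ Subgroup.normalizer (Y : Set G) := (hTN.trans hNO).trans (LocalEven.dagger_normalizes M)
  have hTMd : T ≤ H ⊓ Md := le_inf hT.1 (hTN.trans hNO)
  set R := (Cfsg.pResidual p ↥H).map H.subtype with hRdef
  have hRH : R ≤ H := Subgroup.map_subtype_le _
  have hnormal : ∀ Z : Subgroup ↥H, Z.Normal → H ≤ Subgroup.normalizer (Z.map H.subtype : Set G) := fun Z hZ => by
    refine le_trans ?_ (Subgroup.le_normalizer_map H.subtype)
    rw [Subgroup.normalizer_eq_top_iff.mpr hZ, ← MonoidHom.range_eq_map, Subgroup.range_subtype]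
  have hHR : H ≤ Subgroup.normalizer (R : Set G) := hnormal _ inferInstance
  have hfac : ∀ x ∈ H, ∃ r ∈ R, ∃ t ∈ T, x = r * t := by
    intro x hx
    obtain ⟨P, hP⟩ := hT.exists_sylow
    have h1 : (⟨x, hx⟩ : ↥H) ∈ Cfsg.pResidual p ↥H ⊔ (P : Subgroup ↥H) := by
      rw [sup_comm, Core.sylow_sup_pResidual]; exact Subgroup.mem_top _
    rw [← SetLike.mem_coe, Subgroup.normal_mul] at h1
    obtain ⟨r, hr, t, ht, e⟩ := h1
    exact ⟨r, ⟨r, hr, rfl⟩, t, hP ▸ Subgroup.mem_map_of_mem H.subtype ht, (congrArg Subtype.val e).symm⟩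
  -- a normal subgroup with `Y` in its `O_p` gives `Y ≤ O_p(H)`
  have hlift : ∀ Z : Subgroup G, Z ≤ H → H ≤ Subgroup.normalizer (Z : Set G) → LocalEven.op p Z ≤ LocalEven.op p H :=
    fun Z hZ hn => LocalEven.le_op ((LocalEven.op_le Z).trans hZ)
      (hn.trans (LocalEven.normalizer_le_normalizer_op Z)) (LocalEven.isPGroup_op Z)
  refine ⟨fun T' => ?_, ?_, ?_⟩
  · have hT' := LocalEven.sylow_isMaxP T'
    obtain ⟨U, hU, hTU⟩ := LocalEven.exists_isMaxP_le (p := p) hT'.2.1 (hT'.1.trans inf_le_left)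
    obtain ⟨P, hP⟩ := hU.exists_sylow
    refine ⟨P, hP.trans ?_⟩
    obtain ⟨k, hk, hkT⟩ := (hT.of_le hTMd inf_le_left).conj_le hT'.2.1 hT'.1
    obtain ⟨k', hk', hkU⟩ := hT.conj_le hU.2.1 hU.1
    have e1 : LocalEven.cj k ((T' : Subgroup ↥(H ⊓ Md)).map (H ⊓ Md).subtype) = T := by
      have h1 := hT'.cj k
      rw [LocalEven.cj_eq_self_iff.mpr (Subgroup.le_normalizer hk)] at h1
      exact (h1.2.2 T hT.2.1 hTMd hkT).symm
    have e2 : Nat.card U ≤ Nat.card T := by
      rw [← LocalEven.card_cj k' U]; exact Subgroup.card_le_of_le hkU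
    exact (Subgroup.eq_of_le_of_card_ge hTU (by rw [← LocalEven.card_cj k ((T' : Subgroup ↥(H ⊓ Md)).map (H ⊓ Md).subtype), e1]; exact e2)).symm
  · exact le_inf (hT.pCore_le.trans hTN) (hT.pCore_le.trans hTY)
  set D := ⁅R, Y⁆ with hD
  have hYH' : Y ≤ H := hYO.trans hOH
  have hDn : H ≤ Subgroup.normalizer (D : Set G) := by
    intro x hx
    obtain ⟨r, hr, t, ht, rfl⟩ := hfac x hx
    exact mul_mem (Subgroup.normalizer_commutator_ge_left R Y hr)
      (LocalEven.le_normalizer_comm (hT.1.trans hHR) hTY ht)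
  set K := (Subgroup.normalClosure ((Y.subgroupOf H : Subgroup ↥H) : Set ↥H)).map H.subtype with hKdef
  have hKn : H ≤ Subgroup.normalizer (K : Set G) := hnormal _ Subgroup.normalClosure_normal
  have hYK : Y ≤ K := fun y hy => ⟨⟨y, hYH' hy⟩, Subgroup.subset_normalClosure hy, rfl⟩
  have hKH : K ≤ H := Subgroup.map_subtype_le _
  have hDR : D ≤ R := Subgroup.le_normalizer_iff_commutator_le_left.mp (hYH'.trans hHR)
  have hDK : D ≤ K := (Subgroup.commutator_mono le_rfl hYK).trans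
    (Subgroup.le_normalizer_iff_commutator_le_right.mp (hRH.trans hKn))
  -- `K` lies in `D ⊔ O`
  have hKDO : K ≤ D ⊔ O := by
    rw [hKdef, Subgroup.map_le_iff_le_comap, Subgroup.normalClosure, Subgroup.closure_le]
    intro x hx
    obtain ⟨y, hy, hxy⟩ := Group.mem_conjugatesOfSet_iff.mp hx
    obtain ⟨c, rfl⟩ := isConj_iff.mp hxy
    obtain ⟨r, hr, t, ht, hc⟩ := hfac c c.2
    show (c : G) * (y : G) * (c : G)⁻¹ ∈ D ⊔ O
    have hy' : t * (y : G) * t⁻¹ ∈ Y := (Subgroup.mem_normalizer_iff.mp (hTY ht) _).mp hy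
    rw [hc, show r * t * (y : G) * (r * t)⁻¹ = ⁅r, t * (y : G) * t⁻¹⁆ * (t * (y : G) * t⁻¹) by
      simp only [commutatorElement_def]; group]
    exact mul_mem (Subgroup.mem_sup_left (Subgroup.commutator_mem_commutator hr hy')) (Subgroup.mem_sup_right (hYO hy'))
  have hDOH : D ⊔ O = H := by
    by_contra hne
    have hlt : D ⊔ O < H := lt_of_le_of_ne (sup_le (hDR.trans hRH) hOH) hne
    have h1 : Y ≤ LocalEven.op p (D ⊔ O) := hprop _ le_sup_right hlt
    have h2 : LocalEven.op p (D ⊔ O) ⊓ K ≤ LocalEven.op p K := LocalEven.le_op inf_le_right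
      ((le_inf ((hKDO.trans (LocalEven.map_pCore_normalized _))) Subgroup.le_normalizer).trans
        Subgroup.inf_normalizer_le_normalizer_inf) ((LocalEven.isPGroup_op _).to_le inf_le_left)
    exact hYH (((le_inf h1 hYK).trans h2).trans (hlift K hKH hKn))
  have hRD : R ≤ D := by
    rw [hRdef, Subgroup.map_le_iff_le_comap]
    show _ ≤ D.subgroupOf H
    haveI : (D.subgroupOf H).Normal := Subgroup.normal_subgroupOf_of_le_normalizer hDn
    refine Core.pResidual_le_of_isPGroup fun q => ?_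
    obtain ⟨x, rfl⟩ := QuotientGroup.mk'_surjective _ q
    have hx : (x : G) ∈ D ⊔ O := hDOH.symm ▸ x.2
    rw [← SetLike.mem_coe, Subgroup.coe_mul_of_right_le_normalizer_left _ _ (hOH.trans hDn)] at hx
    obtain ⟨d, hd, o, ho, e⟩ := hx
    obtain ⟨k, hk⟩ := hOp ⟨o, ho⟩
    refine ⟨k, ?_⟩
    have h3 : QuotientGroup.mk' (D.subgroupOf H) x = QuotientGroup.mk' (D.subgroupOf H) ⟨o, hOH ho⟩ := by
      refine QuotientGroup.eq.mpr (show ((x⁻¹ * ⟨o, hOH ho⟩ : ↥H) : G) ∈ D from ?_)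
      rw [Subgroup.coe_mul, Subgroup.coe_inv, ← e]
      have := (Subgroup.mem_normalizer_iff''.mp (hDn (hOH ho)) _).mp (D.inv_mem hd)
      simpa [mul_assoc] using this
    rw [h3, ← map_pow, show (⟨o, hOH ho⟩ : ↥H) ^ p ^ k = 1 from Subtype.ext (congrArg Subtype.val hk :), map_one]
  refine ⟨le_antisymm hDR hRD, le_antisymm (sup_le hRH hOH) (hDOH.ge.trans (sup_le_sup_right hDR O)),
    le_antisymm (sup_le (hRD.trans hDK) hYK) ?_, ?_⟩
  · rw [hKdef, Subgroup.map_le_iff_le_comap]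
    have hn : H ≤ Subgroup.normalizer ((R ⊔ Y : Subgroup G) : Set G) := by
      intro x hx
      obtain ⟨r, hr, t, ht, rfl⟩ := hfac x hx
      refine mul_mem (Subgroup.le_normalizer (Subgroup.mem_sup_left hr)) ?_
      rw [← LocalEven.cj_eq_self_iff, LocalEven.cj, Subgroup.map_sup]
      change LocalEven.cj t R ⊔ LocalEven.cj t Y = _
      rw [LocalEven.cj_eq_self_iff.mpr (hHR (hT.1 ht)), LocalEven.cj_eq_self_iff.mpr (hTY ht)]
    show _ ≤ (R ⊔ Y).subgroupOf H
    haveI : ((R ⊔ Y).subgroupOf H).Normal := Subgroup.normal_subgroupOf_of_le_normalizer hn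
    exact Subgroup.normalClosure_le_normal (SetLike.coe_subset_coe.mpr
      (Subgroup.comap_mono (le_sup_right : Y ≤ R ⊔ Y)))
  · set X := (Subgroup.normalClosure ((O.subgroupOf H : Subgroup ↥H) : Set ↥H)).map H.subtype
    by_contra hne
    have hXH : X ≤ H := Subgroup.map_subtype_le _
    have hOX : O ≤ X := fun y hy => ⟨⟨y, hOH hy⟩, Subgroup.subset_normalClosure hy, rfl⟩
    exact hYH ((hprop X hOX (lt_of_le_of_ne hXH hne)).trans (hlift X hXH (hnormal _ Subgroup.normalClosure_normal)))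


end Cfsg.Agent.S2853
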