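import Cfsg.Statements.S2854
import Cfsg.Agent.LocalEven.FrakH
import Cfsg.Agent.LocalEven.PClosed
import Cfsg.Agent.S2845

set_option autoImplicit false
open Cfsg

open scoped commutatorElement

namespace Cfsg.Agent.S2854

/-- Standing hypotheses: G a finite group, S a Sylow p-subgroup, Q a nontrivial large p-subgroup of G contained in S, M a subgroup containing S with the basic property (M ∈ 𝔐_G(S)); Y_M the largest p-reduced normal subgroup of M and M† = M·C_G(Y_M). Suppose Y_M is asymmetric in G, H ∈ ℌ_G(O_p(M)), and H ≤ N_G(gQg⁻¹) for some g ∈ G. Then gQg⁻¹ ≤ O_p(H·gQg⁻¹) ≤ N_G(O_p(M)) ≤ N_G(Y_M) = M†; H is normal in H·gQg⁻¹ with O^p(H) = O^p(H·gQg⁻¹); and H·gQg⁻¹ is p-irreducible. -/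
theorem result {G : Type*} [Group G] [Finite G] {p : ℕ} [Fact p.Prime] (S : Sylow p G) (Q : Subgroup G) (hQp : IsPGroup p ↥Q) (hQ1 : Q ≠ ⊥) (hQS : Q ≤ (S : Subgroup G)) (hQ : Cfsg.IsLarge Q) (M : Subgroup G) (hSM : (S : Subgroup G) ≤ M) (hM : Cfsg.IsInFrakM p M) (hasym : ¬ Cfsg.IsSymmetricIn (Cfsg.largestPReducedOf p M)) (H : Subgroup G) (hH : Cfsg.IsInFrakH p M H) (g : G) (hHQ : H ≤ Subgroup.normalizer ((((Q : Subgroup G).map (MulAut.conj (g : G)).toMonoidHom) : Subgroup G) : Set G)) : ((Q : Subgroup G).map (MulAut.conj (g : G)).toMonoidHom) ≤ Cfsg.pCoreOf p (H ⊔ ((Q : Subgroup G).map (MulAut.conj (g : G)).toMonoidHom)) ∧ Cfsg.pCoreOf p (H ⊔ ((Q : Subgroup G).map (MulAut.conj (g : G)).toMonoidHom)) ≤ Subgroup.normalizer (((Cfsg.pCoreOf p M) : Subgroup G) : Set G) ∧ Subgroup.normalizer (((Cfsg.pCoreOf p M) : Subgroup G) : Set G) ≤ Subgroup.normalizer (((Cfsg.largestPReducedOf p M) : Subgroup G) : Set G) ∧ Subgroup.normalizer (((Cfsg.largestPReducedOf p M) : Subgroup G)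 : Set G) = (M ⊔ Subgroup.centralizer (((Cfsg.largestPReducedOf p M) : Subgroup G) : Set G)) ∧ (H.subgroupOf (H ⊔ ((Q : Subgroup G).map (MulAut.conj (g : G)).toMonoidHom))).Normal ∧ (Cfsg.pResidual p ↥H).map H.subtype = (Cfsg.pResidual p ↥(H ⊔ ((Q : Subgroup G).map (MulAut.conj (g : G)).toMonoidHom))).map (H ⊔ ((Q : Subgroup G).map (MulAut.conj (g : G)).toMonoidHom)).subtype ∧ Cfsg.IsPIrreducible p ↥(H ⊔ ((Q : Subgroup G).map (MulAut.conj (g : G)).toMonoidHom)) := by
  classical
  have hpar := (S2845.result Q hQp hQ1 hQ).2.2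
  have hwc := LocalEven.op_weaklyClosed hpar S hSM hM hasym
  have hNO := LocalEven.normalizer_op_le_dagger hpar S hSM hM
  set Y := Cfsg.largestPReducedOf p M with hY
  set O := LocalEven.op p M with hO
  set Q' := LocalEven.cj g Q with hQ'
  have hQ'p : IsPGroup p Q' := LocalEven.isPGroup_cj hQp
  change H ≤ Subgroup.normalizer (Q' : Set G) at hHQ
  have hNY : Subgroup.normalizer (O : Set G) ≤ Subgroup.normalizer (Y : Set G) :=
    hNO.trans (LocalEven.dagger_normalizes M)
  obtain ⟨hRY, hRO⟩ := LocalEven.frakH_residual hwc hNY hH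
  have hclos := LocalEven.frakH_normalClosure hH
  obtain ⟨-, hOH, hYH, hprop⟩ := id hH
  change O ≤ H at hOH
  set J := H ⊔ Q' with hJ
  have hHJ : H ≤ J := le_sup_left
  have hQJ : Q' ≤ LocalEven.op p J :=
    LocalEven.le_op le_sup_right (sup_le hHQ Subgroup.le_normalizer) hQ'p
  have hopN : LocalEven.op p J ≤ Subgroup.normalizer (O : Set G) :=
    le_sup_left.trans (LocalEven.wc_le_normalizer hwc
      ((LocalEven.isPGroup_op J).to_sup_of_normal_left' (LocalEven.isPGroup_op M)
        ((hOH.trans hHJ).trans (LocalEven.map_pCore_normalized J))) le_sup_right)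
  have hQH : Q' ≤ Subgroup.normalizer (H : Set G) := by
    intro q hq
    rw [← LocalEven.cj_eq_self_iff]
    refine Subgroup.eq_of_le_of_card_ge ?_ (LocalEven.card_cj _ _).ge
    conv_lhs => rw [← hclos, LocalEven.cj, Subgroup.map_map]
    rw [Subgroup.map_le_iff_le_comap, Subgroup.normalClosure, Subgroup.closure_le]
    intro x hx
    obtain ⟨y, hy, hxy⟩ := Group.mem_conjugatesOfSet_iff.mp hx
    obtain ⟨c, rfl⟩ := isConj_iff.mp hxy
    show q * ((c : G) * y * (c : G)⁻¹) * q⁻¹ ∈ H
    have hq' : (c : G)⁻¹ * q * c ∈ Q' := (Subgroup.mem_normalizer_iff''.mp (hHQ c.2) q).mp hq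
    have h1 := (Subgroup.mem_normalizer_iff.mp (hopN (hQJ hq')) _).mp hy
    rw [show q * ((c : G) * y * (c : G)⁻¹) * q⁻¹ =
      c * ((c : G)⁻¹ * q * c * y * ((c : G)⁻¹ * q * c)⁻¹) * (c : G)⁻¹ by group]
    exact H.mul_mem (H.mul_mem c.2 (hOH h1)) (H.inv_mem c.2)
  have hJH : J ≤ Subgroup.normalizer (H : Set G) := sup_le Subgroup.le_normalizer hQH
  have hres : (Cfsg.pResidual p ↥H).map H.subtype = (Cfsg.pResidual p ↥J).map J.subtype := by
    refine le_antisymm (LocalEven.residual_map_mono hHJ) ?_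
    have h1 := LocalEven.residual_le_of_sup hJH hQ'p hJ.symm
    rw [Subgroup.map_le_iff_le_comap, Cfsg.pResidual, Subgroup.closure_le]
    intro x hx
    exact ⟨⟨x, h1 ⟨x, Core.mem_pResidual hx, rfl⟩⟩,
      Core.mem_pResidual (by simpa [← Subgroup.orderOf_coe] using hx), rfl⟩
  refine ⟨hQJ, hopN, hNY, LocalEven.dagger_eq_normalizer hpar S hSM hM,
    Subgroup.normal_subgroupOf_of_le_normalizer hJH, hres, fun hcl => ?_, fun N hN hNcl => ?_⟩
  · refine hYH ((le_inf (fun y hy => ?_)
      (fun y hy => hOH (LocalEven.reduced_le_op (LocalEven.largestOf_le M) (LocalEven.largestOf_reduced M) hy))).trans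
      (LocalEven.le_op (N := LocalEven.op p J ⊓ H) inf_le_right ((le_inf (hHJ.trans (LocalEven.map_pCore_normalized J))
        Subgroup.le_normalizer).trans Subgroup.inf_normalizer_le_normalizer_inf)
        ((LocalEven.isPGroup_op J).to_le inf_le_left)))
    have hyO := LocalEven.reduced_le_op (LocalEven.largestOf_le M) (LocalEven.largestOf_reduced M) hy
    obtain ⟨k, hk⟩ := IsPGroup.iff_orderOf.mp (LocalEven.isPGroup_op M) ⟨y, hyO⟩
    exact ⟨⟨y, hHJ (hOH hyO)⟩, LocalEven.isPClosed_iff.mp hcl _ ⟨k, by simpa using hk⟩, rfl⟩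
  · haveI := hN
    by_contra hR
    refine hNcl ?_
    set Nm := N.map J.subtype with hNm
    have hNJ : Nm ≤ J := Subgroup.map_subtype_le _
    have hJN : J ≤ Subgroup.normalizer (Nm : Set G) := LocalEven.normal_map_normalized N
    set R := (Cfsg.pResidual p ↥H).map H.subtype with hRdef
    have hRH : R ≤ H := Subgroup.map_subtype_le _
    have hRN : ¬ R ≤ Nm := fun h => hR ((Subgroup.map_le_map_iff_of_injective J.subtype_injective).mp (hres ▸ h))
    have hYO : Y ≤ O := LocalEven.reduced_le_op (LocalEven.largestOf_le M) (LocalEven.largestOf_reduced M)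
    have hYH' : Y ≤ H := hYO.trans hOH
    set M0 := Nm ⊓ H
    have hM0n : H ≤ Subgroup.normalizer (M0 : Set G) :=
      (le_inf (hHJ.trans hJN) Subgroup.le_normalizer).trans Subgroup.inf_normalizer_le_normalizer_inf
    have hlt : M0 ⊔ O < H := lt_of_le_of_ne (sup_le inf_le_right hOH) fun e =>
      hRN ((LocalEven.residual_le_of_sup hM0n (LocalEven.isPGroup_op M) e).trans inf_le_left)
    have hYop : Y ≤ LocalEven.op p (M0 ⊔ O) := hprop _ le_sup_right hlt
    set U := LocalEven.op p H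
    have hHU : H ≤ Subgroup.normalizer (U : Set G) := LocalEven.map_pCore_normalized H
    have hJU : J ≤ Subgroup.normalizer (U : Set G) := hJH.trans (LocalEven.normalizer_le_normalizer_op H)
    have hcore : LocalEven.op p (M0 ⊔ O) ⊓ M0 ≤ U := by
      refine le_trans (LocalEven.le_op inf_le_right ?_ ((LocalEven.isPGroup_op _).to_le inf_le_left))
        (LocalEven.op_le_op_of_normalized inf_le_right hM0n)
      exact (le_inf (le_sup_left.trans (LocalEven.map_pCore_normalized _)) Subgroup.le_normalizer).trans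
        Subgroup.inf_normalizer_le_normalizer_inf
    have hMY : ⁅M0, Y⁆ ≤ U := by
      refine le_trans (le_inf ?_ (Subgroup.le_normalizer_iff_commutator_le_left.mp (hYH'.trans hM0n))) hcore
      exact (Subgroup.commutator_mono le_rfl hYop).trans (Subgroup.le_normalizer_iff_commutator_le_right.mp
        ((le_sup_left : M0 ≤ M0 ⊔ O).trans (LocalEven.map_pCore_normalized _)))
    obtain ⟨T, hT, hOT⟩ := LocalEven.exists_isMaxP_le (LocalEven.isPGroup_op M) (hOH.trans hHJ)
    have hTY : T ≤ Subgroup.normalizer (Y : Set G) := (LocalEven.wc_le_normalizer hwc hT.2.1 hOT).trans hNY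
    set U0 := T ⊓ Nm
    have hU0J : U0 ≤ J := inf_le_left.trans hT.1
    have hYU : ⁅Y, U0⁆ ≤ U := by
      refine le_trans (le_inf ?_ (le_inf ?_ ?_)) hcore
      · exact (Subgroup.le_normalizer_iff_commutator_le_left.mp (inf_le_left.trans hTY)).trans hYop
      · exact (Subgroup.commutator_mono le_rfl inf_le_right).trans
          (Subgroup.le_normalizer_iff_commutator_le_right.mp ((hYH'.trans hHJ).trans hJN))
      · exact (Subgroup.le_normalizer_iff_commutator_le_left.mp (inf_le_left.trans hTY)).trans hYH'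
    have hUR : ⁅U0, R⁆ ≤ M0 := by
      refine le_inf ((Subgroup.commutator_mono inf_le_right le_rfl).trans
        (Subgroup.le_normalizer_iff_commutator_le_left.mp ((hRH.trans hHJ).trans hJN))) ?_
      exact (Subgroup.commutator_mono le_rfl hRH).trans
        (Subgroup.le_normalizer_iff_commutator_le_right.mp (hU0J.trans hJH))
    have hRU : ⁅R, U0⁆ ≤ U := by
      rw [← hRY]
      refine LocalEven.three_le (hRH.trans hHU) (hYH'.trans hHU) (hU0J.trans hJU) ?_ ?_
      · exact (Subgroup.commutator_mono hYU hRH).trans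
          (Subgroup.le_normalizer_iff_commutator_le_left.mp hHU)
      · exact (Subgroup.commutator_mono hUR le_rfl).trans hMY
    have hUJ : U0 ⊔ U ≤ J := sup_le hU0J ((LocalEven.op_le H).trans hHJ)
    have hnorm : J ≤ Subgroup.normalizer ((U0 ⊔ U : Subgroup G) : Set G) := by
      intro x hx
      obtain ⟨r, hr, t, ht, rfl⟩ := LocalEven.exists_residual_mul hT hx
      rw [← hres] at hr
      refine mul_mem ?_ ?_
      · rw [← LocalEven.cj_eq_self_iff]
        refine Subgroup.eq_of_le_of_card_ge ?_ (LocalEven.card_cj _ _).ge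
        rw [LocalEven.cj, Subgroup.map_sup]
        refine sup_le ?_ ((LocalEven.cj_eq_self_iff.mpr (hHU (hRH hr))).le.trans le_sup_right)
        rintro _ ⟨u, hu, rfl⟩
        show r * u * r⁻¹ ∈ _
        rw [show r * u * r⁻¹ = ⁅r, u⁆ * u by simp only [commutatorElement_def]; group]
        exact mul_mem (Subgroup.mem_sup_right (hRU (Subgroup.commutator_mem_commutator hr hu)))
          (Subgroup.mem_sup_left hu)
      · have h1 : t ∈ Subgroup.normalizer (U0 : Set G) :=
          Subgroup.inf_normalizer_le_normalizer_inf ⟨Subgroup.le_normalizer ht, hJN (hT.1 ht)⟩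
        rw [← LocalEven.cj_eq_self_iff, LocalEven.cj, Subgroup.map_sup]
        change LocalEven.cj t U0 ⊔ LocalEven.cj t U = _
        rw [LocalEven.cj_eq_self_iff.mpr h1, LocalEven.cj_eq_self_iff.mpr (hJU (hT.1 ht))]
    have hUop : U0 ≤ LocalEven.op p J := le_sup_left.trans (LocalEven.le_op hUJ hnorm
      ((hT.2.1.to_le inf_le_left).to_sup_of_normal_right' (LocalEven.isPGroup_op H) (hU0J.trans hJU)))
    -- all p-elements of N lie in O_p(J)
    rw [LocalEven.isPClosed_normal_iff]
    intro x hxN hk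
    obtain ⟨k, hk⟩ := hk
    have hzp : IsPGroup p ↥(Subgroup.zpowers (x : G)) :=
      IsPGroup.of_card (n := k) (by rw [Nat.card_zpowers, Subgroup.orderOf_coe, hk])
    obtain ⟨c, hc, hcle⟩ := hT.conj_le hzp (Subgroup.zpowers_le.mpr x.2)
    have h2 : c * (x : G) * c⁻¹ ∈ U0 :=
      Subgroup.mem_inf.mpr ⟨hcle ⟨x, Subgroup.mem_zpowers _, rfl⟩,
        (Subgroup.mem_normalizer_iff.mp (hJN hc) _).mp ⟨x, hxN, rfl⟩⟩
    have h3 : (x : G) ∈ LocalEven.op p J :=
      (Subgroup.mem_normalizer_iff.mp (LocalEven.map_pCore_normalized J hc) _).mpr (hUop h2)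
    obtain ⟨y, hy, he⟩ := h3
    rwa [Subtype.ext (a1 := y) (a2 := x) he] at hy


end Cfsg.Agent.S2854
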