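import Cfsg.Statements.S2855
import Cfsg.Agent.LocalEven.OrbitIrreducible

set_option autoImplicit false
open Cfsg

namespace Cfsg.Agent.S2855

/-- Let H be a finite group, p a prime, and 𝒦 a nonempty set of subgroups of H permuted transitively by conjugation, with R the subgroup generated by the members of 𝒦. Suppose O^p(H) ≤ R, each E ∈ 𝒦 has E·O_p(H) normal in R·O_p(H), and each E ∈ 𝒦 is p-minimal (generated by the conjugates of a Sylow p-subgroup T_E of E, with T_E in exactly one maximal subgroup of E). Then H is p-minimal in the same sense. If instead each E ∈ 𝒦 is strongly p-irreducible, then H is p-irreducible and, for E, K ∈ 𝒦, either O^p(E·O_p(H)) = O^p(K·O_p(H)) or [E, K] ≤ O_p(H). -/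
theorem result {H : Type*} [Group H] [Finite H] {p : ℕ} [Fact p.Prime] (𝒦 : Set (Subgroup H)) (hne : 𝒦.Nonempty) (hinv : ∀ h : H, ∀ E ∈ 𝒦, E.map (MulAut.conj h).toMonoidHom ∈ 𝒦) (htr : ∀ E ∈ 𝒦, ∀ K ∈ 𝒦, ∃ h : H, K = E.map (MulAut.conj h).toMonoidHom) (hres : Cfsg.pResidual p H ≤ sSup 𝒦) (hnorm : ∀ E ∈ 𝒦, sSup 𝒦 ⊔ Cfsg.pCore p H ≤ Subgroup.normalizer ((E ⊔ Cfsg.pCore p H : Subgroup H) : Set H)) : ((∀ E ∈ 𝒦, ∀ T : Sylow p ↥E, Cfsg.IsMinimalOver (T : Subgroup ↥E)) → ∀ T : Sylow p H, Cfsg.IsMinimalOver (T : Subgroup H)) ∧ ((∀ E ∈ 𝒦, Cfsg.IsStronglyPIrreducible p ↥E) → Cfsg.IsPIrreducible p H ∧ ∀ E ∈ 𝒦, ∀ K ∈ 𝒦, (Cfsg.pResidual p ↥(E ⊔ Cfsg.pCore p H)).map (E ⊔ Cfsg.pCore p H).subtype = (Cfsg.pResidual p ↥(K ⊔ Cfsg.pCore p H)).map (K ⊔ Cfsg.pCore p H).subtype ∨ ⁅E, K⁆ ≤ Cfsg.pCore p H) := by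
  classical
  set D := Cfsg.pCore p H with hD
  haveI hDn : D.Normal := by rw [hD]; infer_instance
  have hDp : IsPGroup p ↥D := Cfsg.Agent.Core.isPGroup_pCore p H
  set K := sSup 𝒦 with hK
  haveI hKn : K.Normal := ⟨fun k hk g => by
    have hle : K ≤ K.comap (MulAut.conj g).toMonoidHom :=
      sSup_le fun E hE e he => (le_sSup (hinv g E hE) : _ ≤ K) ⟨e, he, rfl⟩
    exact hle hk⟩
  have hEK : ∀ E ∈ 𝒦, E ≤ K := fun E hE => le_sSup hE
  have hnF : ∀ E ∈ 𝒦, K ≤ Subgroup.normalizer ((E ⊔ D : Subgroup H) : Set H) := fun E hE => le_sup_left.trans (hnorm E hE)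
  have hDc : ∀ h : H, D.map (MulAut.conj h).toMonoidHom = D := fun h =>
    Subgroup.mem_normalizer_iff_map_conj_eq.mp (by rw [Subgroup.normalizer_eq_top (H := D)]; trivial)
  have hFc : ∀ (E : Subgroup H) (h : H), (E ⊔ D).map (MulAut.conj h).toMonoidHom = E.map (MulAut.conj h).toMonoidHom ⊔ D := by
    intro E h
    rw [Subgroup.map_sup, hDc]
  constructor
  · intro hmin T
    have hDT : D ≤ (T : Subgroup H) := Cfsg.Agent.Core.pCore_le_sylow T
    have hKT : K ⊔ (T : Subgroup H) = ⊤ := by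
      rw [← Subgroup.index_eq_one]
      obtain ⟨k, hk⟩ := IsPGroup.iff_card.mp (Cfsg.Agent.Core.pResidual_le_iff.mp hres)
      have h1 : (K ⊔ (T : Subgroup H)).index ∣ p ^ k := by
        rw [← hk, ← Subgroup.index_eq_card]; exact Subgroup.index_dvd_of_le le_sup_left
      have h2 : (K ⊔ (T : Subgroup H)).index ∣ (T : Subgroup H).index := Subgroup.index_dvd_of_le le_sup_right
      exact Nat.eq_one_of_dvd_coprimes (((Fact.out : p.Prime).coprime_iff_not_dvd.mpr T.not_dvd_index).pow_left k) h1 h2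
    have hdec : ∀ h : H, ∃ k ∈ K, ∃ t ∈ (T : Subgroup H), h = k * t := by
      intro h
      have hh : h ∈ ((K ⊔ (T : Subgroup H) : Subgroup H) : Set H) := by rw [hKT]; trivial
      rw [Subgroup.normal_mul] at hh
      obtain ⟨k, hk, t, ht, rfl⟩ := Set.mem_mul.mp hh
      exact ⟨k, hk, t, ht, rfl⟩
    have htop : ∀ R : Subgroup H, R ≤ (⊤ : Subgroup H) → IsPGroup p ↥R → ∃ m ∈ (⊤ : Subgroup H), ∀ r ∈ R, m * r * m⁻¹ ∈ (T : Subgroup H) := by
      intro R _ hR
      obtain ⟨S, hS⟩ := hR.exists_le_sylow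
      obtain ⟨g, hg⟩ := MulAction.exists_smul_eq H S T
      exact ⟨g, trivial, fun r hr => by rw [← hg, Sylow.coe_subgroup_smul]; exact ⟨r, hS hr, rfl⟩⟩
    have hKD : (K ⊔ D).Normal := inferInstance
    have spec : ∀ E ∈ 𝒦, ∀ R : Subgroup H, R ≤ E → IsPGroup p ↥R → ∃ e ∈ E, ∀ r ∈ R, e * r * e⁻¹ ∈ (T : Subgroup H) ⊓ E := by
      intro E hE R hRE hR
      have h1 := Cfsg.Agent.LocalEven.OrbitIrr.sylow_inf_spec ⊤ (T : Subgroup H) htop T.2 (X := K ⊔ D) le_top
        (by rw [Subgroup.normalizer_eq_top (H := K ⊔ D)])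
      obtain ⟨m, hm, hmr⟩ := Cfsg.Agent.LocalEven.OrbitIrr.sylow_inf_spec (K ⊔ D) ((T : Subgroup H) ⊓ (K ⊔ D)) h1
        (T.2.to_le inf_le_left) (X := E ⊔ D) (sup_le_sup_right (hEK E hE) D) (hnorm E hE) R (hRE.trans le_sup_left) hR
      have hm' : m ∈ ((D ⊔ E : Subgroup H) : Set H) := by rw [sup_comm]; exact hm
      rw [Subgroup.normal_mul] at hm'
      obtain ⟨d, hd, e, he, rfl⟩ := Set.mem_mul.mp hm'
      refine ⟨e, he, fun r hr => ⟨?_, E.mul_mem (E.mul_mem he (hRE hr)) (E.inv_mem he)⟩⟩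
      have h2 := (Subgroup.mem_inf.mp (Subgroup.mem_inf.mp (hmr r hr)).1).1
      have h3 := (T : Subgroup H).mul_mem ((T : Subgroup H).mul_mem ((T : Subgroup H).inv_mem (hDT hd)) h2) (hDT hd)
      rwa [show d⁻¹ * (d * e * r * (d * e)⁻¹) * d = e * r * e⁻¹ by group] at h3
    have hsyl : ∀ E ∈ 𝒦, ∃ P : Sylow p ↥E, (P : Subgroup ↥E).map E.subtype = (T : Subgroup H) ⊓ E := by
      intro E hE
      obtain ⟨P, hP⟩ := ((T.2.to_le (inf_le_left : (T : Subgroup H) ⊓ E ≤ T)).comap_subtype (K := E)).exists_le_sylow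
      refine ⟨P, (Subgroup.eq_of_le_of_card_ge ?_ ?_).symm⟩
      · intro a ha
        exact ⟨⟨a, (Subgroup.mem_inf.mp ha).2⟩, hP (show (⟨a, (Subgroup.mem_inf.mp ha).2⟩ : ↥E) ∈ ((T : Subgroup H) ⊓ E).subgroupOf E from ha), rfl⟩
      · obtain ⟨m, hm, hmU⟩ := spec E hE _ (Subgroup.map_subtype_le _) (P.2.map _)
        have hinj : Function.Injective (MulAut.conj m).toMonoidHom := (MulAut.conj m).injective
        rw [← Subgroup.card_map_of_injective (K := (P : Subgroup ↥E).map E.subtype) hinj]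
        refine Subgroup.card_le_of_le ?_
        rintro _ ⟨a, ha, rfl⟩
        exact hmU a ha
    let IsW : Subgroup H → Subgroup H → Prop := fun F U =>
      U ≤ F ∧ U ≠ F ∧ (T : Subgroup H) ⊓ F ≤ U ∧ ∀ V : Subgroup H, (T : Subgroup H) ⊓ F ≤ V → V ≤ F → V ≠ F → V ≤ U
    have hWex : ∀ E ∈ 𝒦, ∃ U, IsW (E ⊔ D) U := by
      intro E hE
      obtain ⟨P, hP⟩ := hsyl E hE
      obtain ⟨-, W, ⟨hWc, hPW⟩, huniq⟩ := hmin E hE P
      have hsplit : ∀ f ∈ E ⊔ D, ∃ d ∈ D, ∃ e ∈ E, f = d * e := by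
        intro f hf
        have hf' : f ∈ ((D ⊔ E : Subgroup H) : Set H) := by rw [sup_comm]; exact hf
        rw [Subgroup.normal_mul] at hf'
        obtain ⟨d, hd, e, he, rfl⟩ := Set.mem_mul.mp hf'
        exact ⟨d, hd, e, he, rfl⟩
      have hTE : ∀ e, e ∈ (T : Subgroup H) → e ∈ E → e ∈ W.map E.subtype := by
        intro e he1 he2
        obtain ⟨a, ha, hae⟩ := hP.ge ⟨he1, he2⟩
        exact ⟨a, hPW ha, hae⟩
      refine ⟨W.map E.subtype ⊔ D, sup_le_sup_right (Subgroup.map_subtype_le _) D, ?_, ?_, ?_⟩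
      · intro heq
        apply hWc.1
        rw [eq_top_iff]
        intro e _
        have he : (e : H) ∈ ((W.map E.subtype ⊔ D : Subgroup H) : Set H) := by rw [heq]; exact Subgroup.mem_sup_left e.2
        rw [Subgroup.mul_normal] at he
        obtain ⟨_, ⟨w, hw, rfl⟩, d, hd, hwd⟩ := Set.mem_mul.mp he
        have hdE : d ∈ E := by
          have h5 := E.mul_mem (E.inv_mem w.2) e.2
          rw [← hwd, Subgroup.coe_subtype, inv_mul_cancel_left] at h5
          exact h5
        obtain ⟨w', hw', hw'd⟩ := hTE d (hDT hd) hdE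
        have : e = w * w' := Subtype.ext (by rw [Subgroup.coe_mul, ← hwd, ← hw'd]; rfl)
        rw [this]; exact W.mul_mem hw hw'
      · intro f hf
        obtain ⟨d, hd, e, he, rfl⟩ := hsplit f hf.2
        refine Subgroup.mul_mem _ (Subgroup.mem_sup_right hd) (Subgroup.mem_sup_left (hTE e ?_ he))
        have := (T : Subgroup H).mul_mem ((T : Subgroup H).inv_mem (hDT hd)) hf.1
        rwa [inv_mul_cancel_left] at this
      · intro V hTV hVF hVne
        have hDV : D ≤ V := fun d hd => hTV ⟨hDT hd, Subgroup.mem_sup_right hd⟩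
        have hne' : V.subgroupOf E ≠ ⊤ := fun h => hVne (le_antisymm hVF (sup_le (Subgroup.subgroupOf_eq_top.mp h) hDV))
        obtain ⟨W', hW', hVW'⟩ := (eq_top_or_exists_le_coatom (V.subgroupOf E)).resolve_left hne'
        have hW'W : W' = W := huniq W' ⟨hW', fun a ha => hVW' (show (a : H) ∈ V from hTV (by
          have h5 : (a : H) ∈ (T : Subgroup H) ⊓ E := hP ▸ ⟨a, ha, rfl⟩
          exact ⟨h5.1, Subgroup.mem_sup_left h5.2⟩))⟩
        intro v hv
        obtain ⟨d, hd, e, he, rfl⟩ := hsplit v (hVF hv)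
        refine Subgroup.mul_mem _ (Subgroup.mem_sup_right hd) (Subgroup.mem_sup_left ⟨⟨e, he⟩, ?_, rfl⟩)
        rw [← hW'W]
        refine hVW' (show e ∈ V from ?_)
        have := V.mul_mem (V.inv_mem (hDV hd)) hv
        rwa [inv_mul_cancel_left] at this
    have hWu : ∀ F U U', IsW F U → IsW F U' → U = U' := fun F U U' h h' =>
      le_antisymm (h'.2.2.2 U h.2.2.1 h.1 h.2.1) (h.2.2.2 U' h'.2.2.1 h'.1 h'.2.1)
    let R : Subgroup H :=
      { carrier := {h | ∀ E ∈ 𝒦, ∀ U, IsW (E ⊔ D) U → IsW ((E ⊔ D).map (MulAut.conj h).toMonoidHom) (U.map (MulAut.conj h).toMonoidHom)}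
        one_mem' := fun E _ U hU => by
          have h1 : ∀ X : Subgroup H, X.map (MulAut.conj (1 : H)).toMonoidHom = X := fun X => by ext a; simp
          rw [h1, h1]; exact hU
        mul_mem' := fun {a b} ha hb E hE U hU => by
          have h1 : ∀ X : Subgroup H, X.map (MulAut.conj (a * b)).toMonoidHom =
              (X.map (MulAut.conj b).toMonoidHom).map (MulAut.conj a).toMonoidHom := fun X => by
            rw [Subgroup.map_map]; congr 1; ext y; simp [mul_assoc]
          have h2 := hb E hE U hU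
          rw [hFc] at h2
          have h3 := ha _ (hinv b E hE) _ h2
          rw [h1, h1, hFc]; exact h3
        inv_mem' := fun {a} ha => by
          have hpow : ∀ n : ℕ, ∀ E ∈ 𝒦, ∀ U, IsW (E ⊔ D) U → IsW ((E ⊔ D).map (MulAut.conj (a ^ n)).toMonoidHom) (U.map (MulAut.conj (a ^ n)).toMonoidHom) := by
            intro n
            induction n with
            | zero =>
              intro E _ U hU
              have h1 : ∀ X : Subgroup H, X.map (MulAut.conj (a ^ 0)).toMonoidHom = X := fun X => by ext y; simp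
              rw [h1, h1]; exact hU
            | succ n ih =>
              intro E hE U hU
              have h1 : ∀ X : Subgroup H, X.map (MulAut.conj (a ^ (n + 1))).toMonoidHom =
                  (X.map (MulAut.conj a).toMonoidHom).map (MulAut.conj (a ^ n)).toMonoidHom := fun X => by
                rw [Subgroup.map_map]; congr 1; ext y; simp [pow_succ, mul_assoc]
              have h2 := ha E hE U hU
              rw [hFc] at h2
              have h3 := ih _ (hinv a E hE) _ h2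
              rw [h1, h1, hFc]; exact h3
          have hinv' : a⁻¹ = a ^ (orderOf a - 1) := inv_eq_of_mul_eq_one_right (by
            rw [← pow_succ', Nat.sub_add_cancel (orderOf_pos a), pow_orderOf_eq_one])
          rw [hinv']
          exact hpow _ }
    have hTR : (T : Subgroup H) ≤ R := by
      intro t ht E hE U hU
      obtain ⟨h1, h2, h3, h4⟩ := hU
      refine ⟨Subgroup.map_mono h1, fun h => h2 (Subgroup.map_injective (MulAut.conj t).injective h), ?_, ?_⟩
      · rintro _ ⟨hy, f, hf, rfl⟩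
        refine ⟨f, h3 ⟨?_, hf⟩, rfl⟩
        have h5 : t * f * t⁻¹ ∈ (T : Subgroup H) := hy
        have := (T : Subgroup H).mul_mem ((T : Subgroup H).mul_mem ((T : Subgroup H).inv_mem ht) h5) ht
        rwa [show t⁻¹ * (t * f * t⁻¹) * t = f by group] at this
      · intro V hTV hVF hVne
        set V' := V.comap (MulAut.conj t).toMonoidHom with hV'
        have hback : V'.map (MulAut.conj t).toMonoidHom = V :=
          Subgroup.map_comap_eq_self_of_surjective (MulAut.conj t).surjective V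
        rw [← hback]
        refine Subgroup.map_mono (h4 V' ?_ ?_ ?_)
        · intro f hf
          exact hTV ⟨(T : Subgroup H).mul_mem ((T : Subgroup H).mul_mem ht hf.1) ((T : Subgroup H).inv_mem ht), f, hf.2, rfl⟩
        · intro f hf
          obtain ⟨f', hf', hff⟩ := hVF (show (MulAut.conj t) f ∈ V from hf)
          rwa [← (MulAut.conj t).injective hff]
        · intro h
          exact hVne (by rw [← hback, h])
    have hMR : ∀ M : Subgroup H, (T : Subgroup H) ≤ M → M ≠ ⊤ → M ≤ R := by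
      intro M hTM hM x hx
      have hprop : ∀ E ∈ 𝒦, ¬ E ⊔ D ≤ M := by
        intro E hE hle
        refine hM (top_le_iff.mp (hKT.ge.trans (sup_le (sSup_le fun E' hE' => ?_) hTM)))
        obtain ⟨h, rfl⟩ := htr E hE E' hE'
        obtain ⟨k, hk, t, ht, rfl⟩ := hdec h
        intro y hy
        obtain ⟨e, he, rfl⟩ := hy
        -- the conjugate by the first factor stays in the product
        have h5 : t * e * t⁻¹ ∈ E.map (MulAut.conj t).toMonoidHom ⊔ D := Subgroup.mem_sup_left ⟨e, he, rfl⟩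
        have h6 := (Subgroup.mem_normalizer_iff.mp (hnF _ (hinv t E hE) hk) _).mp h5
        rw [show k * (t * e * t⁻¹) * k⁻¹ = (k * t) * e * (k * t)⁻¹ by group, ← hFc] at h6
        obtain ⟨f, hf, hfe⟩ := h6
        show (k * t) * e * (k * t)⁻¹ ∈ M
        rw [← hfe]
        exact M.mul_mem (M.mul_mem (hTM ht) (hle hf)) (M.inv_mem (hTM ht))
      obtain ⟨k, hk, t, ht, rfl⟩ := hdec x
      refine R.mul_mem ?_ (hTR ht)
      have hkM : k ∈ M := by
        have := M.mul_mem hx (M.inv_mem (hTM ht))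
        rwa [mul_inv_cancel_right] at this
      intro E hE U hU
      have hFk : (E ⊔ D).map (MulAut.conj k).toMonoidHom = E ⊔ D :=
        Subgroup.mem_normalizer_iff_map_conj_eq.mp (hnF E hE hk)
      have hMU : M ⊓ (E ⊔ D) ≤ U := hU.2.2.2 _ (le_inf (inf_le_left.trans hTM) inf_le_right) inf_le_right
        (fun h => hprop E hE (h ▸ inf_le_left))
      have hUk : (T : Subgroup H) ⊓ (E ⊔ D) ≤ U.map (MulAut.conj k).toMonoidHom := by
        intro y hy
        refine ⟨k⁻¹ * y * k, hMU ⟨M.mul_mem (M.mul_mem (M.inv_mem hkM) (hTM hy.1)) hkM, ?_⟩, ?_⟩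
        · have := (Subgroup.mem_normalizer_iff.mp ((Subgroup.normalizer ((E ⊔ D : Subgroup H) : Set H)).inv_mem (hnF E hE hk)) y).mp hy.2
          rwa [inv_inv] at this
        · show k * (k⁻¹ * y * k) * k⁻¹ = y
          group
      have hUkF : U.map (MulAut.conj k).toMonoidHom ≤ E ⊔ D := (Subgroup.map_mono hU.1).trans hFk.le
      have hinj : Function.Injective (MulAut.conj k).toMonoidHom := (MulAut.conj k).injective
      have hcard : Nat.card ↥(U.map (MulAut.conj k).toMonoidHom) = Nat.card ↥U := Subgroup.card_map_of_injective hinj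
      have hUeq : U.map (MulAut.conj k).toMonoidHom = U := by
        refine Subgroup.eq_of_le_of_card_ge (hU.2.2.2 _ hUk hUkF fun h => ?_) hcard.ge
        rw [← hFk] at h
        exact hU.2.1 (Subgroup.map_injective hinj h)
      rw [hFk, hUeq]; exact hU
    obtain ⟨E₀, hE₀⟩ := hne
    obtain ⟨U, hU⟩ := hWex E₀ hE₀
    obtain ⟨P, hP⟩ := hsyl E₀ hE₀
    have hncl := (hmin E₀ hE₀ P).1
    have hRtop : R ≠ ⊤ := by
      intro h
      have hEN : ∀ e ∈ E₀, U.map (MulAut.conj e).toMonoidHom = U := by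
        intro e he
        have h1 := (h ▸ Subgroup.mem_top e : e ∈ R) E₀ hE₀ U hU
        have hfix : (E₀ ⊔ D).map (MulAut.conj e).toMonoidHom = E₀ ⊔ D :=
          Subgroup.mem_normalizer_iff_map_conj_eq.mp (Subgroup.le_normalizer (Subgroup.mem_sup_left he : e ∈ E₀ ⊔ D))
        rw [hfix] at h1
        exact hWu _ _ _ h1 hU
      haveI : (U.subgroupOf E₀).Normal := ⟨fun a ha e => by
        show (e : H) * (a : H) * (e : H)⁻¹ ∈ U
        rw [← hEN e e.2]
        exact ⟨a, ha, rfl⟩⟩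
      have hE₀U : E₀ ≤ U := Subgroup.subgroupOf_eq_top.mp (top_le_iff.mp (hncl.ge.trans (Subgroup.normalClosure_le_normal fun a ha => by
        have h5 : (a : H) ∈ (T : Subgroup H) ⊓ E₀ := hP ▸ ⟨a, ha, rfl⟩
        exact hU.2.2.1 ⟨h5.1, Subgroup.mem_sup_left h5.2⟩)))
      exact hU.2.1 (le_antisymm hU.1 (sup_le hE₀U ((le_inf hDT le_sup_right).trans hU.2.2.1)))
    refine ⟨?_, R, ?_, ?_⟩
    · refine top_le_iff.mp (hKT.ge.trans (sup_le (sSup_le fun E hE => ?_) fun t ht => Subgroup.subset_normalClosure ht))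
      obtain ⟨P', hP'⟩ := hsyl E hE
      have : (Subgroup.normalClosure ((P' : Subgroup ↥E) : Set ↥E)) ≤ (Subgroup.normalClosure ((T : Subgroup H) : Set H)).comap E.subtype :=
        Subgroup.normalClosure_le_normal fun a ha => Subgroup.subset_normalClosure (show (a : H) ∈ (T : Subgroup H) from
          (hP' ▸ ⟨a, ha, rfl⟩ : (a : H) ∈ (T : Subgroup H) ⊓ E).1)
      intro e he
      exact this ((hmin E hE P').1.ge (Subgroup.mem_top ⟨e, he⟩))
    · obtain ⟨M, hM, hRM⟩ := (eq_top_or_exists_le_coatom R).resolve_left hRtop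
      have heq : M = R := le_antisymm (hMR M (hTR.trans hRM) hM.1) hRM
      exact ⟨heq ▸ hM, hTR⟩
    · rintro M ⟨hM, hTM⟩
      exact (hM.le_iff.mp (hMR M hTM hM.1)).resolve_left hRtop |>.symm
  · intro hsp
    set π := QuotientGroup.mk' D with hπ
    have hπ1 : ∀ x : H, π x = 1 ↔ x ∈ D := fun x => QuotientGroup.eq_one_iff x
    set Kb := K.map π with hKb
    haveI : Kb.Normal := hKn.map π (QuotientGroup.mk'_surjective D)
    have hQ0 : Cfsg.pCore p (H ⧸ D) = ⊥ := Cfsg.Agent.Core.pCore_quotient_pCore p H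
    have hbnorm : ∀ E ∈ 𝒦, Kb ≤ Subgroup.normalizer ((E.map π : Subgroup (H ⧸ D)) : Set (H ⧸ D)) := by
      intro E hE
      have hmapF : (E ⊔ D).map π = E.map π := by rw [Subgroup.map_sup, hπ, QuotientGroup.map_mk'_self, sup_bot_eq]
      rw [← hmapF]
      exact (Subgroup.map_mono (hnF E hE)).trans (Subgroup.le_normalizer_map π)
    have hEKb : ∀ E ∈ 𝒦, E.map π ≤ Kb := fun E hE => Subgroup.map_mono (hEK E hE)
    have hL0 : ∀ E ∈ 𝒦, ∀ L : Subgroup (H ⧸ D), L ≤ E.map π → E.map π ≤ Subgroup.normalizer (L : Set (H ⧸ D)) →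
        IsPGroup p ↥L → L = ⊥ := by
      intro E hE L hLE hEL hLp
      haveI : ((E.map π).subgroupOf Kb).Normal := Subgroup.normal_subgroupOf_of_le_normalizer (hbnorm E hE)
      have hK0 : Cfsg.pCore p ↥Kb = ⊥ := Cfsg.Agent.Core.pCore_eq_bot_of_normal Kb hQ0
      have hE0 := Cfsg.Agent.Core.pCore_eq_bot_of_normal ((E.map π).subgroupOf Kb) hK0
      have h2 : (L.subgroupOf Kb).subgroupOf ((E.map π).subgroupOf Kb) ≤ Cfsg.pCore p _ :=
        Cfsg.Agent.Core.le_pCore ⟨fun a ha b => (Subgroup.mem_normalizer_iff.mp (hEL (show (((b : ↥((E.map π).subgroupOf Kb)) : ↥Kb) : H ⧸ D) ∈ E.map π from b.2)) _).mp ha⟩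
          hLp.comap_subtype.comap_subtype
      rw [eq_bot_iff]
      intro l hl
      have h3 := h2 (x := ⟨⟨l, hEKb E hE (hLE hl)⟩, hLE hl⟩) hl
      rw [hE0, Subgroup.mem_bot] at h3
      exact Subgroup.mem_bot.mpr (congrArg (fun t : ↥((E.map π).subgroupOf Kb) => ((t : ↥Kb) : H ⧸ D)) h3)
    have hp0 : ∀ E ∈ 𝒦, ∀ e ∈ E.map π, (∃ k, orderOf e = p ^ k) → (∀ f ∈ E.map π, f * e = e * f) → e = 1 := by
      intro E hE e he hek hec
      refine Subgroup.zpowers_eq_bot.mp (hL0 E hE _ (Subgroup.zpowers_le.mpr he) ?_ ?_)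
      · intro f hf
        refine Subgroup.centralizer_le_normalizer _ (Subgroup.mem_centralizer_iff.mpr ?_)
        intro a ha
        obtain ⟨i, rfl⟩ := Subgroup.mem_zpowers_iff.mp ha
        exact ((show Commute f e from hec f hf).zpow_right i).eq.symm
      · obtain ⟨k, hk⟩ := hek
        exact IsPGroup.of_card (n := k) (by rw [Nat.card_zpowers, hk])
    have hpimg : ∀ x : H, (∃ k, orderOf x = p ^ k) → ∃ k, orderOf (π x) = p ^ k := by
      rintro x ⟨k, hk⟩
      obtain ⟨j, -, hj⟩ := (Nat.dvd_prime_pow (Fact.out : p.Prime)).mp (hk ▸ orderOf_map_dvd π x)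
      exact ⟨j, hj⟩
    have hcl : ∀ E ∈ 𝒦, ∃ e ∈ E.map π, (∃ k, orderOf e = p ^ k) ∧ e ≠ 1 := by
      intro E hE
      by_contra hcon
      push Not at hcon
      refine (hsp E hE).1 (Cfsg.Agent.LocalEven.isPClosed_iff.mpr fun x hx => ?_)
      have h1 : π (x : H) = 1 := hcon _ (Subgroup.mem_map_of_mem π x.2) (hpimg _ (by rwa [Subgroup.orderOf_coe]))
      exact Cfsg.Agent.Core.le_pCore (N := D.subgroupOf E) inferInstance hDp.comap_subtype ((hπ1 _).mp h1)
    have hirr : ∀ E ∈ 𝒦, ∀ L : Subgroup (H ⧸ D), L ≤ E.map π → E.map π ≤ Subgroup.normalizer (L : Set (H ⧸ D)) →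
        (∀ l ∈ L, ∀ e ∈ E.map π, e * l = l * e) ∨ ∀ e ∈ E.map π, (orderOf e).Coprime p → e ∈ L := by
      intro E hE L hLE hEL
      set N := (L.comap π).subgroupOf E with hN
      haveI hNn : N.Normal := ⟨fun a ha b => by
        show π ((b : H) * (a : H) * (b : H)⁻¹) ∈ L
        rw [map_mul, map_mul, map_inv]
        exact (Subgroup.mem_normalizer_iff.mp (hEL (Subgroup.mem_map_of_mem π b.2)) _).mp ha⟩
      by_cases hc : ⁅N, (⊤ : Subgroup ↥E)⁆ ≤ Cfsg.pCore p ↥E
      · left
        have hzero : ∀ a ∈ Cfsg.pCore p ↥E, π (a : H) = 1 := by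
          intro a ha
          have hbot := hL0 E hE (((Cfsg.pCore p ↥E).map E.subtype).map π)
            (Subgroup.map_mono (Subgroup.map_subtype_le _)) ?_ (((Cfsg.Agent.Core.isPGroup_pCore p ↥E).map _).map _)
          · exact Subgroup.mem_bot.mp (hbot ▸ Subgroup.mem_map_of_mem π (Subgroup.mem_map_of_mem E.subtype ha))
          · rintro _ ⟨f, hf, rfl⟩
            refine Subgroup.mem_normalizer_fintype ?_
            rintro _ ⟨_, ⟨b, hb, rfl⟩, rfl⟩
            refine ⟨_, ⟨⟨f, hf⟩ * b * ⟨f, hf⟩⁻¹, (inferInstance : (Cfsg.pCore p ↥E).Normal).conj_mem b hb _, rfl⟩, ?_⟩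
            show π (f * (b : H) * f⁻¹) = π f * π (b : H) * (π f)⁻¹
            rw [map_mul, map_mul, map_inv]
        intro l hl e he
        obtain ⟨a, ha, rfl⟩ := hLE hl
        obtain ⟨b, hb, rfl⟩ := he
        have h1 := hzero _ (hc (Subgroup.commutator_mem_commutator (show (⟨a, ha⟩ : ↥E) ∈ N from hl) (Subgroup.mem_top ⟨b, hb⟩)))
        rw [commutatorElement_def] at h1
        simp only [Subgroup.coe_mul, Subgroup.coe_inv, map_mul, map_inv] at h1
        exact (commutatorElement_eq_one_iff_mul_comm.mp (by rw [commutatorElement_def]; exact h1)).symm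
      · right
        have hres' := (hsp E hE).2 N hNn hc
        intro q hq hqp
        obtain ⟨e, he, rfl⟩ := hq
        obtain ⟨k, hk⟩ := Cfsg.Agent.Core.exists_pow_mem_pResidual (p := p) (⟨e, he⟩ : ↥E)
        have h1 : π e ^ p ^ k ∈ L := by rw [← map_pow]; exact hres' hk
        obtain ⟨i, hi⟩ := exists_pow_eq_self_of_coprime (x := π e) (n := p ^ k) (hqp.symm.pow_left k)
        rw [← hi]
        exact L.pow_mem h1 i
    have hcentral : ∀ E ∈ 𝒦, ∀ (Y : Set (H ⧸ D)) (Z : Subgroup (H ⧸ D)), (∀ z ∈ Z, ∀ e ∈ E.map π, e * z = z * e) →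
        (∀ z ∈ Z, (∃ k, orderOf z = p ^ k) → z = 1) → (∀ y ∈ Y, ∀ e ∈ E.map π, y * e * y⁻¹ * e⁻¹ ∈ Z) →
        ∀ y ∈ Y, ∀ e ∈ E.map π, y * e = e * y := fun E hE Y Z h1 h2 h3 =>
      Cfsg.Agent.LocalEven.OrbitIrr.centralize_of_central Y (hirr E hE) (hp0 E hE) (hcl E hE) Z h1 h2 h3
    refine ⟨⟨?_, ?_⟩, ?_⟩
    · intro hclosed
      obtain ⟨E, hE⟩ := hne
      obtain ⟨e, he, hek, he1⟩ := hcl E hE
      obtain ⟨x, hx, rfl⟩ := he
      -- all p-elements of the quotient are trivial
      have h := Cfsg.Agent.LocalEven.isPClosed_iff.mp ((Cfsg.Agent.LocalEven.isPClosed_quotient_iff hDp).mpr hclosed) _ hek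
      rw [hQ0, Subgroup.mem_bot] at h
      exact he1 h
    · intro N hNn hNcl
      haveI := hNn
      set Nb := N.map π with hNb
      haveI : Nb.Normal := hNn.map π (QuotientGroup.mk'_surjective D)
      by_cases hA : ∃ E ∈ 𝒦, ∀ e ∈ E.map π, (orderOf e).Coprime p → e ∈ Nb
      · obtain ⟨E, hE, hEN⟩ := hA
        have hall : ∀ E' ∈ 𝒦, ∀ e ∈ E'.map π, (orderOf e).Coprime p → e ∈ Nb := by
          intro E' hE' e he hep
          obtain ⟨g, rfl⟩ := htr E hE E' hE'
          obtain ⟨_, ⟨a, ha, rfl⟩, rfl⟩ := he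
          have h1 : π (g * a * g⁻¹) = π g * π a * (π g)⁻¹ := by rw [map_mul, map_mul, map_inv]
          show π (g * a * g⁻¹) ∈ Nb
          rw [h1]
          refine (inferInstance : Nb.Normal).conj_mem _ (hEN _ (Subgroup.mem_map_of_mem π ha) ?_) _
          rw [show orderOf (π a) = orderOf (π g * π a * (π g)⁻¹) from
            (MulEquiv.orderOf_eq (MulAut.conj (π g)) (π a)).symm, ← h1]
          exact hep
        refine Cfsg.Agent.LocalEven.pResidual_le_of_le_sup hDp ?_
        refine (Subgroup.closure_le _).mpr fun x hx => ?_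
        set ψ := QuotientGroup.mk' Nb with hψ
        have hKψ : Kb.map ψ ≤ Cfsg.pCore p ((H ⧸ D) ⧸ Nb) := by
          rw [hKb, hK, Subgroup.map_map, Subgroup.map_le_iff_le_comap]
          refine sSup_le fun E' hE' => ?_
          rw [← Subgroup.map_le_iff_le_comap, ← Subgroup.map_map]
          haveI : (Kb.map ψ).Normal := (inferInstance : Kb.Normal).map ψ (QuotientGroup.mk'_surjective Nb)
          have hEp : IsPGroup p ↥((E'.map π).map ψ) := by
            rintro ⟨_, ⟨e, he, rfl⟩⟩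
            obtain ⟨k, hk⟩ : ∃ k, (orderOf (e ^ p ^ k)).Coprime p := by
              refine ⟨(orderOf e).factorization p, ?_⟩
              rw [orderOf_pow_of_dvd (pow_ne_zero _ (Fact.out : p.Prime).ne_zero) (Nat.ordProj_dvd _ _)]
              exact (Nat.coprime_ordCompl (Fact.out : p.Prime) (orderOf_pos e).ne').symm
            refine ⟨k, Subtype.ext ?_⟩
            show ψ e ^ p ^ k = 1
            rw [← map_pow]
            exact (QuotientGroup.eq_one_iff _).mpr (hall E' hE' _ (Subgroup.pow_mem _ he _) hk)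
          have hle : (E'.map π).map ψ ≤ Kb.map ψ := Subgroup.map_mono (hEKb E' hE')
          haveI : (((E'.map π).map ψ).subgroupOf (Kb.map ψ)).Normal := Subgroup.normal_subgroupOf_of_le_normalizer
            ((Subgroup.map_mono (hbnorm E' hE')).trans (Subgroup.le_normalizer_map ψ))
          have h1 := Cfsg.Agent.Core.le_pCore (N := ((E'.map π).map ψ).subgroupOf (Kb.map ψ)) inferInstance hEp.comap_subtype
          have h2 : (Cfsg.pCore p ↥(Kb.map ψ)).map (Kb.map ψ).subtype ≤ Cfsg.pCore p ((H ⧸ D) ⧸ Nb) := by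
            rw [Cfsg.Agent.Core.map_pCore_subtype]; exact inf_le_left
          exact fun y hy => h2 ⟨⟨y, hle hy⟩, h1 hy, rfl⟩
        have hxK : x ∈ K := hres (Subgroup.subset_closure hx)
        have h1 : ψ (π x) = 1 := by
          obtain ⟨k, hk⟩ := IsPGroup.iff_orderOf.mp (Cfsg.Agent.Core.isPGroup_pCore p ((H ⧸ D) ⧸ Nb))
            ⟨_, hKψ (Subgroup.mem_map_of_mem ψ (Subgroup.mem_map_of_mem π hxK))⟩
          rw [Subgroup.orderOf_mk] at hk
          rw [← orderOf_eq_one_iff]
          exact Nat.eq_one_of_dvd_coprimes (Nat.Coprime.pow_right k hx)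
            ((orderOf_map_dvd ψ _).trans (orderOf_map_dvd π x)) (dvd_of_eq hk)
        have h2 : x ∈ Nb.comap π := Subgroup.mem_comap.mpr ((QuotientGroup.eq_one_iff (π x)).mp h1)
        rw [hNb, Subgroup.comap_map_eq, hπ, QuotientGroup.ker_mk'] at h2
        exact h2
      · exfalso
        push Not at hA
        have hcomm : ∀ E ∈ 𝒦, ∀ l ∈ Nb ⊓ E.map π, ∀ e ∈ E.map π, e * l = l * e := by
          intro E hE
          rcases hirr E hE (Nb ⊓ E.map π) inf_le_right ((le_inf (by rw [Subgroup.normalizer_eq_top (H := Nb)]; exact le_top) Subgroup.le_normalizer).trans Subgroup.inf_normalizer_le_normalizer_inf) with h | h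
          · exact h
          · exfalso
            obtain ⟨e, he, hep, heN⟩ := hA E hE
            exact heN (h e he hep).1
        set J := Nb ⊓ Kb with hJ
        haveI : J.Normal := by rw [hJ]; infer_instance
        have hcomK : ∀ y : H ⧸ D, (∀ E ∈ 𝒦, ∀ e ∈ E.map π, y * e = e * y) → ∀ k ∈ Kb, y * k = k * y := by
          intro y hy k hk
          have hle : Kb ≤ Subgroup.centralizer ({y} : Set (H ⧸ D)) := by
            rw [hKb, hK, Subgroup.map_le_iff_le_comap]
            exact sSup_le fun E hE e he => Subgroup.mem_centralizer_singleton_iff.mpr (hy E hE _ (Subgroup.mem_map_of_mem π he)).symm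
          exact (Subgroup.mem_centralizer_singleton_iff.mp (hle hk)).symm
        have hmemNb : ∀ y ∈ Nb, ∀ e : H ⧸ D, y * e * y⁻¹ * e⁻¹ ∈ Nb := fun y hy e => by
          rw [show y * e * y⁻¹ * e⁻¹ = y * (e * y⁻¹ * e⁻¹) by group]
          exact Nb.mul_mem hy ((inferInstance : Nb.Normal).conj_mem _ (Nb.inv_mem hy) e)
        have hJc : ∀ y ∈ J, ∀ k ∈ Kb, y * k = k * y := fun y hy => hcomK y fun E hE =>
          hcentral E hE (J : Set (H ⧸ D)) (Nb ⊓ E.map π) (hcomm E hE)
            (fun z hz hzk => hp0 E hE z hz.2 hzk (hcomm E hE z hz))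
            (fun a ha e he => ⟨hmemNb a ha.1 e,
              (E.map π).mul_mem ((Subgroup.mem_normalizer_iff.mp (hbnorm E hE ha.2) e).mp he) ((E.map π).inv_mem he)⟩) y hy
        have hJp : ∀ z ∈ J, (∃ k, orderOf z = p ^ k) → z = 1 := by
          intro z hz hzk
          obtain ⟨k, hk⟩ := hzk
          haveI : IsMulCommutative ↥J := ⟨⟨fun a b => Subtype.ext (hJc a a.2 b (Subgroup.mem_inf.mp b.2).2)⟩⟩
          haveI : (Subgroup.zpowers (⟨z, hz⟩ : ↥J)).Normal := ⟨fun a ha b => by rwa [mul_comm' b a, mul_inv_cancel_right]⟩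
          have h1 : (⟨z, hz⟩ : ↥J) ∈ Cfsg.pCore p ↥J := Cfsg.Agent.Core.le_pCore inferInstance
            (IsPGroup.of_card (n := k) (by rw [Nat.card_zpowers, Subgroup.orderOf_mk, hk])) (Subgroup.mem_zpowers _)
          rw [Cfsg.Agent.Core.pCore_eq_bot_of_normal J hQ0, Subgroup.mem_bot] at h1
          exact congrArg Subtype.val h1
        have hNc : ∀ y ∈ Nb, ∀ k ∈ Kb, y * k = k * y := fun y hy => hcomK y fun E hE =>
          hcentral E hE (Nb : Set (H ⧸ D)) J (fun z hz e he => (hJc z hz e (hEKb E hE he)).symm) hJp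
            (fun a ha e he => ⟨hmemNb a ha e,
              Kb.mul_mem ((inferInstance : Kb.Normal).conj_mem e (hEKb E hE he) a) (Kb.inv_mem (hEKb E hE he))⟩) y hy
        apply hNcl
        rw [← Cfsg.Agent.LocalEven.isPClosed_map_iff hDp]
        intro P
        have hPJ : ∀ n : ↥Nb, ∃ j : ↥Nb, ∃ q ∈ (P : Subgroup ↥Nb), (j : H ⧸ D) ∈ J ∧ n = j * q := by
          intro n
          set J' := J.subgroupOf Nb with hJ'
          haveI : J'.Normal := by rw [hJ']; infer_instance
          have hidx : (J' ⊔ (P : Subgroup ↥Nb)).index = 1 := by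
            have hd1 : (J' ⊔ (P : Subgroup ↥Nb)).index ∣ (P : Subgroup ↥Nb).index := Subgroup.index_dvd_of_le le_sup_right
            have hd2 : (J' ⊔ (P : Subgroup ↥Nb)).index ∣ J'.index := Subgroup.index_dvd_of_le le_sup_left
            have hpq : IsPGroup p (↥Nb ⧸ J') := by
              intro q
              obtain ⟨m, rfl⟩ := QuotientGroup.mk'_surjective J' q
              obtain ⟨x, hx⟩ := QuotientGroup.mk'_surjective D (m : H ⧸ D)
              obtain ⟨k, hk⟩ := Cfsg.Agent.Core.exists_pow_mem_pResidual (p := p) x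
              refine ⟨k, ?_⟩
              rw [← map_pow]
              refine (QuotientGroup.eq_one_iff _).mpr ?_
              show ((m ^ p ^ k : ↥Nb) : H ⧸ D) ∈ J
              refine ⟨(m ^ p ^ k).2, ?_⟩
              rw [Subgroup.coe_pow, ← hx, ← map_pow]
              exact Subgroup.mem_map_of_mem π (hres hk)
            obtain ⟨k, hk⟩ := IsPGroup.iff_card.mp hpq
            rw [← Subgroup.index_eq_card] at hk
            rw [hk] at hd2
            exact Nat.eq_one_of_dvd_coprimes (((Fact.out : p.Prime).coprime_iff_not_dvd.mpr P.not_dvd_index).pow_left k) hd2 hd1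
          have hn : n ∈ ((J' ⊔ (P : Subgroup ↥Nb) : Subgroup ↥Nb) : Set ↥Nb) := by rw [Subgroup.index_eq_one.mp hidx]; trivial
          rw [Subgroup.normal_mul] at hn
          obtain ⟨j, hj, q, hq, rfl⟩ := Set.mem_mul.mp hn
          exact ⟨j, q, hq, hj, rfl⟩
        refine ⟨fun a ha n => ?_⟩
        obtain ⟨j, q, hq, hj, rfl⟩ := hPJ n
        have hconjq : q * a * q⁻¹ ∈ (P : Subgroup ↥Nb) :=
          (P : Subgroup ↥Nb).mul_mem ((P : Subgroup ↥Nb).mul_mem hq ha) ((P : Subgroup ↥Nb).inv_mem hq)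
        have hjc : j * (q * a * q⁻¹) = (q * a * q⁻¹) * j := Subtype.ext
          (hNc _ (q * a * q⁻¹).2 _ (Subgroup.mem_inf.mp hj).2).symm
        rwa [show j * q * a * (j * q)⁻¹ = j * (q * a * q⁻¹) * j⁻¹ by group, hjc, mul_inv_cancel_right]
    · intro E hE K₁ hK₁
      have hres_eq : ∀ X : Subgroup H, (Cfsg.pResidual p ↥X).map X.subtype = Subgroup.closure {g | g ∈ X ∧ (orderOf g).Coprime p} := by
        intro X
        rw [Cfsg.pResidual, MonoidHom.map_closure]
        congr 1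
        ext g
        constructor
        · rintro ⟨a, ha, rfl⟩
          refine ⟨a.2, ?_⟩
          show (orderOf (a : H)).Coprime p
          rw [Subgroup.orderOf_coe]; exact ha
        · rintro ⟨hg, hgp⟩
          exact ⟨⟨g, hg⟩, by show (orderOf _).Coprime p; rw [Subgroup.orderOf_mk]; exact hgp, rfl⟩
      have hstep : ∀ A ∈ 𝒦, ∀ B ∈ 𝒦, (∀ e ∈ A.map π, (orderOf e).Coprime p → e ∈ B.map π) →
          (Cfsg.pResidual p ↥(A ⊔ D)).map (A ⊔ D).subtype = (Cfsg.pResidual p ↥(B ⊔ D)).map (B ⊔ D).subtype := by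
        intro A hA B hB hAB
        rw [hres_eq, hres_eq]
        refine Subgroup.eq_of_le_of_card_ge ?_ ?_
        · refine (Subgroup.closure_le _).mpr fun g hg => Subgroup.subset_closure ⟨?_, hg.2⟩
          have h1 : π g ∈ A.map π := by
            have h0 : π g ∈ (A ⊔ D).map π := Subgroup.mem_map_of_mem π hg.1
            rwa [Subgroup.map_sup, hπ, QuotientGroup.map_mk'_self, sup_bot_eq] at h0
          have h2 : g ∈ (B.map π).comap π := hAB _ h1 (hg.2.coprime_dvd_left (orderOf_map_dvd π g))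
          rwa [Subgroup.comap_map_eq, hπ, QuotientGroup.ker_mk'] at h2
        · obtain ⟨h, rfl⟩ := htr A hA B hB
          have hinj : Function.Injective (MulAut.conj h).toMonoidHom := (MulAut.conj h).injective
          rw [← Subgroup.card_map_of_injective (K := Subgroup.closure {g | g ∈ A ⊔ D ∧ (orderOf g).Coprime p}) hinj]
          refine Subgroup.card_le_of_le ?_
          rw [MonoidHom.map_closure]
          refine Subgroup.closure_mono ?_
          intro g hg
          rw [← hFc] at hg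
          obtain ⟨⟨f, hf, rfl⟩, hg2⟩ := hg
          refine ⟨f, ⟨hf, ?_⟩, rfl⟩
          have ho : orderOf ((MulAut.conj h).toMonoidHom f) = orderOf f := orderOf_injective _ hinj f
          rw [ho] at hg2
          exact hg2
      set L := E.map π ⊓ K₁.map π with hL
      have hLn : ∀ A ∈ 𝒦, A.map π ≤ Subgroup.normalizer (L : Set (H ⧸ D)) := fun A hA =>
        ((hEKb A hA).trans (le_inf (hbnorm E hE) (hbnorm K₁ hK₁))).trans Subgroup.inf_normalizer_le_normalizer_inf
      rcases hirr E hE L inf_le_left (hLn E hE) with h1 | h1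
      swap
      · exact Or.inl (hstep E hE K₁ hK₁ fun e he hep => (h1 e he hep).2)
      rcases hirr K₁ hK₁ L inf_le_right (hLn K₁ hK₁) with h2 | h2
      swap
      · exact Or.inl (hstep K₁ hK₁ E hE fun e he hep => (h2 e he hep).1).symm
      refine Or.inr (Subgroup.commutator_le.mpr fun a ha b hb => (hπ1 _).mp ?_)
      have h3 := hcentral E hE (K₁.map π : Set (H ⧸ D)) L h1 (fun z hz hzk => hp0 E hE z hz.1 hzk (h1 z hz))
        (fun y hy e he => ⟨(E.map π).mul_mem ((Subgroup.mem_normalizer_iff.mp (hbnorm E hE (hEKb K₁ hK₁ hy)) e).mp he) ((E.map π).inv_mem he), by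
          rw [show y * e * y⁻¹ * e⁻¹ = y * (e * y⁻¹ * e⁻¹) by group]
          exact (K₁.map π).mul_mem hy ((Subgroup.mem_normalizer_iff.mp (hbnorm K₁ hK₁ (hEKb E hE he)) _).mp ((K₁.map π).inv_mem hy))⟩)
        (π b) (Subgroup.mem_map_of_mem π hb) (π a) (Subgroup.mem_map_of_mem π ha)
      rw [map_commutatorElement]
      exact commutatorElement_eq_one_iff_mul_comm.mpr h3.symm


end Cfsg.Agent.S2855
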