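import Cfsg.Statements.S2859
import Cfsg.Agent.LocalEven.WeakClosureTools
import Cfsg.Agent.LocalEven.FStarP

set_option autoImplicit false
open Cfsg

open scoped commutatorElement

namespace Cfsg.Agent.S2859

/-- The statement for one of the two factors. -/
theorem side {G : Type*} [Group G] [Finite G] {p : ℕ} [Fact p.Prime] {Q Hc H₁ H₂ : Subgroup G}
    (hQp : IsPGroup p Q) (hwc : Cfsg.IsWeaklyClosedSubgroup p Q) (hHc : Hc = Cfsg.weakClosure Q ⊤)
    (h1 : H₁ ≤ Hc) (h1n : Hc ≤ Subgroup.normalizer (H₁ : Set G))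
    (h2 : H₂ ≤ Hc) (h2n : Hc ≤ Subgroup.normalizer (H₂ : Set G)) (hprod : H₁ ⊔ H₂ = Hc)
    (hcomm : ⁅H₁, H₂⁆ ≤ Subgroup.normalizer (Q : Set G)) {K : Subgroup G}
    (hK : K = (Cfsg.pResidual p ↥(Cfsg.weakClosure Q (H₁ ⊔ Q))).map (Cfsg.weakClosure Q (H₁ ⊔ Q)).subtype) :
    ⁅K, Q⁆ = K ∧ ⁅K, H₁⁆ = K ∧ K ≤ ⁅H₁, H₁⁆ ∧ Hc ≤ Subgroup.normalizer (K : Set G) ∧
      ⁅K, H₂⁆ ≤ LocalEven.op p Hc ∧ K ≤ (Cfsg.pResidual p ↥Hc).map Hc.subtype ∧
      K ≤ H₁ ∧ H₁ ≤ Subgroup.normalizer ((K ⊔ Q : Subgroup G) : Set G) := by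
  have hQHc : Q ≤ Hc := hHc ▸ LocalEven.self_le_weakClosure le_top
  set P := LocalEven.op p Hc
  have hHcP : Hc ≤ Subgroup.normalizer (P : Set G) := LocalEven.map_pCore_normalized Hc
  set Z := ⁅H₁, H₂⁆ with hZ
  have hZ1 : Z ≤ H₁ := Subgroup.le_normalizer_iff_commutator_le_left.mp (h2.trans h1n)
  have hHcZ : Hc ≤ Subgroup.normalizer (Z : Set G) := LocalEven.le_normalizer_comm h1n h2n
  have hZQ : ⁅Q, Z⁆ ≤ P := by
    refine le_trans (LocalEven.le_op (N := Q ⊓ Z) inf_le_right ((le_inf hcomm Subgroup.le_normalizer).trans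
      Subgroup.inf_normalizer_le_normalizer_inf) (hQp.to_le inf_le_left) |>.trans' ?_)
      (LocalEven.op_le_op_of_normalized (hZ1.trans h1) hHcZ)
    exact le_inf (Subgroup.le_normalizer_iff_commutator_le_left.mp hcomm)
      (Subgroup.le_normalizer_iff_commutator_le_right.mp (hQHc.trans hHcZ))
  have hHZ : ⁅Hc, Z⁆ ≤ P := by
    conv_lhs => rw [hHc]
    rw [Cfsg.weakClosure]
    refine LocalEven.comm_iSup_le (fun g => ((LocalEven.le_weakClosure g.2).trans hHc.ge).trans hHcP) fun g => ?_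
    obtain ⟨k, hk, he⟩ := LocalEven.wc_conj_mem hQp hwc hQHc ((LocalEven.le_weakClosure g.2).trans hHc.ge)
    change ⁅LocalEven.cj (g : G) Q, Z⁆ ≤ P
    rw [he, ← LocalEven.cj_eq_self_iff.mpr (hHcZ hk), LocalEven.cj, LocalEven.cj, ← Subgroup.map_commutator]
    exact (Subgroup.map_mono hZQ).trans (LocalEven.cj_eq_self_iff.mpr (hHcP hk)).le
  have h12 : ⁅⁅H₁, H₁⁆ ⊔ ⁅H₁, H₂⁆, H₂⁆ ≤ P := by
    refine LocalEven.comm_sup_le ((Subgroup.commutator_le_self H₁).trans (h1.trans hHcP)) ((hZ1.trans h1).trans hHcP) ?_ ?_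
    · refine LocalEven.three_le (h1.trans hHcP) (h1.trans hHcP) (h2.trans hHcP) ?_ ?_
      · exact (Subgroup.commutator_mono le_rfl h1).trans ((Subgroup.commutator_comm Z Hc).le.trans hHZ)
      · rw [Subgroup.commutator_comm H₂ H₁]
        exact (Subgroup.commutator_mono le_rfl h1).trans ((Subgroup.commutator_comm Z Hc).le.trans hHZ)
    · exact (Subgroup.commutator_mono le_rfl h2).trans ((Subgroup.commutator_comm Z Hc).le.trans hHZ)
  set L1 := Cfsg.weakClosure Q (H₁ ⊔ Q) with hL1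
  obtain ⟨hKQ, hKsup⟩ := LocalEven.weakClosure_residual hQp hwc (le_sup_right : Q ≤ H₁ ⊔ Q)
  rw [← hK] at hKQ hKsup
  have hL1Hc : L1 ≤ Hc := LocalEven.weakClosure_le.trans (sup_le h1 hQHc)
  have hKL1 : K ≤ L1 := hK ▸ Subgroup.map_subtype_le _
  have hsupn : H₁ ⊔ Q ≤ Subgroup.normalizer (L1 : Set G) :=
    Subgroup.le_normalizer.trans LocalEven.normalizer_le_normalizer_weakClosure
  have hH1K : H₁ ⊔ Q ≤ Subgroup.normalizer (K : Set G) :=
    hsupn.trans (hK ▸ LocalEven.normalizer_le_normalizer_map _)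
  have hKH1 : K ≤ H₁ := hK ▸ (LocalEven.residual_map_mono LocalEven.weakClosure_le).trans
    (LocalEven.residual_le_of_sup (sup_le Subgroup.le_normalizer (hQHc.trans h1n)) hQp rfl)
  have hKH2 : ⁅K, H₂⁆ ≤ P := by
    refine le_trans (Subgroup.commutator_mono ?_ le_rfl) h12
    rw [← hKQ]
    refine (Subgroup.commutator_mono hKH1 (hQHc.trans hprod.ge)).trans ?_
    rw [Subgroup.commutator_comm H₁ (H₁ ⊔ H₂)]
    refine LocalEven.comm_sup_le ?_ ?_ le_sup_left ((Subgroup.commutator_comm H₂ H₁).le.trans le_sup_right)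
    · exact fun x hx => by
        rw [← LocalEven.cj_eq_self_iff, LocalEven.cj, Subgroup.map_sup, Subgroup.map_commutator, Subgroup.map_commutator]
        change ⁅LocalEven.cj x H₁, LocalEven.cj x H₁⁆ ⊔ ⁅LocalEven.cj x H₁, LocalEven.cj x H₂⁆ = _
        rw [LocalEven.cj_eq_self_iff.mpr (Subgroup.le_normalizer hx), LocalEven.cj_eq_self_iff.mpr (h2n (h1 hx))]
    · exact fun x hx => by
        rw [← LocalEven.cj_eq_self_iff, LocalEven.cj, Subgroup.map_sup, Subgroup.map_commutator, Subgroup.map_commutator]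
        change ⁅LocalEven.cj x H₁, LocalEven.cj x H₁⁆ ⊔ ⁅LocalEven.cj x H₁, LocalEven.cj x H₂⁆ = _
        rw [LocalEven.cj_eq_self_iff.mpr (Subgroup.le_normalizer hx), LocalEven.cj_eq_self_iff.mpr (h1n (h2 hx))]
  set O := P ⊓ H₁
  have hO : IsPGroup p O := (LocalEven.isPGroup_op Hc).to_le inf_le_left
  have hOK : O ≤ Subgroup.normalizer (K : Set G) := inf_le_right.trans (le_sup_left.trans hH1K)
  have hKn : Hc ≤ Subgroup.normalizer (K : Set G) := by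
    rw [← hprod]
    refine sup_le (le_sup_left.trans hH1K) fun h hh => ?_
    rw [← LocalEven.cj_eq_self_iff]
    refine Subgroup.eq_of_le_of_card_ge ?_ (LocalEven.card_cj _ _).ge
    set W := K ⊔ O
    have h1' : LocalEven.cj h K ≤ W := by
      rintro _ ⟨k, hk, rfl⟩
      show h * k * h⁻¹ ∈ W
      rw [show h * k * h⁻¹ = k * ⁅k⁻¹, h⁆ by simp only [commutatorElement_def]; group]
      refine mul_mem (Subgroup.mem_sup_left hk) (Subgroup.mem_sup_right (Subgroup.mem_inf.mpr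
        ⟨hKH2 (Subgroup.commutator_mem_commutator (inv_mem hk) hh), ?_⟩))
      exact hZ1 (Subgroup.commutator_mem_commutator (hKH1 (inv_mem hk)) hh)
    have h2' : K ≤ (Cfsg.pResidual p ↥K).map K.subtype := by rw [hK, LocalEven.residual_idem]
    have h3 : (Cfsg.pResidual p ↥W).map W.subtype ≤ K :=
      LocalEven.residual_le_of_sup (sup_le Subgroup.le_normalizer hOK) hO rfl
    refine le_trans ?_ h3
    rintro _ ⟨k, hk, rfl⟩
    obtain ⟨r, hr, rfl⟩ := h2' hk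
    clear hk
    induction hr using Subgroup.closure_induction with
    | mem x hx =>
      refine ⟨⟨_, h1' ⟨x, x.2, rfl⟩⟩, Core.mem_pResidual ?_, rfl⟩
      rw [← Subgroup.orderOf_coe]
      show (orderOf ((MulAut.conj h) (x : G))).Coprime p
      rw [MulEquiv.orderOf_eq]
      simpa [← Subgroup.orderOf_coe] using hx
    | one => simp
    | mul x y _ _ hx hy =>
      rw [map_mul, map_mul]
      exact mul_mem hx hy
    | inv x _ hx =>
      rw [map_inv, map_inv]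
      exact inv_mem hx
  have hKH : ⁅K, H₁⁆ = K := by
    set D := ⁅K, H₁⁆
    have hDK : D ≤ K := Subgroup.le_normalizer_iff_commutator_le_left.mp (h1.trans hKn)
    have hDn : K ≤ Subgroup.normalizer (D : Set G) := Subgroup.normalizer_commutator_ge_left K H₁
    refine le_antisymm hDK ?_
    have hsup : D ⊔ (P ⊓ K) = K := by
      refine le_antisymm (sup_le hDK inf_le_right) ?_
      calc K = ⁅K, Q⁆ := hKQ.symm
        _ ≤ ⁅K, H₁ ⊔ H₂⁆ := Subgroup.commutator_mono le_rfl (hQHc.trans hprod.ge)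
        _ ≤ D ⊔ (P ⊓ K) := by
          rw [Subgroup.commutator_comm K (H₁ ⊔ H₂)]
          refine LocalEven.comm_sup_le ?_ ?_ ((Subgroup.commutator_comm H₁ K).le.trans le_sup_left) ?_
          · intro x hx
            rw [← LocalEven.cj_eq_self_iff, LocalEven.cj, Subgroup.map_sup]
            change LocalEven.cj x D ⊔ LocalEven.cj x (P ⊓ K) = _
            rw [LocalEven.cj_eq_self_iff.mpr (LocalEven.le_normalizer_comm hKn h1n (h1 hx)),
              LocalEven.cj_eq_self_iff.mpr (Subgroup.inf_normalizer_le_normalizer_inf ⟨hHcP (h1 hx), hKn (h1 hx)⟩)]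
          · intro x hx
            rw [← LocalEven.cj_eq_self_iff, LocalEven.cj, Subgroup.map_sup]
            change LocalEven.cj x D ⊔ LocalEven.cj x (P ⊓ K) = _
            rw [LocalEven.cj_eq_self_iff.mpr (LocalEven.le_normalizer_comm hKn h1n (h2 hx)),
              LocalEven.cj_eq_self_iff.mpr (Subgroup.inf_normalizer_le_normalizer_inf ⟨hHcP (h2 hx), hKn (h2 hx)⟩)]
          · rw [Subgroup.commutator_comm H₂ K]
            exact le_sup_right.trans' (le_inf hKH2 (Subgroup.le_normalizer_iff_commutator_le_left.mp (h2.trans hKn)))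
    calc K = (Cfsg.pResidual p ↥K).map K.subtype := by rw [hK, LocalEven.residual_idem]
      _ ≤ D := LocalEven.residual_le_of_sup hDn ((LocalEven.isPGroup_op Hc).to_le inf_le_left) hsup
  refine ⟨hKQ, hKH, hKH.ge.trans (Subgroup.commutator_mono hKH1 le_rfl), hKn, hKH2,
    hK ▸ LocalEven.residual_map_mono hL1Hc, hKH1, ?_⟩
  rw [hKsup]
  exact le_sup_left.trans hsupn


/-- Let Q be a nontrivial p-subgroup of the finite group H that is a weakly closed subgroup, H° the weak closure of Q in H (generated by the conjugates of Q) and H_∘ = O^p(H°). Suppose H₁, H₂ are normal subgroups of H° with H° = H₁H₂ and [H₁, H₂] ≤ N_H(Q), and put Kᵢ = O^p of the weak closure of Q in HᵢQ. Then for i = 1, 2: Kᵢ = [Kᵢ, Q] = [Kᵢ, Hᵢ] ≤ Hᵢ′ and Kᵢ is normal in H°; H_∘ = K₁K₂; and [K₁, K₂] ≤ O_p(H°). -/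
theorem result {G : Type*} [Group G] [Finite G] {p : ℕ} [Fact p.Prime] (Q : Subgroup G) (hQp : IsPGroup p ↥Q) (hQ1 : Q ≠ ⊥) (hwc : Cfsg.IsWeaklyClosedSubgroup p Q) (Hc : Subgroup G) (hHc : Hc = Cfsg.weakClosure Q ⊤) (H₁ H₂ : Subgroup G) (hn₁ : H₁ ≤ Hc ∧ Hc ≤ Subgroup.normalizer ((H₁ : Subgroup G) : Set G)) (hn₂ : H₂ ≤ Hc ∧ Hc ≤ Subgroup.normalizer ((H₂ : Subgroup G) : Set G)) (hprod : H₁ ⊔ H₂ = Hc) (hcomm : ⁅H₁, H₂⁆ ≤ Subgroup.normalizer ((Q : Subgroup G) : Set G)) (K₁ K₂ : Subgroup G) (hK₁ : K₁ = ((Cfsg.pResidual p ↥(Cfsg.weakClosure Q (H₁ ⊔ Q))).map ((Cfsg.weakClosure Q (H₁ ⊔ Q))).subtype)) (hK₂ : K₂ = ((Cfsg.pResidual p ↥(Cfsg.weakClosure Q (H₂ ⊔ Q))).map ((Cfsg.weakClosure Q (H₂ ⊔ Q))).subtype)) : (⁅K₁, Q⁆ = K₁ ∧ ⁅K₁, H₁⁆ = K₁ ∧ K₁ ≤ ⁅H₁, H₁⁆ ∧ Hc ≤ Subgroup.normalizer ((K₁ : Subgroup G) : Set G)) ∧ (⁅K₂, Q⁆ = K₂ ∧ ⁅K₂, H₂⁆ = K₂ ∧ K₂ ≤ ⁅H₂, H₂⁆ ∧ Hc ≤ Subgroup.normalizer ((K₂ : Subgroup G) : Set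 G)) ∧ K₁ ⊔ K₂ = ((Cfsg.pResidual p ↥Hc).map (Hc).subtype) ∧ ⁅K₁, K₂⁆ ≤ (Cfsg.pCoreOf p Hc) := by
  classical
  obtain ⟨a1, a2, a3, a4, a5, a6, a7, a8⟩ := side hQp hwc hHc hn₁.1 hn₁.2 hn₂.1 hn₂.2 hprod hcomm hK₁
  obtain ⟨b1, b2, b3, b4, b5, b6, b7, b8⟩ := side hQp hwc hHc hn₂.1 hn₂.2 hn₁.1 hn₁.2
    ((sup_comm H₂ H₁).trans hprod) ((Subgroup.commutator_comm H₂ H₁).le.trans hcomm) hK₂
  refine ⟨⟨a1, a2, a3, a4⟩, ⟨b1, b2, b3, b4⟩, le_antisymm (sup_le a6 b6) ?_,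
    (Subgroup.commutator_mono le_rfl b7).trans a5⟩
  set K := K₁ ⊔ K₂
  have hQHc : Q ≤ Hc := hHc ▸ LocalEven.self_le_weakClosure le_top
  have hKn : Hc ≤ Subgroup.normalizer (K : Set G) := fun x hx => by
    rw [← LocalEven.cj_eq_self_iff, LocalEven.cj, Subgroup.map_sup]
    change LocalEven.cj x K₁ ⊔ LocalEven.cj x K₂ = _
    rw [LocalEven.cj_eq_self_iff.mpr (a4 hx), LocalEven.cj_eq_self_iff.mpr (b4 hx)]
  have hHcK : Hc ≤ Subgroup.normalizer ((K ⊔ Q : Subgroup G) : Set G) := by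
    rw [← hprod]
    refine sup_le (fun x hx => ?_) (fun x hx => ?_)
    all_goals
      rw [← LocalEven.cj_eq_self_iff]
      refine Subgroup.eq_of_le_of_card_ge ?_ (LocalEven.card_cj _ _).ge
      rw [LocalEven.cj, Subgroup.map_sup]
      refine sup_le ((LocalEven.cj_eq_self_iff.mpr ?_).le.trans le_sup_left) ?_
    · exact hKn (hn₁.1 hx)
    · exact (LocalEven.cj_mono (le_sup_right : Q ≤ K₁ ⊔ Q)).trans
        ((LocalEven.cj_eq_self_iff.mpr (a8 hx)).le.trans (sup_le_sup_right le_sup_left Q))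
    · exact hKn (hn₂.1 hx)
    · exact (LocalEven.cj_mono (le_sup_right : Q ≤ K₂ ⊔ Q)).trans
        ((LocalEven.cj_eq_self_iff.mpr (b8 hx)).le.trans (sup_le_sup_right le_sup_right Q))
  refine LocalEven.residual_le_of_sup hKn hQp (le_antisymm
    (sup_le (sup_le (a7.trans hn₁.1) (b7.trans hn₂.1)) hQHc) ?_)
  rw [hHc]
  exact LocalEven.weakClosure_le_of_normalized hQp hwc le_top le_sup_right (hHc ▸ hHcK)


end Cfsg.Agent.S2859
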