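import Cfsg.Statements.S2860
import Cfsg.Agent.LocalEven.WeakClosureTools
import Cfsg.Agent.LocalEven.QuasiReduced
import Cfsg.Agent.LocalEven.WeaklyClosed
import Cfsg.Agent.S2843
import Cfsg.Agent.LocalEven.FStarP

set_option autoImplicit false
open Cfsg

open scoped commutatorElement

namespace Cfsg.Agent.S2860

/-- Let Q be a nontrivial large p-subgroup of the finite group H, U a nontrivial elementary abelian p-subgroup of H, and Q ≤ E ≤ N_H(U) with Q not normal in E. Suppose O_p(E/C_E(U)) = 1 and O^p(E)·C_E(U)/C_E(U) is quasisimple. Let E° be the weak closure of Q in E (generated by the conjugates of Q inside E) and E_∘ = O^p(E°). Then O^p(E)·C_E(U) = E_∘·C_E(U); E_∘ is perfect and equals O^p(E_∘); E_∘/C_{E_∘}(U) and E_∘/O_p(E_∘) are quasisimple; and E_∘ = [E_∘, Y] for every p-subgroup Y of E not centralizing U. -/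
theorem result {G : Type*} [Group G] [Finite G] {p : ℕ} [Fact p.Prime] (Q : Subgroup G) (hQp : IsPGroup p ↥Q) (hQ1 : Q ≠ ⊥) (hQ : Cfsg.IsLarge Q) (U : Subgroup G) (hU : Cfsg.IsElementaryAbelian p U) (hU1 : U ≠ ⊥) (E : Subgroup G) (hQE : Q ≤ E) (hEU : E ≤ Subgroup.normalizer ((U : Subgroup G) : Set G)) (hQn : ¬ E ≤ Subgroup.normalizer ((Q : Subgroup G) : Set G)) [hn : ((Subgroup.centralizer ((U : Subgroup G) : Set G)).subgroupOf E).Normal] (hred : Cfsg.pCore p (↥E ⧸ (Subgroup.centralizer ((U : Subgroup G) : Set G)).subgroupOf E) = ⊥) (hqs : Cfsg.IsQuasisimple ↥(((Cfsg.pResidual p ↥E) ⊔ (Subgroup.centralizer ((U : Subgroup G) : Set G)).subgroupOf E).map (QuotientGroup.mk' ((Subgroup.centralizer ((U : Subgroup G) : Set G)).subgroupOf E)))) (Er : Subgroup G) (hEr : Er = ((Cfsg.pResidual p ↥(Cfsg.weakClosure Q E)).map ((Cfsg.weakClosure Q E)).subtype)) [hn2 : ((Subgroup.centralizer ((U : Subgroup G) : Set G)).subgroupOf Er).Normal] : ((Cfsg.pResidual p ↥E).map (E).subtype)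 ⊔ (E ⊓ Subgroup.centralizer ((U : Subgroup G) : Set G)) = Er ⊔ (E ⊓ Subgroup.centralizer ((U : Subgroup G) : Set G)) ∧ ⁅Er, Er⁆ = Er ∧ ((Cfsg.pResidual p ↥Er).map (Er).subtype) = Er ∧ Cfsg.IsQuasisimple (↥Er ⧸ (Subgroup.centralizer ((U : Subgroup G) : Set G)).subgroupOf Er) ∧ Cfsg.IsQuasisimple (↥Er ⧸ Cfsg.pCore p ↥Er) ∧ ∀ Y : Subgroup G, Y ≤ E → IsPGroup p ↥Y → ¬ Y ≤ Subgroup.centralizer ((U : Subgroup G) : Set G) → ⁅Er, Y⁆ = Er := by
  classical
  subst hEr
  have hwc := LocalEven.large_wc hQ hQ1 hQp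
  obtain ⟨-, hcom, -⟩ := S2843.result Q hQp hQ1 hQ E hQE U (LocalEven.isPGroup_of_elementary hU) hU1 hEU
  set Ec := Cfsg.weakClosure Q E with hEc
  set Er := (Cfsg.pResidual p ↥Ec).map Ec.subtype with hEr
  set CU := Subgroup.centralizer (U : Set G) with hCU
  obtain ⟨hErQ, hErsup⟩ := LocalEven.weakClosure_residual hQp hwc hQE
  rw [← hEc, ← hEr] at hErQ hErsup
  have hQEc : Q ≤ Ec := LocalEven.self_le_weakClosure hQE
  have hEcE : Ec ≤ E := LocalEven.weakClosure_le
  have hErEc : Er ≤ Ec := Subgroup.map_subtype_le _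
  have hErE : Er ≤ E := hErEc.trans hEcE
  have hEEc : E ≤ Subgroup.normalizer (Ec : Set G) :=
    Subgroup.le_normalizer.trans LocalEven.normalizer_le_normalizer_weakClosure
  have hEEr : E ≤ Subgroup.normalizer (Er : Set G) := hEEc.trans (LocalEven.normalizer_le_normalizer_map _)
  set C' := CU.subgroupOf E
  set π := QuotientGroup.mk' C'
  set X := (Cfsg.pResidual p ↥E ⊔ C').map π with hXdef
  haveI : X.Normal := Subgroup.Normal.map inferInstance _ (QuotientGroup.mk'_surjective _)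
  have hres : Cfsg.pResidual p (↥E ⧸ C') ≤ X := by
    haveI : (Cfsg.pResidual p ↥E ⊔ C').Normal := inferInstance
    refine Core.pResidual_le_of_isPGroup fun q => ?_
    obtain ⟨a, rfl⟩ := QuotientGroup.mk'_surjective _ q
    obtain ⟨x, rfl⟩ := QuotientGroup.mk'_surjective _ a
    obtain ⟨k, hk⟩ := Core.exists_pow_mem_pResidual (p := p) x
    exact ⟨k, by
      rw [← map_pow, ← map_pow]
      exact (QuotientGroup.eq_one_iff _).mpr ⟨_, Subgroup.mem_sup_left hk, rfl⟩⟩
  let im : Subgroup G → Subgroup (↥E ⧸ C') := fun A => (A.subgroupOf E).map π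
  have him : ∀ A : Subgroup G, A ≤ E → IsPGroup p A → IsPGroup p (im A) := fun A hA h =>
    (h.of_equiv (Subgroup.subgroupOfEquivOfLe hA).symm).map _
  have hne : ∀ A : Subgroup G, A ≤ E → ¬ A ≤ CU → im A ≠ ⊥ := fun A hA h e => h fun a ha => by
    have h1 : π ⟨a, hA ha⟩ ∈ im A := ⟨⟨a, hA ha⟩, ha, rfl⟩
    rw [e, Subgroup.mem_bot] at h1
    exact ((QuotientGroup.eq_one_iff _).mp h1 : (⟨a, hA ha⟩ : ↥E) ∈ C')
  have hQC : ¬ Q ≤ CU := fun h => hQn (hEU.trans (hQ.2 U (Subgroup.le_centralizer_iff.mp h) hU1))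
  have hperfX : ⁅X, X⁆ = X := by
    have := congrArg (Subgroup.map X.subtype) (Components.quasisimple_commutator_top hqs)
    rwa [commutator_def, Subgroup.map_commutator, ← MonoidHom.range_eq_map, Subgroup.range_subtype] at this
  have hXQ := LocalEven.quasi_commutator_eq hred hqs hres (him Q hQE hQp) (hne Q hQE hQC)
  have himn : ∀ A : Subgroup G, A ≤ E → E ≤ Subgroup.normalizer (A : Set G) → (im A).Normal := fun A hA h =>
    haveI := Subgroup.normal_subgroupOf_of_le_normalizer h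
    Subgroup.Normal.map inferInstance _ (QuotientGroup.mk'_surjective _)
  haveI := himn Ec hEcE hEEc
  haveI := himn Er hErE hEEr
  have hXEc : X ≤ im Ec := hXQ ▸ (Subgroup.commutator_mono le_rfl
    (Subgroup.map_mono (fun x hx => hQEc hx) : im Q ≤ im Ec)).trans (Subgroup.commutator_le_right _ _)
  have hXEr : X ≤ im Er := by
    haveI : Group.IsPerfect X := hqs.1
    have h1 : X = (Cfsg.pResidual p ↥X).map X.subtype := by
      haveI : Group.IsNilpotent (↥X ⧸ Cfsg.pResidual p ↥X) := (Core.isPGroup_quotient_pResidual p ↥X).isNilpotent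
      have ht : Cfsg.pResidual p ↥X = ⊤ := by
        by_contra hne'
        haveI : Nontrivial (↥X ⧸ Cfsg.pResidual p ↥X) := QuotientGroup.nontrivial_iff.mpr hne'
        exact Group.IsPerfect.not_isSolvable (↥X ⧸ Cfsg.pResidual p ↥X) inferInstance
      rw [ht, ← MonoidHom.range_eq_map, Subgroup.range_subtype]
    rw [h1]
    refine (LocalEven.residual_map_mono hXEc).trans (LocalEven.residual_le_of_sup (O := im Q) ?_ (him Q hQE hQp) ?_)
    · rw [Subgroup.normalizer_eq_top (im Er)]; exact le_top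
    · show (Er.subgroupOf E).map π ⊔ (Q.subgroupOf E).map π = _
      rw [← Subgroup.map_sup, ← Subgroup.subgroupOf_sup hErE hQE, hErsup]
  have hlift : ∀ D : Subgroup G, D ≤ E → X ≤ im D → Er ≤ D ⊔ CU := by
    intro D hD h e he
    have h1 : π ⟨e, hErE he⟩ ∈ X := ⟨⟨e, hErE he⟩, Subgroup.mem_sup_left (by
      obtain ⟨r, hr, hre⟩ := LocalEven.residual_map_mono hEcE he
      rwa [Subtype.ext (a1 := r) (a2 := ⟨e, hErE he⟩) hre] at hr), rfl⟩
    obtain ⟨d, hd, hde⟩ := h h1
    have h2 : d⁻¹ * ⟨e, hErE he⟩ ∈ C' := QuotientGroup.eq.mp hde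
    have h3 := mul_mem (Subgroup.mem_sup_left (show (d : G) ∈ D from hd) : (d : G) ∈ D ⊔ CU)
      (Subgroup.mem_sup_right (h2 : ((d⁻¹ * ⟨e, hErE he⟩ : ↥E) : G) ∈ CU))
    simpa using h3
  set P := LocalEven.op p Er with hP
  have hErP : Er ≤ Subgroup.normalizer (P : Set G) := LocalEven.map_pCore_normalized Er
  set Z := Er ⊓ CU with hZ
  have hcomZ : ⁅Ec, CU⁆ ⊓ Er ≤ P := by
    refine (inf_le_inf_right Er hcom).trans (LocalEven.le_op inf_le_right ?_ ((LocalEven.isPGroup_op Ec).to_le inf_le_left))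
    exact (le_inf (hErEc.trans (LocalEven.map_pCore_normalized Ec)) Subgroup.le_normalizer).trans
      Subgroup.inf_normalizer_le_normalizer_inf
  have hECU : E ≤ Subgroup.normalizer (CU : Set G) := hEU.trans (LocalEven.normalizer_le_normalizer_cent U)
  have hdec : ∀ D : Subgroup G, D ≤ Er → Er ≤ D ⊔ CU → Er ≤ D ⊔ Z := by
    intro D hD h e he
    have h1 := h he
    rw [← SetLike.mem_coe, Subgroup.coe_mul_of_left_le_normalizer_right _ _ ((hD.trans hErE).trans hECU)] at h1
    obtain ⟨d, hd, c, hc, rfl⟩ := h1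
    exact mul_mem (Subgroup.mem_sup_left hd) (Subgroup.mem_sup_right (Subgroup.mem_inf.mpr
      ⟨by simpa using Er.mul_mem (Er.inv_mem (hD hd)) he, hc⟩))
  have hsupn : ∀ D A : Subgroup G, A ≤ Subgroup.normalizer (D : Set G) → A ≤ Subgroup.normalizer (P : Set G) →
      A ≤ Subgroup.normalizer ((D ⊔ P : Subgroup G) : Set G) := fun D A h1 h2 x hx => by
    rw [← LocalEven.cj_eq_self_iff, LocalEven.cj, Subgroup.map_sup]
    change LocalEven.cj x D ⊔ LocalEven.cj x P = _
    rw [LocalEven.cj_eq_self_iff.mpr (h1 hx), LocalEven.cj_eq_self_iff.mpr (h2 hx)]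
  have hfin : ∀ D : Subgroup G, D ≤ Er → Er ≤ Subgroup.normalizer (D : Set G) → Er ≤ D ⊔ P → D = Er := by
    intro D hD hn' h
    refine le_antisymm hD ?_
    have hsup : D ⊔ P = Er := le_antisymm (sup_le hD (LocalEven.op_le Er)) h
    calc Er = (Cfsg.pResidual p ↥Er).map Er.subtype := by rw [hEr, LocalEven.residual_idem]
      _ ≤ D := LocalEven.residual_le_of_sup hn' (LocalEven.isPGroup_op Er) hsup
  have hperf : ⁅Er, Er⁆ = Er := by
    set D := ⁅Er, Er⁆
    have hDEr : D ≤ Er := Subgroup.commutator_le_self Er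
    have hDn : E ≤ Subgroup.normalizer (D : Set G) := LocalEven.le_normalizer_comm hEEr hEEr
    refine hfin D hDEr (hErE.trans hDn) ?_
    have h1 : Er ≤ D ⊔ Z := hdec D hDEr (hlift D (hDEr.trans hErE) ?_)
    · conv_lhs => rw [← hErQ]
      refine (Subgroup.commutator_mono h1 le_rfl).trans (LocalEven.comm_sup_le (hsupn D D Subgroup.le_normalizer
        (hDEr.trans hErP)) (hsupn D Z ((inf_le_left.trans hErE).trans hDn) (inf_le_left.trans hErP)) ?_ ?_)
      · exact (Subgroup.le_normalizer_iff_commutator_le_left.mp (hQE.trans hDn)).trans le_sup_left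
      · refine le_sup_right.trans' (le_trans (le_inf ?_ ?_) hcomZ)
        · rw [Subgroup.commutator_comm Z Q]
          exact Subgroup.commutator_mono hQEc inf_le_right
        · exact ((Subgroup.commutator_mono inf_le_left le_rfl).trans hErQ.le)
    ·
      calc X = ⁅X, X⁆ := hperfX.symm
        _ ≤ ⁅im Er, im Er⁆ := Subgroup.commutator_mono hXEr hXEr
        _ ≤ im D := by
          show ⁅(Er.subgroupOf E).map π, (Er.subgroupOf E).map π⁆ ≤ _
          rw [← Subgroup.map_commutator]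
          refine Subgroup.map_mono (Subgroup.commutator_le.mpr fun a ha b hb => ?_)
          exact Subgroup.commutator_mem_commutator (show (a : G) ∈ Er from ha) (show (b : G) ∈ Er from hb)
  have hXne : X ≠ ⊥ := fun e => by
    haveI := Components.quasisimple_nontrivial hqs
    exact not_subsingleton X (e ▸ inferInstanceAs (Subsingleton (⊥ : Subgroup (↥E ⧸ C'))))
  have hqZ : Cfsg.IsQuasisimple (↥Er ⧸ CU.subgroupOf Er) := by
    set f : ↥Er →* ↥E ⧸ C' := π.comp (Subgroup.inclusion hErE) with hf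
    have hrange : f.range = X := by
      refine le_antisymm ?_ fun x hx => ?_
      · rintro _ ⟨e, rfl⟩
        refine ⟨⟨e, hErE e.2⟩, Subgroup.mem_sup_left ?_, rfl⟩
        obtain ⟨r, hr, hre⟩ := LocalEven.residual_map_mono hEcE e.2
        rwa [Subtype.ext (a1 := r) (a2 := ⟨e, hErE e.2⟩) hre] at hr
      · obtain ⟨e, he, rfl⟩ := hXEr hx
        exact ⟨⟨e, he⟩, rfl⟩
    have hker : f.ker = CU.subgroupOf Er := by
      ext x
      rw [MonoidHom.mem_ker]
      exact QuotientGroup.eq_one_iff _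
    exact Components.isQuasisimple_of_equiv
      (((MulEquiv.subgroupCongr hrange).symm).trans ((QuotientGroup.quotientKerEquivRange f).symm.trans
        (QuotientGroup.quotientMulEquivOfEq hker))) hqs
  refine ⟨le_antisymm (sup_le ?_ le_sup_right) (sup_le_sup_right (LocalEven.residual_map_mono hEcE) _), hperf,
    LocalEven.residual_idem Ec, hqZ, ?_, fun Y hYE hYp hYC => ?_⟩
  · rintro _ ⟨r, hr, rfl⟩
    obtain ⟨e, he, hee⟩ := hXEr ⟨r, Subgroup.mem_sup_left hr, rfl⟩
    have h2 : e⁻¹ * r ∈ C' := QuotientGroup.eq.mp hee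
    have h3 := mul_mem (Subgroup.mem_sup_left (show (e : G) ∈ Er from he) : (e : G) ∈ Er ⊔ (E ⊓ CU))
      (Subgroup.mem_sup_right (Subgroup.mem_inf.mpr ⟨(e⁻¹ * r).2, h2⟩))
    simpa using h3
  · refine LocalEven.quasisimple_quotient_of_central ?_ ?_ ?_ hqZ
    · apply Subgroup.map_injective Er.subtype_injective
      rw [commutator_def, Subgroup.map_commutator, ← MonoidHom.range_eq_map, Subgroup.range_subtype]
      exact hperf
    · intro h
      haveI := hqZ.1
      haveI := Components.quasisimple_nontrivial hqZ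
      haveI : Group.IsNilpotent (↥Er ⧸ CU.subgroupOf Er) :=
        (((Core.isPGroup_pCore p ↥Er).of_equiv ((MulEquiv.subgroupCongr h).trans Subgroup.topEquiv))).to_quotient _ |>.isNilpotent
      exact Group.IsPerfect.not_isSolvable (↥Er ⧸ CU.subgroupOf Er) inferInstance
    · refine Subgroup.commutator_le.mpr fun z hz e _ => ?_
      have h1 : ((⁅z, e⁆ : ↥Er) : G) ∈ P := hcomZ (Subgroup.mem_inf.mpr ⟨?_, (⁅z, e⁆ : ↥Er).2⟩)
      · obtain ⟨w, hw, hwe⟩ := h1
        rwa [Subtype.ext (a1 := w) (a2 := ⁅z, e⁆) hwe] at hw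
      · rw [Subgroup.commutator_comm Ec CU]
        exact Subgroup.commutator_mem_commutator (show (z : G) ∈ CU from hz) (hErEc e.2)
  · set D := ⁅Er, Y⁆
    have hDEr : D ≤ Er := Subgroup.le_normalizer_iff_commutator_le_left.mp (hYE.trans hEEr)
    have hDn : Er ≤ Subgroup.normalizer (D : Set G) := Subgroup.normalizer_commutator_ge_left Er Y
    refine hfin D hDEr hDn ?_
    have h1 : Er ≤ D ⊔ Z := by
      refine hdec D hDEr (hlift D (hDEr.trans hErE) ?_)
      calc X = ⁅X, im Y⁆ := (LocalEven.quasi_commutator_eq hred hqs hres (him Y hYE hYp) (hne Y hYE hYC)).symm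
        _ ≤ ⁅im Er, im Y⁆ := Subgroup.commutator_mono hXEr le_rfl
        _ ≤ im D := by
          show ⁅(Er.subgroupOf E).map π, (Y.subgroupOf E).map π⁆ ≤ _
          rw [← Subgroup.map_commutator]
          refine Subgroup.map_mono (Subgroup.commutator_le.mpr fun a ha b hb => ?_)
          exact Subgroup.commutator_mem_commutator (show (a : G) ∈ Er from ha) (show (b : G) ∈ Y from hb)
    conv_lhs => rw [← hperf]
    refine (Subgroup.commutator_mono h1 le_rfl).trans (LocalEven.comm_sup_le (hsupn D D Subgroup.le_normalizer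
      (hDEr.trans hErP)) (hsupn D Z (inf_le_left.trans hDn) (inf_le_left.trans hErP)) ?_ ?_)
    · exact (Subgroup.le_normalizer_iff_commutator_le_left.mp hDn).trans le_sup_left
    · refine le_sup_right.trans' (le_trans (le_inf ?_ ?_) hcomZ)
      · rw [Subgroup.commutator_comm Z Er]
        exact Subgroup.commutator_mono hErEc inf_le_right
      · exact (Subgroup.commutator_mono inf_le_left le_rfl).trans (Subgroup.commutator_le_self Er)


end Cfsg.Agent.S2860
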