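import Cfsg.Statements.S2861
import Cfsg.Agent.LocalEven.FrakLIrred
import Cfsg.Agent.LocalEven.Dagger

set_option autoImplicit false
open Cfsg

namespace Cfsg.Agent.S2861

/-- Standing hypotheses: G a finite group, S a Sylow p-subgroup, Q a nontrivial large p-subgroup of G contained in S, M a subgroup containing S with the basic property (M ∈ 𝔐_G(S)); Y_M the largest p-reduced normal subgroup of M and M† = M·C_G(Y_M). Let L ∈ 𝔏_G(Y_M) (L ∈ 𝔏_G(Y_M): Y_M ≤ L; O_p(L) is the normal closure in L of Y_M ∩ O_p(L) and normalizes Y_M; L is Y_M-minimal of characteristic p with N_L(Y_M) its unique maximal subgroup over Y_M; and L/O_p(L) ≅ SL₂(q) with q = |Y_M : Y_M ∩ O_p(L)|, or p = 2 and L/O_p(L) is a Suzuki group Sz(q) or dihedral of order 2r, r an odd prime) and A = O_p(L). Then Y_M·A/A is the unique nontrivial elementary abelian normal p-subgroup of N_L(Y_M)/A. -/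
theorem result {G : Type*} [Group G] [Finite G] {p : ℕ} [Fact p.Prime] (S : Sylow p G) (Q : Subgroup G) (hQp : IsPGroup p ↥Q) (hQ1 : Q ≠ ⊥) (hQS : Q ≤ (S : Subgroup G)) (hQ : Cfsg.IsLarge Q) (M : Subgroup G) (hSM : (S : Subgroup G) ≤ M) (hM : Cfsg.IsInFrakM p M) (L : Subgroup G) (hL : Cfsg.IsInFrakL p M L) (NL : Subgroup G) (hNL : NL = L ⊓ Subgroup.normalizer (((Cfsg.largestPReducedOf p M) : Subgroup G) : Set G)) [hn : (((Cfsg.pCoreOf p L)).subgroupOf NL).Normal] : let Ybar : Subgroup (↥NL ⧸ ((Cfsg.pCoreOf p L)).subgroupOf NL) := (((Cfsg.largestPReducedOf p M)).subgroupOf NL).map (QuotientGroup.mk' (((Cfsg.pCoreOf p L)).subgroupOf NL)); Ybar ≠ ⊥ ∧ Ybar.Normal ∧ Cfsg.IsElementaryAbelian p Ybar ∧ ∀ (V : Subgroup (↥NL ⧸ ((Cfsg.pCoreOf p L)).subgroupOf NL)), V.Normal → Cfsg.IsElementaryAbelian p V → V ≠ ⊥ → V = Ybar := by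
  classical
  obtain ⟨hYL, hA0, hAY0, hmin, hchar, ⟨hlt, hmax⟩, hcase⟩ := hL
  set Y := Cfsg.largestPReducedOf p M with hYdef
  set Y' := Y.subgroupOf L with hY'
  set L₀ := (Subgroup.normalizer (Y : Set G)).subgroupOf L with hL₀def
  have hA : Cfsg.pCore p ↥L =
      Subgroup.normalClosure ((Cfsg.pCore p ↥L ⊓ Y' : Subgroup ↥L) : Set ↥L) := by
    apply Subgroup.map_injective L.subtype_injective
    refine hA0.trans ?_
    congr 2
    ext x
    simp only [SetLike.mem_coe, Subgroup.mem_subgroupOf, Subgroup.mem_inf, hY']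
    exact ⟨fun ⟨a, b⟩ => ⟨by obtain ⟨w, hw, e⟩ := b; rwa [Subtype.ext (a1 := w) (a2 := x) e] at hw, a⟩,
      fun ⟨a, b⟩ => ⟨b, x, a, rfl⟩⟩
  have hN : Subgroup.normalizer (Y' : Set ↥L) = L₀ := by
    ext x
    refine ⟨fun hx => Subgroup.mem_normalizer_iff.mpr fun y => ?_, fun hx => Subgroup.mem_normalizer_iff.mpr fun y => ?_⟩
    · constructor
      · intro hy
        exact (Subgroup.mem_normalizer_iff.mp hx ⟨y, hYL hy⟩).mp hy
      · intro hy
        have hyL : y ∈ L := by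
          have := L.mul_mem (L.mul_mem (L.inv_mem x.2) (hYL hy)) x.2
          simpa [mul_assoc] using this
        exact (Subgroup.mem_normalizer_iff.mp hx ⟨y, hyL⟩).mpr hy
    · exact Subgroup.mem_normalizer_iff.mp hx y
  have hYL₀ : Y' ≤ L₀ := hN ▸ Subgroup.le_normalizer
  have hco : IsCoatom L₀ := by
    refine ⟨fun e => hlt.not_ge (le_inf le_rfl (Subgroup.subgroupOf_eq_top.mp e)), fun X hX => ?_⟩
    by_contra hne
    have hXL : X.map L.subtype < L := lt_of_le_of_ne (Subgroup.map_subtype_le X) fun e =>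
      hne (Subgroup.map_injective L.subtype_injective (by rw [e, ← MonoidHom.range_eq_map, Subgroup.range_subtype]))
    have h1 := hmax (X.map L.subtype) (fun y hy => ⟨⟨y, hYL hy⟩, hX.le (hYL₀ (show (⟨y, hYL hy⟩ : ↥L) ∈ Y' from hy)), rfl⟩) hXL
    exact hX.not_ge fun x hx => (Subgroup.mem_inf.mp (h1 ⟨x, hx, rfl⟩)).2
  have hel := LocalEven.reduced_elementary (LocalEven.largestOf_le M) (LocalEven.largestOf_reduced (p := p) M)
  rw [← hYdef] at hel
  have hexp : ∀ y ∈ Y', y ^ p = 1 := fun y hy => Subtype.ext (hel.2 _ hy)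
  have hYab : Y' ≤ Subgroup.centralizer (Y' : Set ↥L) := fun a ha => Subgroup.mem_centralizer_iff.mpr fun b hb =>
    Subtype.ext (Subgroup.mem_centralizer_iff.mp ((Subgroup.le_centralizer_iff_isMulCommutative.mpr hel.1) ha) b hb)
  have hel' : Cfsg.IsElementaryAbelian p Y' := ⟨Subgroup.le_centralizer_iff_isMulCommutative.mp hYab, hexp⟩
  have hOY : Cfsg.pCore p ↥L ≤ Subgroup.normalizer (Y' : Set ↥L) := fun x hx => hN.ge (hAY0 ⟨x, hx, rfl⟩)
  obtain ⟨g, hg⟩ : ∃ g : ↥L, g ∉ L₀ := not_forall.mp fun e => hco.1 (top_le_iff.mp fun x _ => e x)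
  set Z := Y'.map (QuotientGroup.mk' (Cfsg.pCore p ↥L))
  have hZcard : Nat.card Z = (Y ⊓ Cfsg.pCoreOf p L).relIndex Y := by
    set f := (QuotientGroup.mk' (Cfsg.pCore p ↥L)).comp Y'.subtype
    have h1 : f.range = Z := by rw [MonoidHom.range_comp, Subgroup.range_subtype]
    have h2 : f.ker = (Cfsg.pCore p ↥L).subgroupOf Y' := by
      rw [← MonoidHom.comap_ker, QuotientGroup.ker_mk']; rfl
    rw [← h1, ← Subgroup.index_ker, h2]
    have h3 := Subgroup.relIndex_map_map_of_injective (H := Cfsg.pCore p ↥L) (K := Y') L.subtype_injective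
    rw [Subgroup.subgroupOf_map_subtype, inf_of_le_left hYL] at h3
    rw [inf_comm, Subgroup.inf_relIndex_right]
    exact h3.symm
  have hXO : Cfsg.pCore p (↥L ⧸ Cfsg.pCore p ↥L) = ⊥ := Core.pCore_quotient_pCore p ↥L
  have hgen := LocalEven.sup_cj_eq_top hmin hco hYL₀ hg
  -- generation by two involutions
  have htwo : p = 2 → Nat.card Z = 2 →
      LocalEven.OmegaIn p Z ∧ LocalEven.IrredNorm Z := by
    rintro rfl h2
    obtain ⟨⟨y, hy⟩, hy1⟩ := (Subgroup.ne_bot_iff_exists_ne_one).mp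
      (show Z ≠ ⊥ from fun e => by rw [e, Subgroup.card_bot] at h2; exact absurd h2 (by norm_num))
    have hyy : y * y = 1 := by
      obtain ⟨w, hw, rfl⟩ := hy
      rw [← sq, ← map_pow, hexp w hw, map_one]
    have hZy : Z = Subgroup.zpowers y := by
      refine (Subgroup.eq_of_le_of_card_ge (Subgroup.zpowers_le.mpr hy) ?_).symm
      have ho : orderOf y ∣ 2 := orderOf_dvd_of_pow_eq_one (by rw [sq, hyy])
      rcases (Nat.dvd_prime Nat.prime_two).mp ho with e | e
      · exact absurd (Subtype.ext (orderOf_eq_one_iff.mp e)) hy1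
      · rw [h2, Nat.card_zpowers, e]
    set gb := QuotientGroup.mk' (Cfsg.pCore 2 ↥L) g
    have hmap := congrArg (Subgroup.map (QuotientGroup.mk' (Cfsg.pCore 2 ↥L))) hgen
    rw [Subgroup.map_sup, Subgroup.map_top_of_surjective _ (QuotientGroup.mk'_surjective _)] at hmap
    have hcjmap : (LocalEven.cj g Y').map (QuotientGroup.mk' (Cfsg.pCore 2 ↥L)) ≤
        Subgroup.zpowers (gb * y * gb⁻¹) := by
      rintro _ ⟨_, ⟨w, hw, rfl⟩, rfl⟩
      obtain ⟨i, hi : y ^ i = _⟩ := hZy.le ⟨w, hw, rfl⟩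
      refine ⟨i, ?_⟩
      show (gb * y * gb⁻¹) ^ i = _
      rw [conj_zpow, hi]
      simp [gb]
    have := LocalEven.two_involutions hXO hyy (y' := gb * y * gb⁻¹)
      (by rw [show gb * y * gb⁻¹ * (gb * y * gb⁻¹) = gb * (y * y) * gb⁻¹ by group, hyy, mul_one, mul_inv_cancel])
      (top_le_iff.mp (hmap ▸ sup_le_sup hZy.le hcjmap))
    exact ⟨hZy ▸ this.1, LocalEven.irredNorm_of_card_two h2⟩
  have hcases : LocalEven.OmegaIn p Z ∧ LocalEven.IrredNorm Z := by
    rcases hcase with ⟨F, iF, iFF, hF, ⟨e⟩⟩ | ⟨rfl, F, iF, iFF, m, hF2, hF, ⟨e⟩⟩ | ⟨rfl, r, hr, hr2, ⟨e⟩⟩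
    · have hZp : IsPGroup p Z := IsPGroup.map (fun y => ⟨1, Subtype.ext (by rw [pow_one]; exact hexp y.1 y.2)⟩) _
      haveI : CharP F p := by
        obtain ⟨q, hq⟩ := CharP.exists F
        obtain ⟨n, hqp, hn⟩ := FiniteField.card F q
        obtain ⟨k, hk⟩ := IsPGroup.iff_card.mp hZp
        rw [hZcard, ← hF, hn] at hk
        have h1 : q ∣ p ^ k := hk ▸ dvd_pow_self q n.ne_zero
        rwa [← (Nat.prime_dvd_prime_iff_eq hqp Fact.out).mp (hqp.dvd_of_dvd_pow h1)]
      exact ⟨LocalEven.omegaIn_of_equiv e (LocalEven.omegaIn_sl2 (by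
          rw [Subgroup.card_map_of_injective e.injective, hZcard, hF])),
        LocalEven.irredNorm_of_equiv e (LocalEven.irredNorm_sl2 (p := p) (by
          rintro _ ⟨_, ⟨w, hw, rfl⟩, rfl⟩
          rw [← map_pow, ← map_pow, hexp w hw, map_one, map_one]) (by
          rw [Subgroup.card_map_of_injective e.injective, hZcard, hF]))⟩
    · rcases Nat.eq_zero_or_pos m with rfl | hm
      · exact htwo rfl (by rw [hZcard, ← hF, hF2]; norm_num)
      have hctx : Suzuki.Ctx F m := ⟨hm, by rw [Nat.card_eq_fintype_card, hF2]⟩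
      set e' := e.trans (Suzuki.lieEquiv hctx).symm
      refine ⟨LocalEven.omegaIn_of_equiv e' (LocalEven.omegaIn_sz hctx ?_ ?_),
        LocalEven.irredNorm_of_equiv e' (LocalEven.irredNorm_sz hctx ?_ ?_)⟩
      all_goals first
        | (rintro _ ⟨_, ⟨w, hw, rfl⟩, rfl⟩
           rw [← sq, ← map_pow, ← map_pow, hexp w hw, map_one, map_one])
        | rw [Subgroup.card_map_of_injective e'.injective, hZcard, ← hF, hF2]
    · refine htwo rfl ?_
      have hne : Nat.card Z ≠ 1 := fun e1 => by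
        have h1 : Z = ⊥ := Subgroup.eq_bot_of_card_eq _ e1
        have h2 := congrArg (Subgroup.map (QuotientGroup.mk' (Cfsg.pCore 2 ↥L))) hgen
        rw [Subgroup.map_sup, Subgroup.map_top_of_surjective _ (QuotientGroup.mk'_surjective _)] at h2
        have h3 : (LocalEven.cj g Y').map (QuotientGroup.mk' (Cfsg.pCore 2 ↥L)) = ⊥ := by
          rw [eq_bot_iff]
          rintro _ ⟨_, ⟨w, hw, rfl⟩, rfl⟩
          have h4 : QuotientGroup.mk' (Cfsg.pCore 2 ↥L) w = 1 := by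
            have : QuotientGroup.mk' (Cfsg.pCore 2 ↥L) w ∈ Z := ⟨w, hw, rfl⟩
            rw [h1, Subgroup.mem_bot] at this
            exact this
          simp only [MulEquiv.coe_toMonoidHom, MulAut.conj_apply, Subgroup.mem_bot, map_mul, h4, mul_one, map_inv,
            mul_inv_cancel]
        rw [h3, show Y'.map (QuotientGroup.mk' (Cfsg.pCore 2 ↥L)) = ⊥ from h1, bot_sup_eq] at h2
        have h5 := congrArg (fun S : Subgroup (↥L ⧸ Cfsg.pCore 2 ↥L) => Nat.card S) h2
        rw [Subgroup.card_bot, Subgroup.card_top, Nat.card_congr e.toEquiv, DihedralGroup.nat_card] at h5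
        omega
      obtain ⟨k, hk⟩ := IsPGroup.iff_card.mp
        (IsPGroup.map (p := 2) (fun y : Y' => ⟨1, Subtype.ext (by rw [pow_one]; exact hexp y.1 y.2)⟩)
          (QuotientGroup.mk' (Cfsg.pCore 2 ↥L)) : IsPGroup 2 Z)
      have hd := Subgroup.card_subgroup_dvd_card Z
      rw [Nat.card_congr e.toEquiv, DihedralGroup.nat_card, hk] at hd
      rcases k with _ | _ | k
      · exact absurd (by rw [hk]; norm_num) hne
      · rw [hk]; norm_num
      · have h4 : 2 * 2 ∣ 2 * r := (show 2 * 2 ∣ 2 ^ (k + 1 + 1) from ⟨2 ^ k, by ring⟩).trans hd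
        exact absurd ((Nat.prime_dvd_prime_iff_eq Nat.prime_two hr).mp (Nat.dvd_of_mul_dvd_mul_left (by norm_num) h4)).symm hr2
  obtain ⟨hOm, hIrr⟩ := hcases
  change (_ : Subgroup _) ≠ ⊥ ∧ _
  have hNLL : NL ≤ L := hNL.le.trans inf_le_left
  set π := QuotientGroup.mk' (Cfsg.pCore p ↥L)
  set AN := (Cfsg.pCoreOf p L).subgroupOf NL
  set ρ := QuotientGroup.mk' AN
  set f : ↥NL →* ↥L ⧸ Cfsg.pCore p ↥L := π.comp (Subgroup.inclusion hNLL)
  have hker : f.ker = AN := by
    ext x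
    rw [MonoidHom.mem_ker]
    show (π (Subgroup.inclusion hNLL x) = 1) ↔ (x : G) ∈ Cfsg.pCoreOf p L
    rw [show π (Subgroup.inclusion hNLL x) = 1 ↔ Subgroup.inclusion hNLL x ∈ Cfsg.pCore p ↥L from QuotientGroup.eq_one_iff _]
    exact ⟨fun hx => ⟨_, hx, rfl⟩, fun ⟨w, hw, e⟩ => by rwa [Subtype.ext (a1 := w) (a2 := Subgroup.inclusion hNLL x) e] at hw⟩
  set F' := QuotientGroup.lift AN f hker.ge with hF'
  have hinj : Function.Injective F' := by
    rw [injective_iff_map_eq_one]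
    intro q
    induction q using QuotientGroup.induction_on with
    | _ x => exact fun hx => (QuotientGroup.eq_one_iff x).mpr (hker.le hx)
  have hYNL : Y ≤ NL := hNL.ge.trans' (le_inf hYL Subgroup.le_normalizer)
  have hYmap : ((Y.subgroupOf NL).map ρ).map F' = Z := by
    rw [Subgroup.map_map]
    ext q
    constructor
    · rintro ⟨x, hx, rfl⟩
      exact ⟨⟨x, hYL hx⟩, hx, rfl⟩
    · rintro ⟨x, hx, rfl⟩
      exact ⟨⟨x, hYNL hx⟩, hx, rfl⟩
  have hZne : Z ≠ ⊥ := by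
    intro e
    have h2 := congrArg (Subgroup.map π) hgen
    rw [Subgroup.map_sup, Subgroup.map_top_of_surjective _ (QuotientGroup.mk'_surjective _)] at h2
    have h3 : (LocalEven.cj g Y').map π = ⊥ := by
      rw [eq_bot_iff]
      rintro _ ⟨_, ⟨w, hw, rfl⟩, rfl⟩
      have h4 : π w = 1 := by
        have : π w ∈ Z := ⟨w, hw, rfl⟩
        rw [e, Subgroup.mem_bot] at this
        exact this
      simp only [MulEquiv.coe_toMonoidHom, MulAut.conj_apply, Subgroup.mem_bot, map_mul, h4, mul_one, map_inv,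
        mul_inv_cancel]
    rw [h3, show Y'.map π = ⊥ from e, bot_sup_eq] at h2
    exact hg (hYL₀ (show g ∈ Y' from by
      have h5 : π g = 1 := Subgroup.mem_bot.mp (h2 ▸ Subgroup.mem_top _)
      have h6 : g ∈ Cfsg.pCore p ↥L := (QuotientGroup.eq_one_iff g).mp h5
      exact absurd (hN ▸ hOY h6) hg))
  have hnorm : ∀ x : ↥L, x ∈ L₀ → π x ∈ Subgroup.normalizer (Z : Set (↥L ⧸ Cfsg.pCore p ↥L)) := fun x hx =>
    Subgroup.le_normalizer_map π ⟨x, hN.ge hx, rfl⟩
  have hNZ : Subgroup.normalizer (Z : Set (↥L ⧸ Cfsg.pCore p ↥L)) ≤ F'.range := by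
    intro q hq
    obtain ⟨x, rfl⟩ := QuotientGroup.mk'_surjective _ q
    have hS : (Subgroup.normalizer (Z : Set (↥L ⧸ Cfsg.pCore p ↥L))).comap π = L₀ := by
      refine ((hco.le_iff.mp fun y hy => hnorm y hy).resolve_left fun e => hZne ?_)
      have hZn : Z.Normal := Subgroup.normalizer_eq_top_iff.mp (top_le_iff.mp fun y _ => by
        obtain ⟨y', rfl⟩ := QuotientGroup.mk'_surjective _ y
        exact (show y' ∈ (Subgroup.normalizer (Z : Set (↥L ⧸ Cfsg.pCore p ↥L))).comap π from e ▸ Subgroup.mem_top _))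
      exact le_bot_iff.mp (hXO ▸ Core.le_pCore hZn
        (IsPGroup.map (fun y : Y' => ⟨1, Subtype.ext (by rw [pow_one]; exact hexp y.1 y.2)⟩) π))
    have hxL : x ∈ L₀ := hS.le hq
    exact ⟨ρ ⟨x, hNL.ge (Subgroup.mem_inf.mpr ⟨x.2, hxL⟩)⟩, rfl⟩
  have hFN : ∀ q, F' q ∈ Subgroup.normalizer (Z : Set (↥L ⧸ Cfsg.pCore p ↥L)) := fun q => by
    induction q using QuotientGroup.induction_on with
    | _ x => exact hnorm _ (Subgroup.mem_inf.mp (hNL.le x.2)).2
  have hYne : (Y.subgroupOf NL).map ρ ≠ ⊥ := fun e => hZne (by rw [← hYmap, e, Subgroup.map_bot])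
  have hYn : ((Y.subgroupOf NL).map ρ).Normal := by
    haveI : (Y.subgroupOf NL).Normal :=
      Subgroup.normal_subgroupOf_of_le_normalizer (hNL.le.trans inf_le_right)
    exact Subgroup.Normal.map inferInstance _ (QuotientGroup.mk'_surjective _)
  refine ⟨hYne, hYn, ⟨?_, ?_⟩, fun V hVn hVe hV1 => Subgroup.map_injective hinj (hYmap.symm ▸ ?_)⟩
  · refine Subgroup.le_centralizer_iff_isMulCommutative.mp ?_
    rintro _ ⟨a, ha, rfl⟩
    refine Subgroup.mem_centralizer_iff.mpr ?_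
    rintro _ ⟨b, hb, rfl⟩
    rw [← map_mul, ← map_mul]
    exact congrArg ρ (Subtype.ext (Subgroup.mem_centralizer_iff.mp
      ((Subgroup.le_centralizer_iff_isMulCommutative.mpr hel.1) ha) b hb))
  · rintro _ ⟨a, ha, rfl⟩
    rw [← map_pow, show a ^ p = 1 from Subtype.ext (hel.2 _ ha), map_one]
  have hVN : Subgroup.normalizer (Z : Set (↥L ⧸ Cfsg.pCore p ↥L)) ≤ Subgroup.normalizer (V.map F' : Set _) := by
    refine hNZ.trans ?_
    rw [MonoidHom.range_eq_map, ← Subgroup.normalizer_eq_top_iff.mpr hVn]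
    exact Subgroup.le_normalizer_map F'
  have hVp : IsPGroup p (V.map F') := IsPGroup.map (fun v : V => ⟨1, Subtype.ext (by rw [pow_one]; exact hVe.2 v v.2)⟩) F'
  have hVZ : V.map F' ≤ Z := by
    rintro _ ⟨v, hv, rfl⟩
    refine hOm (Z ⊔ V.map F') ((IsPGroup.map (fun y : Y' => ⟨1, Subtype.ext (by rw [pow_one]; exact hexp y.1 y.2)⟩) π).to_sup_of_normal_right'
      hVp (Subgroup.le_normalizer.trans hVN)) le_sup_left _ (Subgroup.mem_sup_right ⟨v, hv, rfl⟩) (by rw [← map_pow, hVe.2 v hv, map_one])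
  exact (hIrr _ hVZ hVN).resolve_left fun e => hV1 ((Subgroup.map_eq_bot_iff_of_injective _ hinj).mp e)


end Cfsg.Agent.S2861
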