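import Cfsg.Statements.S2863
import Cfsg.Agent.LocalEven.FrakLCases
import Cfsg.Agent.LocalEven.Dagger
import Cfsg.Agent.S2837

set_option autoImplicit false
open Cfsg

open scoped commutatorElement

namespace Cfsg.Agent.S2863

/-- Standing hypotheses: G a finite group, S a Sylow p-subgroup, Q a nontrivial large p-subgroup of G contained in S, M a subgroup containing S with the basic property (M ∈ 𝔐_G(S)); Y_M the largest p-reduced normal subgroup of M and M† = M·C_G(Y_M). Let L ∈ 𝔏_G(Y_M) (L ∈ 𝔏_G(Y_M): Y_M ≤ L; O_p(L) is the normal closure in L of Y_M ∩ O_p(L) and normalizes Y_M; L is Y_M-minimal of characteristic p with N_L(Y_M) its unique maximal subgroup over Y_M; and L/O_p(L) ≅ SL₂(q) with q = |Y_M : Y_M ∩ O_p(L)|, or p = 2 and L/O_p(L) is a Suzuki group Sz(q) or dihedral of order 2r, r an odd prime), A = O_p(L), and C = C_{Y_M}(L). Then every element h of L whose order is not a power of p acts without nontrivial fixed points on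 A/C: for a ∈ A, hah⁻¹a⁻¹ ∈ C implies a ∈ C. -/
theorem result {G : Type*} [Group G] [Finite G] {p : ℕ} [Fact p.Prime] (S : Sylow p G) (Q : Subgroup G) (hQp : IsPGroup p ↥Q) (hQ1 : Q ≠ ⊥) (hQS : Q ≤ (S : Subgroup G)) (hQ : Cfsg.IsLarge Q) (M : Subgroup G) (hSM : (S : Subgroup G) ≤ M) (hM : Cfsg.IsInFrakM p M) (L : Subgroup G) (hL : Cfsg.IsInFrakL p M L) (h : G) (hh : h ∈ L) (hnp : ¬ ∃ k : ℕ, orderOf h = p ^ k) : ∀ a ∈ (Cfsg.pCoreOf p L), h * a * h⁻¹ * a⁻¹ ∈ (Cfsg.largestPReducedOf p M) ⊓ Subgroup.centralizer ((L : Subgroup G) : Set G) → a ∈ (Cfsg.largestPReducedOf p M) ⊓ Subgroup.centralizer ((L : Subgroup G) : Set G) := by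
  classical
  obtain ⟨hYL, hA0, hAY0, hmin, hchar, ⟨hlt, hmax⟩, hcase⟩ := hL
  set Y := Cfsg.largestPReducedOf p M with hYdef
  set Y' := Y.subgroupOf L with hY'
  set L₀ := (Subgroup.normalizer (Y : Set G)).subgroupOf L with hL₀def
  have hA : Cfsg.pCore p ↥L =
      Subgroup.normalClosure ((Cfsg.pCore p ↥L ⊓ Y' : Subgroup ↥L) : Set ↥L) := by
    apply Subgroup.map_injective L.subtype_injective
    refine hA0.trans ?_
    congr 2
    ext x
    simp only [SetLike.mem_coe, Subgroup.mem_subgroupOf, Subgroup.mem_inf, hY']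
    exact ⟨fun ⟨a, b⟩ => ⟨by obtain ⟨w, hw, e⟩ := b; rwa [Subtype.ext (a1 := w) (a2 := x) e] at hw, a⟩,
      fun ⟨a, b⟩ => ⟨b, x, a, rfl⟩⟩
  have hN : Subgroup.normalizer (Y' : Set ↥L) = L₀ := by
    ext x
    refine ⟨fun hx => Subgroup.mem_normalizer_iff.mpr fun y => ?_, fun hx => Subgroup.mem_normalizer_iff.mpr fun y => ?_⟩
    · constructor
      · intro hy
        exact (Subgroup.mem_normalizer_iff.mp hx ⟨y, hYL hy⟩).mp hy
      · intro hy
        have hyL : y ∈ L := by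
          have := L.mul_mem (L.mul_mem (L.inv_mem x.2) (hYL hy)) x.2
          simpa [mul_assoc] using this
        exact (Subgroup.mem_normalizer_iff.mp hx ⟨y, hyL⟩).mpr hy
    · exact Subgroup.mem_normalizer_iff.mp hx y
  have hYL₀ : Y' ≤ L₀ := hN ▸ Subgroup.le_normalizer
  have hco : IsCoatom L₀ := by
    refine ⟨fun e => hlt.not_ge (le_inf le_rfl (Subgroup.subgroupOf_eq_top.mp e)), fun X hX => ?_⟩
    by_contra hne
    have hXL : X.map L.subtype < L := lt_of_le_of_ne (Subgroup.map_subtype_le X) fun e =>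
      hne (Subgroup.map_injective L.subtype_injective (by rw [e, ← MonoidHom.range_eq_map, Subgroup.range_subtype]))
    have h1 := hmax (X.map L.subtype) (fun y hy => ⟨⟨y, hYL hy⟩, hX.le (hYL₀ (show (⟨y, hYL hy⟩ : ↥L) ∈ Y' from hy)), rfl⟩) hXL
    exact hX.not_ge fun x hx => (Subgroup.mem_inf.mp (h1 ⟨x, hx, rfl⟩)).2
  have hel := LocalEven.reduced_elementary (LocalEven.largestOf_le M) (LocalEven.largestOf_reduced (p := p) M)
  rw [← hYdef] at hel
  have hexp : ∀ y ∈ Y', y ^ p = 1 := fun y hy => Subtype.ext (hel.2 _ hy)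
  have hYab : Y' ≤ Subgroup.centralizer (Y' : Set ↥L) := fun a ha => Subgroup.mem_centralizer_iff.mpr fun b hb =>
    Subtype.ext (Subgroup.mem_centralizer_iff.mp ((Subgroup.le_centralizer_iff_isMulCommutative.mpr hel.1) ha) b hb)
  have hel' : Cfsg.IsElementaryAbelian p Y' := ⟨Subgroup.le_centralizer_iff_isMulCommutative.mp hYab, hexp⟩
  have hOY : Cfsg.pCore p ↥L ≤ Subgroup.normalizer (Y' : Set ↥L) := fun x hx => hN.ge (hAY0 ⟨x, hx, rfl⟩)
  obtain ⟨g, hg⟩ : ∃ g : ↥L, g ∉ L₀ := not_forall.mp fun e => hco.1 (top_le_iff.mp fun x _ => e x)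
  obtain ⟨-, hAA1, -, hAA2, -⟩ := S2837.result hchar L₀ hco Y' hYL₀ hel' hmin hOY (Cfsg.pCore p ↥L) hA g hg
  set Z := Y'.map (QuotientGroup.mk' (Cfsg.pCore p ↥L))
  have hZcard : Nat.card Z = (Y ⊓ Cfsg.pCoreOf p L).relIndex Y := by
    set f := (QuotientGroup.mk' (Cfsg.pCore p ↥L)).comp Y'.subtype
    have h1 : f.range = Z := by rw [MonoidHom.range_comp, Subgroup.range_subtype]
    have h2 : f.ker = (Cfsg.pCore p ↥L).subgroupOf Y' := by
      rw [← MonoidHom.comap_ker, QuotientGroup.ker_mk']; rfl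
    rw [← h1, ← Subgroup.index_ker, h2]
    have h3 := Subgroup.relIndex_map_map_of_injective (H := Cfsg.pCore p ↥L) (K := Y') L.subtype_injective
    rw [Subgroup.subgroupOf_map_subtype, inf_of_le_left hYL] at h3
    rw [inf_comm, Subgroup.inf_relIndex_right]
    exact h3.symm
  have hXO : Cfsg.pCore p (↥L ⧸ Cfsg.pCore p ↥L) = ⊥ := Core.pCore_quotient_pCore p ↥L
  have hgen := LocalEven.sup_cj_eq_top hmin hco hYL₀ hg
  -- generation by two involutions
  have htwo : p = 2 → Nat.card Z = 2 →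
      LocalEven.OmegaIn p Z ∧ LocalEven.TwoProd p (↥L ⧸ Cfsg.pCore p ↥L) := by
    rintro rfl h2
    obtain ⟨⟨y, hy⟩, hy1⟩ := (Subgroup.ne_bot_iff_exists_ne_one).mp
      (show Z ≠ ⊥ from fun e => by rw [e, Subgroup.card_bot] at h2; exact absurd h2 (by norm_num))
    have hyy : y * y = 1 := by
      obtain ⟨w, hw, rfl⟩ := hy
      rw [← sq, ← map_pow, hexp w hw, map_one]
    have hZy : Z = Subgroup.zpowers y := by
      refine (Subgroup.eq_of_le_of_card_ge (Subgroup.zpowers_le.mpr hy) ?_).symm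
      have ho : orderOf y ∣ 2 := orderOf_dvd_of_pow_eq_one (by rw [sq, hyy])
      rcases (Nat.dvd_prime Nat.prime_two).mp ho with e | e
      · exact absurd (Subtype.ext (orderOf_eq_one_iff.mp e)) hy1
      · rw [h2, Nat.card_zpowers, e]
    set gb := QuotientGroup.mk' (Cfsg.pCore 2 ↥L) g
    have hmap := congrArg (Subgroup.map (QuotientGroup.mk' (Cfsg.pCore 2 ↥L))) hgen
    rw [Subgroup.map_sup, Subgroup.map_top_of_surjective _ (QuotientGroup.mk'_surjective _)] at hmap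
    have hcjmap : (LocalEven.cj g Y').map (QuotientGroup.mk' (Cfsg.pCore 2 ↥L)) ≤
        Subgroup.zpowers (gb * y * gb⁻¹) := by
      rintro _ ⟨_, ⟨w, hw, rfl⟩, rfl⟩
      obtain ⟨i, hi : y ^ i = _⟩ := hZy.le ⟨w, hw, rfl⟩
      refine ⟨i, ?_⟩
      show (gb * y * gb⁻¹) ^ i = _
      rw [conj_zpow, hi]
      simp [gb]
    have := LocalEven.two_involutions hXO hyy (y' := gb * y * gb⁻¹)
      (by rw [show gb * y * gb⁻¹ * (gb * y * gb⁻¹) = gb * (y * y) * gb⁻¹ by group, hyy, mul_one, mul_inv_cancel])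
      (top_le_iff.mp (hmap ▸ sup_le_sup hZy.le hcjmap))
    exact ⟨hZy ▸ this.1, this.2⟩
  have hcases : LocalEven.OmegaIn p Z ∧ LocalEven.TwoProd p (↥L ⧸ Cfsg.pCore p ↥L) := by
    rcases hcase with ⟨F, iF, iFF, hF, ⟨e⟩⟩ | ⟨rfl, F, iF, iFF, m, hF2, hF, ⟨e⟩⟩ | ⟨rfl, r, hr, hr2, ⟨e⟩⟩
    · have hZp : IsPGroup p Z := IsPGroup.map (fun y => ⟨1, Subtype.ext (by rw [pow_one]; exact hexp y.1 y.2)⟩) _
      haveI : CharP F p := by
        obtain ⟨q, hq⟩ := CharP.exists F
        obtain ⟨n, hqp, hn⟩ := FiniteField.card F q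
        obtain ⟨k, hk⟩ := IsPGroup.iff_card.mp hZp
        rw [hZcard, ← hF, hn] at hk
        have h1 : q ∣ p ^ k := hk ▸ dvd_pow_self q n.ne_zero
        rwa [← (Nat.prime_dvd_prime_iff_eq hqp Fact.out).mp (hqp.dvd_of_dvd_pow h1)]
      exact ⟨LocalEven.omegaIn_of_equiv e (LocalEven.omegaIn_sl2 (by
          rw [Subgroup.card_map_of_injective e.injective, hZcard, hF])),
        LocalEven.twoProd_of_equiv e LocalEven.twoProd_sl2⟩
    · rcases Nat.eq_zero_or_pos m with rfl | hm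
      · exact htwo rfl (by rw [hZcard, ← hF, hF2]; norm_num)
      have hctx : Suzuki.Ctx F m := ⟨hm, by rw [Nat.card_eq_fintype_card, hF2]⟩
      set e' := e.trans (Suzuki.lieEquiv hctx).symm
      refine ⟨LocalEven.omegaIn_of_equiv e' (LocalEven.omegaIn_sz hctx ?_ ?_),
        LocalEven.twoProd_of_equiv e' (LocalEven.twoProd_sz hctx)⟩
      · rintro _ ⟨_, ⟨w, hw, rfl⟩, rfl⟩
        rw [← sq, ← map_pow, ← map_pow, hexp w hw, map_one, map_one]
      · rw [Subgroup.card_map_of_injective e'.injective, hZcard, ← hF, hF2]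
    · refine htwo rfl ?_
      have hne : Nat.card Z ≠ 1 := fun e1 => by
        have h1 : Z = ⊥ := Subgroup.eq_bot_of_card_eq _ e1
        have h2 := congrArg (Subgroup.map (QuotientGroup.mk' (Cfsg.pCore 2 ↥L))) hgen
        rw [Subgroup.map_sup, Subgroup.map_top_of_surjective _ (QuotientGroup.mk'_surjective _)] at h2
        have h3 : (LocalEven.cj g Y').map (QuotientGroup.mk' (Cfsg.pCore 2 ↥L)) = ⊥ := by
          rw [eq_bot_iff]
          rintro _ ⟨_, ⟨w, hw, rfl⟩, rfl⟩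
          have h4 : QuotientGroup.mk' (Cfsg.pCore 2 ↥L) w = 1 := by
            have : QuotientGroup.mk' (Cfsg.pCore 2 ↥L) w ∈ Z := ⟨w, hw, rfl⟩
            rw [h1, Subgroup.mem_bot] at this
            exact this
          simp only [MulEquiv.coe_toMonoidHom, MulAut.conj_apply, Subgroup.mem_bot, map_mul, h4, mul_one, map_inv,
            mul_inv_cancel]
        rw [h3, show Y'.map (QuotientGroup.mk' (Cfsg.pCore 2 ↥L)) = ⊥ from h1, bot_sup_eq] at h2
        have h5 := congrArg (fun S : Subgroup (↥L ⧸ Cfsg.pCore 2 ↥L) => Nat.card S) h2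
        rw [Subgroup.card_bot, Subgroup.card_top, Nat.card_congr e.toEquiv, DihedralGroup.nat_card] at h5
        omega
      obtain ⟨k, hk⟩ := IsPGroup.iff_card.mp
        (IsPGroup.map (p := 2) (fun y : Y' => ⟨1, Subtype.ext (by rw [pow_one]; exact hexp y.1 y.2)⟩)
          (QuotientGroup.mk' (Cfsg.pCore 2 ↥L)) : IsPGroup 2 Z)
      have hd := Subgroup.card_subgroup_dvd_card Z
      rw [Nat.card_congr e.toEquiv, DihedralGroup.nat_card, hk] at hd
      rcases k with _ | _ | k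
      · exact absurd (by rw [hk]; norm_num) hne
      · rw [hk]; norm_num
      · have h4 : 2 * 2 ∣ 2 * r := (show 2 * 2 ∣ 2 ^ (k + 1 + 1) from ⟨2 ^ k, by ring⟩).trans hd
        exact absurd ((Nat.prime_dvd_prime_iff_eq Nat.prime_two hr).mp (Nat.dvd_of_mul_dvd_mul_left (by norm_num) h4)).symm hr2
  intro a ha hfix
  obtain ⟨a', ha', rfl⟩ := ha
  have hmem : ∀ c : ↥L, (c : G) ∈ Y ⊓ Subgroup.centralizer (L : Set G) ↔ c ∈ Y' ⊓ Subgroup.center ↥L := fun c => by
    rw [Subgroup.mem_inf, Subgroup.mem_inf, Subgroup.mem_centralizer_iff, Subgroup.mem_center_iff]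
    exact and_congr Iff.rfl ⟨fun hc x => Subtype.ext (hc x x.2), fun hc x hx => congrArg Subtype.val (hc ⟨x, hx⟩)⟩
  refine (hmem a').mpr (LocalEven.frakL_fix hmin hco hYL₀ hN hYab hOY hA (hAA1.trans_le hAA2) hexp hcases.1 hcases.2
    (h := ⟨h, hh⟩) (by rwa [Subgroup.orderOf_mk]) ha' ?_)
  exact (hmem _).mp (by rw [commutatorElement_def]; exact hfix)


end Cfsg.Agent.S2863
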