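import Cfsg.Statements.S2864
import Cfsg.Agent.LocalEven.Dagger
import Cfsg.Agent.S2845
import Cfsg.Agent.FGS3.FrattiniAction
import Cfsg.Agent.FGS4.Subnormal
import Cfsg.Agent.LocalEven.FStarP
import Cfsg.Agent.Components.Prelim

set_option autoImplicit false
open Cfsg

open scoped commutatorElement

namespace Cfsg.Agent.S2864

/-- Standing hypotheses: G a finite group, S a Sylow p-subgroup, Q a nontrivial large p-subgroup of G contained in S, M a subgroup containing S with the basic property (M ∈ 𝔐_G(S)); Y_M the largest p-reduced normal subgroup of M and M† = M·C_G(Y_M). Let I be a nontrivial normal p-subgroup of M and Y ≤ O_p(M†); let L be a subgroup of G containing Y and A a normal p-subgroup of L with I ≤ A ≤ M. If [Y, A] ≤ [I, A], then Y ≤ O_p(L). -/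
theorem result {G : Type*} [Group G] [Finite G] {p : ℕ} [Fact p.Prime] (S : Sylow p G) (Q : Subgroup G) (hQp : IsPGroup p ↥Q) (hQ1 : Q ≠ ⊥) (hQS : Q ≤ (S : Subgroup G)) (hQ : Cfsg.IsLarge Q) (M : Subgroup G) (hSM : (S : Subgroup G) ≤ M) (hM : Cfsg.IsInFrakM p M) (I : Subgroup G) (hI1 : I ≠ ⊥) (hIp : IsPGroup p ↥I) (hIM : I ≤ M ∧ M ≤ Subgroup.normalizer ((I : Subgroup G) : Set G)) (Y : Subgroup G) (hY : Y ≤ (Cfsg.pCoreOf p (M ⊔ Subgroup.centralizer (((Cfsg.largestPReducedOf p M) : Subgroup G) : Set G)))) (L : Subgroup G) (hYL : Y ≤ L) (A : Subgroup G) (hAp : IsPGroup p ↥A) (hAL : A ≤ L ∧ L ≤ Subgroup.normalizer ((A : Subgroup G) : Set G)) (hIA : I ≤ A) (hAM : A ≤ M) (hc : ⁅Y, A⁆ ≤ ⁅I, A⁆) : Y ≤ (Cfsg.pCoreOf p L) := by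
  classical
  have hpar := (S2845.result Q hQp hQ1 hQ).2.2
  set Md := M ⊔ Subgroup.centralizer (Cfsg.largestPReducedOf p M : Set G) with hMd
  set Om := LocalEven.op p Md
  obtain ⟨hAL, hLA⟩ := hAL
  set CA := L ⊓ Subgroup.centralizer (A : Set G) with hCA
  have hCAMd : CA ≤ Md :=
    ((inf_le_right.trans (Subgroup.centralizer_le hIA)).trans (Subgroup.centralizer_le_normalizer _)).trans
      (LocalEven.normalizer_le_dagger hpar S hSM hM hIp hI1 hIM.2)
  set Φ := (frattini ↥A).map A.subtype with hΦ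
  have hLΦ : L ≤ Subgroup.normalizer (Φ : Set G) := hLA.trans (LocalEven.normalizer_le_normalizer_map _)
  let K : Subgroup ↥L :=
    { carrier := {x | ∀ a ∈ A, (x : G) * a * (x : G)⁻¹ * a⁻¹ ∈ Φ}
      one_mem' := fun a _ => by simp
      mul_mem' := fun {u v} hu hv a ha => by
        have h1 := hu _ ((Subgroup.mem_normalizer_iff.mp (hLA v.2) a).mp ha)
        have h2 := Φ.mul_mem h1 (hv a ha)
        simpa [mul_assoc] using h2
      inv_mem' := fun {u} hu a ha => by
        have h1 := hu _ ((Subgroup.mem_normalizer_iff''.mp (hLA u.2) a).mp ha)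
        have h2 := Φ.inv_mem h1
        simpa [mul_assoc] using h2 }
  haveI hKn : K.Normal := ⟨fun x hx h a ha => by
    have h1 := (Subgroup.mem_normalizer_iff.mp (hLΦ h.2) _).mp
      (hx _ ((Subgroup.mem_normalizer_iff''.mp (hLA h.2) a).mp ha))
    simpa [mul_assoc] using h1⟩
  set C' := CA.subgroupOf L with hC'
  haveI hC'n : C'.Normal := Subgroup.normal_subgroupOf_of_le_normalizer
    ((le_inf Subgroup.le_normalizer (hLA.trans (LocalEven.normalizer_le_normalizer_cent A))).trans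
      Subgroup.inf_normalizer_le_normalizer_inf)
  have hAΦ : ⁅A, A⁆ ≤ Φ := by
    rw [← Subgroup.map_subtype_commutator]
    exact Subgroup.map_mono (FGS3.commutator_le_frattini hAp)
  have hYK : Y.subgroupOf L ≤ K := fun y hy a ha =>
    hAΦ ((hc.trans (Subgroup.commutator_mono hIA le_rfl)) (Subgroup.commutator_mem_commutator hy ha))
  have hKp : IsPGroup p ↥(K.map (QuotientGroup.mk' C')) := by
    rintro ⟨_, x, hx, rfl⟩
    obtain ⟨k, hk⟩ := LocalEven.coprime_pow_ppart (p := p) (x : G)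
    have h1 : (x : G) ^ p ^ k ∈ Subgroup.centralizer (A : Set G) := by
      refine FGS3.mem_centralizer_of_frattini hAp (hLA (L.pow_mem x.2 _)) hk fun a ha => ?_
      exact (pow_mem hx (p ^ k) : x ^ p ^ k ∈ K) a ha
    refine ⟨k, Subtype.ext ?_⟩
    show QuotientGroup.mk' C' x ^ p ^ k = 1
    rw [← map_pow]
    exact (QuotientGroup.eq_one_iff _).mpr (show ((x ^ p ^ k : ↥L) : G) ∈ CA from
      Subgroup.mem_inf.mpr ⟨(x ^ p ^ k).2, by rw [Subgroup.coe_pow]; exact h1⟩)
  set K₀ := C' ⊔ Y.subgroupOf L with hK₀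
  have hC'K : C' ≤ K := fun x hx a ha => by
    have h1 : (x : G) * a = a * (x : G) := (Subgroup.mem_centralizer_iff.mp (Subgroup.mem_inf.mp hx).2 a ha).symm
    rw [h1, mul_inv_cancel_right, mul_inv_cancel]
    exact Φ.one_mem
  have hK₀K : K₀ ≤ K := sup_le hC'K hYK
  have hK₀sn : K₀.IsSubnormal := by
    set π := QuotientGroup.mk' C'
    set Kb := K.map π
    haveI : Kb.Normal := hKn.map _ (QuotientGroup.mk'_surjective C')
    haveI : Group.IsNilpotent ↥Kb := hKp.isNilpotent
    have h1 : ((K₀.map π).subgroupOf Kb).IsSubnormal := FGS4.isSubnormal_of_isNilpotent _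
    have h2 : (K₀.map π).IsSubnormal :=
      Components.isSubnormal_of_subgroupOf (Subgroup.map_mono hK₀K) h1 (Subgroup.Normal.isSubnormal ‹Kb.Normal›)
    have h3 : (K₀.map π).comap π = K₀ := Subgroup.comap_map_eq_self (by
      rw [QuotientGroup.ker_mk']; exact le_sup_left)
    rw [← h3]
    exact h2.comap π
  have hK₀Md : K₀.map L.subtype ≤ Md := by
    rw [hK₀, Subgroup.map_sup, Subgroup.subgroupOf_map_subtype, Subgroup.subgroupOf_map_subtype]
    exact sup_le (inf_le_left.trans hCAMd) ((inf_le_left.trans hY).trans (LocalEven.op_le Md))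
  set P := K₀ ⊓ Om.subgroupOf L with hP
  have hPsn : P.IsSubnormal :=
    Subgroup.IsSubnormal.step _ K₀ inf_le_left hK₀sn (Subgroup.normal_subgroupOf_of_le_normalizer fun x hx => by
      refine Subgroup.mem_normalizer_iff.mpr fun y => ?_
      have h1 := LocalEven.map_pCore_normalized (p := p) Md (hK₀Md ⟨x, hx, rfl⟩)
      constructor
      · rintro ⟨hy1, hy2⟩
        exact ⟨K₀.mul_mem (K₀.mul_mem hx hy1) (K₀.inv_mem hx), (Subgroup.mem_normalizer_iff.mp h1 _).mp hy2⟩
      · rintro ⟨hy1, hy2⟩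
        refine ⟨?_, (Subgroup.mem_normalizer_iff.mp h1 _).mpr hy2⟩
        have := K₀.mul_mem (K₀.mul_mem (K₀.inv_mem hx) hy1) hx
        simpa [mul_assoc] using this)
  have hPp : IsPGroup p P := ((LocalEven.isPGroup_op Md).comap_of_injective L.subtype L.subtype_injective).to_le inf_le_right
  intro y hy
  exact ⟨⟨y, hYL hy⟩, Core.le_pCore_of_isSubnormal hPsn hPp
    ⟨Subgroup.mem_sup_right (show (⟨y, hYL hy⟩ : ↥L) ∈ Y.subgroupOf L from hy), hY hy⟩, rfl⟩


end Cfsg.Agent.S2864
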