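import Cfsg.Statements.S2872
import Cfsg.Agent.LocalEven.CentralTwoTransfer
import Cfsg.Agent.LocalEven.PReducedTheory

set_option autoImplicit false
open Cfsg

namespace Cfsg.Agent.S2872

/-- Let S be a Sylow 2-subgroup of the finite group G. Then G has a proper normal subgroup of 2-power index (O²(G) ≠ G), or Ω₁(Z(S)) is contained in the Frattini subgroup of S, or N_G(S) acts nontrivially on Ω₁(Z(S)) by conjugation. -/
theorem result {G : Type*} [Group G] [Finite G] (S : Sylow 2 G) : Cfsg.pResidual 2 G ≠ ⊤ ∨ Cfsg.omegaOne 2 ((S : Subgroup G) ⊓ Subgroup.centralizer ((S : Subgroup G) : Set G)) ≤ (frattini ↥(S : Subgroup G)).map (S : Subgroup G).subtype ∨ ∃ g ∈ Subgroup.normalizer ((S : Subgroup G) : Set G), ∃ z ∈ Cfsg.omegaOne 2 ((S : Subgroup G) ⊓ Subgroup.centralizer ((S : Subgroup G) : Set G)), g * z * g⁻¹ ≠ z := by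
  set P := (S : Subgroup G)
  set Z := Cfsg.omegaOne 2 (P ⊓ Subgroup.centralizer (P : Set G))
  by_cases h2 : Z ≤ (frattini ↥P).map P.subtype
  · exact Or.inr (Or.inl h2)
  by_cases h3 : ∃ g ∈ Subgroup.normalizer (P : Set G), ∃ z ∈ Z, g * z * g⁻¹ ≠ z
  · exact Or.inr (Or.inr h3)
  push Not at h3
  obtain ⟨z, hz, hzF⟩ := SetLike.not_le_iff_exists.mp h2
  obtain ⟨hz', hzp⟩ := (LocalEven.mem_omegaOne_iff (LocalEven.inf_centralizer_abelian _)).mp hz
  exact Or.inl (LocalEven.pResidual_ne_top_of_central S hz'.1 hz'.2 (by rw [← sq]; exact hzp) hzF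
    fun g hg => h3 g hg z hz)


end Cfsg.Agent.S2872
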