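import Cfsg.Statements.S2873
import Cfsg.Agent.FGS3.PGroupFrattini
import Cfsg.Agent.Core.Cores

set_option autoImplicit false
open Cfsg

namespace Cfsg.Agent.S2873

open Subgroup in
theorem elem_step {G : Type*} [Group G] [Finite G] (V : Subgroup G) [hVn : V.Normal]
    (hc : ∀ u ∈ V, ∀ v ∈ V, u * v = v * u) (h2 : ∀ v ∈ V, v * v = 1) (a a' : G) (ha : a * a = 1)
    (g : G) (hga : g * a * g⁻¹ = a')
    (hfix : ∀ v ∈ V, a * v = v * a → a' * v = v * a' → v = 1) :
    Nat.card ↥(V ⊓ centralizer ({a} : Set G)) ^ 2 = Nat.card ↥V ∧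
      ∀ v ∈ V, a * v = v * a → ∃ u ∈ V, v = u⁻¹ * a * u * a := by
  have hainv : a⁻¹ = a := inv_eq_of_mul_eq_one_right ha
  have hinv : ∀ v ∈ V, v⁻¹ = v := fun v hv => inv_eq_of_mul_eq_one_right (h2 v hv)
  have hmem : ∀ v ∈ V, v⁻¹ * a * v * a ∈ V := fun v hv => by
    have h := V.mul_mem (V.inv_mem hv) (hVn.conj_mem v hv a)
    rw [hainv] at h
    simpa [mul_assoc] using h
  let f : ↥V →* ↥V := MonoidHom.mk' (fun v => ⟨_, hmem v v.2⟩) fun u v => Subtype.ext (by
    show ((u : G) * v)⁻¹ * a * ((u : G) * v) * a = ((u : G)⁻¹ * a * u * a) * ((v : G)⁻¹ * a * v * a)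
    calc ((u : G) * v)⁻¹ * a * ((u : G) * v) * a = (v : G)⁻¹ * ((u : G)⁻¹ * a * u * a) * (a⁻¹ * v * a) := by group
      _ = ((u : G)⁻¹ * a * u * a) * (v : G)⁻¹ * (a⁻¹ * v * a) := by rw [hc _ (V.inv_mem v.2) _ (hmem u u.2)]
      _ = _ := by rw [hainv]; group)
  set C := V ⊓ centralizer ({a} : Set G) with hC
  set C' := V ⊓ centralizer ({a'} : Set G) with hC'
  have hker : f.ker = C.subgroupOf V := by
    ext v
    rw [MonoidHom.mem_ker, mem_subgroupOf, hC, mem_inf, mem_centralizer_singleton_iff]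
    constructor
    · intro h
      refine ⟨v.2, ?_⟩
      have h' : (v : G)⁻¹ * a * v * a = 1 := congrArg Subtype.val h
      rw [mul_eq_one_iff_eq_inv, hainv, mul_assoc, inv_mul_eq_iff_eq_mul] at h'
      exact h'.symm
    · rintro ⟨-, h⟩
      refine Subtype.ext ?_
      show (v : G)⁻¹ * a * v * a = 1
      rw [mul_assoc ((v : G)⁻¹) a, ← h, inv_mul_cancel_left, ha]
  have hrange : f.range.map V.subtype ≤ C := by
    rintro _ ⟨_, ⟨v, rfl⟩, rfl⟩
    refine mem_inf.mpr ⟨(f v).2, mem_centralizer_singleton_iff.mpr ?_⟩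
    show ((v : G)⁻¹ * a * v * a) * a = a * ((v : G)⁻¹ * a * v * a)
    have h := hinv _ (hmem v v.2)
    rw [show ((v : G)⁻¹ * a * v * a)⁻¹ = a * ((v : G)⁻¹ * a * v) by
      rw [mul_inv_rev, mul_inv_rev, mul_inv_rev, inv_inv, hainv, mul_assoc]] at h
    calc ((v : G)⁻¹ * a * v * a) * a = (a * ((v : G)⁻¹ * a * v)) * a := by rw [h]
      _ = _ := by group
  have hcard : Nat.card ↥V = Nat.card ↥f.range * Nat.card ↥C := by
    have h := f.ker.card_mul_index
    rw [index_ker, hker, Cfsg.Agent.Core.card_subgroupOf (inf_le_left : C ≤ V)] at h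
    rw [← h, mul_comm]
  have hr : Nat.card ↥f.range ≤ Nat.card ↥C := by
    rw [← card_map_of_injective (V.subtype_injective) (K := f.range)]
    exact card_le_of_le hrange
  have hC'card : Nat.card ↥C' = Nat.card ↥C := by
    have : C' = C.map (MulAut.conj g).toMonoidHom := by
      ext y
      constructor
      · intro hy
        obtain ⟨hyV, hyc⟩ := mem_inf.mp hy
        refine ⟨g⁻¹ * y * g, mem_inf.mpr ⟨by simpa using hVn.conj_mem y hyV g⁻¹, mem_centralizer_singleton_iff.mpr ?_⟩, ?_⟩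
        · have h := mem_centralizer_singleton_iff.mp hyc
          rw [← hga] at h
          calc g⁻¹ * y * g * a = g⁻¹ * (y * (g * a * g⁻¹)) * g := by group
            _ = g⁻¹ * ((g * a * g⁻¹) * y) * g := by rw [h]
            _ = _ := by group
        · show g * (g⁻¹ * y * g) * g⁻¹ = y
          group
      · rintro ⟨c, hc', rfl⟩
        obtain ⟨hcV, hcc⟩ := mem_inf.mp hc'
        refine mem_inf.mpr ⟨hVn.conj_mem c hcV g, mem_centralizer_singleton_iff.mpr ?_⟩
        show g * c * g⁻¹ * a' = a' * (g * c * g⁻¹)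
        have h := mem_centralizer_singleton_iff.mp hcc
        rw [← hga]
        calc g * c * g⁻¹ * (g * a * g⁻¹) = g * (c * a) * g⁻¹ := by group
          _ = g * (a * c) * g⁻¹ := by rw [h]
          _ = _ := by group
    rw [this]
    exact card_map_of_injective (show Function.Injective (MulAut.conj g).toMonoidHom from (MulAut.conj g).injective)
  have hprod : Nat.card ↥C * Nat.card ↥C' ≤ Nat.card ↥V := by
    rw [← Nat.card_prod]
    refine Nat.card_le_card_of_injective (fun t : ↥C × ↥C' => (⟨t.1 * t.2, V.mul_mem (mem_inf.mp t.1.2).1 (mem_inf.mp t.2.2).1⟩ : ↥V)) ?_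
    rintro ⟨u, w⟩ ⟨u', w'⟩ h
    have h' : (u : G) * w = u' * w' := congrArg Subtype.val h
    have h3 : (u' : G)⁻¹ * u = w' * (w : G)⁻¹ := by
      rw [inv_mul_eq_iff_eq_mul, ← mul_assoc, eq_mul_inv_iff_mul_eq]
      exact h'
    have h4 : (u' : G)⁻¹ * u = 1 := by
      refine hfix _ (V.mul_mem (V.inv_mem (mem_inf.mp u'.2).1) (mem_inf.mp u.2).1) ?_ ?_
      · exact (mem_centralizer_singleton_iff.mp ((centralizer ({a} : Set G)).mul_mem
          ((centralizer ({a} : Set G)).inv_mem (mem_inf.mp u'.2).2) (mem_inf.mp u.2).2)).symm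
      · rw [h3]
        exact (mem_centralizer_singleton_iff.mp ((centralizer ({a'} : Set G)).mul_mem
          (mem_inf.mp w'.2).2 ((centralizer ({a'} : Set G)).inv_mem (mem_inf.mp w.2).2))).symm
    have hu : u = u' := Subtype.ext (inv_mul_eq_one.mp h4).symm
    subst hu
    rw [mul_right_inj] at h'
    exact Prod.ext rfl (Subtype.ext h')
  rw [hC'card] at hprod
  have hsq : Nat.card ↥C ^ 2 = Nat.card ↥V := by
    rw [pow_two]
    exact le_antisymm hprod (hcard ▸ Nat.mul_le_mul_right _ hr)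
  refine ⟨hsq, fun v hv hav => ?_⟩
  have hreq : f.range.map V.subtype = C := by
    refine eq_of_le_of_card_ge hrange ?_
    rw [card_map_of_injective V.subtype_injective]
    rw [pow_two, hcard] at hsq
    exact (Nat.eq_of_mul_eq_mul_right Nat.card_pos hsq).le
  obtain ⟨_, ⟨u, rfl⟩, hu⟩ := hreq.ge (mem_inf.mpr ⟨hv, mem_centralizer_singleton_iff.mpr hav.symm⟩)
  exact ⟨u, u.2, hu.symm⟩


/-- Let G be a finite group and r an odd prime such that G ⧸ O₂(G) is dihedral of order 2r, and let R be a Sylow r-subgroup of G with C_{O₂(G)}(R) = 1. Then N_G(R) is dihedral of order 2r; for any involution a of N_G(R), every involution of G outside O₂(G) is conjugate to a; and |C_{O₂(G)}(a)|² = |O₂(G)|. -/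
theorem result {G : Type*} [Group G] [Finite G] {r : ℕ} [Fact r.Prime] (hr : r ≠ 2) [hN : (Cfsg.pCore 2 G).Normal] (hquot : Nonempty (G ⧸ Cfsg.pCore 2 G ≃* DihedralGroup r)) (R : Sylow r G) (hC : Cfsg.pCore 2 G ⊓ Subgroup.centralizer ((R : Subgroup G) : Set G) = ⊥) : Nonempty (↥(Subgroup.normalizer ((R : Subgroup G) : Set G)) ≃* DihedralGroup r) ∧ ∀ a : G, a ∈ Subgroup.normalizer ((R : Subgroup G) : Set G) → orderOf a = 2 → (∀ b : G, orderOf b = 2 → b ∉ Cfsg.pCore 2 G → ∃ g : G, g * a * g⁻¹ = b) ∧ Nat.card ↥(Cfsg.pCore 2 G ⊓ Subgroup.centralizer ({a} : Set G)) ^ 2 = Nat.card ↥(Cfsg.pCore 2 G) := by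
  classical
  haveI : Fact (Nat.Prime 2) := ⟨Nat.prime_two⟩
  set Q := Cfsg.pCore 2 G with hQdef
  haveI := hN
  obtain ⟨e⟩ := hquot
  have hr' := (Fact.out : r.Prime)
  haveI : NeZero r := ⟨hr'.ne_zero⟩
  have hQp : IsPGroup 2 ↥Q := Cfsg.Agent.Core.isPGroup_pCore 2 G
  obtain ⟨k, hk⟩ := IsPGroup.iff_card.mp hQp
  have hodd : Odd r := hr'.odd_of_ne_two hr
  have hcardG : Nat.card G = (2 * r) * 2 ^ k := by
    rw [Q.card_eq_card_quotient_mul_card_subgroup, Nat.card_congr e.toEquiv, hk, DihedralGroup.nat_card]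
  have hRcard : Nat.card ↥(R : Subgroup G) = r := by
    rw [Sylow.card_eq_multiplicity, hcardG]
    have : (2 * r * 2 ^ k).factorization r = 1 := by
      rw [show 2 * r * 2 ^ k = r * 2 ^ (k + 1) by ring, Nat.factorization_mul hr'.ne_zero (pow_ne_zero _ two_ne_zero),
        Finsupp.add_apply, hr'.factorization_self, Nat.factorization_pow, Finsupp.smul_apply,
        Nat.prime_two.factorization, Finsupp.single_eq_of_ne (Ne.symm (Ne.symm hr))]
      simp
    rw [this, pow_one]
  have hRQ : (R : Subgroup G) ⊓ Q = ⊥ := Subgroup.inf_eq_bot_of_coprime (by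
    rw [hRcard, hk]
    exact Nat.Coprime.pow_right k (Nat.coprime_two_right.mpr hodd))
  set π := QuotientGroup.mk' Q with hπ
  set N := Subgroup.normalizer ((R : Subgroup G) : Set G) with hNdef
  -- the normalizer is a complement
  have hNQ : N ⊓ Q = ⊥ := by
    rw [eq_bot_iff, ← hC]
    rintro n ⟨hn, hnQ⟩
    refine Subgroup.mem_inf.mpr ⟨hnQ, Subgroup.mem_centralizer_iff.mpr fun s hs => ?_⟩
    have h1 : n * s * n⁻¹ * s⁻¹ ∈ (R : Subgroup G) ⊓ Q := by
      refine ⟨(R : Subgroup G).mul_mem ((Subgroup.mem_normalizer_iff.mp hn s).mp hs) ((R : Subgroup G).inv_mem hs), ?_⟩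
      rw [show n * s * n⁻¹ * s⁻¹ = n * (s * n⁻¹ * s⁻¹) by group]
      exact Q.mul_mem hnQ (hN.conj_mem _ (Q.inv_mem hnQ) s)
    rw [hRQ, Subgroup.mem_bot, mul_inv_eq_one, mul_inv_eq_iff_eq_mul] at h1
    exact h1.symm
  set RQ := (R : Subgroup G) ⊔ Q with hRQdef
  have hRQn : RQ.Normal := by
    have hidx : RQ.index = 2 := by
      have hdisj : Nat.card ↥RQ = r * 2 ^ k := by
        rw [← hRcard, ← hk, ← Nat.card_prod]
        refine (Nat.card_congr ?_).symm
        refine Equiv.ofBijective (fun t : ↥(R : Subgroup G) × ↥Q => (⟨t.1 * t.2, Subgroup.mul_mem_sup t.1.2 t.2.2⟩ : ↥RQ)) ⟨?_, ?_⟩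
        · rintro ⟨u, w⟩ ⟨u', w'⟩ h
          have h' : (u : G) * w = u' * w' := congrArg Subtype.val h
          have h3 : (u' : G)⁻¹ * u = w' * (w : G)⁻¹ := by
            rw [inv_mul_eq_iff_eq_mul, ← mul_assoc, eq_mul_inv_iff_mul_eq]; exact h'
          have h4 : (u' : G)⁻¹ * u ∈ (R : Subgroup G) ⊓ Q :=
            ⟨(R : Subgroup G).mul_mem ((R : Subgroup G).inv_mem u'.2) u.2, h3 ▸ Q.mul_mem w'.2 (Q.inv_mem w.2)⟩
          rw [hRQ, Subgroup.mem_bot, inv_mul_eq_one] at h4
          have hu : u = u' := Subtype.ext h4.symm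
          subst hu
          rw [mul_right_inj] at h'
          exact Prod.ext rfl (Subtype.ext h')
        · rintro ⟨y, hy⟩
          have hy' : y ∈ (((R : Subgroup G) ⊔ Q : Subgroup G) : Set G) := hy
          rw [Subgroup.mul_normal] at hy'
          obtain ⟨u, hu, w, hw, rfl⟩ := Set.mem_mul.mp hy'
          exact ⟨(⟨u, hu⟩, ⟨w, hw⟩), rfl⟩
      have h := RQ.card_mul_index
      rw [hdisj, hcardG, show 2 * r * 2 ^ k = r * 2 ^ k * 2 by ring] at h
      exact Nat.eq_of_mul_eq_mul_left (Nat.mul_pos hr'.pos (by positivity)) h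
    exact Subgroup.normal_of_index_eq_two hidx
  have hsurj : ∀ g : G, ∃ n ∈ N, π n = π g := by
    intro g
    haveI := hRQn
    obtain ⟨S, hS⟩ := (IsPGroup.of_card (by rw [hRcard, pow_one]) : IsPGroup r ↥(R : Subgroup G)).comap_subtype (K := RQ) |>.exists_le_sylow
    have hSR : (S : Subgroup ↥RQ).map RQ.subtype = (R : Subgroup G) :=
      R.3 (S.2.map _) fun s hs => ⟨⟨s, Subgroup.mem_sup_left hs⟩, hS (show (⟨s, Subgroup.mem_sup_left hs⟩ : ↥RQ) ∈ (R : Subgroup G).subgroupOf RQ from hs), rfl⟩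
    have hfr := Sylow.normalizer_sup_eq_top S
    rw [hSR, hRQdef, ← sup_assoc, sup_eq_left.mpr (Subgroup.le_normalizer : (R : Subgroup G) ≤ N)] at hfr
    have hg : g ∈ ((N ⊔ Q : Subgroup G) : Set G) := by rw [hfr]; trivial
    rw [Subgroup.mul_normal] at hg
    obtain ⟨n, hn, w, hw, rfl⟩ := Set.mem_mul.mp hg
    exact ⟨n, hn, by rw [map_mul, show π w = 1 from (QuotientGroup.eq_one_iff w).mpr hw, mul_one]⟩
  let F : ↥N →* DihedralGroup r := (e.toMonoidHom.comp π).comp N.subtype
  have hFbij : Function.Bijective F := by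
    constructor
    · rw [← MonoidHom.ker_eq_bot_iff, eq_bot_iff]
      intro n hn
      have h1 : π (n : G) = 1 := e.injective (by rw [map_one]; exact hn)
      have h2 : (n : G) ∈ N ⊓ Q := ⟨n.2, (QuotientGroup.eq_one_iff _).mp h1⟩
      rw [hNQ, Subgroup.mem_bot] at h2
      exact Subgroup.mem_bot.mpr (Subtype.ext h2)
    · intro d
      obtain ⟨g, hg⟩ := QuotientGroup.mk'_surjective Q (e.symm d)
      obtain ⟨n, hn, hng⟩ := hsurj g
      refine ⟨⟨n, hn⟩, ?_⟩
      show e (π n) = d
      rw [hng, hg, e.apply_symm_apply]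
  let eN : ↥N ≃* DihedralGroup r := MulEquiv.ofBijective F hFbij
  refine ⟨⟨eN⟩, fun a haN ha2 => ?_⟩
  have haa : a * a = 1 := by
    rw [← pow_two]; exact orderOf_dvd_iff_pow_eq_one.mp ha2.dvd
  have hainv : a⁻¹ = a := inv_eq_of_mul_eq_one_right haa
  have hordN : ∀ n ∈ N, orderOf n ∣ r ∨ orderOf n = 2 := by
    intro n hn
    have h : orderOf n = orderOf (eN ⟨n, hn⟩) := by
      rw [MulEquiv.orderOf_eq, ← Subgroup.orderOf_coe]
    rw [h]
    cases eN ⟨n, hn⟩ with
    | r i => left; exact orderOf_dvd_of_pow_eq_one (by rw [DihedralGroup.r_pow]; simp)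
    | sr i => right; exact DihedralGroup.orderOf_sr i
  obtain ⟨⟨s, hsR⟩, hs⟩ := exists_prime_orderOf_dvd_card' (G := ↥(R : Subgroup G)) r (by rw [hRcard])
  have hso : orderOf s = r := by rw [← hs, Subgroup.orderOf_mk]
  have has : a * s ≠ s * a := by
    intro h
    have h1 : orderOf (a * s) = 2 * r := by
      rw [(show Commute a s from h).orderOf_mul_eq_mul_orderOf_of_coprime (by rw [ha2, hso]; exact Nat.coprime_two_left.mpr hodd), ha2, hso]
    rcases hordN _ (N.mul_mem haN (Subgroup.le_normalizer hsR)) with h2 | h2 <;> rw [h1] at h2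
    · have := Nat.le_of_dvd hr'.pos h2
      have := hr'.pos
      omega
    · have := hr'.two_le
      omega
  set a' := s * a * s⁻¹ with ha'
  have hgen : Subgroup.zpowers (a * a') = (R : Subgroup G) := by
    have hmem : a * a' ∈ (R : Subgroup G) := by
      have h1 := (Subgroup.mem_normalizer_iff.mp haN s).mp hsR
      rw [hainv] at h1
      have h2 := (R : Subgroup G).mul_mem h1 ((R : Subgroup G).inv_mem hsR)
      rwa [show a * a' = a * s * a * s⁻¹ by rw [ha']; group]
    have hne : a * a' ≠ 1 := by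
      intro h
      apply has
      rw [ha', mul_eq_one_iff_eq_inv', hainv] at h
      rw [mul_inv_eq_iff_eq_mul] at h
      exact h.symm
    refine Subgroup.eq_of_le_of_card_ge (Subgroup.zpowers_le.mpr hmem) (le_of_eq ?_)
    haveI : Fact (Nat.card ↥(R : Subgroup G)).Prime := ⟨by rw [hRcard]; exact hr'⟩
    rcases Subgroup.eq_bot_or_eq_top_of_prime_card (Subgroup.zpowers (⟨_, hmem⟩ : ↥(R : Subgroup G))) with h | h
    · exact absurd (congrArg Subtype.val (Subgroup.zpowers_eq_bot.mp h)) hne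
    · rw [← Subgroup.card_top (G := ↥(R : Subgroup G)), ← h, Nat.card_zpowers, Nat.card_zpowers, Subgroup.orderOf_mk]
  -- induction over normal subgroups of the core
  have main : ∀ (n : ℕ) (W : Subgroup G), W.Normal → W ≤ Q → Nat.card ↥W ≤ n →
      Nat.card ↥(W ⊓ Subgroup.centralizer ({a} : Set G)) ^ 2 = Nat.card ↥W ∧
      ∀ q ∈ W, a * q * a = q⁻¹ → ∃ u ∈ W, q = u⁻¹ * a * u * a := by
    intro n
    induction n with
    | zero => intro W _ _ h; exact absurd h (not_le.mpr Nat.card_pos)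
    | succ n ih =>
      intro W hWn hWQ hWc
      haveI := hWn
      by_cases hW1 : W = ⊥
      · subst hW1
        refine ⟨by simp, fun q hq _ => ⟨1, one_mem _, ?_⟩⟩
        rw [Subgroup.mem_bot.mp hq, inv_one, one_mul, mul_one, haa]
      have hWp : IsPGroup 2 ↥W := hQp.to_le hWQ
      haveI : Nontrivial ↥W := (Subgroup.nontrivial_iff_ne_bot W).mpr hW1
      set M := (frattini ↥W).map W.subtype with hM
      haveI : M.Normal := Cfsg.Agent.Core.normal_map_subtype_of_characteristic _
      have hMW : M ≤ W := Subgroup.map_subtype_le _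
      have hMlt : Nat.card ↥M ≤ n := by
        have hlt : Nat.card ↥M < Nat.card ↥W := by
          refine lt_of_le_of_ne (Subgroup.card_le_of_le hMW) fun heq => ?_
          rw [hM, Subgroup.card_map_of_injective W.subtype_injective] at heq
          have htop := Subgroup.eq_top_of_card_eq _ heq
          obtain ⟨K, hK, -⟩ := (eq_top_or_exists_le_coatom (⊥ : Subgroup ↥W)).resolve_left bot_ne_top
          exact hK.1 (top_le_iff.mp (htop ▸ frattini_le_coatom hK))
        omega
      obtain ⟨ih1, ih2⟩ := ih M inferInstance (hMW.trans hWQ) hMlt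
      set ρ := QuotientGroup.mk' M with hρ
      haveI : (W.map ρ).Normal := hWn.map ρ (QuotientGroup.mk'_surjective M)
      have hker : ∀ x : G, ρ x = 1 ↔ x ∈ M := fun x => QuotientGroup.eq_one_iff x
      -- fixed cosets
      have hstep := elem_step (W.map ρ) (by
          rintro _ ⟨u, hu, rfl⟩ _ ⟨v, hv, rfl⟩
          rw [← map_mul, ← map_mul]
          refine (QuotientGroup.eq).mpr ?_
          have hcm := Cfsg.Agent.FGS3.commutator_le_frattini hWp
            (Subgroup.commutator_mem_commutator (Subgroup.mem_top (⟨v, hv⟩⁻¹ : ↥W)) (Subgroup.mem_top (⟨u, hu⟩⁻¹ : ↥W)))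
          refine ⟨_, hcm, ?_⟩
          rw [commutatorElement_def]
          show v⁻¹ * u⁻¹ * v⁻¹⁻¹ * u⁻¹⁻¹ = (u * v)⁻¹ * (v * u)
          group) (by
          rintro _ ⟨u, hu, rfl⟩
          rw [← map_mul, hker]
          refine ⟨_, Cfsg.Agent.FGS3.pow_mem_frattini hWp (⟨u, hu⟩ : ↥W), ?_⟩
          show u ^ 2 = u * u
          rw [pow_two]) (ρ a) (ρ a') (by rw [← map_mul, haa, map_one]) (ρ s)
        (by rw [ha', map_mul, map_mul, map_inv]) (by
          rintro _ ⟨u, hu, rfl⟩ h1 h2
          -- the cyclic group acts on the coset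
          have hcomm : ∀ g ∈ (R : Subgroup G), ρ g * ρ u = ρ u * ρ g := by
            intro g hg
            rw [← hgen] at hg
            obtain ⟨i, rfl⟩ := Subgroup.mem_zpowers_iff.mp hg
            rw [map_zpow, map_mul]
            exact ((show Commute (ρ a) (ρ u) from h1).mul_left (show Commute (ρ a') (ρ u) from h2)).zpow_left i |>.eq
          -- fixed point in the coset
          let X := {x : G // x⁻¹ * u ∈ M}
          let σ : Function.End X := fun x => ⟨s * x.1 * s⁻¹, by
            rw [← hker, map_mul, map_inv, map_mul, map_mul, map_inv]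
            have hx : ρ x.1 = ρ u := QuotientGroup.eq.mpr x.2
            rw [hx, hcomm s hsR, mul_inv_cancel_right, inv_mul_cancel]⟩
          haveI : Fact r.Prime := ⟨hr'⟩
          have hσi : ∀ (m : ℕ) (x : X), (σ^[m] x).1 = s ^ m * x.1 * (s ^ m)⁻¹ := by
            intro m
            induction m with
            | zero => intro x; show x.1 = s ^ 0 * x.1 * (s ^ 0)⁻¹; rw [pow_zero, inv_one, one_mul, mul_one]
            | succ m ihm =>
              intro x
              rw [Function.iterate_succ_apply, ihm]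
              show s ^ m * (s * x.1 * s⁻¹) * (s ^ m)⁻¹ = _
              rw [pow_succ]; group
          have hσr : σ ^ r ^ 1 = 1 := by
            funext x
            refine Subtype.ext ?_
            show (σ^[r ^ 1] x).1 = x.1
            rw [hσi, pow_one, orderOf_dvd_iff_pow_eq_one.mp hso.dvd]
            simp
          letI := Fintype.ofFinite X
          have hmod := Equiv.Perm.card_fixedPoints_modEq hσr
          have hXc : Fintype.card X = Nat.card ↥M := by
            rw [← Nat.card_eq_fintype_card]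
            refine Nat.card_congr ⟨fun x => ⟨x.1⁻¹ * u, x.2⟩, fun m => ⟨u * (m : G)⁻¹, by simpa using m.2⟩, fun x => Subtype.ext (by simp), fun m => Subtype.ext (by simp)⟩
          obtain ⟨j, hj⟩ := IsPGroup.iff_card.mp (hWp.to_le hMW)
          rw [hXc, hj] at hmod
          obtain ⟨⟨x, hx⟩⟩ : Nonempty ↥(Function.fixedPoints σ) := by
            by_contra hne
            rw [not_nonempty_iff] at hne
            have : r ∣ 2 ^ j := Nat.modEq_zero_iff_dvd.mp (by simpa using hmod)
            exact hr ((Nat.prime_dvd_prime_iff_eq hr' Nat.prime_two).mp (hr'.dvd_of_dvd_pow this))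
          have hfx : s * x.1 * s⁻¹ = x.1 := congrArg Subtype.val hx
          have hxQ : x.1 ∈ Q := by
            have := W.mul_mem hu (W.inv_mem (hMW x.2))
            rw [mul_inv_rev, inv_inv, mul_inv_cancel_left] at this
            exact hWQ this
          have hsgen : Subgroup.zpowers s = (R : Subgroup G) :=
            Subgroup.eq_of_le_of_card_ge (Subgroup.zpowers_le.mpr hsR) (by rw [Nat.card_zpowers, hso, hRcard])
          have hx1 : x.1 ∈ Q ⊓ Subgroup.centralizer ((R : Subgroup G) : Set G) := by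
            refine ⟨hxQ, Subgroup.mem_centralizer_iff.mpr fun g hg => ?_⟩
            obtain ⟨i, rfl⟩ := Subgroup.mem_zpowers_iff.mp (hsgen.ge hg)
            exact ((show Commute s x.1 from mul_inv_eq_iff_eq_mul.mp hfx).zpow_left i).eq
          rw [hC, Subgroup.mem_bot] at hx1
          rw [hker]
          have := x.2
          rwa [hx1, inv_one, one_mul] at this)
      obtain ⟨hs1, hs2⟩ := hstep
      have hlift : ∀ u ∈ W, ρ a * ρ u = ρ u * ρ a → ∃ m ∈ M, a * (u * m⁻¹) = (u * m⁻¹) * a := by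
        intro u hu hc
        have hcM : u⁻¹ * a * u * a ∈ M := by
          rw [← hker, map_mul, map_mul, map_mul, map_inv, mul_assoc (ρ u)⁻¹, hc, inv_mul_cancel_left, ← map_mul, haa, map_one]
        obtain ⟨m, hm, hmc⟩ := ih2 _ hcM (by
          rw [mul_inv_rev, mul_inv_rev, mul_inv_rev, inv_inv, hainv]
          calc a * (u⁻¹ * a * u * a) * a = a * u⁻¹ * a * u * (a * a) := by group
            _ = a * (u⁻¹ * (a * u)) := by rw [haa]; group)
        refine ⟨m, hm, ?_⟩
        rw [mul_left_inj] at hmc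
        calc a * (u * m⁻¹) = u * (u⁻¹ * a * u) * m⁻¹ := by group
          _ = u * (m⁻¹ * a * m) * m⁻¹ := by rw [hmc]
          _ = _ := by group
      refine ⟨?_, ?_⟩
      · -- the centralizer covers the fixed points of the section
        set CW := W ⊓ Subgroup.centralizer ({a} : Set G) with hCW
        have himg : CW.map ρ = W.map ρ ⊓ Subgroup.centralizer ({ρ a} : Set (G ⧸ M)) := by
          ext y
          constructor
          · rintro ⟨c, hc, rfl⟩
            refine ⟨⟨c, hc.1, rfl⟩, Subgroup.mem_centralizer_singleton_iff.mpr ?_⟩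
            rw [← map_mul, ← map_mul, Subgroup.mem_centralizer_singleton_iff.mp hc.2]
          · rintro ⟨⟨u, hu, rfl⟩, hc⟩
            obtain ⟨m, hm, hmc⟩ := hlift u hu (Subgroup.mem_centralizer_singleton_iff.mp hc).symm
            refine ⟨u * m⁻¹, ⟨W.mul_mem hu (W.inv_mem (hMW hm)), Subgroup.mem_centralizer_singleton_iff.mpr hmc.symm⟩, ?_⟩
            rw [map_mul, map_inv, (hker m).mpr hm, inv_one, mul_one]
        have hsplit : ∀ X : Subgroup G, Nat.card ↥X = Nat.card ↥(X ⊓ M) * Nat.card ↥(X.map ρ) := by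
          intro X
          have h := (ρ.comp X.subtype).ker.card_mul_index
          rw [Subgroup.index_ker, MonoidHom.range_comp, Subgroup.range_subtype] at h
          rw [← h]
          congr 1
          rw [show (ρ.comp X.subtype).ker = (X ⊓ M).subgroupOf X by
            ext x; simp [Subgroup.mem_subgroupOf, hker]]
          exact Cfsg.Agent.Core.card_subgroupOf inf_le_left
        have hCM : CW ⊓ M = M ⊓ Subgroup.centralizer ({a} : Set G) := by
          rw [hCW, inf_right_comm, inf_eq_right.mpr hMW]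
        rw [hsplit CW, hsplit W, mul_pow, hCM, ih1, inf_eq_right.mpr hMW, himg, hs1]
      · intro q hq hinv
        have hqinv : q⁻¹ = a * q * a := hinv.symm
        have hρq : ρ a * ρ q = ρ q * ρ a := by
          have h2 : ρ q * ρ q = 1 := by
            rw [← map_mul, hker]
            refine ⟨_, Cfsg.Agent.FGS3.pow_mem_frattini hWp (⟨q, hq⟩ : ↥W), ?_⟩
            show q ^ 2 = q * q
            rw [pow_two]
          have h3 : ρ q = ρ a * ρ q * ρ a := by
            calc ρ q = (ρ q)⁻¹ := (inv_eq_of_mul_eq_one_right h2).symm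
              _ = ρ (a * q * a) := by rw [← map_inv, hqinv]
              _ = _ := by rw [map_mul, map_mul]
          conv_rhs => rw [h3]
          rw [mul_assoc (ρ a * ρ q), ← map_mul ρ a a, haa, map_one, mul_one]
        obtain ⟨_, ⟨u, hu, rfl⟩, huq⟩ := hs2 (ρ q) ⟨q, hq, rfl⟩ hρq
        set m := u * q * a * u⁻¹ * a with hmdef
        have hmM : m ∈ M := by
          rw [← hker, hmdef, map_mul, map_mul, map_mul, map_mul, map_inv, huq]
          calc ρ u * ((ρ u)⁻¹ * ρ a * ρ u * ρ a) * ρ a * (ρ u)⁻¹ * ρ a = ρ a * ρ u * (ρ a * ρ a) * (ρ u)⁻¹ * ρ a := by group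
            _ = 1 := by
              rw [← map_mul ρ a a, haa, map_one, mul_one, mul_inv_cancel_right, ← map_mul, haa, map_one]
        have hminv : a * m * a = m⁻¹ := by
          rw [hmdef]
          calc a * (u * q * a * u⁻¹ * a) * a = a * u * q * a * u⁻¹ * (a * a) := by group
            _ = a * u * (a * (a * q * a)) * u⁻¹ := by rw [haa, mul_one, ← mul_assoc a (a * q) a, ← mul_assoc a a q, haa, one_mul]; group
            _ = a * u * (a * q⁻¹) * u⁻¹ := by rw [hinv]
            _ = _ := by rw [mul_inv_rev, mul_inv_rev, mul_inv_rev, mul_inv_rev, inv_inv, hainv]; group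
        obtain ⟨v, hv, hvm⟩ := ih2 m hmM hminv
        refine ⟨v * u, W.mul_mem (hMW hv) hu, ?_⟩
        calc q = u⁻¹ * m * a * u * a := by
              rw [hmdef]
              calc q = q * a * (u⁻¹ * u) * a := by rw [inv_mul_cancel, mul_one, mul_assoc, haa, mul_one]
                _ = u⁻¹ * (u * q * a * u⁻¹) * (a * a) * u * a := by rw [haa]; group
                _ = _ := by group
          _ = u⁻¹ * (v⁻¹ * a * v) * (a * a) * u * a := by rw [hvm]; group
          _ = _ := by rw [haa]; group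
  obtain ⟨h1, h2⟩ := main _ Q inferInstance le_rfl le_rfl
  refine ⟨fun b hb hbQ => ?_, h1⟩
  -- involutions outside the core
  have hbar : ∀ x : G, orderOf x = 2 → x ∉ Q → ∃ i, e (π x) = DihedralGroup.sr i := by
    intro x hx hxQ
    have hxx : e (π x) ^ 2 = 1 := by
      rw [← map_pow, ← map_pow, orderOf_dvd_iff_pow_eq_one.mp hx.dvd, map_one, map_one]
    cases hc : e (π x) with
    | sr i => exact ⟨i, rfl⟩
    | r i =>
      exfalso
      rw [hc] at hxx
      have h3 : DihedralGroup.r i ^ r = 1 := by rw [DihedralGroup.r_pow]; simp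
      have h4 := pow_gcd_eq_one.mpr ⟨hxx, h3⟩
      rw [Nat.coprime_two_left.mpr hodd, pow_one] at h4
      exact hxQ ((QuotientGroup.eq_one_iff x).mp (e.injective (by rw [map_one]; exact hc.trans h4)))
  have haQ : a ∉ Q := fun h => by
    have h' : a ∈ N ⊓ Q := ⟨haN, h⟩
    rw [hNQ, Subgroup.mem_bot] at h'
    rw [h', orderOf_one] at ha2
    exact absurd ha2 (by norm_num)
  obtain ⟨i, hi⟩ := hbar a ha2 haQ
  obtain ⟨j, hj⟩ := hbar b hb hbQ
  obtain ⟨d, hd⟩ : ∃ d : DihedralGroup r, d * DihedralGroup.sr i * d⁻¹ = DihedralGroup.sr j := by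
    obtain ⟨t, ht⟩ := hodd
    refine ⟨DihedralGroup.r ((i - j) * ((t + 1 : ℕ) : ZMod r)), ?_⟩
    have h0 : ((2 * t + 1 : ℕ) : ZMod r) = 0 := by rw [← ht]; exact ZMod.natCast_self r
    rw [DihedralGroup.inv_r, DihedralGroup.r_mul_sr, DihedralGroup.sr_mul_r]
    congr 1
    push_cast at h0 ⊢
    linear_combination (j - i) * h0
  obtain ⟨g, hg⟩ := QuotientGroup.mk'_surjective Q (e.symm d)
  set b' := g⁻¹ * b * g with hb'
  have hb'q : a⁻¹ * b' ∈ Q := by
    rw [← QuotientGroup.eq]
    apply e.injective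
    show e (π a) = e (π (g⁻¹ * b * g))
    rw [map_mul, map_mul, map_mul, map_mul, map_inv, map_inv, hg, e.apply_symm_apply, hi, hj, ← hd]
    group
  have hbb : b' * b' = 1 := by
    have : b * b = 1 := by rw [← pow_two]; exact orderOf_dvd_iff_pow_eq_one.mp hb.dvd
    calc b' * b' = g⁻¹ * (b * b) * g := by rw [hb']; group
      _ = 1 := by rw [this]; group
  rw [hainv] at hb'q
  obtain ⟨u, -, hu⟩ := h2 _ hb'q (by
    rw [mul_inv_rev, hainv, inv_eq_of_mul_eq_one_right hbb, ← mul_assoc a a b', haa, one_mul])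
  refine ⟨g * (a * u⁻¹), ?_⟩
  have hb'' : b' = a * (u⁻¹ * a * u * a) := by rw [← hu, ← mul_assoc, haa, one_mul]
  calc g * (a * u⁻¹) * a * (g * (a * u⁻¹))⁻¹ = g * (a * (u⁻¹ * a * u * a⁻¹)) * g⁻¹ := by group
    _ = g * b' * g⁻¹ := by rw [hainv, ← hb'']
    _ = b := by rw [hb']; group


end Cfsg.Agent.S2873
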