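import Cfsg.Statements.S2874
import Mathlib


set_option autoImplicit false
open Cfsg

namespace Cfsg.Agent.S2874

set_option maxRecDepth 100000 in
set_option maxHeartbeats 1000000 in
/-- For k ≥ 2, any two subgroups of GL₂(ℤ/2ᵏℤ) (the automorphism group of the homocyclic group ℤ/2ᵏ × ℤ/2ᵏ) that are isomorphic to the alternating group of degree 4 are conjugate. -/
theorem result (k : ℕ) (hk : 2 ≤ k) (H₁ H₂ : Subgroup (GL (Fin 2) (ZMod (2 ^ k)))) (h₁ : Nonempty (↥H₁ ≃* ↥(alternatingGroup (Fin 4)))) (h₂ : Nonempty (↥H₂ ≃* ↥(alternatingGroup (Fin 4)))) : ∃ g : GL (Fin 2) (ZMod (2 ^ k)), H₂ = H₁.map (MulAut.conj g).toMonoidHom := by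
  classical
  haveI : Fact (Nat.Prime 3) := ⟨Nat.prime_three⟩
  haveI : NeZero (2 ^ k) := ⟨by positivity⟩
  -- the element of order three
  let W : GL (Fin 2) (ZMod (2 ^ k)) := ⟨!![0, -1; 1, -1], !![-1, 1; -1, 0],
    by ext i j; fin_cases i <;> fin_cases j <;> simp [Matrix.mul_apply, Fin.sum_univ_two],
    by ext i j; fin_cases i <;> fin_cases j <;> simp [Matrix.mul_apply, Fin.sum_univ_two]⟩
  obtain ⟨j, rfl⟩ : ∃ j, k = j + 2 := ⟨k - 2, by omega⟩
  set h : ZMod (2 ^ (j + 2)) := (2 : ZMod (2 ^ (j + 2))) ^ (j + 1) with hh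
  have hp : (2 : ZMod (2 ^ (j + 2))) ^ (j + 2) = 0 := by
    exact_mod_cast ZMod.natCast_self (2 ^ (j + 2))
  have h2h : h + h = 0 := by rw [hh, ← two_mul, ← pow_succ']; exact hp
  have hhh : h * h = 0 := by
    rw [hh, ← pow_add]
    exact pow_eq_zero_of_le (by omega) hp
  have htwo : ∀ b : ZMod (2 ^ (j + 2)), b + b = 0 → b = 0 ∨ b = h := by
    intro b hb
    obtain ⟨n, rfl⟩ := ZMod.natCast_zmod_surjective b
    have h1 : 2 ^ (j + 2) ∣ n + n := by
      rw [← ZMod.natCast_eq_zero_iff]; push_cast; exact hb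
    obtain ⟨c, hc⟩ := h1
    have hn : n = 2 ^ (j + 1) * c := by rw [pow_succ] at hc; linarith
    rcases Nat.even_or_odd c with ⟨d, hd⟩ | ⟨d, hd⟩
    · left
      rw [hn, hd]; push_cast
      linear_combination (d : ZMod (2 ^ (j + 2))) * hp
    · right
      rw [hn, hd, hh]; push_cast
      linear_combination (d : ZMod (2 ^ (j + 2))) * hp
  -- facts on the alternating group
  have A1 : ∀ t v : ↥(alternatingGroup (Fin 4)), t * t * t = 1 → t ≠ 1 → v * v = 1 →
      v * (t * v * t⁻¹) * (t * t * v * t⁻¹ * t⁻¹) = 1 := by decide +revert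
  have A2 : ∀ t x : ↥(alternatingGroup (Fin 4)), t * t * t = 1 → t ≠ 1 →
      ∃ v, v * v = 1 ∧ (x = v ∨ x = v * t ∨ x = v * t * t) := by decide +revert
  have A3 : (Finset.univ.filter fun v : ↥(alternatingGroup (Fin 4)) => v * v = 1).card = 4 := by decide +revert
  -- matrices
  let M : ZMod (2 ^ (j + 2)) → ZMod (2 ^ (j + 2)) → Matrix (Fin 2) (Fin 2) (ZMod (2 ^ (j + 2))) :=
    fun b c => !![1 + b + c, b; c, 1 + b + c]
  have hW1 : (W : Matrix (Fin 2) (Fin 2) (ZMod (2 ^ (j + 2)))) = !![0, -1; 1, -1] := rfl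
  have hW2 : ((W⁻¹ : GL (Fin 2) (ZMod (2 ^ (j + 2)))) : Matrix (Fin 2) (Fin 2) (ZMod (2 ^ (j + 2)))) = !![-1, 1; -1, 0] := rfl
  have hW3 : W * W * W = 1 := by
    apply Units.ext
    ext i l
    fin_cases i <;> fin_cases l <;> simp [hW1, Matrix.mul_apply, Fin.sum_univ_two]
  have hW0 : W ≠ 1 := fun e => by
    have := congrArg (fun g : GL (Fin 2) (ZMod (2 ^ (j + 2))) => g.1 1 0) e
    simp [hW1] at this
    exact (ne_of_gt (Nat.one_lt_two_pow (by omega : j + 2 ≠ 0))) (by
      have h5 := (ZMod.val_one_eq_one_mod (2 ^ (j + 2))).symm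
      rw [this, ZMod.val_zero, Nat.one_mod_eq_zero_iff] at h5
      exact h5)
  -- normal form of the involutions
  have hform : ∀ v : GL (Fin 2) (ZMod (2 ^ (j + 2))), v * v = 1 →
      v * (W * v * W⁻¹) * (W * W * v * W⁻¹ * W⁻¹) = 1 →
      ∃ b ∈ ({0, h} : Finset (ZMod (2 ^ (j + 2)))), ∃ c ∈ ({0, h} : Finset (ZMod (2 ^ (j + 2)))), v.1 = M b c := by
    intro v hv hprod
    have hdv : (v.1.det) * v.1.det = 1 := by
      rw [← Matrix.det_mul, ← Units.val_mul, hv, Units.val_one, Matrix.det_one]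
    have hWd : W.1.det = 1 := by rw [hW1, Matrix.det_fin_two_of]; ring
    have hWd' : (W⁻¹).1.det = 1 := by rw [hW2, Matrix.det_fin_two_of]; ring
    have hd : v.1.det = 1 := by
      have h5 := congrArg (fun g : GL (Fin 2) (ZMod (2 ^ (j + 2))) => g.1.det) hprod
      simp only [Units.val_mul, Matrix.det_mul, hWd, hWd', Units.val_one, Matrix.det_one, one_mul, mul_one] at h5
      rw [hdv, one_mul] at h5
      exact h5
    have hadj : Matrix.adjugate v.1 = v.1 := by
      have h5 : Matrix.adjugate v.1 * v.1 = 1 := by rw [Matrix.adjugate_mul, hd, one_smul]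
      calc Matrix.adjugate v.1 = Matrix.adjugate v.1 * (v.1 * v.1) := by rw [← Units.val_mul, hv, Units.val_one, mul_one]
        _ = v.1 := by rw [← mul_assoc, h5, one_mul]
    rw [Matrix.adjugate_fin_two] at hadj
    have had : v.1 1 1 = v.1 0 0 := by simpa using congrFun (congrFun hadj 0) 0
    have hb' : -v.1 0 1 = v.1 0 1 := by simpa using congrFun (congrFun hadj 0) 1
    have hc' : -v.1 1 0 = v.1 1 0 := by simpa using congrFun (congrFun hadj 1) 0
    have hb := htwo _ (show v.1 0 1 + v.1 0 1 = 0 by linear_combination -hb')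
    have hc := htwo _ (show v.1 1 0 + v.1 1 0 = 0 by linear_combination -hc')
    set a := v.1 0 0 with ha
    set b := v.1 0 1 with hbd
    set c := v.1 1 0 with hcd
    have hv1 : v.1 = !![a, b; c, a] := by
      ext i l
      fin_cases i <;> fin_cases l <;> simp [a, b, c, had]
    have h2b : b + b = 0 := by linear_combination -hb'
    have h2c : c + c = 0 := by linear_combination -hc'
    have hbb : b * b = 0 := by rcases hb with e | e <;> simp [e, hhh]
    have hcc : c * c = 0 := by rcases hc with e | e <;> simp [e, hhh]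
    have hbc : b * c = 0 := by rcases hb with e | e <;> rcases hc with e' | e' <;> simp [e, e', hhh]
    have haa : a * a = 1 := by
      rw [hv1, Matrix.det_fin_two_of] at hd
      linear_combination hd + hbc
    have h00 := congrArg (fun g : GL (Fin 2) (ZMod (2 ^ (j + 2))) => g.1 0 0) hprod
    simp [hv1, hW1, hW2, Matrix.mul_apply, Fin.sum_univ_two] at h00
    refine ⟨b, ?_, c, ?_, ?_⟩
    · rcases hb with e | e <;> simp [e]
    · rcases hc with e | e <;> simp [e]
    · have ha1 : a = 1 + b + c := by grind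
      show v.1 = !![1 + b + c, b; c, 1 + b + c]
      rw [hv1, ha1]
  -- a subgroup containing W is determined
  have huniq : ∀ H H' : Subgroup (GL (Fin 2) (ZMod (2 ^ (j + 2)))), Nonempty (↥H ≃* ↥(alternatingGroup (Fin 4))) →
      Nonempty (↥H' ≃* ↥(alternatingGroup (Fin 4))) → W ∈ H → W ∈ H' → H ≤ H' := by
    intro H H' ⟨e⟩ ⟨e'⟩ hH hH'
    let S : Finset (Matrix (Fin 2) (Fin 2) (ZMod (2 ^ (j + 2)))) :=
      (({0, h} : Finset (ZMod (2 ^ (j + 2)))) ×ˢ ({0, h} : Finset (ZMod (2 ^ (j + 2))))).image fun q => M q.1 q.2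
    have hS : S.card ≤ 4 := Finset.card_image_le.trans (by
      rw [Finset.card_product]
      calc _ ≤ 2 * 2 := Nat.mul_le_mul Finset.card_le_two Finset.card_le_two
        _ = 4 := rfl)
    have hmem : ∀ (K : Subgroup (GL (Fin 2) (ZMod (2 ^ (j + 2))))) (f : ↥K ≃* ↥(alternatingGroup (Fin 4))) (hK : W ∈ K),
        ∀ v : ↥K, v * v = 1 → v.1.1 ∈ S := by
      intro K f hK v hv
      have h6 : (f ⟨W, hK⟩) * f ⟨W, hK⟩ * f ⟨W, hK⟩ = 1 := by
        rw [← map_mul, ← map_mul, ← map_one f]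
        exact congrArg f (Subtype.ext hW3)
      have h7 : f ⟨W, hK⟩ ≠ 1 := by
        intro h8
        rw [← map_one f] at h8
        exact hW0 (congrArg Subtype.val (f.injective h8))
      have h8 := A1 _ (f v) h6 h7 (by rw [← map_mul, hv, map_one])
      simp only [← map_inv, ← map_mul] at h8
      rw [← map_one f] at h8
      obtain ⟨b, hb, c, hc, he⟩ := hform v.1 (congrArg Subtype.val hv) (congrArg Subtype.val (f.injective h8))
      exact Finset.mem_image.mpr ⟨(b, c), Finset.mem_product.mpr ⟨hb, hc⟩, he.symm⟩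
    have hfull : ∀ m ∈ S, ∃ v : ↥H', v.1.1 = m := by
      have h9 : (Finset.univ.filter fun v : ↥(alternatingGroup (Fin 4)) => v * v = 1).image
          (fun v => (e'.symm v).1.1) = S := by
        refine Finset.eq_of_subset_of_card_le ?_ ?_
        · intro m hm
          obtain ⟨v, hv, rfl⟩ := Finset.mem_image.mp hm
          refine hmem H' e' hH' _ ?_
          rw [← map_mul, (Finset.mem_filter.mp hv).2, map_one]
        · rw [Finset.card_image_of_injective _ (fun a b hab => e'.symm.injective (Subtype.ext (Units.ext hab))), A3]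
          exact hS
      intro m hm
      rw [← h9] at hm
      obtain ⟨v, -, rfl⟩ := Finset.mem_image.mp hm
      exact ⟨_, rfl⟩
    intro x hx
    obtain ⟨v, hv, hx'⟩ := A2 (e ⟨W, hH⟩) (e ⟨x, hx⟩) (by
        rw [← map_mul, ← map_mul, ← map_one e]
        exact congrArg e (Subtype.ext hW3)) (by
        intro h8
        rw [← map_one e] at h8
        exact hW0 (congrArg Subtype.val (e.injective h8)))
    obtain ⟨u, rfl⟩ := e.surjective v
    obtain ⟨u', hu'⟩ := hfull _ (hmem H e hH u (e.injective (by rw [map_mul, hv, map_one])))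
    have hu : (u : GL (Fin 2) (ZMod (2 ^ (j + 2)))) ∈ H' := by rw [← Units.ext hu']; exact u'.2
    simp only [← map_mul] at hx'
    rcases hx' with h5 | h5 | h5 <;> rw [show x = _ from congrArg Subtype.val (e.injective h5)]
    · exact hu
    · exact mul_mem hu hH'
    · exact mul_mem (mul_mem hu hH') hH'
  -- Sylow three subgroups
  have hcard : ∀ t : GL (Fin 2) (ZMod (2 ^ (j + 2))), orderOf t = 3 → ¬ 3 ∣ (Subgroup.zpowers t).index := by
    intro t ht h3
    obtain ⟨a, ha⟩ : 9 ∣ Nat.card (GL (Fin 2) (ZMod (2 ^ (j + 2)))) := by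
      rw [← Subgroup.index_mul_card (Subgroup.zpowers t), Nat.card_zpowers, ht]
      exact mul_dvd_mul h3 dvd_rfl
    let f : GL (Fin 2) (ZMod (2 ^ (j + 2))) →* GL (Fin 2) (ZMod 2) :=
      Units.map ((ZMod.castHom (dvd_pow_self 2 (by omega : j + 2 ≠ 0)) (ZMod 2)).mapMatrix.toMonoidHom)
    have hker : IsPGroup 2 ↥f.ker := by
      intro g
      refine ⟨j + 2, ?_⟩
      have key : ∀ n, ∀ x : Matrix (Fin 2) (Fin 2) (ZMod (2 ^ (j + 2))),
          (∀ i l, (ZMod.castHom (dvd_pow_self 2 (by omega : j + 2 ≠ 0)) (ZMod 2)) ((x - 1) i l) = 0) →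
          ∃ y, x ^ 2 ^ n = 1 + ((2 : ZMod (2 ^ (j + 2))) ^ (n + 1)) • y := by
        intro n
        induction n with
        | zero =>
          intro x hx
          have hex : ∀ i l, ∃ y, (x - 1) i l = 2 * y := by
            intro i l
            obtain ⟨m, hm⟩ := ZMod.natCast_zmod_surjective ((x - 1) i l)
            have h5 := hx i l
            rw [← hm, map_natCast, ZMod.natCast_eq_zero_iff] at h5
            obtain ⟨d, rfl⟩ := h5
            exact ⟨d, by rw [← hm]; push_cast; rfl⟩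
          choose y hy using hex
          refine ⟨Matrix.of y, ?_⟩
          rw [pow_zero, pow_one, zero_add, pow_one, eq_add_of_sub_eq' rfl (a := x) (b := (1 : Matrix (Fin 2) (Fin 2) (ZMod (2 ^ (j + 2)))))]
          congr 1
          ext i l
          simp [hy]
        | succ n ih =>
          intro x hx
          obtain ⟨y, hy⟩ := ih x hx
          refine ⟨y + ((2 : ZMod (2 ^ (j + 2))) ^ n) • (y * y), ?_⟩
          rw [pow_succ 2 n, pow_mul, hy, sq, mul_add, add_mul, add_mul, one_mul, mul_one, one_mul,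
            Matrix.smul_mul, Matrix.mul_smul, smul_smul, smul_add, smul_smul, add_assoc, ← add_assoc (_ • y),
            ← add_smul]
          congr 1
          congr 1
          · ring_nf
          · congr 1; ring
      obtain ⟨y, hy⟩ := key (j + 2) g.1.1 (by
        intro i l
        have h5 := congrArg (fun u : GL (Fin 2) (ZMod 2) => u.1 i l) (MonoidHom.mem_ker.mp g.2)
        simp [f] at h5
        simp [h5, Matrix.one_apply]
        split <;> simp)
      refine Subtype.ext (Units.ext ?_)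
      rw [Subgroup.coe_pow, Units.val_pow_eq_pow_val, hy, pow_succ (2 : ZMod (2 ^ (j + 2))) (j + 2), hp, zero_mul, zero_smul, add_zero]
      rfl
    obtain ⟨m, hm⟩ := IsPGroup.iff_card.mp hker
    have hidx : Nat.card (GL (Fin 2) (ZMod 2)) = 6 := by
      rw [Matrix.card_GL_field, Fin.prod_univ_two]
      simp [ZMod.card]
    have hdvd : Nat.card (GL (Fin 2) (ZMod (2 ^ (j + 2)))) ∣ 6 * 2 ^ m := by
      rw [← Subgroup.index_mul_card f.ker, hm, Subgroup.index_ker, ← hidx]
      exact mul_dvd_mul (Subgroup.card_subgroup_dvd_card _) dvd_rfl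
    have h9 : 3 ∣ 2 * 2 ^ m := by
      have := (Dvd.intro a ha.symm).trans hdvd
      rw [show 6 * 2 ^ m = 3 * (2 * 2 ^ m) by ring] at this
      exact (Nat.mul_dvd_mul_iff_left (by norm_num : 0 < 3)).mp (this : 3 * 3 ∣ _)
    rw [← pow_succ'] at h9
    exact absurd ((Nat.prime_dvd_prime_iff_eq Nat.prime_three Nat.prime_two).mp (Nat.prime_three.dvd_of_dvd_pow h9)) (by norm_num)
  have hWo : orderOf W = 3 := orderOf_eq_prime (by rw [pow_three, ← mul_assoc]; exact hW3) hW0
  have hconj : ∀ H : Subgroup (GL (Fin 2) (ZMod (2 ^ (j + 2)))), Nonempty (↥H ≃* ↥(alternatingGroup (Fin 4))) →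
      ∃ g, W ∈ H.map (MulAut.conj g).toMonoidHom := by
    intro H ⟨e⟩
    obtain ⟨t, ht⟩ := exists_prime_orderOf_dvd_card' (G := ↥(alternatingGroup (Fin 4))) 3
      (by rw [Nat.card_eq_fintype_card]; decide +revert)
    have hto : orderOf (e.symm t : GL (Fin 2) (ZMod (2 ^ (j + 2)))) = 3 := by
      rw [Subgroup.orderOf_coe, MulEquiv.orderOf_eq]; exact ht
    let P : Sylow 3 (GL (Fin 2) (ZMod (2 ^ (j + 2)))) :=
      (IsPGroup.of_card (n := 1) (by rw [Nat.card_zpowers, hto, pow_one])).toSylow (hcard _ hto)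
    let Q : Sylow 3 (GL (Fin 2) (ZMod (2 ^ (j + 2)))) :=
      (IsPGroup.of_card (n := 1) (by rw [Nat.card_zpowers, hWo, pow_one])).toSylow (hcard _ hWo)
    obtain ⟨g, hg⟩ := MulAction.exists_smul_eq (GL (Fin 2) (ZMod (2 ^ (j + 2)))) P Q
    refine ⟨g, ?_⟩
    have h5 : W ∈ (Q : Subgroup (GL (Fin 2) (ZMod (2 ^ (j + 2))))) := Subgroup.mem_zpowers W
    rw [← hg, Sylow.coe_subgroup_smul] at h5
    obtain ⟨y, hy, hye⟩ := h5
    exact ⟨y, (Subgroup.zpowers_le.mpr (SetLike.coe_mem (e.symm t))) hy, hye⟩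
  obtain ⟨g₁, hg₁⟩ := hconj H₁ h₁
  obtain ⟨g₂, hg₂⟩ := hconj H₂ h₂
  have hiso : ∀ (H : Subgroup (GL (Fin 2) (ZMod (2 ^ (j + 2))))) g, Nonempty (↥H ≃* ↥(alternatingGroup (Fin 4))) →
      Nonempty (↥(H.map (MulAut.conj g).toMonoidHom) ≃* ↥(alternatingGroup (Fin 4))) := fun H g ⟨e⟩ =>
    ⟨(H.equivMapOfInjective _ (MulAut.conj g).injective).symm.trans e⟩
  have heq := le_antisymm (huniq _ _ (hiso H₁ g₁ h₁) (hiso H₂ g₂ h₂) hg₁ hg₂) (huniq _ _ (hiso H₂ g₂ h₂) (hiso H₁ g₁ h₁) hg₂ hg₁)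
  refine ⟨g₂⁻¹ * g₁, ?_⟩
  have h5 := congrArg (Subgroup.map (MulAut.conj g₂⁻¹).toMonoidHom) heq
  rw [Subgroup.map_map, Subgroup.map_map] at h5
  have e1 : (MulAut.conj g₂⁻¹).toMonoidHom.comp (MulAut.conj g₁).toMonoidHom = (MulAut.conj (g₂⁻¹ * g₁)).toMonoidHom := by
    ext x : 1; simp [mul_assoc]
  have e2 : (MulAut.conj g₂⁻¹).toMonoidHom.comp (MulAut.conj g₂).toMonoidHom = MonoidHom.id _ := by
    ext x : 1; simp [mul_assoc]
  rw [e1, e2, Subgroup.map_id] at h5
  exact h5.symm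


end Cfsg.Agent.S2874
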