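import Cfsg.Statements.S2879
import Cfsg.Agent.Transfer.QuaternionSection
import Cfsg.Agent.SmallOrder.SolvRegular
import Cfsg.Agent.OddLocal.UniqueSubgroup
import Cfsg.Agent.Core.PiSeparable
import Cfsg.Agent.Core.Cores
import Cfsg.Agent.PermGroups.RegularLinearNormal

set_option autoImplicit false
open Cfsg

namespace Cfsg.Agent.S2879

theorem q8_of_odd_action {G : Type*} [Group G] [Finite G] (Q X : Subgroup G) [Q.Normal] (T : Subgroup G)
    (hT : IsPGroup 2 ↥T) (hQT : Q ≤ T) (hXc : IsCyclic ↥X) (hXi : ∀ a ∈ T, ∀ b ∈ T, a ∉ X → b ∉ X → a⁻¹ * b ∈ X)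
    (hout : ∀ a ∈ T, a ∉ X → a ^ 4 = 1) (z : G) (hzQ : z ∈ Q) (hz1 : z ≠ 1) (g : G) (hg : Odd (orderOf g))
    (hgz : g * z * g⁻¹ = z) (hgC : g ∉ Subgroup.centralizer (Q : Set G)) :
    Nonempty (↥Q ≃* QuaternionGroup 2) := by
  classical
  haveI : Fact (Nat.Prime 2) := ⟨Nat.prime_two⟩
  have hQp : IsPGroup 2 ↥Q := hT.to_le hQT
  have hQn : ∀ a ∈ Q, g * a * g⁻¹ ∈ Q := fun a ha => (inferInstance : Q.Normal).conj_mem a ha g
  haveI : IsCyclic ↥(Q ⊓ X : Subgroup G) :=
    isCyclic_of_injective (Subgroup.inclusion (inf_le_right : Q ⊓ X ≤ X)) (Subgroup.inclusion_injective _)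
  obtain ⟨⟨c, hcQ, hcX⟩, hcgen⟩ := IsCyclic.exists_generator (α := ↥(Q ⊓ X : Subgroup G))
  have hgen : ∀ a ∈ Q, a ∈ X → a ∈ Subgroup.zpowers c := fun a h1 h2 => by
    obtain ⟨i, hi⟩ := Subgroup.mem_zpowers_iff.mp (hcgen ⟨a, h1, h2⟩)
    exact Subgroup.mem_zpowers_iff.mpr ⟨i, congrArg Subtype.val hi⟩
  have hcle : Subgroup.zpowers c ≤ X := Subgroup.zpowers_le.mpr hcX
  obtain ⟨k, hk⟩ : ∃ k, orderOf c = 2 ^ k := by
    obtain ⟨k, hk⟩ := IsPGroup.iff_orderOf.mp hQp ⟨c, hcQ⟩
    exact ⟨k, by rw [← hk, Subgroup.orderOf_mk]⟩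
  -- the odd element does not fix the cyclic part
  have hnfix : g * c * g⁻¹ ∉ Subgroup.zpowers c := by
    intro hmem
    apply hgC
    have hfix := Cfsg.Agent.Transfer.QSec.fix_of_cyclic ⟨k, hk⟩ hg hmem
    have hcg : Commute g c := mul_inv_eq_iff_eq_mul.mp hfix
    rw [Subgroup.mem_centralizer_iff]
    intro a ha
    by_cases haX : a ∈ X
    · obtain ⟨i, rfl⟩ := Subgroup.mem_zpowers_iff.mp (hgen a ha haX)
      exact (hcg.zpow_right i).eq.symm
    have hgaX : g * a * g⁻¹ ∉ X := by
      intro h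
      obtain ⟨i, hi⟩ := Subgroup.mem_zpowers_iff.mp (hgen _ (hQn a ha) h)
      apply haX
      have h3 : g * a * g⁻¹ = g * c ^ i * g⁻¹ := by
        rw [← hi, (hcg.zpow_right i).eq, mul_inv_cancel_right]
      rw [mul_left_cancel (mul_right_cancel h3)]
      exact X.zpow_mem hcX i
    obtain ⟨i, hi⟩ := Subgroup.mem_zpowers_iff.mp
      (hgen _ (Q.mul_mem (Q.inv_mem ha) (hQn a ha)) (hXi a (hQT ha) _ (hQT (hQn a ha)) haX hgaX))
    have hgd : g * (c ^ i) * g⁻¹ = c ^ i := by rw [(hcg.zpow_right i).eq, mul_inv_cancel_right]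
    have h1 : c ^ i = 1 := by
      refine Cfsg.Agent.OddLocal.eq_one_of_conj_eq_mul (a := g) (n := a) (by rw [hi]; group) hgd ?_
      obtain ⟨j, hj⟩ := IsPGroup.iff_orderOf.mp hQp ⟨c ^ i, Q.zpow_mem hcQ i⟩
      rw [Subgroup.orderOf_mk] at hj
      rw [hj]
      exact (Nat.coprime_two_right.mpr hg).pow_right j
    rw [hi, inv_mul_eq_one, eq_mul_inv_iff_mul_eq] at h1
    exact h1
  have hk3 : k ≤ 2 := by
    by_contra hc
    push Not at hc
    by_cases hX : g * c * g⁻¹ ∈ X
    · exact hnfix (hgen _ (hQn c hcQ) hX)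
    · have h4 := orderOf_dvd_of_pow_eq_one (hout _ (hQT (hQn c hcQ)) hX)
      rw [show orderOf (g * c * g⁻¹) = orderOf c from MulEquiv.orderOf_eq (MulAut.conj g) c, hk] at h4
      have : 2 ^ k ≤ 4 := Nat.le_of_dvd (by norm_num) h4
      have : 2 ^ 3 ≤ 2 ^ k := Nat.pow_le_pow_right (by norm_num) hc
      omega
  have hk1 : 1 ≤ k := by
    by_contra hc
    apply hnfix
    have h1 : c = 1 := orderOf_eq_one_iff.mp (by rw [hk, show k = 0 by omega, pow_zero])
    rw [h1, mul_one, mul_inv_cancel]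
    exact one_mem _
  obtain ⟨y, hyQ, hyX⟩ : ∃ y ∈ Q, y ∉ X := by
    by_contra hcon
    push Not at hcon
    exact hnfix (hgen _ (hQn c hcQ) (hcon _ (hQn c hcQ)))
  have hcard : Nat.card ↥Q = 2 ^ (k + 1) := by
    have hrel : (Subgroup.zpowers c).relIndex Q = 2 := by
      rw [Subgroup.relIndex, Subgroup.index_eq_two_iff]
      refine ⟨⟨y, hyQ⟩, fun a => ?_⟩
      simp only [Subgroup.mem_subgroupOf, Subgroup.coe_mul]
      by_cases ha : (a : G) ∈ X
      · refine Or.inr ⟨hgen a a.2 ha, fun h => hyX ?_⟩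
        have := X.mul_mem (X.inv_mem ha) (hcle h)
        rwa [inv_mul_cancel_left] at this
      · refine Or.inl ⟨hgen _ (Q.mul_mem a.2 hyQ) ?_, fun h => ha (hcle h)⟩
        by_cases hai : (a : G)⁻¹ ∈ X
        · exact absurd (by simpa using X.inv_mem hai) ha
        · simpa using hXi _ (T.inv_mem (hQT a.2)) y (hQT hyQ) hai hyX
    have h := ((Subgroup.zpowers c).subgroupOf Q).card_mul_index
    rw [Cfsg.Agent.Core.card_subgroupOf (Subgroup.zpowers_le.mpr hcQ), ← Subgroup.relIndex, hrel,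
      Nat.card_zpowers, hk, ← pow_succ] at h
    exact h.symm
  set c' := g * c * g⁻¹ with hc'
  have hc'o : orderOf c' = 2 ^ k := (MulEquiv.orderOf_eq (MulAut.conj g) c).trans hk
  rcases (show k = 1 ∨ k = 2 by omega) with rfl | rfl
  · -- order four: the fixed involution forces a trivial action
    exfalso
    apply hnfix
    have hfour : Nat.card ↥Q = 4 := by rw [hcard]; norm_num
    by_cases hzc : z ∈ Subgroup.zpowers c
    · have heq : Subgroup.zpowers z = Subgroup.zpowers c := by
        refine Subgroup.eq_of_le_of_card_ge (Subgroup.zpowers_le.mpr hzc) ?_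
        rw [Nat.card_zpowers, Nat.card_zpowers, hk]
        have := orderOf_eq_one_iff.not.mpr hz1
        have := orderOf_pos z
        norm_num
        omega
      obtain ⟨i, hi⟩ := Subgroup.mem_zpowers_iff.mp (heq.ge (Subgroup.mem_zpowers c))
      show g * c * g⁻¹ ∈ _
      rw [← hi, ← conj_zpow, hgz]
      exact Subgroup.mem_zpowers _
    · -- the three involutions
      let σ : Function.End ↥Q := fun a => ⟨g * a * g⁻¹, hQn a a.2⟩
      have hfixall : ∀ a : ↥Q, g * (a : G) * g⁻¹ = a := by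
        intro a
        haveI := Fintype.ofFinite ↥Q
        by_contra hne
        have hσ2 : ∀ m : ℕ, ∀ b : ↥Q, ((σ^[m] b : ↥Q) : G) = g ^ m * b * (g ^ m)⁻¹ := by
          intro m
          induction m with
          | zero => intro b; show (b : G) = g ^ 0 * b * (g ^ 0)⁻¹; rw [pow_zero, inv_one, one_mul, mul_one]
          | succ m ih =>
            intro b
            rw [Function.iterate_succ_apply, ih]
            show g ^ m * (g * (b : G) * g⁻¹) * (g ^ m)⁻¹ = _
            rw [pow_succ]; group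
        set a₁ : ↥Q := σ a with ha₁
        have h01 : a₁ ≠ a := fun h => hne (congrArg Subtype.val h)
        have h2 : σ a₁ = a := by
          -- only four elements: 1, z and two others
          let o : ↥Q := 1
          let w : ↥Q := ⟨z, hzQ⟩
          have hinj : Function.Injective σ := fun u v h => Subtype.ext
            (mul_left_cancel (mul_right_cancel (congrArg Subtype.val h)))
          have hσo : σ o = o := Subtype.ext (by simp [σ, o])
          have hσw : σ w = w := Subtype.ext hgz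
          have hnot : ∀ u : ↥Q, σ u ≠ u → u ≠ o ∧ u ≠ w := fun u hu =>
            ⟨fun h => hu (by rw [h]; exact hσo), fun h => hu (by rw [h]; exact hσw)⟩
          have hu1 : σ a₁ ≠ a₁ := fun h => h01 (hinj h)
          have hu2 : σ (σ a₁) ≠ σ a₁ := fun h => hu1 (hinj h)
          by_contra h20
          have h5 : ({o, w, a, a₁, σ a₁} : Finset ↥Q).card = 5 := by
            obtain ⟨p1, p2⟩ := hnot a (fun h => h01 h)
            obtain ⟨p3, p4⟩ := hnot a₁ hu1
            obtain ⟨p5, p6⟩ := hnot (σ a₁) hu2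
            have p7 : o ≠ w := fun h => hz1 (congrArg Subtype.val h).symm
            rw [Finset.card_insert_of_notMem, Finset.card_insert_of_notMem, Finset.card_insert_of_notMem,
              Finset.card_insert_of_notMem, Finset.card_singleton]
            · simp only [Finset.mem_singleton]; exact fun h => hu1 h.symm
            · simp only [Finset.mem_insert, Finset.mem_singleton]; exact not_or.mpr ⟨Ne.symm h01, Ne.symm h20⟩
            · simp only [Finset.mem_insert, Finset.mem_singleton]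
              exact not_or.mpr ⟨Ne.symm p2, not_or.mpr ⟨Ne.symm p4, Ne.symm p6⟩⟩
            · simp only [Finset.mem_insert, Finset.mem_singleton]
              exact not_or.mpr ⟨p7, not_or.mpr ⟨Ne.symm p1, not_or.mpr ⟨Ne.symm p3, Ne.symm p5⟩⟩⟩
          have := Finset.card_le_univ ({o, w, a, a₁, σ a₁} : Finset ↥Q)
          rw [h5, ← Nat.card_eq_fintype_card, hfour] at this
          omega
        obtain ⟨m, hm⟩ := hg
        have hper : ∀ m : ℕ, σ^[2 * m] a = a := by
          intro m
          induction m with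
          | zero => rfl
          | succ m ih =>
            rw [Nat.mul_succ, Function.iterate_succ_apply, Function.iterate_succ_apply]
            show σ^[2 * m] (σ a₁) = a
            rw [h2, ih]
        have h3 : σ^[2 * m + 1] a = a := Subtype.ext (by
          rw [hσ2, ← hm, pow_orderOf_eq_one, one_mul, inv_one, mul_one])
        rw [add_comm, Function.iterate_add_apply, hper, Function.iterate_one] at h3
        exact h01 h3
      show g * c * g⁻¹ ∈ _
      rw [show g * c * g⁻¹ = c from hfixall ⟨c, hcQ⟩]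
      exact Subgroup.mem_zpowers c
  · -- order eight: three cyclic subgroups of order four
    have hq8 : Nat.card ↥Q = 8 := by rw [hcard]; norm_num
    set c'' := g * c' * g⁻¹ with hc''
    have hc''o : orderOf c'' = 2 ^ 2 := (MulEquiv.orderOf_eq (MulAut.conj g) c').trans hc'o
    have hord4 : ∀ u v : G, orderOf u = 2 ^ 2 → orderOf v = 2 ^ 2 → v ∈ Subgroup.zpowers u → u ∈ Subgroup.zpowers v :=
      fun u v hu hv h => (Subgroup.eq_of_le_of_card_ge (Subgroup.zpowers_le.mpr h)
        (by rw [Nat.card_zpowers, Nat.card_zpowers, hu, hv])).ge (Subgroup.mem_zpowers u)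
    have hconj : ∀ u v : G, v ∈ Subgroup.zpowers u → g * v * g⁻¹ ∈ Subgroup.zpowers (g * u * g⁻¹) := by
      intro u v h
      obtain ⟨i, rfl⟩ := Subgroup.mem_zpowers_iff.mp h
      refine ⟨i, ?_⟩
      show (g * u * g⁻¹) ^ i = g * u ^ i * g⁻¹
      exact conj_zpow
    have hne12 : c'' ∉ Subgroup.zpowers c' := fun h => by
      obtain ⟨i, hi⟩ := Subgroup.mem_zpowers_iff.mp h
      rw [hc'', hc', conj_zpow] at hi
      refine hnfix (Subgroup.mem_zpowers_iff.mpr ⟨i, ?_⟩)
      exact mul_left_cancel (mul_right_cancel hi)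
    have hne02 : c'' ∉ Subgroup.zpowers c := by
      intro h
      -- the square of the odd element fixes, hence so does the element
      have hg2 : Odd (orderOf (g ^ 2)) := hg.of_dvd_nat (orderOf_pow_dvd 2)
      have hfix := Cfsg.Agent.Transfer.QSec.fix_of_cyclic (g := g ^ 2) ⟨2, hk⟩ hg2 (by
        rw [show g ^ 2 * c * (g ^ 2)⁻¹ = c'' by rw [hc'', hc', pow_two]; group]; exact h)
      have hc2 : Commute (g ^ 2) c := mul_inv_eq_iff_eq_mul.mp hfix
      obtain ⟨m, hm⟩ := exists_pow_eq_self_of_coprime (x := g) (Nat.coprime_two_left.mpr hg)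
      have hgc : Commute g c := hm ▸ hc2.pow_left m
      refine hnfix ?_
      show g * c * g⁻¹ ∈ _
      rw [hgc.eq, mul_inv_cancel_right]; exact Subgroup.mem_zpowers c
    haveI : Fact (Nat.Prime 2) := ⟨Nat.prime_two⟩
    letI := Fintype.ofFinite ↥Q
    have hu : Cfsg.Agent.OddLocal.UniqueOrderP 2 ↥Q := by
      let E : Finset ↥Q := {⟨c, hcQ⟩, ⟨c, hcQ⟩⁻¹, ⟨c', hQn c hcQ⟩, ⟨c', hQn c hcQ⟩⁻¹,
        ⟨c'', hQn c' (hQn c hcQ)⟩, ⟨c'', hQn c' (hQn c hcQ)⟩⁻¹}
      have hnodup : E.card = 6 := by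
        have hinv : ∀ u : G, orderOf u = 2 ^ 2 → u ≠ u⁻¹ := fun u hu h => by
          have : orderOf u ∣ 2 := orderOf_dvd_of_pow_eq_one (by rw [pow_two, mul_eq_one_iff_eq_inv]; exact h)
          rw [hu] at this
          norm_num at this
        have hdiff : ∀ u v : G, v ∉ Subgroup.zpowers u → u ≠ v ∧ u ≠ v⁻¹ ∧ u⁻¹ ≠ v ∧ u⁻¹ ≠ v⁻¹ := fun u v h =>
          ⟨fun e => h (e ▸ Subgroup.mem_zpowers u), fun e => h (by rw [← inv_inv v, ← e]; exact Subgroup.inv_mem _ (Subgroup.mem_zpowers u)),
           fun e => h (e ▸ Subgroup.inv_mem _ (Subgroup.mem_zpowers u)), fun e => h (inv_injective e ▸ Subgroup.mem_zpowers u)⟩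
        obtain ⟨a1, a2, a3, a4⟩ := hdiff c c' hnfix
        obtain ⟨b1, b2, b3, b4⟩ := hdiff c c'' hne02
        obtain ⟨d1, d2, d3, d4⟩ := hdiff c' c'' hne12
        have i1 := hinv c hk
        have i2 := hinv c' hc'o
        have i3 := hinv c'' hc''o
        simp [E, Finset.card_insert_of_notMem, Subtype.ext_iff, a1, a2, a3, a4, b1, b2, b3, b4, d1, d2, d3, d4, i1, i2, i3]
      have hdisj : ∀ u : ↥Q, u ^ 2 = 1 → u ∉ E := by
        intro u hu hmem
        have hu' : (u : G) ^ 2 = 1 := by rw [← Subgroup.coe_pow, hu, Subgroup.coe_one]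
        have hall : orderOf (u : G) = 2 ^ 2 := by
          simp only [E, Finset.mem_insert, Finset.mem_singleton, Subtype.ext_iff, Subgroup.coe_inv] at hmem
          rcases hmem with h | h | h | h | h | h <;> simp [h, hk, hc'o, hc''o]
        have := orderOf_dvd_of_pow_eq_one hu'
        rw [hall] at this
        norm_num at this
      intro a b ha hb ha1
      by_contra hab
      have hb1 : b ≠ 1 := fun h => hab (h ▸ one_mem _)
      have hba : b ≠ a := fun h => hab (h ▸ Subgroup.mem_zpowers a)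
      have h9 : (E ∪ {1, a, b}).card = 9 := by
        rw [Finset.card_union_of_disjoint, hnodup, Finset.card_insert_of_notMem, Finset.card_insert_of_notMem, Finset.card_singleton]
        · simp [Ne.symm hba]
        · simp [Ne.symm ha1, Ne.symm hb1]
        · rw [Finset.disjoint_left]
          intro u huE hu3
          simp only [Finset.mem_insert, Finset.mem_singleton] at hu3
          rcases hu3 with rfl | rfl | rfl
          · exact hdisj 1 (one_pow 2) huE
          · exact hdisj _ ha huE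
          · exact hdisj _ hb huE
      have := Finset.card_le_univ (E ∪ {1, a, b})
      rw [h9, ← Nat.card_eq_fintype_card, hq8] at this
      omega
    rcases Cfsg.Agent.OddLocal.isCyclic_or_quaternion hQp hu with hc | ⟨-, n, ⟨e⟩⟩
    · exfalso
      letI := hc
      have hle := IsCyclic.card_pow_eq_one_le (α := ↥Q) (n := 4) (by norm_num)
      have h4c : ∀ u : G, orderOf u = 2 ^ 2 → u ^ 4 = 1 := fun u hu => by
        rw [show (4 : ℕ) = orderOf u by rw [hu]; norm_num, pow_orderOf_eq_one]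
      have h5 : ({1, ⟨c, hcQ⟩, ⟨c, hcQ⟩⁻¹, ⟨c', hQn c hcQ⟩, ⟨c', hQn c hcQ⟩⁻¹} : Finset ↥Q).card = 5 := by
        have a1 : c ≠ c' := fun e => hnfix (e ▸ Subgroup.mem_zpowers c)
        have a2 : c ≠ c'⁻¹ := fun e => hnfix (by rw [← inv_inv c', ← e]; exact Subgroup.inv_mem _ (Subgroup.mem_zpowers c))
        have a3 : c⁻¹ ≠ c' := fun e => hnfix (e ▸ Subgroup.inv_mem _ (Subgroup.mem_zpowers c))
        have a4 : c⁻¹ ≠ c'⁻¹ := fun e => a1 (inv_injective e)
        have hone : ∀ u : G, orderOf u = 2 ^ 2 → u ≠ 1 ∧ u ≠ u⁻¹ := fun u hu => by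
          refine ⟨fun h => by rw [h, orderOf_one] at hu; norm_num at hu, fun h => ?_⟩
          have : orderOf u ∣ 2 := orderOf_dvd_of_pow_eq_one (by rw [pow_two, mul_eq_one_iff_eq_inv]; exact h)
          rw [hu] at this
          norm_num at this
        obtain ⟨o1, i1⟩ := hone c hk
        obtain ⟨o2, i2⟩ := hone c' hc'o
        simp [Finset.card_insert_of_notMem, Subtype.ext_iff, a1, a2, a3, a4, i1, i2, Ne.symm o1, Ne.symm o2, eq_comm (a := (1 : G)), o1, o2]
      have hsub : ({1, ⟨c, hcQ⟩, ⟨c, hcQ⟩⁻¹, ⟨c', hQn c hcQ⟩, ⟨c', hQn c hcQ⟩⁻¹} : Finset ↥Q) ⊆ Finset.univ.filter (fun t => t ^ 4 = 1) := by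
        intro u hu
        simp only [Finset.mem_filter, Finset.mem_univ, true_and]
        simp only [Finset.mem_insert, Finset.mem_singleton] at hu
        refine Subtype.ext ?_
        rw [Subgroup.coe_pow, Subgroup.coe_one]
        rcases hu with rfl | rfl | rfl | rfl | rfl <;> simp [h4c _ hk, h4c _ hc'o]
      have := (Finset.card_le_card hsub).trans hle
      rw [h5] at this
      omega
    · have hn : n = 1 := by
        haveI : NeZero (2 ^ n) := ⟨by positivity⟩
        rw [Nat.card_congr e.toEquiv, Nat.card_eq_fintype_card, QuaternionGroup.card] at hq8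
        have h2 : 2 ^ n = 2 ^ 1 := by norm_num; omega
        exact Nat.pow_right_injective le_rfl h2
      subst hn
      exact ⟨e⟩


/-- Let G be a finite solvable group with O(G) = 1 whose Sylow 2-subgroup T is dihedral of order at least 8 or semidihedral, with G ≠ T and Z(T) normal in G. Then G has a normal subgroup isomorphic to SL₂(3). -/
theorem result {G : Type*} [Group G] [Finite G] (hsol : IsSolvable G) (hO : Cfsg.oddCore G = ⊥) (T : Sylow 2 G) (hT : (∃ n : ℕ, 4 ≤ n ∧ Nonempty (↥(T : Subgroup G) ≃* DihedralGroup n)) ∨ Cfsg.IsQuasiDihedral ↥(T : Subgroup G)) (hne : (T : Subgroup G) ≠ ⊤) (hZ : ((T : Subgroup G) ⊓ Subgroup.centralizer ((T : Subgroup G) : Set G)).Normal) : ∃ U : Subgroup G, U.Normal ∧ Nonempty (↥U ≃* Matrix.SpecialLinearGroup (Fin 2) (ZMod 3)) := by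
  classical
  haveI : Fact (Nat.Prime 2) := ⟨Nat.prime_two⟩
  have hO2 : Cfsg.pPrimeCore 2 G = ⊥ := by
    exact hO
  haveI : Group.IsSolvable G := hsol
  set Q := Cfsg.pCore 2 G with hQ
  have hCQ : Subgroup.centralizer (Q : Set G) ≤ Q :=
    Cfsg.Agent.Core.centralizer_pCore_le Cfsg.Agent.Core.isPSolvable_of_isSolvable hO2
  have hQT : Q ≤ (T : Subgroup G) := Cfsg.Agent.Core.pCore_le_sylow T
  -- shape of the Sylow subgroup
  obtain ⟨X, hXc, hXT, hXi, hout, hT8⟩ : ∃ X : Subgroup G, IsCyclic ↥X ∧ X ≤ (T : Subgroup G) ∧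
      (∀ a ∈ (T : Subgroup G), ∀ b ∈ (T : Subgroup G), a ∉ X → b ∉ X → a⁻¹ * b ∈ X) ∧
      (∀ a ∈ (T : Subgroup G), a ∉ X → a ^ 4 = 1) ∧ 8 ≤ Nat.card ↥(T : Subgroup G) := by
    obtain ⟨x, h2, hout, h8⟩ : ∃ x : ↥(T : Subgroup G), (Subgroup.zpowers x).index = 2 ∧
        (∀ a : ↥(T : Subgroup G), a ∉ Subgroup.zpowers x → a ^ 4 = 1) ∧ 8 ≤ Nat.card ↥(T : Subgroup G) := by
      rcases hT with ⟨n, hn, ⟨e⟩⟩ | ⟨n, hn, hc, x, y, hx, hy, hyx⟩
      · haveI : NeZero n := ⟨by omega⟩
        have hcard : Nat.card ↥(T : Subgroup G) = 2 * n := by rw [Nat.card_congr e.toEquiv, DihedralGroup.nat_card]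
        refine ⟨e.symm (DihedralGroup.r 1), ?_, fun a ha => ?_, by omega⟩
        · have h := (Subgroup.zpowers (e.symm (DihedralGroup.r 1))).card_mul_index
          rw [Nat.card_zpowers, MulEquiv.orderOf_eq, DihedralGroup.orderOf_r_one, hcard, mul_comm 2 n] at h
          exact Nat.eq_of_mul_eq_mul_left (by omega) h
        · cases hea : e a with
          | r i =>
            exfalso
            apply ha
            refine Subgroup.mem_zpowers_iff.mpr ⟨i.val, ?_⟩
            apply e.injective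
            rw [map_zpow, e.apply_symm_apply, hea, zpow_natCast, DihedralGroup.r_one_pow, ZMod.natCast_zmod_val]
          | sr i =>
            apply e.injective
            rw [map_pow, hea, map_one, show 4 = 2 * 2 by norm_num, pow_mul, pow_two (DihedralGroup.sr i),
              DihedralGroup.sr_mul_self, one_pow]
      · have hidx : (Subgroup.zpowers x).index = 2 := by
          have h := (Subgroup.zpowers x).card_mul_index
          rw [Nat.card_zpowers, hx, hc, pow_succ] at h
          exact Nat.eq_of_mul_eq_mul_left (by positivity) h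
        refine ⟨x, hidx, fun a ha => ?_, ?_⟩
        · have hyn : y ∉ Subgroup.zpowers x := by
            intro hmem
            obtain ⟨i, rfl⟩ := Subgroup.mem_zpowers_iff.mp hmem
            have hx1 : x = x ^ (2 ^ (n - 1) - 1) := by
              rw [← hyx, (Commute.zpow_left (Commute.refl x) i).eq, mul_inv_cancel_right]
            obtain ⟨m, rfl⟩ := Nat.exists_eq_add_of_le hn
            have hpos : 4 ≤ 2 ^ (3 + m - 1) := (show 2 ^ 2 = 4 by norm_num) ▸ Nat.pow_le_pow_right (by norm_num) (by omega)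
            have h2 : x ^ (2 ^ (3 + m - 1) - 2) = 1 := by
              have : x ^ (2 ^ (3 + m - 1) - 2) * x = x := by
                rw [← pow_succ, show 2 ^ (3 + m - 1) - 2 + 1 = 2 ^ (3 + m - 1) - 1 by omega, ← hx1]
              exact mul_eq_right.mp this
            have h3 := Nat.le_of_dvd (by omega) (orderOf_dvd_of_pow_eq_one h2)
            rw [hx] at h3
            have : 2 ^ (3 + m) = 2 * 2 ^ (3 + m - 1) := by rw [← pow_succ']; congr 1; omega
            omega
          have hayX : a * y ∈ Subgroup.zpowers x := (Subgroup.mul_mem_iff_of_index_two hidx).mpr (iff_of_false ha hyn)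
          obtain ⟨i, hi⟩ := Subgroup.mem_zpowers_iff.mp hayX
          have hy2 : y * y = 1 := by rw [← pow_two]; exact orderOf_dvd_iff_pow_eq_one.mp hy.dvd
          have hyinv : y⁻¹ = y := inv_eq_of_mul_eq_one_right hy2
          have hai : a = x ^ i * y := by rw [hi, mul_assoc, hy2, mul_one]
          have hsq : a * a = x ^ (i * (2 ^ (n - 1) : ℕ)) := by
            have h1 : y * x ^ i * y⁻¹ = (x ^ (2 ^ (n - 1) - 1)) ^ i := by rw [← conj_zpow, hyx]
            rw [hyinv] at h1
            rw [hai, show x ^ i * y * (x ^ i * y) = x ^ i * (y * x ^ i * y) by group, h1, ← zpow_natCast, ← zpow_mul, ← zpow_add]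
            congr 1
            rw [Nat.cast_sub Nat.one_le_two_pow]
            push_cast
            ring
          rw [show 4 = 2 * 2 by norm_num, pow_mul, pow_two a, hsq, ← zpow_natCast, ← zpow_mul,
            ← orderOf_dvd_iff_zpow_eq_one, hx]
          refine ⟨i, ?_⟩
          obtain ⟨m, rfl⟩ : ∃ m, n = m + 1 := ⟨n - 1, by omega⟩
          rw [Nat.add_sub_cancel]
          push_cast
          rw [pow_succ]; ring
        · rw [hc]
          calc 8 = 2 ^ 3 := by norm_num
            _ ≤ _ := Nat.pow_le_pow_right (by norm_num) (by omega)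
    refine ⟨(Subgroup.zpowers x).map (T : Subgroup G).subtype, ?_, Subgroup.map_subtype_le _, ?_, ?_, h8⟩
    · exact isCyclic_of_surjective ((T : Subgroup G).subtype.subgroupMap (Subgroup.zpowers x)) (MonoidHom.subgroupMap_surjective _ _)
    · intro a ha b hb haX hbX
      refine ⟨⟨a, ha⟩⁻¹ * ⟨b, hb⟩, (Subgroup.mul_mem_iff_of_index_two h2).mpr (iff_of_false ?_ ?_), rfl⟩
      · exact fun h => haX ⟨⟨a, ha⟩, by simpa using (Subgroup.zpowers x).inv_mem h, rfl⟩
      · exact fun h => hbX ⟨⟨b, hb⟩, h, rfl⟩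
    · intro a ha haX
      exact congrArg Subtype.val (hout ⟨a, ha⟩ fun h => haX ⟨_, h, rfl⟩)
  set Z := (T : Subgroup G) ⊓ Subgroup.centralizer ((T : Subgroup G) : Set G) with hZdef
  haveI := hZ
  have hT1 : (T : Subgroup G) ≠ ⊥ := fun h => by rw [h, Subgroup.card_bot] at hT8; omega
  haveI : Nontrivial ↥(T : Subgroup G) := (Subgroup.nontrivial_iff_ne_bot _).mpr hT1
  haveI := T.isPGroup'.center_nontrivial
  have hZQ : Z ≤ Q := Cfsg.Agent.Core.le_pCore hZ (T.isPGroup'.to_le inf_le_left)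
  obtain ⟨z, hz⟩ := exists_ne (1 : ↥(Subgroup.center ↥(T : Subgroup G)))
  have hzZ : ((z : ↥(T : Subgroup G)) : G) ∈ Z := ⟨(z : ↥(T : Subgroup G)).2, Subgroup.mem_centralizer_iff.mpr fun t ht =>
    congrArg Subtype.val (Subgroup.mem_center_iff.mp z.2 ⟨t, ht⟩)⟩
  -- an odd element acting on the core
  obtain ⟨r, hr, hrd, hr2⟩ : ∃ r : ℕ, r.Prime ∧ r ∣ Nat.card G ∧ r ≠ 2 := by
    by_contra hcon
    push Not at hcon
    apply hne
    have hG : IsPGroup 2 G := by
      refine IsPGroup.of_card (n := (Nat.card G).primeFactorsList.length) (Nat.eq_prime_pow_of_unique_prime_dvd Nat.card_pos.ne' ?_)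
      exact fun {d} hd hdd => hcon d hd hdd
    exact (T.3 (hG.to_subgroup ⊤) le_top).symm
  haveI := Fact.mk hr
  obtain ⟨g, hg⟩ := exists_prime_orderOf_dvd_card' r hrd
  have hgodd : Odd (orderOf g) := hg ▸ hr.odd_of_ne_two hr2
  have hoddQ : ∀ u : G, Odd (orderOf u) → u ∈ Q → u = 1 := by
    intro u hu huQ
    obtain ⟨k, hk⟩ := IsPGroup.iff_orderOf.mp (Cfsg.Agent.Core.isPGroup_pCore 2 G) ⟨u, huQ⟩
    rw [Subgroup.orderOf_mk] at hk
    rcases k with _ | k
    · exact orderOf_eq_one_iff.mp (hk.trans (pow_zero 2))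
    · rw [hk] at hu
      exact absurd hu (Nat.not_odd_iff_even.mpr (even_iff_two_dvd.mpr (dvd_pow_self 2 k.succ_ne_zero)))
  have hgC : ∀ u : G, Odd (orderOf u) → u ≠ 1 → u ∉ Subgroup.centralizer (Q : Set G) := fun u hu hu1 h =>
    hu1 (hoddQ u hu (hCQ h))
  have hg1 : g ≠ 1 := fun h => by rw [h, orderOf_one] at hg; exact hr.one_lt.ne hg
  -- a fixed involution
  obtain ⟨w, hw1, hwQ, hwfix⟩ : ∃ w : G, w ≠ 1 ∧ w ∈ Q ∧ g * w * g⁻¹ = w := by
    haveI : IsCyclic ↥(Q ⊓ X : Subgroup G) :=
      isCyclic_of_injective (Subgroup.inclusion (inf_le_right : Q ⊓ X ≤ X)) (Subgroup.inclusion_injective _)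
    by_cases hZX : Z ≤ X
    · haveI : IsCyclic ↥Z := isCyclic_of_injective (Subgroup.inclusion hZX) (Subgroup.inclusion_injective _)
      obtain ⟨⟨c, hc⟩, hcgen⟩ := IsCyclic.exists_generator (α := ↥Z)
      refine ⟨c, fun h => hz ?_, hZQ hc, ?_⟩
      · subst h
        obtain ⟨i, hi⟩ := Subgroup.mem_zpowers_iff.mp (hcgen ⟨_, hzZ⟩)
        have := congrArg Subtype.val hi
        rw [Subgroup.coe_zpow, one_zpow] at this
        exact Subtype.ext (Subtype.ext this.symm)
      · obtain ⟨i, hi⟩ := Subgroup.mem_zpowers_iff.mp (hcgen ⟨g * c * g⁻¹, hZ.conj_mem c hc g⟩)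
        obtain ⟨k, hk⟩ := IsPGroup.iff_orderOf.mp (T.isPGroup'.to_le (inf_le_left : Z ≤ T)) ⟨c, hc⟩
        exact Cfsg.Agent.Transfer.QSec.fix_of_cyclic ⟨k, by rw [← hk, Subgroup.orderOf_mk]⟩ hgodd
          (Subgroup.mem_zpowers_iff.mpr ⟨i, congrArg Subtype.val hi⟩)
    · exfalso
      -- then the Sylow subgroup is abelian
      obtain ⟨y, hyZ, hyX⟩ := SetLike.not_le_iff_exists.mp hZX
      obtain ⟨⟨x, hx⟩, hxgen⟩ := hXc.exists_generator
      have hTc : ∀ a ∈ (T : Subgroup G), ∀ b ∈ (T : Subgroup G), Commute a b := by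
        have key : ∀ a ∈ (T : Subgroup G), ∃ i : ℤ, a = x ^ i ∨ a = y * x ^ i := by
          intro a ha
          by_cases haX : a ∈ X
          · obtain ⟨i, hi⟩ := Subgroup.mem_zpowers_iff.mp (hxgen ⟨a, haX⟩)
            exact ⟨i, Or.inl (congrArg Subtype.val hi).symm⟩
          · obtain ⟨i, hi⟩ := Subgroup.mem_zpowers_iff.mp (hxgen ⟨_, hXi y hyZ.1 a ha hyX haX⟩)
            have hi' : x ^ i = y⁻¹ * a := congrArg Subtype.val hi
            exact ⟨i, Or.inr (by rw [hi', mul_inv_cancel_left])⟩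
        have hyc : ∀ b ∈ (T : Subgroup G), Commute y b := fun b hb => (Subgroup.mem_centralizer_iff.mp hyZ.2 b hb).symm
        have hxi : ∀ i : ℤ, x ^ i ∈ (T : Subgroup G) := fun i => (T : Subgroup G).zpow_mem (hXT hx) i
        intro a ha b hb
        obtain ⟨i, rfl | rfl⟩ := key a ha
        · obtain ⟨j, rfl | rfl⟩ := key b hb
          · exact (Commute.refl x).zpow_zpow i j
          · exact ((hyc _ (hxi i)).symm).mul_right ((Commute.refl x).zpow_zpow i j)
        · obtain ⟨j, rfl | rfl⟩ := key b hb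
          · exact (hyc _ (hxi j)).mul_left ((Commute.refl x).zpow_zpow i j)
          · exact ((Commute.refl y).mul_right (hyc _ (hxi j))).mul_left (((hyc _ (hxi i)).symm).mul_right ((Commute.refl x).zpow_zpow i j))
      rcases hT with ⟨n, hn, ⟨e⟩⟩ | ⟨n, hn, hc, u, v, hu, hv, hvu⟩
      · have h := congrArg e (show e.symm (DihedralGroup.r 1) * e.symm (DihedralGroup.sr 0) = e.symm (DihedralGroup.sr 0) * e.symm (DihedralGroup.r 1) from
          Subtype.ext (hTc _ (e.symm (DihedralGroup.r 1)).2 _ (e.symm (DihedralGroup.sr 0)).2).eq)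
        rw [map_mul, map_mul, e.apply_symm_apply, e.apply_symm_apply, DihedralGroup.r_mul_sr, DihedralGroup.sr_mul_r] at h
        have h' : (0 : ZMod n) - 1 = 0 + 1 := DihedralGroup.sr.inj h
        have h2 : ((2 : ℕ) : ZMod n) = 0 := by push_cast; linear_combination -h'
        have := Nat.le_of_dvd (by norm_num) ((ZMod.natCast_eq_zero_iff 2 n).mp h2)
        omega
      · have hcom : v * u = u * v := Subtype.ext (hTc _ v.2 _ u.2).eq
        rw [hcom, mul_inv_cancel_right] at hvu
        have hpos : 4 ≤ 2 ^ (n - 1) := (show 2 ^ 2 = 4 by norm_num) ▸ Nat.pow_le_pow_right (by norm_num) (by omega)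
        have h2 : u ^ (2 ^ (n - 1) - 2) = 1 := by
          have : u ^ (2 ^ (n - 1) - 2) * u = u := by
            rw [← pow_succ, show 2 ^ (n - 1) - 2 + 1 = 2 ^ (n - 1) - 1 by omega, ← hvu]
          exact mul_eq_right.mp this
        have h3 := Nat.le_of_dvd (by omega) (orderOf_dvd_of_pow_eq_one h2)
        rw [hu] at h3
        have : 2 ^ n = 2 * 2 ^ (n - 1) := by rw [← pow_succ']; congr 1; omega
        omega
  haveI hQn : Q.Normal := by rw [hQ]; infer_instance
  obtain ⟨eQ⟩ := q8_of_odd_action Q X (T : Subgroup G) T.isPGroup' hQT hXc hXi hout w hwQ hw1 g hgodd hwfix (hgC g hgodd hg1)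
  let conjQ : G →* MulAut (QuaternionGroup 2) := (MulAut.congr eQ).toMonoidHom.comp (MulAut.conjNormal (H := Q))
  have hker : conjQ.ker ≤ Q := by
    intro u hu
    refine hCQ (Subgroup.mem_centralizer_iff.mpr fun a ha => ?_)
    have h1 : MulAut.conjNormal (H := Q) u = 1 := (MulAut.congr eQ).injective (by rw [map_one]; exact hu)
    have h2 := congrArg Subtype.val (DFunLike.congr_fun h1 (⟨a, ha⟩ : ↥Q))
    rw [MulAut.conjNormal_apply] at h2
    exact (mul_inv_eq_iff_eq_mul.mp h2).symm
  have hr3 : r = 3 := by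
    have h1 := Cfsg.Agent.Transfer.QSec.aut_cube (conjQ g) (hgodd.of_dvd_nat (orderOf_map_dvd conjQ g))
    rw [← map_pow] at h1
    have h3 : g ^ 3 ∈ Q := hker (MonoidHom.mem_ker.mpr h1)
    have h4 := hoddQ _ (hgodd.of_dvd_nat (orderOf_pow_dvd 3)) h3
    have h5 := orderOf_dvd_of_pow_eq_one h4
    rw [hg] at h5
    exact (Nat.prime_dvd_prime_iff_eq hr Nat.prime_three).mp h5
  rw [hr3] at hg
  set U := Q ⊔ Subgroup.zpowers g with hU
  have hQc : Nat.card ↥Q = 8 := by rw [Nat.card_congr eQ.toEquiv, Nat.card_eq_fintype_card, QuaternionGroup.card]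
  have hUc : Nat.card ↥U = 24 := by
    refine Nat.dvd_antisymm ?_ ?_
    · have h1 : Nat.card ↥U = Nat.card ↥(U.map (QuotientGroup.mk' Q)) * 8 := by
        have h := (Q.subgroupOf U).card_mul_index
        rw [Cfsg.Agent.Core.card_subgroupOf (le_sup_left : Q ≤ U), hQc] at h
        rw [← h, mul_comm, mul_left_inj' (by norm_num)]
        have hk : ((QuotientGroup.mk' Q).comp U.subtype).ker = Q.subgroupOf U := by
          ext u; simp [Subgroup.mem_subgroupOf]
        rw [← hk, Subgroup.index_ker, MonoidHom.range_comp, Subgroup.range_subtype]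
      rw [h1, hU, Subgroup.map_sup, QuotientGroup.map_mk'_self, bot_sup_eq, MonoidHom.map_zpowers, Nat.card_zpowers]
      exact (Nat.mul_dvd_mul_right ((orderOf_map_dvd _ g).trans (dvd_of_eq hg)) 8)
    · have h8 : 8 ∣ Nat.card ↥U := hQc ▸ Subgroup.card_dvd_of_le le_sup_left
      have h3 : 3 ∣ Nat.card ↥U := by
        have := Subgroup.card_dvd_of_le (le_sup_right : Subgroup.zpowers g ≤ U)
        rwa [Nat.card_zpowers, hg] at this
      exact Nat.Coprime.mul_dvd_of_dvd_of_dvd (show Nat.Coprime 8 3 by norm_num) h8 h3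
  have hidx : U.index ≤ 2 := by
    have hcG : Nat.card G ≤ 48 := by
      have h1 := conjQ.ker.card_mul_index
      rw [Subgroup.index_ker] at h1
      have h2 : Nat.card ↥conjQ.range ≤ 24 :=
        (Subgroup.card_le_card_group _).trans (le_of_eq Cfsg.Agent.PermGroups.RegLin.card_mulAut_quat)
      have h3 : Nat.card ↥conjQ.ker ≤ 2 := by
        have hle : conjQ.ker ≤ (Subgroup.center ↥Q).map Q.subtype := by
          intro u hu
          refine ⟨⟨u, hker hu⟩, Subgroup.mem_center_iff.mpr fun a => Subtype.ext ?_, rfl⟩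
          have h1 : MulAut.conjNormal (H := Q) u = 1 := (MulAut.congr eQ).injective (by rw [map_one]; exact hu)
          have h2 := congrArg Subtype.val (DFunLike.congr_fun h1 a)
          rw [MulAut.conjNormal_apply] at h2
          exact (mul_inv_eq_iff_eq_mul.mp h2).symm
        refine (Subgroup.card_le_of_le hle).trans ?_
        rw [Subgroup.card_map_of_injective Q.subtype_injective, Nat.card_congr (Subgroup.centerCongr eQ).toEquiv,
          Nat.card_eq_fintype_card]
        decide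
      rw [← h1]
      exact (Nat.mul_le_mul h3 h2).trans (by norm_num)
    have h := U.card_mul_index
    rw [hUc] at h
    omega
  have hUn : U.Normal := by
    have hpos : 0 < U.index := Nat.pos_of_ne_zero Subgroup.index_ne_zero_of_finite
    interval_cases hh : U.index
    · rw [Subgroup.index_eq_one.mp hh]; infer_instance
    · exact Subgroup.normal_of_index_eq_two hh
  refine ⟨U, hUn, ?_⟩
  let ι : QuaternionGroup 2 →* ↥U := (Subgroup.inclusion (le_sup_left : Q ≤ U)).comp eQ.symm.toMonoidHom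
  have hι : Function.Injective ι := (Subgroup.inclusion_injective (le_sup_left : Q ≤ U)).comp eQ.symm.injective
  have hrange : ι.range = Q.subgroupOf U := by
    ext u
    constructor
    · rintro ⟨q, rfl⟩; exact (eQ.symm q).2
    · intro hu
      exact ⟨eQ ⟨u, hu⟩, Subtype.ext (by simp [ι])⟩
  refine Cfsg.Agent.SmallOrder.SolvReg.mulEquiv_SL23 hUc ι hι (by rw [hrange]; infer_instance)
    (y := ⟨g, Subgroup.mem_sup_right (Subgroup.mem_zpowers g)⟩) (by rw [Subgroup.orderOf_mk, hg]) ?_
  intro h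
  refine hgC g hgodd hg1 (Subgroup.mem_centralizer_iff.mpr fun a ha => ?_)
  exact congrArg Subtype.val (Subgroup.mem_centralizer_iff.mp h (⟨a, Subgroup.mem_sup_left ha⟩ : ↥U) (hrange ▸ ha))


end Cfsg.Agent.S2879
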