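import Cfsg.Statements.S2880
import Cfsg.Agent.LocalEven.ExtraspecialCount

set_option autoImplicit false
open Cfsg

open scoped commutatorElement

namespace Cfsg.Agent.S2880

/-- Let E be an extraspecial 2-group of order 2^(2m+1) of plus type, that is, containing an elementary abelian subgroup of order 2^(m+1) (equivalently, a central product of m dihedral groups of order 8). Then E has exactly 2^(2m) − 2^m elements of order 4. -/
theorem result {E : Type*} [Group E] [Finite E] (m : ℕ) (hm : 1 ≤ m) (hE : Cfsg.IsExtraspecial 2 E) (hcard : Nat.card E = 2 ^ (2 * m + 1)) (hplus : ∃ A : Subgroup E, Cfsg.IsElementaryAbelian 2 A ∧ Nat.card A = 2 ^ (m + 1)) : Nat.card {x : E // orderOf x = 4} = 2 ^ (2 * m) - 2 ^ m := by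
  classical
  obtain ⟨A, ⟨hAc, hA2⟩, hAcard⟩ := hplus
  haveI : Fintype E := Fintype.ofFinite E
  haveI := hAc
  set Z := Subgroup.center E with hZdef
  -- `A` is self-centralizing
  set B := A ⊔ Z with hBdef
  have hBc : B ≤ Subgroup.centralizer (B : Set E) := by
    refine sup_le ?_ (Subgroup.center_le_centralizer _)
    rw [Subgroup.le_centralizer_iff]
    exact sup_le (Subgroup.le_centralizer_iff_isMulCommutative.mpr hAc) (Subgroup.center_le_centralizer _)
  have hB := LocalEven.card_centralizer_mul_card hE (le_sup_right : Z ≤ B)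
  have hBB : Nat.card B * Nat.card B ≤ (2 ^ (m + 1)) * 2 ^ (m + 1) := by
    calc Nat.card B * Nat.card B ≤ Nat.card (Subgroup.centralizer (B : Set E)) * Nat.card B :=
          Nat.mul_le_mul_right _ (Nat.card_le_card_of_injective _ (Subgroup.inclusion_injective hBc))
      _ = _ := by rw [hB, hcard]; ring
  have hBA : A = B := Subgroup.eq_of_le_of_card_ge le_sup_left (hAcard ▸ Nat.mul_self_le_mul_self_iff.mp hBB)
  have hCA : Subgroup.centralizer (A : Set E) = A := by
    refine (Subgroup.eq_of_le_of_card_ge (Subgroup.le_centralizer_iff_isMulCommutative.mpr hAc) ?_).symm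
    rw [← hBdef, ← hBA, hAcard, hcard] at hB
    refine le_of_eq (Nat.eq_of_mul_eq_mul_right (by positivity : 0 < 2 ^ (m + 1)) ?_)
    rw [hB, hAcard]; ring
  have hZA : Z ≤ A := le_sup_right.trans hBA.ge
  haveI : Fact (Nat.card Z).Prime := ⟨hE.2 ▸ Nat.prime_two⟩
  -- the pairing of a coset with `A`
  let g : E → E → ℕ := fun y a => if (y * a) ^ 2 = 1 then 0 else 1
  have hrow : ∀ y : E, 2 * ∑ a : A, g y a = if y ∈ A then 0 else Nat.card A := by
    intro y
    by_cases hy : y ∈ A
    · rw [if_pos hy]
      have : ∀ a : A, g y a = 0 := fun a => if_pos (hA2 _ (A.mul_mem hy a.2))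
      simp [this]
    rw [if_neg hy]
    have hcomm : ∀ u v : E, ⁅u, v⁆ ∈ Z := fun u v => by
      rw [hZdef, ← FGS3.IsExtraspecial_commutator hE, commutator_def]
      exact Subgroup.commutator_mem_commutator (Subgroup.mem_top u) (Subgroup.mem_top v)
    have hsq : y ^ 2 ∈ Z := FGS3.IsExtraspecial_pow_mem hE y
    have hcen : ∀ z ∈ Z, ∀ u : E, u * z = z * u := fun z hz u => Subgroup.mem_center_iff.mp hz u
    have hform : ∀ a ∈ A, (y * a) ^ 2 = y ^ 2 * ⁅y⁻¹, a⁆ := by
      intro a ha
      have h2 : a⁻¹ = a := inv_eq_of_mul_eq_one_right (by rw [← sq]; exact hA2 a ha)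
      rw [commutatorElement_def, inv_inv, h2, sq, sq]
      group
    set K := (Subgroup.centralizer {y}).subgroupOf A with hK
    have hKA : ∀ a : A, a ∈ K ↔ ⁅y⁻¹, (a : E)⁆ = 1 := fun a => by
      rw [commutatorElement_eq_one_iff_mul_comm, hK, Subgroup.mem_subgroupOf, Subgroup.mem_centralizer_singleton_iff]
      constructor
      · intro h; calc y⁻¹ * (a : E) = y⁻¹ * ((a : E) * y) * y⁻¹ := by group
          _ = _ := by rw [h]; group
      · intro h; calc (a : E) * y = y * (y⁻¹ * (a : E)) * y := by group
          _ = _ := by rw [h]; group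
    have hyz : y ∉ Z := fun hz => hy (hZA hz)
    have hidx := FGS3.IsExtraspecial_index_centralizer hE hyz
    haveI hn : (Subgroup.centralizer {y}).Normal := by
      refine Subgroup.Normal.of_commutator_le E ?_
      rw [FGS3.IsExtraspecial_commutator hE]
      exact Subgroup.center_le_centralizer _
    have hKi : K.index = 2 := by
      have hd := Subgroup.relIndex_dvd_index_of_normal (H := Subgroup.centralizer {y}) (K := A)
      rw [hidx] at hd
      rcases Nat.prime_two.eq_one_or_self_of_dvd _ hd with h | h
      · refine absurd ?_ hy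
        rw [Subgroup.relIndex_eq_one] at h
        rw [← hCA, Subgroup.mem_centralizer_iff]
        exact fun a ha => Subgroup.mem_centralizer_singleton_iff.mp (h ha)
      · exact h
    have hKc : 2 * Nat.card K = Nat.card A := by
      rw [← Subgroup.card_mul_index K, hKi, mul_comm]
    have hone : ∀ u ∈ Z, u ≠ 1 → ∀ v ∈ Z, v ≠ 1 → u = v := by
      intro u hu hu1 v hv hv1
      have h := zpowers_eq_top_of_prime_card (G := Z) rfl (g := ⟨u, hu⟩) (by simpa using hu1)
      obtain ⟨i, hi⟩ := (h ▸ Subgroup.mem_top (⟨v, hv⟩ : Z) : (⟨v, hv⟩ : Z) ∈ Subgroup.zpowers (⟨u, hu⟩ : Z))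
      have hi' : u ^ i = v := by simpa using congrArg Subtype.val hi
      have hu2 : u ^ 2 = 1 := hA2 u (hZA hu)
      rcases Int.even_or_odd i with ⟨j, rfl⟩ | ⟨j, rfl⟩
      · exact absurd (by rw [← hi', ← two_mul, zpow_mul, zpow_two, ← sq, hu2, one_zpow]) hv1
      · rw [← hi', zpow_add, zpow_one, zpow_mul, zpow_two, ← sq, hu2, one_zpow, one_mul]
    have hsum : ∑ a : A, g y a = (Finset.univ.filter fun a : A => ¬ (y * a) ^ 2 = 1).card := by
      rw [Finset.card_filter]
      refine Finset.sum_congr rfl fun a _ => ?_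
      by_cases h : (y * (a : E)) ^ 2 = 1 <;> simp [g, h]
    rw [hsum]
    by_cases hy2 : y ^ 2 = 1
    · have : (Finset.univ.filter fun a : A => ¬ (y * a) ^ 2 = 1) = Finset.univ.filter fun a : A => ¬ a ∈ K := by
        refine Finset.filter_congr fun a _ => ?_
        rw [hform a a.2, hy2, one_mul, hKA]
      rw [this, Finset.filter_not, Finset.card_sdiff, Finset.inter_univ, Finset.card_univ, ← Fintype.card_subtype,
        ← Nat.card_eq_fintype_card, ← Nat.card_eq_fintype_card]
      omega
    · have : (Finset.univ.filter fun a : A => ¬ (y * a) ^ 2 = 1) = Finset.univ.filter fun a : A => a ∈ K := by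
        refine Finset.filter_congr fun a _ => ?_
        rw [hform a a.2, hKA]
        constructor
        · intro h
          by_contra h1
          apply h
          rw [hone _ (hcomm _ _) h1 _ hsq hy2, ← sq]
          exact hA2 _ (hZA hsq)
        · intro h; rw [h, mul_one]; exact hy2
      rw [this, ← Fintype.card_subtype, ← Nat.card_eq_fintype_card]
      exact hKc
  -- double counting
  set T := Finset.univ.filter fun y : E => ¬ y ^ 2 = 1 with hT
  have hcol : ∀ a : A, ∑ y : E, g y a = T.card := by
    intro a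
    rw [hT, Finset.card_filter]
    exact Fintype.sum_equiv (Equiv.mulRight (a : E)) _ _ fun y => by
      by_cases h : (y * (a : E)) ^ 2 = 1 <;> simp [g, h]
  have htot : 2 * (Nat.card A * T.card) = ∑ y : E, if y ∈ A then 0 else Nat.card A := by
    rw [← Finset.sum_congr rfl fun y _ => hrow y, ← Finset.mul_sum, Finset.sum_comm,
      Finset.sum_congr rfl fun a _ => hcol a, Finset.sum_const, Finset.card_univ, smul_eq_mul, Nat.card_eq_fintype_card]
  rw [Finset.sum_ite] at htot
  simp only [Finset.sum_const, smul_eq_mul, mul_zero, zero_add] at htot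
  have hnA : (Finset.univ.filter fun y : E => ¬ y ∈ A).card = Nat.card E - Nat.card A := by
    rw [Finset.filter_not, Finset.card_sdiff, Finset.inter_univ, Finset.card_univ, ← Fintype.card_subtype,
      Nat.card_eq_fintype_card, Nat.card_eq_fintype_card]
  rw [hnA] at htot
  have hT2 : T.card = Nat.card {x : E // orderOf x = 4} := by
    rw [Nat.card_eq_fintype_card, Fintype.card_subtype, hT]
    congr 1
    refine Finset.filter_congr fun x _ => ?_
    constructor
    · intro h
      exact orderOf_eq_prime_pow (p := 2) (n := 1) (by simpa using h) (by simpa using FGS3.IsExtraspecial_pow_sq hE x)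
    · intro h h2
      have := orderOf_dvd_of_pow_eq_one h2
      rw [h] at this
      norm_num at this
  rw [← hT2]
  have hAE : Nat.card {x : E // x ∈ A} = 2 ^ (m + 1) := hAcard
  rw [hAcard, hcard] at htot
  have key : 2 * T.card = 2 ^ (2 * m + 1) - 2 ^ (m + 1) := by
    refine Nat.eq_of_mul_eq_mul_left (by positivity : 0 < 2 ^ (m + 1)) ?_
    rw [mul_comm (2 ^ (2 * m + 1) - _) ] at htot
    rw [← htot]; ring
  rw [pow_succ, pow_succ] at key
  omega


end Cfsg.Agent.S2880
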