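import Cfsg.Statements.S2881
import Cfsg.Agent.FGS3.Extraspecial

set_option autoImplicit false
open Cfsg

namespace Cfsg.Agent.S2881

/-- Let E be an extraspecial 2-group of order 2^(2m+1) of plus type (containing an elementary abelian subgroup of order 2^(m+1)), and let ω be an automorphism of E of order 5 whose fixed points are exactly the centre of E. Then m is divisible by 4. -/
theorem result {E : Type*} [Group E] [Finite E] (m : ℕ) (hm : 1 ≤ m) (hE : Cfsg.IsExtraspecial 2 E) (hcard : Nat.card E = 2 ^ (2 * m + 1)) (hplus : ∃ A : Subgroup E, Cfsg.IsElementaryAbelian 2 A ∧ Nat.card A = 2 ^ (m + 1)) (ω : E ≃* E) (hω : orderOf ω = 5) (hfix : ∀ x : E, ω x = x ↔ x ∈ Subgroup.center E) : 4 ∣ m := by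
  classical
  haveI : Fact (Nat.Prime 2) := ⟨Nat.prime_two⟩
  haveI : Fact (Nat.Prime 5) := ⟨by norm_num⟩
  letI := Fintype.ofFinite E
  obtain ⟨A, ⟨hAc, hA2⟩, hAcard⟩ := hplus
  have hcomm : ∀ a ∈ A, ∀ b ∈ A, a * b = b * a := fun a ha b hb =>
    congrArg Subtype.val (mul_comm' (⟨a, ha⟩ : ↥A) ⟨b, hb⟩)
  have toggle : ∀ {α : Type _} [Fintype α] (P : α → Prop) [DecidablePred P] (τ : α ≃ α),
      (∀ a, P (τ a) ↔ ¬ P a) → 2 * (Finset.univ.filter P).card = Fintype.card α := by
    intro α _ P _ τ hτ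
    have h1 : (Finset.univ.filter P).card = (Finset.univ.filter fun a => ¬ P a).card := by
      refine Finset.card_equiv τ fun a => ?_
      simp only [Finset.mem_filter, Finset.mem_univ, true_and, hτ, not_not]
    have h2 := Finset.card_filter_add_card_filter_not (s := (Finset.univ : Finset α)) P
    rw [Finset.card_univ] at h2
    omega
  have hcz : ∀ x y : E, x⁻¹ * y * x * y⁻¹ ∈ Subgroup.center E := fun x y => by
    have h : _ ∈ commutator E := Subgroup.commutator_mem_commutator (Subgroup.mem_top x⁻¹) (Subgroup.mem_top y)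
    rw [hE.1.2.2, commutatorElement_def, inv_inv] at h
    exact h
  have hhom : ∀ x : E, ∀ a ∈ A, ∀ b ∈ A, x⁻¹ * (a * b) * x * (a * b)⁻¹ = (x⁻¹ * a * x * a⁻¹) * (x⁻¹ * b * x * b⁻¹) := by
    intro x a ha b hb
    have hc := Subgroup.mem_center_iff.mp (hcz x b) a⁻¹
    calc x⁻¹ * (a * b) * x * (a * b)⁻¹ = (x⁻¹ * a * x) * ((x⁻¹ * b * x * b⁻¹) * a⁻¹) := by group
      _ = (x⁻¹ * a * x) * (a⁻¹ * (x⁻¹ * b * x * b⁻¹)) := by rw [hc]
      _ = _ := by group
  -- centre of order two
  obtain ⟨z, hz1, hz⟩ : ∃ z : E, z ≠ 1 ∧ ∀ c ∈ Subgroup.center E, c = 1 ∨ c = z := by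
    have h2 := Nat.card_eq_two_iff.mp hE.2
    obtain ⟨u, v, huv, huniv⟩ := h2
    have key : ∀ c : ↥(Subgroup.center E), c = u ∨ c = v := fun c => by
      have : c ∈ ({u, v} : Set ↥(Subgroup.center E)) := huniv ▸ Set.mem_univ c
      simpa using this
    rcases key 1 with h | h
    · refine ⟨v, fun hv => huv (h.symm.trans (Subtype.ext hv).symm), fun c hc => ?_⟩
      rcases key ⟨c, hc⟩ with hc' | hc'
      · exact Or.inl (congrArg Subtype.val (hc'.trans h.symm))
      · exact Or.inr (congrArg Subtype.val hc')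
    · refine ⟨u, fun hu => huv ((Subtype.ext hu : u = 1).trans h), fun c hc => ?_⟩
      rcases key ⟨c, hc⟩ with hc' | hc'
      · exact Or.inr (congrArg Subtype.val hc')
      · exact Or.inl (congrArg Subtype.val (hc'.trans h.symm))
  -- pairs of commuting elements
  set C := Subgroup.centralizer (A : Set E) with hC
  set D := (Subgroup.center E).subgroupOf A with hD
  have hrow : ∀ a : ↥A, 2 * (Finset.univ.filter fun e : E => e * (a : E) = (a : E) * e).card =
      if a ∈ D then 2 * Nat.card E else Nat.card E := by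
    intro a
    have hcard : (Finset.univ.filter fun e : E => e * (a : E) = (a : E) * e).card = Nat.card ↥(Subgroup.centralizer ({(a : E)} : Set E)) := by
      rw [Nat.card_eq_fintype_card, ← Fintype.card_subtype]
      exact Fintype.card_congr (Equiv.subtypeEquivRight fun e => (Subgroup.mem_centralizer_singleton_iff).symm)
    rw [hcard]
    split_ifs with h
    · rw [show Subgroup.centralizer ({(a : E)} : Set E) = ⊤ from Subgroup.centralizer_eq_top_iff_subset.mpr
        (Set.singleton_subset_iff.mpr h), Subgroup.card_top]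
    · rw [← Subgroup.card_mul_index (Subgroup.centralizer ({(a : E)} : Set E)),
        Cfsg.Agent.FGS3.IsExtraspecial_index_centralizer hE (x := (a : E)) h, mul_comm]
  have hcol : ∀ e : E, 2 * (Finset.univ.filter fun a : ↥A => e * (a : E) = (a : E) * e).card =
      if e ∈ C then 2 * Nat.card ↥A else Nat.card ↥A := by
    intro e
    split_ifs with h
    · rw [Finset.filter_true_of_mem fun (a : ↥A) _ => (Subgroup.mem_centralizer_iff.mp h a a.2).symm, Finset.card_univ,
        Nat.card_eq_fintype_card]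
    · obtain ⟨a₀, ha₀, hne⟩ : ∃ a₀ ∈ A, a₀ * e ≠ e * a₀ := by
        by_contra hh
        push Not at hh
        exact h (Subgroup.mem_centralizer_iff.mpr fun a ha => hh a ha)
      rw [Nat.card_eq_fintype_card]
      refine toggle _ (Equiv.mulRight ⟨a₀, ha₀⟩) fun a => ?_
      have hiff : ∀ b : E, e * b = b * e ↔ e⁻¹ * b * e * b⁻¹ = 1 := fun b => by
        rw [mul_inv_eq_one, mul_assoc, inv_mul_eq_iff_eq_mul]
        exact eq_comm
      show e * ((a : E) * a₀) = ((a : E) * a₀) * e ↔ ¬ e * (a : E) = (a : E) * e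
      rw [hiff, hiff, hhom e a a.2 a₀ ha₀]
      have h0 : e⁻¹ * a₀ * e * a₀⁻¹ = z := (hz _ (hcz e a₀)).resolve_left fun hh => hne ((hiff a₀).mpr hh).symm
      rw [h0]
      rcases hz _ (hcz e a) with h1 | h1 <;> rw [h1]
      · rw [one_mul]; exact iff_of_false hz1 (not_not.mpr rfl)
      · refine iff_of_true ?_ hz1
        have := Subgroup.mem_center_iff.mp (hcz e a₀) a₀
        have hzc : z ∈ Subgroup.center E := h0 ▸ hcz e a₀
        rcases hz _ ((Subgroup.center E).mul_mem hzc hzc) with h2 | h2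
        · exact h2
        · exact absurd (mul_eq_left.mp h2) hz1
  have hsum : ∑ a : ↥A, (Finset.univ.filter fun e : E => e * (a : E) = (a : E) * e).card =
      ∑ e : E, (Finset.univ.filter fun a : ↥A => e * (a : E) = (a : E) * e).card := by
    simp only [Finset.card_filter]
    exact Finset.sum_comm
  have hkey : Nat.card ↥A * Nat.card ↥C = Nat.card E * Nat.card ↥D := by
    have h1 : ∀ {α : Type _} [Fintype α] (P : α → Prop) [DecidablePred P] (K : ℕ),
        ∑ a : α, (if P a then 2 * K else K) = K * Fintype.card α + K * (Finset.univ.filter P).card := by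
      intro α _ P _ K
      rw [Finset.card_filter, Finset.mul_sum, show K * Fintype.card α = ∑ _a : α, K by simp [mul_comm], ← Finset.sum_add_distrib]
      exact Finset.sum_congr rfl fun a _ => by split_ifs <;> ring
    have h2 := congrArg (2 * ·) hsum
    simp only [Finset.mul_sum, hrow, hcol] at h2
    have g1 : ∑ a : ↥A, (if a ∈ D then 2 * Nat.card E else Nat.card E) = Nat.card E * Fintype.card ↥A + Nat.card E * (Finset.univ.filter fun a : ↥A => a ∈ D).card := h1 (fun a : ↥A => a ∈ D) _
    have g2 : ∑ e : E, (if e ∈ C then 2 * Nat.card ↥A else Nat.card ↥A) = Nat.card ↥A * Fintype.card E + Nat.card ↥A * (Finset.univ.filter fun e : E => e ∈ C).card := h1 (fun e : E => e ∈ C) _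
    rw [g1, g2, ← Nat.card_eq_fintype_card, ← Nat.card_eq_fintype_card] at h2
    have hDc : (Finset.univ.filter fun a : ↥A => a ∈ D).card = Nat.card ↥D := by
      rw [Nat.card_eq_fintype_card, Fintype.card_subtype]
    have hCc : (Finset.univ.filter fun e : E => e ∈ C).card = Nat.card ↥C := by
      rw [Nat.card_eq_fintype_card, Fintype.card_subtype]
    rw [hDc, hCc, mul_comm (Nat.card E) (Nat.card ↥A)] at h2
    omega
  have hAC : A ≤ C := fun a ha => Subgroup.mem_centralizer_iff.mpr fun b hb => hcomm b hb a ha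
  have hCA : C = A := by
    refine (Subgroup.eq_of_le_of_card_ge hAC ?_).symm
    have h3 : Nat.card ↥D ≤ 2 := by
      rw [← hE.2]
      exact Nat.card_le_card_of_injective (fun d : ↥D => (⟨((d : ↥A) : E), d.2⟩ : ↥(Subgroup.center E)))
        (fun a b h => Subtype.ext (Subtype.ext (congrArg (fun t : ↥(Subgroup.center E) => (t : E)) h)))
    rw [hAcard, hcard] at hkey
    have : 2 ^ (m + 1) * Nat.card ↥C ≤ 2 ^ (m + 1) * 2 ^ (m + 1) := by
      rw [hkey, ← pow_add, show m + 1 + (m + 1) = 2 * m + 1 + 1 by ring, pow_succ (2 : ℕ) (2 * m + 1)]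
      exact Nat.mul_le_mul_left _ h3
    rw [hAcard]
    exact Nat.le_of_mul_le_mul_left this (by positivity)
  -- number of solutions of x² = 1
  have hsq : ∀ x : E, 2 * (Finset.univ.filter fun a : ↥A => (x * (a : E)) * (x * (a : E)) = 1).card =
      if x ∈ A then 2 * Nat.card ↥A else Nat.card ↥A := by
    intro x
    split_ifs with h
    · rw [Finset.filter_true_of_mem fun (a : ↥A) _ => by
        rw [← pow_two]; exact hA2 _ (A.mul_mem h a.2), Finset.card_univ, Nat.card_eq_fintype_card]
    · obtain ⟨a₀, ha₀, hne⟩ : ∃ a₀ ∈ A, a₀ * x ≠ x * a₀ := by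
        by_contra hh
        push Not at hh
        exact h (hCA ▸ Subgroup.mem_centralizer_iff.mpr fun a ha => hh a ha)
      rw [Nat.card_eq_fintype_card]
      refine toggle _ (Equiv.mulRight ⟨a₀, ha₀⟩) fun a => ?_
      have hinv : ∀ b ∈ A, b⁻¹ = b := fun b hb => inv_eq_of_mul_eq_one_right (by rw [← pow_two]; exact hA2 b hb)
      have hf : ∀ b ∈ A, (x * b) * (x * b) = (x * x) * (x⁻¹ * b * x * b⁻¹) := fun b hb => by
        rw [hinv b hb]; group
      show (x * ((a : E) * a₀)) * (x * ((a : E) * a₀)) = 1 ↔ ¬ (x * (a : E)) * (x * (a : E)) = 1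
      rw [hf _ (A.mul_mem a.2 ha₀), hf _ a.2, hhom x a a.2 a₀ ha₀]
      have h0 : x⁻¹ * a₀ * x * a₀⁻¹ = z := by
        refine (hz _ (hcz x a₀)).resolve_left fun hh => hne ?_
        rw [mul_inv_eq_one, mul_assoc, inv_mul_eq_iff_eq_mul] at hh
        exact hh
      rw [h0, ← mul_assoc]
      have hxx : x * x ∈ Subgroup.center E := by
        rw [← pow_two]; exact Cfsg.Agent.FGS3.IsExtraspecial_pow_mem hE x
      have hzc : z ∈ Subgroup.center E := h0 ▸ hcz x a₀
      have hzz : z * z = 1 := (hz _ ((Subgroup.center E).mul_mem hzc hzc)).resolve_right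
        fun h2 => hz1 (mul_eq_left.mp h2)
      rcases hz _ ((Subgroup.center E).mul_mem hxx (hcz x a)) with h1 | h1 <;> rw [h1]
      · rw [one_mul]; exact iff_of_false hz1 (not_not.mpr rfl)
      · exact iff_of_true hzz hz1
  set s := (Finset.univ.filter fun x : E => x * x = 1).card with hs
  have hssum : ∑ x : E, (Finset.univ.filter fun a : ↥A => (x * (a : E)) * (x * (a : E)) = 1).card = Nat.card ↥A * s := by
    simp only [Finset.card_filter]
    rw [Finset.sum_comm, Nat.card_eq_fintype_card, ← Finset.card_univ, ← smul_eq_mul, ← Finset.sum_const]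
    refine Finset.sum_congr rfl fun a _ => ?_
    rw [hs, Finset.card_filter]
    exact Fintype.sum_equiv (Equiv.mulRight (a : E)) _ _ fun x => rfl
  have hsval : s = 2 ^ (2 * m) + 2 ^ m := by
    have h1 : ∀ (K : ℕ), ∑ x : E, (if x ∈ A then 2 * K else K) = K * Fintype.card E + K * (Finset.univ.filter fun x => x ∈ A).card := by
      intro K
      rw [Finset.card_filter, Finset.mul_sum, show K * Fintype.card E = ∑ _a : E, K by simp [mul_comm], ← Finset.sum_add_distrib]
      exact Finset.sum_congr rfl fun a _ => by split_ifs <;> ring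
    have h2 := congrArg (2 * ·) hssum
    simp only [Finset.mul_sum, hsq, h1, ← Nat.card_eq_fintype_card] at h2
    rw [show (Finset.univ.filter fun x : E => x ∈ A).card = Nat.card ↥A by rw [Nat.card_eq_fintype_card, Fintype.card_subtype],
      hAcard, hcard] at h2
    have : 2 ^ (m + 1) * (2 * s) = 2 ^ (m + 1) * (2 * (2 ^ (2 * m) + 2 ^ m)) := by
      rw [mul_left_comm, ← h2, pow_succ, pow_succ]
      ring
    have := Nat.eq_of_mul_eq_mul_left (by positivity) this
    omega
  -- orbits of the automorphism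
  have hω5 : ∀ x : E, (ω ^ 5 : E ≃* E) x = x := fun x => by
    rw [orderOf_dvd_iff_pow_eq_one.mp hω.dvd]; rfl
  have hiter : ∀ (n : ℕ) (x : E), (ω ^ n : E ≃* E) x = (⇑ω)^[n] x := by
    intro n
    induction n with
    | zero => intro x; rfl
    | succ n ih => intro x; rw [pow_succ, Function.iterate_succ_apply, MulAut.mul_apply, ih]
  have h5E : Fintype.card E ≡ 2 [MOD 5] := by
    let f : Function.End E := ⇑ω
    have hf : f ^ 5 ^ 1 = 1 := by
      funext x
      rw [pow_one]
      show (⇑ω)^[5] x = x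
      rw [← hiter]; exact hω5 x
    have := Equiv.Perm.card_fixedPoints_modEq hf
    refine this.trans ?_
    rw [← Nat.card_eq_fintype_card,
      Nat.card_congr (Equiv.subtypeEquivRight (fun x => hfix x) : Function.fixedPoints f ≃ ↥(Subgroup.center E)), hE.2]
  have h5s : s ≡ 2 [MOD 5] := by
    let f : Function.End {x : E // x * x = 1} := fun x => ⟨ω x, by rw [← map_mul, x.2, map_one]⟩
    have hfi : ∀ (n : ℕ) (x : {x : E // x * x = 1}), (f^[n] x).1 = (⇑ω)^[n] x.1 := by
      intro n
      induction n with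
      | zero => intro x; rfl
      | succ n ih => intro x; rw [Function.iterate_succ_apply, Function.iterate_succ_apply, ih]
    have hf : f ^ 5 ^ 1 = 1 := by
      funext x
      rw [pow_one]
      refine Subtype.ext ?_
      show (f^[5] x).1 = x.1
      rw [hfi, ← hiter]; exact hω5 _
    have := Equiv.Perm.card_fixedPoints_modEq hf
    rw [hs, ← Fintype.card_subtype]
    refine this.trans ?_
    have hzc : ∀ c ∈ Subgroup.center E, c * c = 1 := fun c hc => by
      have := congrArg Subtype.val (pow_card_eq_one' (x := (⟨c, hc⟩ : ↥(Subgroup.center E))))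
      rw [hE.2] at this
      rw [← pow_two]; exact this
    let e : Function.fixedPoints f ≃ ↥(Subgroup.center E) :=
      { toFun := fun x => ⟨x.1.1, (hfix _).mp (congrArg Subtype.val x.2)⟩
        invFun := fun c => ⟨⟨c.1, hzc _ c.2⟩, Subtype.ext ((hfix _).mpr c.2)⟩
        left_inv := fun x => rfl
        right_inv := fun c => rfl }
    rw [← Nat.card_eq_fintype_card, Nat.card_congr e, hE.2]
  rw [← Nat.card_eq_fintype_card, hcard] at h5E
  rw [hsval] at h5s
  unfold Nat.ModEq at h5E h5s
  obtain ⟨q, r, hr, rfl⟩ : ∃ q r, r < 4 ∧ m = 4 * q + r := ⟨m / 4, m % 4, Nat.mod_lt _ (by norm_num), (Nat.div_add_mod m 4).symm⟩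
  have h16 : ∀ a b : ℕ, (16 : ℕ) ^ a * b % 5 = b % 5 := fun a b => by
    rw [Nat.mul_mod, Nat.pow_mod]; norm_num
  have e1 : (2 : ℕ) ^ (2 * (4 * q + r) + 1) = 16 ^ (2 * q) * 2 ^ (2 * r + 1) := by
    rw [show (16 : ℕ) = 2 ^ 4 by norm_num, ← pow_mul, ← pow_add]; ring_nf
  have e2 : (2 : ℕ) ^ (2 * (4 * q + r)) = 16 ^ (2 * q) * 2 ^ (2 * r) := by
    rw [show (16 : ℕ) = 2 ^ 4 by norm_num, ← pow_mul, ← pow_add]; ring_nf
  have e3 : (2 : ℕ) ^ (4 * q + r) = 16 ^ q * 2 ^ r := by
    rw [show (16 : ℕ) = 2 ^ 4 by norm_num, ← pow_mul, ← pow_add]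
  rw [e1, h16] at h5E
  rw [e2, e3, Nat.add_mod, h16, h16] at h5s
  interval_cases r
  all_goals first | exact Dvd.intro q (by omega) | (norm_num at h5E; done) | (norm_num at h5s; done)


end Cfsg.Agent.S2881
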