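import Cfsg.Statements.S2882
import Cfsg.Agent.Golay.OctadStab
import Cfsg.Agent.KnownA.SylowTwoNormalizer
-- import your own Cfsg.Agent.* helpers here

set_option autoImplicit false
open Cfsg

namespace Cfsg.Agent.S2882

open Cfsg.Agent
open scoped Pointwise

/-- In the Mathieu group of degree 24 (realised as the automorphism group of the extended binary Golay code) every Sylow 2-subgroup is self-normalizing. -/
theorem result (S : Sylow 2 ↥Cfsg.M24) : Subgroup.normalizer ((S : Subgroup ↥Cfsg.M24) : Set ↥Cfsg.M24) = (S : Subgroup ↥Cfsg.M24) := by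
  classical
  haveI := Fact.mk Nat.prime_two
  refine KnownA.sylow_two_eq_normalizer S fun x hx hodd => ?_
  letI : MulAction ↥Cfsg.M24 ↥Cfsg.octads :=
    { smul := fun g o => ⟨g.1 • o.1, Golay.smul_mem_octads g.2 o.2⟩
      one_smul := fun o => Subtype.ext (one_smul (Equiv.Perm GolayPt) o.1)
      mul_smul := fun a b o => Subtype.ext (mul_smul a.1 b.1 o.1) }
  obtain ⟨⟨o, ho⟩, hfix⟩ := S.2.nonempty_fixed_point_of_prime_not_dvd_card (α := ↥Cfsg.octads) (by
    rw [Nat.card_coe_set_eq, Golay.octads_ncard]; norm_num)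
  have hSo : ∀ s ∈ (S : Subgroup ↥Cfsg.M24), s.1 • o = o := fun s hs =>
    congrArg Subtype.val (hfix ⟨s, hs⟩)
  let L : Subgroup ↥Cfsg.M24 := (MulAction.stabilizer (Equiv.Perm GolayPt) o).subgroupOf Cfsg.M24
  have hSL : (S : Subgroup ↥Cfsg.M24) ≤ L := fun s hs => hSo s hs
  let f : L →* Equiv.Perm ↥o := (Golay.octadRes o).comp
    { toFun := fun g => ⟨g.1.1, g.1.2, g.2⟩
      map_one' := rfl
      map_mul' := fun _ _ => rfl }
  have hrange : f.range = alternatingGroup ↥o := by
    rw [← Golay.octadRes_range ho]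
    ext y; constructor
    · rintro ⟨g, rfl⟩; exact ⟨_, rfl⟩
    · rintro ⟨g, rfl⟩; exact ⟨⟨⟨g.1, g.2.1⟩, g.2.2⟩, rfl⟩
  have hmem : ∀ g, f g ∈ alternatingGroup ↥o := fun g => hrange ▸ ⟨g, rfl⟩
  let q : L →* alternatingGroup ↥o := f.codRestrict _ hmem
  have hq : Function.Surjective q := fun y => by
    obtain ⟨g, hg⟩ : y.1 ∈ f.range := hrange.symm ▸ y.2
    exact ⟨g, Subtype.ext hg⟩
  let T : Sylow 2 L := S.subtype hSL
  have hker : IsPGroup 2 q.ker := by
    refine IsPGroup.of_card (n := 4) ?_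
    rw [show (2:ℕ) ^ 4 = 16 by norm_num, ← Golay.octadRes_ker_card ho]
    refine Nat.card_congr ⟨fun g => ⟨⟨g.1.1.1, g.1.1.2, g.1.2⟩, congrArg Subtype.val g.2⟩,
      fun g => ⟨⟨⟨g.1.1, g.1.2.1⟩, g.1.2.2⟩, Subtype.ext g.2⟩, fun _ => rfl, fun _ => rfl⟩
  have hkT : q.ker ≤ (T : Subgroup L) := hker.le_sylow_of_normal T
  -- a point outside the octad has an `S`-orbit equal to the complement
  have hout : ∀ a b : GolayPt, a ∉ o → b ∉ o → ∃ s ∈ (S : Subgroup ↥Cfsg.M24), s.1 a = b := by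
    intro a b ha hb
    obtain ⟨h, hh, e⟩ := Golay.fixer_transitive ho ha hb
    obtain ⟨hM, hf⟩ := Golay.mem_fixer_iff.1 hh
    have hst : h • o = o := by
      refine Finset.eq_of_subset_of_card_le (fun y hy => ?_) (by rw [Finset.card_smul_finset])
      obtain ⟨z, hz, rfl⟩ := Finset.mem_smul_finset.1 hy
      rwa [Equiv.Perm.smul_def, hf z hz]
    have hk : (⟨⟨h, hM⟩, hst⟩ : L) ∈ q.ker := Subtype.ext (Equiv.ext fun y => Subtype.ext (hf y.1 y.2))
    exact ⟨⟨h, hM⟩, hkT hk, e⟩
  have hxo : x.1 • o = o := by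
    refine Finset.eq_of_subset_of_card_le (fun y hy => ?_) (by rw [Finset.card_smul_finset])
    obtain ⟨a, ha, rfl⟩ := Finset.mem_smul_finset.1 hy
    by_contra hb
    have hsub : oᶜ ⊆ x.1 • o := fun c hc => by
      obtain ⟨s, hs, e⟩ := hout _ c hb (Finset.mem_compl.1 hc)
      have hs' : x⁻¹ * s * x ∈ (S : Subgroup ↥Cfsg.M24) := by
        have := (Subgroup.mem_normalizer_iff.1 (inv_mem hx) s).1 hs
        simpa using this
      have hmem' : (x⁻¹ * s * x).1 a ∈ o := by
        have h1 := Finset.smul_mem_smul_finset (a := (x⁻¹ * s * x).1) ha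
        rw [hSo _ hs'] at h1
        exact h1
      have : c = x.1 ((x⁻¹ * s * x).1 a) := by
        rw [← e]
        simp
      rw [this]
      exact Finset.smul_mem_smul_finset hmem'
    have h1 := Finset.card_le_card hsub
    rw [Finset.card_smul_finset, Finset.card_compl, Golay.card_octad ho, Fintype.card_option, ZMod.card] at h1
    omega
  let x' : L := ⟨x, hxo⟩
  have hodd' : Odd (orderOf x') := by rwa [← Subgroup.orderOf_coe x']
  have hq1 : q x' = 1 := by
    refine KnownA.odd_normalizer_alt_eq_one ↥o (by rw [Fintype.card_coe, Golay.card_octad ho]; norm_num)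
      (T.mapSurjective hq) (q x') (Odd.of_dvd_nat hodd' (orderOf_map_dvd q x')) ?_
    rw [Sylow.coe_mapSurjective]
    refine Subgroup.le_normalizer_map q ⟨x', ?_, rfl⟩
    show x' ∈ Subgroup.normalizer _
    rw [Subgroup.mem_normalizer_iff]
    intro g
    exact Subgroup.mem_normalizer_iff.1 hx g.1
  have hxT : x' ∈ (T : Subgroup L) := hkT hq1
  obtain ⟨k, hk⟩ := IsPGroup.iff_orderOf.1 T.2 ⟨x', hxT⟩
  rw [Subgroup.orderOf_mk] at hk
  rw [hk] at hodd'
  rcases k with _ | k
  · have := orderOf_eq_one_iff.1 (hk.trans (pow_zero 2))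
    exact congrArg Subtype.val this
  · rw [pow_succ] at hodd'
    exact absurd hodd' (Nat.not_odd_iff_even.2 (even_two.mul_left _))

end Cfsg.Agent.S2882
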