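import Cfsg.Statements.S2896
import Cfsg.Agent.LocalEven.ParabolicCenters

set_option autoImplicit false
open Cfsg

namespace Cfsg.Agent.S2896

/-- Let p be a prime dividing the order of the finite group G, S a Sylow p-subgroup of G and X a subgroup of S. (i) If some nontrivial element z of the centre of X has F*(C_G(z)) = O_p(C_G(z)), then F*(N_G(X)) = O_p(N_G(X)). (ii) G has parabolic characteristic p if and only if F*(C_G(z)) = O_p(C_G(z)) for every nontrivial z ∈ Ω₁(Z(S)). (iii) If F*(C_G(z)) = O_p(C_G(z)) for every element z of S of order p, then G has local characteristic p. -/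
theorem result {G : Type*} [Group G] [Finite G] {p : ℕ} [Fact p.Prime] (hdiv : p ∣ Nat.card G) (S : Sylow p G) (X : Subgroup G) (hX : X ≤ (S : Subgroup G)) : (∀ z : G, z ≠ 1 → z ∈ X → (∀ x ∈ X, x * z = z * x) → Cfsg.generalizedFittingSubgroup ↥(Subgroup.centralizer ({z} : Set G)) = Cfsg.pCore p ↥(Subgroup.centralizer ({z} : Set G)) → Cfsg.generalizedFittingSubgroup ↥(Subgroup.normalizer (X : Set G)) = Cfsg.pCore p ↥(Subgroup.normalizer (X : Set G))) ∧ (Cfsg.IsOfParabolicCharacteristic p G ↔ ∀ z : G, z ≠ 1 → z ∈ Cfsg.omegaOne p ((S : Subgroup G) ⊓ Subgroup.centralizer ((S : Subgroup G) : Set G)) → Cfsg.generalizedFittingSubgroup ↥(Subgroup.centralizer ({z} : Set G)) = Cfsg.pCore p ↥(Subgroup.centralizer ({z} : Set G))) ∧ ((∀ z : G, z ∈ (S : Subgroup G) → orderOf z = p → Cfsg.generalizedFittingSubgroup ↥(Subgroup.centralizer ({z} : Set G)) = Cfsg.pCore p ↥(Subgroup.centralizer ({z} : Set G))) → Cfsg.IsOfLocalCharacteristic p G) := by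
  have key : ∀ L : Subgroup G,
      Cfsg.generalizedFittingSubgroup ↥L = Cfsg.pCore p ↥L ↔ LocalEven.CP p L := fun L =>
    LocalEven.generalizedFitting_eq_pCore_iff.trans (LocalEven.charP_iff L)
  have homega : ∀ z : G, z ∈ Cfsg.omegaOne p ((S : Subgroup G) ⊓
      Subgroup.centralizer ((S : Subgroup G) : Set G)) ↔
      z ∈ (S : Subgroup G) ⊓ Subgroup.centralizer ((S : Subgroup G) : Set G) ∧ z ^ p = 1 :=
    fun z => LocalEven.mem_omegaOne_iff (LocalEven.inf_centralizer_abelian _)
  refine ⟨fun z _ hzX hc h => (key _).mpr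
    (LocalEven.cp_normalizer_of_central (S.isPGroup'.to_le hX) hzX hc ((key _).mp h)), ?_, ?_⟩
  · constructor
    · intro hG z hz1 hz
      exact (key _).mpr (LocalEven.cp_of_parabolic hG S ((homega z).mp hz).1 hz1)
    · intro h
      refine LocalEven.parabolic_of_centers S fun z hz hzp => (key _).mp (h z ?_ ?_)
      · intro e; rw [e, orderOf_one] at hzp; exact (Fact.out : p.Prime).ne_one hzp.symm
      · exact (homega z).mpr ⟨hz, hzp ▸ pow_orderOf_eq_one z⟩
  · intro h
    refine ⟨hdiv, fun T hT hT1 => (LocalEven.charP_iff _).mpr ?_⟩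
    obtain ⟨z, hz, hzp⟩ := LocalEven.exists_central_orderOf hT hT1 le_rfl Subgroup.le_normalizer
    refine LocalEven.cp_normalizer_of_central hT hz.1
      (fun x hx => Subgroup.mem_centralizer_iff.mp hz.2 x hx) ?_
    obtain ⟨P, hP⟩ := hT.exists_le_sylow
    obtain ⟨g, hg⟩ := MulAction.exists_smul_eq G S P
    have hzS : g⁻¹ * z * g ∈ (S : Subgroup G) := by
      rw [← LocalEven.mem_cj]
      have := hP hz.1
      rw [← hg] at this
      exact this
    have hord : orderOf (g⁻¹ * z * g) = p := by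
      rw [show g⁻¹ * z * g = MulAut.conj g⁻¹ z by simp, MulEquiv.orderOf_eq, hzp]
    have := LocalEven.cp_cj g ((key _).mp (h _ hzS hord))
    rwa [LocalEven.cj_centralizer_singleton, show g * (g⁻¹ * z * g) * g⁻¹ = z by group] at this


end Cfsg.Agent.S2896
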