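import Cfsg.Statements.S2898
import Cfsg.Agent.LocalEven.ParabolicCenters
import Cfsg.Agent.Core.Cores
import Cfsg.Agent.Blocks.ZStar
import Cfsg.Agent.LocalEven.Average

set_option autoImplicit false
open Cfsg

namespace Cfsg.Agent.S2898

/-- Let G be a finite group of even order with parabolic characteristic 2. If the centre of G ⧸ O(G) is trivial, then O(G) = 1. -/
theorem result {G : Type*} [Group G] [Finite G] (h2 : 2 ∣ Nat.card G) (hG : Cfsg.IsOfParabolicCharacteristic 2 G) [hN : (Cfsg.oddCore G).Normal] (hZ : Subgroup.center (G ⧸ Cfsg.oddCore G) = ⊥) : Cfsg.oddCore G = ⊥ := by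
  obtain ⟨S⟩ := (inferInstance : Nonempty (Sylow 2 G))
  set N := Cfsg.oddCore G with hNdef
  have hodd : Odd (Nat.card N) := Blocks.odd_card_oddCore G
  by_contra hne
  have hinv : ∀ z : G, z ∈ (S : Subgroup G) ⊓ Subgroup.centralizer ((S : Subgroup G) : Set G) →
      orderOf z = 2 → ∀ n ∈ N, z * n * z⁻¹ = n⁻¹ := by
    intro z hz hz2
    have hz1 : z ≠ 1 := fun e => by rw [e, orderOf_one] at hz2; omega
    set C := Subgroup.centralizer ({z} : Set G)
    have hC := LocalEven.cp_of_parabolic hG S hz hz1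
    have hM : N ⊓ C = ⊥ := by
      have hcop : (LocalEven.op 2 C) ⊓ N = ⊥ := Subgroup.inf_eq_bot_of_coprime (by
        obtain ⟨a, ha⟩ := IsPGroup.iff_card.mp (LocalEven.isPGroup_op (p := 2) C)
        rw [ha]
        exact (Nat.coprime_two_left.mpr hodd).pow_left a)
      have h1 : N ⊓ C ≤ Subgroup.centralizer (LocalEven.op 2 C : Set G) := by
        rw [← Subgroup.commutator_eq_bot_iff_le_centralizer, ← le_bot_iff, ← hcop]
        refine le_inf ?_ ?_
        · exact Subgroup.le_normalizer_iff_commutator_le_right.mp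
            (inf_le_right.trans (LocalEven.map_pCore_normalized C))
        · exact (Subgroup.commutator_mono inf_le_left le_rfl).trans
            (Subgroup.commutator_le_left _ _)
      rw [← le_bot_iff, ← hcop]
      exact le_inf ((le_inf inf_le_right h1).trans hC) inf_le_left
    have hfpf : MonoidHom.FixedPointFree (MulAut.conjNormal z : N ≃* N) := by
      intro n hn
      have e : z * (n : G) * z⁻¹ = n := congrArg Subtype.val hn
      have : (n : G) ∈ N ⊓ C := ⟨n.2, Subgroup.mem_centralizer_singleton_iff.mpr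
        (mul_inv_eq_iff_eq_mul.mp e).symm⟩
      rw [hM] at this
      exact Subtype.ext this
    have hzz : z * z = 1 := by rw [← sq, ← hz2, pow_orderOf_eq_one]
    have hinvol : Function.Involutive (MulAut.conjNormal z : N ≃* N) := fun n => Subtype.ext (by
      show z * (z * (n : G) * z⁻¹) * z⁻¹ = n
      rw [show z * (z * (n : G) * z⁻¹) * z⁻¹ = z * z * n * (z * z)⁻¹ by group, hzz]
      simp)
    intro n hn
    exact congrArg Subtype.val (congrFun (hfpf.coe_eq_inv_of_involutive hinvol) ⟨n, hn⟩)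
  have hnoinv : ∀ z : G, z ∈ (S : Subgroup G) ⊓ Subgroup.centralizer ((S : Subgroup G) : Set G) →
      orderOf z = 2 → z ∉ Subgroup.centralizer (N : Set G) := by
    intro z hz hz2 hzc
    refine hne (eq_bot_iff.mpr fun n hn => ?_)
    have h1 := hinv z hz hz2 n hn
    rw [← Subgroup.mem_centralizer_iff.mp hzc n hn, mul_inv_cancel_right] at h1
    have h2 : orderOf n ∣ 2 := orderOf_dvd_of_pow_eq_one (by
      rw [sq]; nth_rewrite 1 [h1]; exact inv_mul_cancel n)
    have h3 : orderOf n ∣ Nat.card N := Subgroup.orderOf_dvd_natCard N hn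
    rw [Subgroup.mem_bot, ← orderOf_eq_one_iff]
    exact Nat.eq_one_of_dvd_coprimes (Nat.coprime_two_left.mpr hodd) h2 h3
  set K := Subgroup.centralizer (N : Set G)
  haveI hKn : K.Normal := Subgroup.normal_centralizer
  have hKS : (S : Subgroup G) ⊓ K = ⊥ := by
    by_contra h
    obtain ⟨z, hz, hz2⟩ := LocalEven.exists_central_orderOf S.isPGroup' h inf_le_left
      ((le_inf Subgroup.le_normalizer Subgroup.le_normalizer_of_normal).trans
        Subgroup.inf_normalizer_le_normalizer_inf)
    exact hnoinv z ⟨hz.1.1, hz.2⟩ hz2 hz.1.2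
  have hKN : K ≤ N := by
    refine Blocks.le_oddCore hKn ?_
    rw [← Nat.not_even_iff_odd, even_iff_two_dvd]
    intro h
    obtain ⟨x, hx⟩ := exists_prime_orderOf_dvd_card' (G := K) 2 h
    have hmax := LocalEven.sylow_inf_subnormal S hKn.isSubnormal
    rw [hKS] at hmax
    have := hmax.2.2 (Subgroup.zpowers (x : G))
      (IsPGroup.of_card (n := 1) (by rw [Nat.card_zpowers, Subgroup.orderOf_coe, hx, pow_one]))
      (Subgroup.zpowers_le.mpr x.2) bot_le
    rw [Subgroup.zpowers_eq_bot] at this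
    rw [← Subgroup.orderOf_coe, this, orderOf_one] at hx
    omega
  obtain ⟨z, hz, hz2⟩ := LocalEven.exists_central_orderOf S.isPGroup'
    (fun h => (Sylow.ne_bot_of_dvd_card S h2) h) le_rfl Subgroup.le_normalizer
  have hzN : z ∈ N := by
    have : (QuotientGroup.mk z : G ⧸ N) ∈ Subgroup.center (G ⧸ N) := by
      rw [Subgroup.mem_center_iff]
      intro y
      obtain ⟨g, rfl⟩ := QuotientGroup.mk_surjective y
      rw [← QuotientGroup.mk_mul, ← QuotientGroup.mk_mul, QuotientGroup.eq]
      refine hKN (Subgroup.mem_centralizer_iff.mpr fun n hn => ?_)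
      have hn' : g * n * g⁻¹ ∈ N := hN.conj_mem n hn g
      have h1 := hinv z hz hz2 n hn
      have h3 := hinv z hz hz2 _ hn'
      have hzi : z⁻¹ = z := inv_eq_of_mul_eq_one_right (by rw [← sq, ← hz2, pow_orderOf_eq_one])
      rw [hzi] at h1 h3
      have e : (g * z)⁻¹ * (z * g) * n * ((g * z)⁻¹ * (z * g))⁻¹ = n := by
        calc _ = z⁻¹ * (g⁻¹ * (z * (g * n * g⁻¹) * z⁻¹) * g) * z := by group
          _ = z * (g⁻¹ * (z * (g * n * g⁻¹) * z) * g) * z := by rw [hzi]
          _ = z * (g⁻¹ * (g * n * g⁻¹)⁻¹ * g) * z := by rw [h3]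
          _ = z * n⁻¹ * z := by group
          _ = (z * n * z)⁻¹ := by
              rw [mul_inv_rev, mul_inv_rev, hzi, mul_assoc]
          _ = n := by rw [h1, inv_inv]
      exact (mul_inv_eq_iff_eq_mul.mp e).symm
    rw [hZ, Subgroup.mem_bot] at this
    exact (QuotientGroup.eq_one_iff z).mp this
  have h4 : orderOf z ∣ Nat.card N := Subgroup.orderOf_dvd_natCard N hzN
  rw [hz2] at h4
  exact (Nat.not_even_iff_odd.mpr hodd) (even_iff_two_dvd.mpr h4)


end Cfsg.Agent.S2898
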