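import Cfsg.Statements.S2911
import Cfsg.Agent.LocalEven.CentralTwoTransfer
import Cfsg.Agent.LocalEven.Dagger
import Cfsg.Agent.TwoGroups.InvolutionCentralizer

set_option autoImplicit false
open Cfsg

namespace Cfsg.Agent.S2911

/-- A finite group whose Sylow 2-subgroups are isomorphic to the direct product of a group of order 2 and a dihedral group of order 8 has a subgroup of index two. -/
theorem result {G : Type*} [Group G] [Finite G] (S : Sylow 2 G) (hS : Nonempty (↥(S : Subgroup G) ≃* Multiplicative (ZMod 2) × DihedralGroup 4)) : ∃ H : Subgroup G, H.index = 2 := by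
  obtain ⟨e⟩ := hS
  set P := (S : Subgroup G)
  refine Cfsg.Agent.TwoGroups.exists_index_two_of_residual ?_
  let a : Multiplicative (ZMod 2) × DihedralGroup 4 := (Multiplicative.ofAdd 1, 1)
  let w : Multiplicative (ZMod 2) × DihedralGroup 4 := (1, DihedralGroup.r 2)
  set z : P := e.symm a
  have hez : e z = a := e.apply_symm_apply a
  have hz2 : z * z = 1 := e.injective (by rw [map_mul, map_one, hez]; decide)
  have hzc : ∀ x : P, x * z = z * x := fun x => e.injective (by
    rw [map_mul, map_mul, hez]
    generalize e x = y
    revert y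
    decide)
  refine LocalEven.pResidual_ne_top_of_central S (z := (z : G)) z.2
    (Subgroup.mem_centralizer_iff.mpr fun x hx => congrArg Subtype.val (hzc ⟨x, hx⟩))
    (congrArg Subtype.val hz2) ?_ ?_
  · rintro ⟨y, hy, hye⟩
    obtain rfl : y = z := Subtype.ext hye
    let ψ : P →* Multiplicative (ZMod 2) := (MonoidHom.fst _ _).comp e.toMonoidHom
    have hsurj : Function.Surjective ψ := fun b => ⟨e.symm (b, 1), by simp [ψ]⟩
    have hidx : ψ.ker.index = 2 := by
      rw [Subgroup.index_ker, MonoidHom.range_eq_top.mpr hsurj, Subgroup.card_top]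
      simp
    have hco : IsCoatom ψ.ker := by
      refine ⟨fun h => by rw [h, Subgroup.index_top] at hidx; omega, fun K hK => ?_⟩
      have h1 := Subgroup.index_strictAnti hK
      have h2 : K.index ≠ 0 := Subgroup.index_ne_zero_of_finite
      exact Subgroup.index_eq_one.mp (by omega)
    have := frattini_le_coatom hco hy
    rw [MonoidHom.mem_ker] at this
    simp only [ψ, MonoidHom.comp_apply, MulEquiv.coe_toMonoidHom, hez] at this
    exact absurd this (by decide)
  · intro g hg
    let α : ↥P → ↥P := fun x =>
      ⟨g * (x : G) * g⁻¹, (Subgroup.mem_normalizer_iff.mp hg (x : G)).mp x.2⟩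
    let W : P := e.symm w
    have hW : e W = w := e.apply_symm_apply w
    have hmul : ∀ x y, α (x * y) = α x * α y := fun x y => Subtype.ext (by simp [α])
    have hinj : Function.Injective α := fun x y h => Subtype.ext (by
      have := congrArg Subtype.val h
      simpa [α] using this)
    have hsurjα : Function.Surjective α := Finite.injective_iff_surjective.mp hinj
    have hone : α 1 = 1 := Subtype.ext (by simp [α])
    -- `W` is fixed: it is the only nontrivial commutator
    have hcomm : ∀ x y : Multiplicative (ZMod 2) × DihedralGroup 4,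
        x * y * x⁻¹ * y⁻¹ = 1 ∨ x * y * x⁻¹ * y⁻¹ = w := by
      decide
    have hαW : α W = W := by
      have hw : ∃ x y : Multiplicative (ZMod 2) × DihedralGroup 4, x * y = w * (y * x) ∧ w ≠ 1 :=
        ⟨(1, DihedralGroup.r 1), (1, DihedralGroup.sr 0), by decide, by decide⟩
      obtain ⟨x, y, hxy, hw1⟩ := hw
      have h1 : α (e.symm x) * α (e.symm y) = α W * (α (e.symm y) * α (e.symm x)) := by
        rw [← hmul, ← hmul, ← hmul]
        congr 1
        rw [← map_mul, ← map_mul, ← map_mul, hxy]
      have h2 : e (α W) = e (α (e.symm x)) * e (α (e.symm y)) * (e (α (e.symm x)))⁻¹ *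
          (e (α (e.symm y)))⁻¹ := by
        rw [← map_mul e (α (e.symm x)), h1, map_mul, map_mul]
        group
      apply e.injective
      rcases hcomm (e (α (e.symm x))) (e (α (e.symm y))) with h | h
      · exfalso
        rw [h, ← map_one e] at h2
        have h3 := hinj ((e.injective h2).trans hone.symm)
        exact hw1 (by rw [← hW, h3, map_one])
      · rw [h2, h, hW]
    have hcases : ∀ y : Multiplicative (ZMod 2) × DihedralGroup 4, (∀ x, x * y = y * x) →
        y = 1 ∨ y = w ∨ y = a ∨ y = a * w := by decide
    have hαz : α z = z ∨ α z = z * W := by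
      have hc : ∀ x, x * e (α z) = e (α z) * x := by
        intro x
        obtain ⟨q, hq⟩ := hsurjα (e.symm x)
        rw [← e.apply_symm_apply x, ← map_mul, ← map_mul, ← hq, ← hmul, ← hmul, hzc]
      rcases hcases _ hc with h | h | h | h
      · exfalso
        have : z = 1 := hinj ((e.injective (h.trans (map_one e).symm)).trans hone.symm)
        have h' : e z = 1 := by rw [this, map_one]
        rw [hez] at h'; exact absurd h' (by decide)
      · exfalso
        have : z = W := hinj ((e.injective (h.trans hW.symm)).trans hαW.symm)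
        have h' : a = w := by rw [← hez, this, hW]
        exact absurd h' (by decide)
      · exact Or.inl (e.injective (h.trans hez.symm))
      · exact Or.inr (e.injective (by rw [h, map_mul, hez, hW]))
    -- odd powers
    obtain ⟨k, m, hm, hkm⟩ := Nat.exists_eq_two_pow_mul_odd (orderOf_pos g).ne'
    have hgS : g ^ m ∈ P := by
      have h1 : IsPGroup 2 (Subgroup.zpowers (g ^ m)) := by
        refine IsPGroup.of_card (n := k) ?_
        rw [Nat.card_zpowers, orderOf_pow_of_dvd hm.pos.ne' ⟨2 ^ k, by rw [hkm, mul_comm]⟩, hkm,
          Nat.mul_div_cancel _ hm.pos]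
      have hsup : IsPGroup 2 ↥(Subgroup.zpowers (g ^ m) ⊔ P) :=
        h1.to_sup_of_normal_right' S.isPGroup'
          (Subgroup.zpowers_le.mpr ((Subgroup.normalizer (P : Set G)).pow_mem hg m))
      have := S.is_maximal' hsup le_sup_right
      show g ^ m ∈ (S : Subgroup G)
      rw [← this]
      exact Subgroup.mem_sup_left (Subgroup.mem_zpowers _)
    have hiter : g ^ m * (z : G) * (g ^ m)⁻¹ = z := by
      exact mul_inv_eq_iff_eq_mul.mpr (congrArg Subtype.val (hzc ⟨_, hgS⟩))
    rcases hαz with h | h
    · exact congrArg Subtype.val h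
    · exfalso
      have hpow : ∀ j : ℕ, g ^ j * (z : G) * (g ^ j)⁻¹ = (z : G) * (W : G) ^ j := by
        intro j
        induction j with
        | zero => simp
        | succ j ih =>
          have h1 : g * (z : G) * g⁻¹ = (z : G) * (W : G) := congrArg Subtype.val h
          have h2 : g * (W : G) * g⁻¹ = W := congrArg Subtype.val hαW
          calc g ^ (j + 1) * (z : G) * (g ^ (j + 1))⁻¹ = g * (g ^ j * (z : G) * (g ^ j)⁻¹) * g⁻¹ := by
                rw [pow_succ']; group
            _ = g * ((z : G) * (W : G) ^ j) * g⁻¹ := by rw [ih]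
            _ = (g * z * g⁻¹) * (g * W * g⁻¹) ^ j := by rw [conj_pow]; group
            _ = (z : G) * (W : G) ^ (j + 1) := by rw [h1, h2, pow_succ']; group
      have h3 := (hpow m).symm.trans hiter
      rw [mul_eq_left] at h3
      obtain ⟨i, rfl⟩ := hm
      have hW2 : (W : G) * W = 1 := congrArg Subtype.val (show W * W = 1 from
        e.injective (by rw [map_mul, map_one, hW]; decide))
      rw [pow_succ, pow_mul, sq, hW2, one_pow, one_mul] at h3
      have : W = 1 := Subtype.ext h3
      have h' : w = 1 := by rw [← hW, this, map_one]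
      exact absurd h' (by decide)


end Cfsg.Agent.S2911
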