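import Cfsg.Statements.S3413
import Cfsg.Agent.SmallOrder.M11Facts
import Cfsg.Agent.S0420

set_option autoImplicit false
open Cfsg

namespace Cfsg.Agent.S3413

/-- Simple groups of order 7920 are isomorphic to the concrete M11. -/
theorem iso_m11 {G : Type*} [Group G] [Finite G] [IsSimpleGroup G] (hG : Nat.card G = 7920) :
    Nonempty (G ≃* ↥Cfsg.Spor.M11) := by
  obtain ⟨e⟩ := S0420.result (G := G) ⟨inferInstance, hG⟩ _ Golay.squareDodecad_mem _ Golay.zero_mem_squareDodecad
  obtain ⟨e'⟩ := S0420.result (G := ↥Cfsg.Spor.M11) ⟨Golay.spor_M11_simple, Golay.spor_M11_card⟩ _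
    Golay.squareDodecad_mem _ Golay.zero_mem_squareDodecad
  exact ⟨e.trans e'.symm⟩

/-- Let H be a finite group whose commuting graph (vertices the non-identity elements, two joined when they commute) is isomorphic to that of the Mathieu group M_11: there is a bijection between the non-identity elements of H and of M_11 under which two elements commute exactly when their images do. Then H ≅ M_11. -/
theorem result {H : Type*} [Group H] [Finite H]
    (f : {h : H // h ≠ 1} ≃ {g : ↥Cfsg.Spor.M11 // g ≠ 1})
    (hf : ∀ x y : {h : H // h ≠ 1}, (x : H) * y = y * x ↔ ((f x) : ↥Cfsg.Spor.M11) * (f y) = (f y) * (f x)) :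
    Nonempty (H ≃* ↥Cfsg.Spor.M11) := by
  classical
  have := Fintype.ofFinite H
  haveI := Golay.spor_M11_simple
  have := Fintype.ofFinite ↥Cfsg.Spor.M11
  haveI : Fact (Nat.Prime 11) := ⟨by norm_num⟩
  have hcard : Nat.card H = 7920 := by
    have h1 := Nat.card_congr f
    rw [Nat.card_eq_fintype_card, Nat.card_eq_fintype_card, Fintype.card_subtype_compl, Fintype.card_subtype_compl,
      Fintype.card_subtype_eq, Fintype.card_subtype_eq, ← Nat.card_eq_fintype_card, ← Nat.card_eq_fintype_card,
      Golay.spor_M11_card] at h1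
    have := Nat.card_pos (α := H)
    omega
  -- the extension of the bijection
  let F : H ≃ ↥Cfsg.Spor.M11 :=
    (Equiv.optionSubtypeNe (1 : H)).symm.trans ((Equiv.optionCongr f).trans (Equiv.optionSubtypeNe 1))
  have hF1 : F 1 = 1 := by simp [F]
  have hFx : ∀ (x : H) (hx : x ≠ 1), F x = f ⟨x, hx⟩ := by intro x hx; simp [F, hx]
  have hcomm : ∀ x y : H, x * y = y * x ↔ F x * F y = F y * F x := by
    intro x y
    by_cases hx : x = 1
    · simp [hx, hF1]
    by_cases hy : y = 1
    · simp [hy, hF1]
    rw [hFx x hx, hFx y hy]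
    exact hf ⟨x, hx⟩ ⟨y, hy⟩
  have hC : ∀ x : H, Nat.card (Subgroup.centralizer ({x} : Set H)) =
      Nat.card (Subgroup.centralizer ({F x} : Set ↥Cfsg.Spor.M11)) := fun x =>
    Nat.card_congr (Equiv.subtypeEquiv F fun y => by
      rw [Subgroup.mem_centralizer_singleton_iff, Subgroup.mem_centralizer_singleton_iff]
      exact hcomm y x)
  haveI : IsSimpleGroup H := SmallOrder.M11Facts.simple_of_eleven hcard fun x hx => by
    have hx1 : x ≠ 1 := fun e => by rw [e, orderOf_one] at hx; omega
    have h11 : 11 ∣ Nat.card (Subgroup.centralizer ({F x} : Set ↥Cfsg.Spor.M11)) := by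
      rw [← hC, ← hx]
      exact Subgroup.orderOf_dvd_natCard _ (Subgroup.mem_centralizer_singleton_iff.2 rfl)
    obtain ⟨⟨y, hyC⟩, hy⟩ := exists_prime_orderOf_dvd_card' 11 h11
    rw [Subgroup.orderOf_mk] at hy
    have hFy : F x ∈ Subgroup.centralizer ({y} : Set ↥Cfsg.Spor.M11) :=
      Subgroup.mem_centralizer_singleton_iff.2 (Subgroup.mem_centralizer_singleton_iff.1 hyC).symm
    have hd := Subgroup.orderOf_dvd_natCard _ hFy
    rw [Chars.Order7920.card_centralizer_eleven Golay.spor_M11_card hy] at hd
    have ho : orderOf (F x) = 11 := ((Nat.dvd_prime (by norm_num)).1 hd).resolve_left fun e => hx1 (F.injective (by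
      rw [orderOf_eq_one_iff.1 e, hF1]))
    rw [hC, Chars.Order7920.card_centralizer_eleven Golay.spor_M11_card ho]
  exact iso_m11 hcard

end Cfsg.Agent.S3413
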