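import Cfsg.Statements.S2933
import Cfsg.Agent.LocalEven.FixedFour
-- import your own Cfsg.Agent.* helpers here

set_option autoImplicit false
open Cfsg

namespace Cfsg.Agent.S2933

/-- Let T be a 2-subgroup of a finite group G, V ≤ Z(T) a four-group, and t, ρ ∈ N_G(V) ∩ N_G(T) elements of order 2 and 3 with t commuting with ρ and with V. If [V, ρ] = V and C_T(t) = V, then T is elementary abelian of order 16, or homocyclic of rank 2 (ℤ/2ⁿ × ℤ/2ⁿ for some n ≥ 1), or isomorphic to a Sylow 2-subgroup of PSL₃(4) or of PSU₃(4). -/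
theorem result {G : Type*} [Group G] [Finite G] (T V : Subgroup G) (hT : IsPGroup 2 ↥T) (hVT : V ≤ T ⊓ Subgroup.centralizer (T : Set G)) (hV : Nat.card ↥V = 4 ∧ ∀ v ∈ V, v ^ 2 = 1) (t ρ : G) (ht : orderOf t = 2) (hρ : orderOf ρ = 3) (htn : t ∈ Subgroup.normalizer (V : Set G) ⊓ Subgroup.normalizer (T : Set G)) (hρn : ρ ∈ Subgroup.normalizer (V : Set G) ⊓ Subgroup.normalizer (T : Set G)) (htρ : t * ρ = ρ * t) (htV : t ∈ Subgroup.centralizer (V : Set G)) (hVρ : ⁅V, Subgroup.zpowers ρ⁆ = V) (hCt : T ⊓ Subgroup.centralizer ({t} : Set G) = V) : (Nat.card ↥T = 16 ∧ ∀ x ∈ T, x ^ 2 = 1) ∨ (∃ n : ℕ, 1 ≤ n ∧ Nonempty (↥T ≃* Multiplicative (ZMod (2 ^ n)) × Multiplicative (ZMod (2 ^ n)))) ∨ (∃ (F : Type) (_ : Field F) (_ : Fintype F), Fintype.card F = 4 ∧ ∀ P : Sylow 2 (Matrix.ProjectiveSpecialLinearGroup (Fin 3) F), Nonempty (↥T ≃* ↥(P : Subgroup (Matrix.ProjectiveSpecialLinearGroup (Fin 3) F)))) ∨ (∃ (F : Type) (_ : Field F) (_ : Fintype F),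 Fintype.card F = 16 ∧ ∀ P : Sylow 2 (Cfsg.PSU 3 F 4), Nonempty (↥T ≃* ↥(P : Subgroup (Cfsg.PSU 3 F 4)))) := by
  obtain ⟨hV4, hVsq⟩ := hV
  have hρ3 : ρ ^ 3 = 1 := by rw [← hρ]; exact pow_orderOf_eq_one ρ
  have ht2 : t * t = 1 := by rw [← pow_two, ← ht]; exact pow_orderOf_eq_one t
  have hρT := hρn.2
  have htT := htn.2
  let cρ : MulAut ↥T := T.normalizerMonoidHom ⟨ρ, hρT⟩
  let ct : MulAut ↥T := T.normalizerMonoidHom ⟨t, htT⟩
  have eρ : ∀ x : ↥T, (cρ x : G) = ρ * x * ρ⁻¹ := fun x => rfl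
  have et : ∀ x : ↥T, (ct x : G) = t * x * t⁻¹ := fun x => rfl
  have hVle : V ≤ T := fun v hv => (hVT hv).1
  have hfpV : ∀ v ∈ V, ρ * v * ρ⁻¹ = v → v = 1 := by
    intro v hv hfv
    by_contra hv1
    classical
    have hnorm := Subgroup.mem_normalizer_iff.mp hρn.1
    have hall : ∀ w ∈ V, ρ * w * ρ⁻¹ = w := by
      intro w hw
      by_contra hne
      have hw' : ρ * w * ρ⁻¹ ∈ V := (hnorm w).mp hw
      have hwv : w ≠ v := fun e => hne (e ▸ hfv)
      have hw1 : w ≠ 1 := fun e => hne (by rw [e]; group)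
      have hwv1 : w * v ≠ 1 := fun e => hwv (by
        rw [eq_inv_of_mul_eq_one_left e, inv_eq_of_mul_eq_one_right (by rw [← pow_two]; exact hVsq v hv)])
      haveI := Fintype.ofFinite G
      have hs : ({1, v, w, w * v} : Finset G) = Finset.univ.filter (· ∈ V) := by
        refine Finset.eq_of_subset_of_card_le ?_ ?_
        · intro a ha
          simp only [Finset.mem_insert, Finset.mem_singleton] at ha
          rw [Finset.mem_filter]
          refine ⟨Finset.mem_univ _, ?_⟩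
          rcases ha with rfl | rfl | rfl | rfl
          exacts [one_mem _, hv, hw, mul_mem hw hv]
        · rw [← Fintype.card_subtype, ← Nat.card_eq_fintype_card]
          have e4 : Nat.card {a : G // a ∈ V} = 4 := hV4
          rw [e4, Finset.card_insert_of_notMem (by simp [Ne.symm hv1, Ne.symm hw1, Ne.symm hwv1]),
            Finset.card_insert_of_notMem (by simp [hwv.symm, hw1]),
            Finset.card_insert_of_notMem (by simp [hv1]), Finset.card_singleton]
      have hm : ρ * w * ρ⁻¹ ∈ ({1, v, w, w * v} : Finset G) := by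
        rw [hs, Finset.mem_filter]; exact ⟨Finset.mem_univ _, hw'⟩
      simp only [Finset.mem_insert, Finset.mem_singleton] at hm
      rcases hm with e | e | e | e
      · exact hw1 (conj_eq_one_iff.mp e)
      · exact hwv (mul_left_cancel (mul_right_cancel (e.trans hfv.symm)))
      · exact hne e
      · have e2 : ρ * (ρ * w * ρ⁻¹) * ρ⁻¹ = w := by
          rw [e, show ρ * (w * v) * ρ⁻¹ = ρ * w * ρ⁻¹ * (ρ * v * ρ⁻¹) by group, e, hfv, mul_assoc,
            ← pow_two, hVsq v hv, mul_one]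
        apply hne
        calc ρ * w * ρ⁻¹ = ρ * (ρ * (ρ * w * ρ⁻¹) * ρ⁻¹) * ρ⁻¹ := by rw [e2]
          _ = ρ ^ 3 * w * (ρ ^ 3)⁻¹ := by simp only [pow_succ, pow_zero, one_mul, mul_inv_rev, mul_assoc]
          _ = w := by rw [hρ3, inv_one, one_mul, mul_one]
    have hbot : ⁅V, Subgroup.zpowers ρ⁆ = ⊥ := by
      rw [Subgroup.commutator_eq_bot_iff_le_centralizer]
      intro w hw
      refine Subgroup.mem_centralizer_iff.mpr fun r hr => ?_
      obtain ⟨k, rfl⟩ := hr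
      exact (Commute.zpow_left (mul_inv_eq_iff_eq_mul.mp (hall w hw)) k).eq
    rw [hVρ] at hbot
    exact hv1 (by rw [hbot] at hv; exact Subgroup.mem_bot.mp hv)
  have hyp : Agent.LocalEven.FixedFour.Hyp (V.subgroupOf T) ct cρ := by
    refine ⟨hT, fun v hv x => ?_, ?_, fun v hv => ?_, fun x => ?_, fun x => ?_, fun x => ?_, ?_, fun x => ?_⟩
    · exact Subtype.ext (Subgroup.mem_centralizer_iff.mp (hVT hv).2 x x.2)
    · rw [Nat.card_congr (Subgroup.subgroupOfEquivOfLe hVle).toEquiv, hV4]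
    · exact Subtype.ext (by rw [Subgroup.coe_mul, ← pow_two]; exact hVsq v hv)
    · rw [Subtype.ext_iff, et, Subgroup.mem_subgroupOf, mul_inv_eq_iff_eq_mul]
      conv_rhs => rw [← hCt, Subgroup.mem_inf, Subgroup.mem_centralizer_singleton_iff]
      exact ⟨fun e => ⟨x.2, e.symm⟩, fun e => e.2.symm⟩
    · apply Subtype.ext
      rw [et, et, show t * (t * (x : G) * t⁻¹) * t⁻¹ = t * t * x * (t * t)⁻¹ by group, ht2]
      simp
    · apply Subtype.ext
      rw [eρ, eρ, eρ, show ρ * (ρ * (ρ * (x : G) * ρ⁻¹) * ρ⁻¹) * ρ⁻¹ = ρ ^ 3 * x * (ρ ^ 3)⁻¹ by simp only [pow_succ, pow_zero, one_mul, mul_inv_rev, mul_assoc], hρ3]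
      simp
    · intro v hv e
      exact Subtype.ext (hfpV v hv (by rw [← eρ, e]))
    · apply Subtype.ext
      rw [et, eρ, eρ, et, show t * (ρ * (x : G) * ρ⁻¹) * t⁻¹ = t * ρ * x * (t * ρ)⁻¹ by group, htρ]
      group
  haveI : Fintype (GaloisField 2 2) := Fintype.ofFinite _
  haveI : Fintype (GaloisField 2 4) := Fintype.ofFinite _
  have h4 : Fintype.card (GaloisField 2 2) = 4 :=
    Fintype.card_eq_nat_card.trans (GaloisField.card 2 2 two_ne_zero)
  have h16 : Fintype.card (GaloisField 2 4) = 16 :=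
    Fintype.card_eq_nat_card.trans (GaloisField.card 2 4 (by norm_num))
  rcases Agent.LocalEven.FixedFour.classify hyp (GaloisField 2 2) h4 (GaloisField 2 4) h16 with
    ⟨a, b⟩ | ⟨n, hn, ⟨e⟩⟩ | h | h
  · exact Or.inl ⟨a, fun x hx => by rw [pow_two]; exact congrArg Subtype.val (b ⟨x, hx⟩)⟩
  · exact Or.inr (Or.inl ⟨n, hn, ⟨e.trans (MulEquiv.prodMultiplicative _ _)⟩⟩)
  · exact Or.inr (Or.inr (Or.inl ⟨_, inferInstance, inferInstance, h4, h⟩))
  · exact Or.inr (Or.inr (Or.inr ⟨_, inferInstance, inferInstance, h16, h⟩))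

end Cfsg.Agent.S2933
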