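import Cfsg.Statements.S2968
import Cfsg.Agent.LocalEven.Isolated


set_option autoImplicit false
open Cfsg

namespace Cfsg.Agent.S2968

/-- Let G be a finite group, p a prime, P a Sylow p-subgroup of G and x ∈ P an element of p-power order which is isolated in G (the only conjugate of x commuting with x is x itself). Then x lies in the centre of P, and the subgroup generated by x is both strongly closed and weakly closed in P with respect to G. -/
theorem result {G : Type*} [Group G] [Finite G] {p : ℕ} [Fact p.Prime] (P : Sylow p G) (x : G) (hxP : x ∈ (P : Subgroup G)) (hx : ∃ k : ℕ, orderOf x = p ^ k) (hiso : Cfsg.IsIsolated x) : x ∈ (P : Subgroup G) ⊓ Subgroup.centralizer ((P : Subgroup G) : Set G) ∧ Cfsg.IsStronglyClosed (Subgroup.zpowers x) (P : Subgroup G) ∧ Cfsg.IsWeaklyClosed (Subgroup.zpowers x) (P : Subgroup G) := by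
  have hcent := LocalEven.isolated_le_centralizer hiso P.isPGroup' hxP
  have hsc : Cfsg.IsStronglyClosed (Subgroup.zpowers x) (P : Subgroup G) := by
    refine ⟨Subgroup.zpowers_le.mpr hxP, fun y hy g hg => ?_⟩
    have hxy : Commute x y := by obtain ⟨k, rfl⟩ := hy; exact Commute.self_zpow x k
    obtain ⟨c, hc, hcg⟩ := LocalEven.isolated_exists_conj hiso hx
      (C := Subgroup.centralizer ({g * y * g⁻¹} : Set G)) (g := g)
      (by
        rw [Subgroup.mem_centralizer_singleton_iff]
        exact (Subgroup.mem_centralizer_singleton_iff.mp (hcent hg)).symm)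
      (by
        rw [Subgroup.mem_centralizer_singleton_iff]
        exact (hxy.map (MulAut.conj g).toMonoidHom).eq)
    rw [Subgroup.mem_centralizer_singleton_iff] at hc
    have h2 : Commute (c * g) y := by
      obtain ⟨k, rfl⟩ := hy
      exact (show Commute (c * g) x from hcg).zpow_right k
    have h3 : g * y * g⁻¹ = y := by
      calc g * y * g⁻¹ = c⁻¹ * (c * (g * y * g⁻¹)) := by group
        _ = c⁻¹ * ((g * y * g⁻¹) * c) := by rw [hc]
        _ = c⁻¹ * (c * g * y * (c * g)⁻¹) * c := by
          rw [show c⁻¹ * (c * g * y * (c * g)⁻¹) * c = g * y * g⁻¹ by group]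
          rw [← hc]; group
        _ = c⁻¹ * y * c := by rw [h2.eq]; group
        _ = y := by
          have : c * y = y * c := by
            have e1 : c * g * y * (c * g)⁻¹ = y := by rw [h2.eq]; group
            have e2 : c * g * y * (c * g)⁻¹ = g * y * g⁻¹ := by
              calc c * g * y * (c * g)⁻¹ = (c * (g * y * g⁻¹)) * c⁻¹ := by group
                _ = ((g * y * g⁻¹) * c) * c⁻¹ := by rw [hc]
                _ = _ := by group
            rw [e1] at e2
            rw [← e2] at hc
            exact hc
          rw [mul_assoc, ← this, ← mul_assoc, inv_mul_cancel, one_mul]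
    rw [h3]; exact hy
  refine ⟨⟨hxP, ?_⟩, hsc, hsc.1, fun g hg => Subgroup.eq_of_le_of_card_ge ?_ (LocalEven.card_cj g _).ge⟩
  · show x ∈ Subgroup.centralizer _
    rw [Subgroup.mem_centralizer_iff]
    exact fun s hs => Subgroup.mem_centralizer_singleton_iff.mp (hcent hs)
  · rintro _ ⟨y, hy, rfl⟩
    exact hsc.2 y hy g (hg (LocalEven.conj_mem_cj hy))

end Cfsg.Agent.S2968
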