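import Cfsg.Statements.S2970
import Cfsg.Agent.LocalEven.Isolated
import Cfsg.Agent.Core.Cores
import Cfsg.Agent.Transfer.Complement

set_option autoImplicit false
open Cfsg

namespace Cfsg.Agent.S2970

/-- Let G be a finite group, p a prime and x ∈ G an element of p-power order which is isolated in G. Then the image of x in any quotient G ⧸ N is isolated in G ⧸ N; and if x ≠ 1 and the Sylow p-subgroups of G are cyclic, then G has a normal p-complement. -/
theorem result {G : Type*} [Group G] [Finite G] {p : ℕ} [Fact p.Prime] (x : G) (hx : ∃ k : ℕ, orderOf x = p ^ k) (hiso : Cfsg.IsIsolated x) : (∀ (N : Subgroup G) [N.Normal], Cfsg.IsIsolated (QuotientGroup.mk x : G ⧸ N)) ∧ (x ≠ 1 → (∀ P : Sylow p G, IsCyclic ↥(P : Subgroup G)) → Cfsg.HasNormalPComplement p G) := by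
  classical
  constructor
  · intro N _ q
    obtain ⟨g, rfl⟩ := QuotientGroup.mk'_surjective N q
    intro hc
    set π := QuotientGroup.mk' N
    set y := g * x * g⁻¹ with hy
    have hy' : ∃ k : ℕ, orderOf y = p ^ k := by
      obtain ⟨k, hk⟩ := hx
      exact ⟨k, by rw [← hk]; exact orderOf_injective (MulAut.conj g).toMonoidHom (MulAut.conj g).injective x⟩
    have hπy : π y = π g * π x * (π g)⁻¹ := by rw [hy, map_mul, map_mul, map_inv]
    show π g * π x * (π g)⁻¹ = π x
    rw [← hπy]
    have hcxy : Commute (π x) (π y) := by rw [hπy]; exact hc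
    -- the preimage of the abelian image
    set Wb := Subgroup.zpowers (π x) ⊔ Subgroup.zpowers (π y) with hWb
    have hWp : IsPGroup p ↥Wb := ((Cfsg.Agent.LocalEven.isPGroup_zpowers_of_orderOf hx).map π |>.to_le
        (by rw [MonoidHom.map_zpowers])).to_sup_of_normal_right'
      ((Cfsg.Agent.LocalEven.isPGroup_zpowers_of_orderOf hy').map π |>.to_le (by rw [MonoidHom.map_zpowers])) (by
        refine le_trans ?_ (Subgroup.centralizer_le_normalizer _)
        rw [Subgroup.zpowers_le]
        intro a ha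
        obtain ⟨i, rfl⟩ := Subgroup.mem_zpowers_iff.mp ha
        exact ((hcxy.zpow_right i).eq).symm)
    set W := Wb.comap π with hW
    have hxW : x ∈ W := Subgroup.mem_sup_left (Subgroup.mem_zpowers _)
    have hyW : y ∈ W := Subgroup.mem_sup_right (Subgroup.mem_zpowers _)
    obtain ⟨R, -, hR, hxR, c, hcW, hcR⟩ := Cfsg.Agent.LocalEven.exists_cj_le_common (p := p)
      (Cfsg.Agent.LocalEven.isPGroup_zpowers_of_orderOf hx) (Cfsg.Agent.LocalEven.isPGroup_zpowers_of_orderOf hy')
      (Subgroup.zpowers_le.mpr hxW) (Subgroup.zpowers_le.mpr hyW)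
    have hmem : c * y * c⁻¹ ∈ R := hcR (Cfsg.Agent.LocalEven.conj_mem_cj (g := c) (Subgroup.mem_zpowers y))
    have h2 := Cfsg.Agent.LocalEven.isolated_le_centralizer hiso hR (hxR (Subgroup.mem_zpowers x)) hmem
    rw [Subgroup.mem_centralizer_singleton_iff, hy,
      show c * (g * x * g⁻¹) * c⁻¹ = (c * g) * x * (c * g)⁻¹ by group] at h2
    have h3 := hiso (c * g) h2.symm
    have hcy : Commute (π c) (π y) := by
      have hWc : Wb ≤ Subgroup.centralizer ({π y} : Set (G ⧸ N)) := by
        rw [hWb, sup_le_iff, Subgroup.zpowers_le, Subgroup.zpowers_le, Subgroup.mem_centralizer_singleton_iff,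
          Subgroup.mem_centralizer_singleton_iff]
        exact ⟨hcxy.eq, rfl⟩
      exact Subgroup.mem_centralizer_singleton_iff.mp (hWc hcW)
    calc π y = π c * π y * (π c)⁻¹ := by rw [hcy.eq, mul_inv_cancel_right]
      _ = π ((c * g) * x * (c * g)⁻¹) := by rw [hπy]; simp only [map_mul, map_inv]; group
      _ = π x := by rw [h3]
  · intro hx1 hcyc
    obtain ⟨P₀, hP₀⟩ := (Cfsg.Agent.LocalEven.isPGroup_zpowers_of_orderOf hx).exists_le_sylow
    have hxP : x ∈ (P₀ : Subgroup G) := hP₀ (Subgroup.mem_zpowers x)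
    refine Cfsg.Agent.Transfer.hasNormalPComplement_of_frobenius P₀ fun Q hQ _ g hg hgp => ?_
    by_cases hQ1 : Q = ⊥
    · subst hQ1
      intro a ha
      rw [Subgroup.mem_bot.mp ha, one_mul, mul_one]
    obtain ⟨k, hk⟩ := hx
    obtain ⟨j, rfl⟩ : ∃ j, k = j + 1 := ⟨k - 1, by
      rcases k with _ | k
      · exact absurd (orderOf_eq_one_iff.mp (by rw [hk, pow_zero])) hx1
      · rfl⟩
    set z := x ^ p ^ j with hzdef
    have hzo : orderOf z = p := by
      rw [hzdef, orderOf_pow_of_dvd (pow_ne_zero _ (Fact.out : p.Prime).ne_zero) (by rw [hk]; exact pow_dvd_pow p (Nat.le_succ j)), hk,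
        pow_succ, Nat.mul_div_cancel_left _ (pow_pos (Fact.out : p.Prime).pos _)]
    -- the subgroup of order p
    haveI := hcyc P₀
    have hQp : IsPGroup p ↥Q := P₀.isPGroup'.to_le hQ
    have hdvd : p ∣ Nat.card ↥Q := by
      obtain ⟨i, hi⟩ := IsPGroup.iff_card.mp hQp
      rw [hi]
      exact dvd_pow_self p fun h => hQ1 (Subgroup.eq_bot_of_card_eq _ (by rw [hi, h, pow_zero]))
    haveI : IsCyclic ↥Q := isCyclic_of_injective (Subgroup.inclusion hQ) (Subgroup.inclusion_injective hQ)
    have hsame : ∀ u ∈ (P₀ : Subgroup G), u ^ p = 1 → u ∈ Subgroup.zpowers z := by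
      intro u hu hup
      letI := Fintype.ofFinite ↥(P₀ : Subgroup G)
      let z' : ↥(P₀ : Subgroup G) := ⟨z, (P₀ : Subgroup G).pow_mem hxP _⟩
      have hsub : (Subgroup.zpowers z' : Set ↥(P₀ : Subgroup G)).toFinset ⊆
          Finset.univ.filter (fun a => a ^ p = 1) := by
        intro a ha
        rw [Set.mem_toFinset] at ha
        obtain ⟨i, rfl⟩ := Subgroup.mem_zpowers_iff.mp ha
        simp only [Finset.mem_filter, Finset.mem_univ, true_and]
        refine Subtype.ext ?_
        show (z ^ i) ^ p = 1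
        rw [← zpow_natCast, ← zpow_mul, mul_comm, zpow_mul, zpow_natCast, orderOf_dvd_iff_pow_eq_one.mp hzo.dvd, one_zpow]
      have hcard : (Subgroup.zpowers z' : Set ↥(P₀ : Subgroup G)).toFinset.card = p := by
        rw [Set.toFinset_card, ← Nat.card_eq_fintype_card]
        exact (Nat.card_zpowers z').trans ((Subgroup.orderOf_coe z').symm.trans hzo)
      have heq := Finset.eq_of_subset_of_card_le hsub
        ((IsCyclic.card_pow_eq_one_le (α := ↥(P₀ : Subgroup G)) (Fact.out : p.Prime).pos).trans hcard.ge)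
      have h1 : (⟨u, hu⟩ : ↥(P₀ : Subgroup G)) ∈ (Subgroup.zpowers z' : Set ↥(P₀ : Subgroup G)).toFinset := by
        rw [heq]
        simp only [Finset.mem_filter, Finset.mem_univ, true_and]
        exact Subtype.ext hup
      obtain ⟨i, hi⟩ := Subgroup.mem_zpowers_iff.mp (Set.mem_toFinset.mp h1)
      exact ⟨i, congrArg Subtype.val hi⟩
    obtain ⟨q, hq⟩ := exists_prime_orderOf_dvd_card' p hdvd
    have hqz := hsame q (hQ q.2) (by rw [← Subgroup.coe_pow, orderOf_dvd_iff_pow_eq_one.mp hq.dvd, Subgroup.coe_one])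
    have hzQ : z ∈ Q := by
      have h1 : Subgroup.zpowers (q : G) = Subgroup.zpowers z :=
        Subgroup.eq_of_le_of_card_ge (Subgroup.zpowers_le.mpr hqz) (by
          rw [Nat.card_zpowers, Nat.card_zpowers, hzo, Subgroup.orderOf_coe, hq])
      exact Subgroup.zpowers_le.mpr q.2 (h1.ge (Subgroup.mem_zpowers z))
    -- the element of order p is fixed
    set C := Subgroup.centralizer ({z} : Set G) with hC
    have hxC : x ∈ C := Subgroup.mem_centralizer_singleton_iff.mpr ((Commute.refl x).pow_right _).eq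
    have hgz : g * z * g⁻¹ ∈ Subgroup.zpowers z := hsame _ (hQ ((Subgroup.mem_normalizer_iff.mp hg z).mp hzQ))
      (by rw [conj_pow, orderOf_dvd_iff_pow_eq_one.mp hzo.dvd, mul_one, mul_inv_cancel])
    have hgxC : g * x * g⁻¹ ∈ C := by
      have hle : Subgroup.zpowers z ≤ Subgroup.centralizer ({g * x * g⁻¹} : Set G) := by
        have h1 : g * z * g⁻¹ ∈ Subgroup.centralizer ({g * x * g⁻¹} : Set G) := by
          rw [hzdef, ← conj_pow, Subgroup.mem_centralizer_singleton_iff]
          exact ((Commute.refl _).pow_left _).eq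
        have h2 : Subgroup.zpowers (g * z * g⁻¹) = Subgroup.zpowers z :=
          Subgroup.eq_of_le_of_card_ge (Subgroup.zpowers_le.mpr hgz) (by
            rw [Nat.card_zpowers, Nat.card_zpowers]
            exact (orderOf_injective (MulAut.conj g).toMonoidHom (MulAut.conj g).injective z).ge)
        rw [← h2]
        exact Subgroup.zpowers_le.mpr h1
      exact Subgroup.mem_centralizer_singleton_iff.mpr
        (Subgroup.mem_centralizer_singleton_iff.mp (hle (Subgroup.mem_zpowers z))).symm
    obtain ⟨c, hc, hcg⟩ := Cfsg.Agent.LocalEven.isolated_exists_conj hiso ⟨_, hk⟩ hxC hgxC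
    have hfix : g * z = z * g := by
      have h1 : c * g * z = z * (c * g) := by
        rw [hzdef]; exact (Commute.pow_right (show Commute (c * g) x from hcg) _).eq
      have h2 : c * z = z * c := Subgroup.mem_centralizer_singleton_iff.mp hc
      rw [mul_assoc, ← mul_assoc z, ← h2, mul_assoc] at h1
      exact mul_left_cancel h1
    -- a coprime automorphism of a cyclic group fixing an element of order p
    intro a ha
    obtain ⟨b, hb⟩ := IsCyclic.exists_generator (α := ↥Q)
    obtain ⟨r, hr⟩ := Subgroup.mem_zpowers_iff.mp (hb ⟨g * b * g⁻¹, (Subgroup.mem_normalizer_iff.mp hg _).mp b.2⟩)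
    have hgb : g * (b : G) * g⁻¹ = (b : G) ^ r := (congrArg Subtype.val hr).symm
    obtain ⟨s, hs⟩ := Subgroup.mem_zpowers_iff.mp (hb ⟨z, hzQ⟩)
    have hs' : (b : G) ^ s = z := congrArg Subtype.val hs
    have hr1 : (p : ℤ) ∣ r - 1 := by
      have h3 : z ^ r = z := by
        calc z ^ r = ((b : G) ^ r) ^ s := by rw [← hs', ← zpow_mul, ← zpow_mul, mul_comm]
          _ = g * (b : G) ^ s * g⁻¹ := by rw [← hgb, conj_zpow]
          _ = z := by rw [hs', hfix, mul_inv_cancel_right]
      rw [← hzo, orderOf_dvd_iff_zpow_eq_one, zpow_sub, h3, zpow_one, mul_inv_cancel]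
    obtain ⟨e, he⟩ := IsPGroup.iff_orderOf.mp hQp b
    have hrp : ((p : ℤ) ^ (e + 1)) ∣ r ^ p ^ e - 1 ^ p ^ e := dvd_sub_pow_of_dvd_sub (R := ℤ) hr1 e
    have hiter : ∀ n : ℕ, g ^ n * (b : G) * (g ^ n)⁻¹ = (b : G) ^ (r ^ n) := by
      intro n
      induction n with
      | zero => simp
      | succ n ih =>
        calc g ^ (n + 1) * (b : G) * (g ^ (n + 1))⁻¹ = g * (g ^ n * b * (g ^ n)⁻¹) * g⁻¹ := by group
          _ = g * (b : G) ^ (r ^ n) * g⁻¹ := by rw [ih]
          _ = ((b : G) ^ r) ^ (r ^ n) := by rw [← hgb, conj_zpow]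
          _ = _ := by rw [← zpow_mul, pow_succ']
    have hfix2 : Commute (g ^ p ^ e) (b : G) := by
      refine mul_inv_eq_iff_eq_mul.mp ?_
      rw [hiter]
      have : ((orderOf (b : G) : ℤ)) ∣ r ^ p ^ e - 1 := by
        rw [Subgroup.orderOf_coe, he, Nat.cast_pow]
        rw [one_pow] at hrp
        exact (pow_dvd_pow (p : ℤ) (Nat.le_succ e)).trans hrp
      obtain ⟨t, ht⟩ := this
      rw [show r ^ p ^ e = (orderOf (b : G) : ℤ) * t + 1 by linarith, zpow_add_one, zpow_mul, zpow_natCast,
        pow_orderOf_eq_one, one_zpow, one_mul]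
    obtain ⟨i, hi⟩ := exists_pow_eq_self_of_coprime (x := g) (n := p ^ e) (hgp.symm.pow_left e)
    have hgb' : Commute g (b : G) := hi ▸ hfix2.pow_left i
    obtain ⟨t, ht⟩ := Subgroup.mem_zpowers_iff.mp (hb ⟨a, ha⟩)
    have hat : a = (b : G) ^ t := (congrArg Subtype.val ht).symm
    rw [hat]
    exact (hgb'.zpow_right t).eq.symm


end Cfsg.Agent.S2970
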