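import Cfsg.Statements.S2971
import Cfsg.Agent.LocalEven.Isolated
import Cfsg.Agent.S0071
import Cfsg.Agent.OddLocal.FixOrderP
import Cfsg.Agent.Core.Cores

set_option autoImplicit false
open Cfsg

namespace Cfsg.Agent.S2971

/-- Let G be a finite group and p an odd prime such that G has p-rank at most 1 (no elementary abelian subgroup of order p²). If x ∈ G is an isolated element of order p, then x is central modulo the largest normal subgroup of G of order prime to p. -/
theorem result {G : Type*} [Group G] [Finite G] {p : ℕ} [Fact p.Prime] (hp : p ≠ 2) (hrk : Cfsg.PRankLE p 1 G) (x : G) (hx : orderOf x = p) (hiso : Cfsg.IsIsolated x) : Cfsg.InZStar p x := by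
  obtain ⟨P, hP⟩ := (LocalEven.isPGroup_zpowers_of_orderOf (p := p) ⟨1, by rw [hx, pow_one]⟩).exists_le_sylow
  have hxP : x ∈ (P : Subgroup G) := hP (Subgroup.mem_zpowers x)
  have hc := LocalEven.isolated_le_centralizer hiso P.isPGroup' hxP
  have hord : ∀ y ∈ (P : Subgroup G), y ^ p = 1 → y ∈ Subgroup.zpowers x := by
    intro y hy hyp
    have hyx : y * x = x * y := Subgroup.mem_centralizer_singleton_iff.mp (hc hy)
    set A := Subgroup.closure ({x, y} : Set G)
    have hAc : IsMulCommutative A := Subgroup.isMulCommutative_closure (by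
      intro a ha b hb
      rcases ha with rfl | rfl <;> rcases hb with rfl | rfl
      exacts [rfl, hyx.symm, hyx, rfl])
    have hAp : ∀ a ∈ A, a ^ p = 1 := by
      intro a ha
      induction ha using Subgroup.closure_induction with
      | mem a ha =>
        rcases ha with rfl | rfl
        · exact hx ▸ pow_orderOf_eq_one _
        · exact hyp
      | one => exact one_pow p
      | mul a b ha hb h1 h2 =>
        have : Commute a b := congrArg Subtype.val (hAc.is_comm.comm ⟨a, ha⟩ ⟨b, hb⟩)
        rw [this.mul_pow, h1, h2, one_mul]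
      | inv a _ h1 => rw [inv_pow, h1, inv_one]
    have hle : Subgroup.zpowers x ≤ A := Subgroup.zpowers_le.mpr (Subgroup.subset_closure (by simp))
    have h1 := hrk A hAc hAp
    have h2 : Subgroup.zpowers x = A := Subgroup.eq_of_le_of_card_ge hle
      (by rw [Nat.card_zpowers, hx]; simpa using h1)
    rw [h2]
    exact Subgroup.subset_closure (by simp)
  have hfr : ∀ Q : Subgroup G, Q ≤ (P : Subgroup G) → ∀ g ∈ Subgroup.normalizer (Q : Set G),
      Nat.Coprime (orderOf g) p → g ∈ Subgroup.centralizer (Q : Set G) := by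
    intro Q hQ g hg hcop
    rw [Subgroup.mem_centralizer_iff]
    intro z hz
    have h := OddLocal.fixed_of_fixed_order_p hp g hcop _ Q le_rfl (P.isPGroup'.to_le hQ)
      (fun y hy => (Subgroup.mem_normalizer_iff.mp hg y).mp hy) (fun y hy hyp => ?_) z hz
    · exact (mul_inv_eq_iff_eq_mul.mp h).symm
    by_cases hy1 : y = 1
    · simp [hy1]
    have hyx := hord y (hQ hy) hyp
    have hgen : Subgroup.zpowers y = Subgroup.zpowers x :=
      Subgroup.eq_of_le_of_card_ge (Subgroup.zpowers_le.mpr hyx)
        (by rw [Nat.card_zpowers, Nat.card_zpowers, hx, orderOf_eq_prime hyp hy1])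
    have hxQ : x ∈ Q := (hgen ▸ Subgroup.zpowers_le.mpr hy : Subgroup.zpowers x ≤ Q) (Subgroup.mem_zpowers x)
    have hgx : g * x * g⁻¹ = x := hiso g
      (Subgroup.mem_centralizer_singleton_iff.mp
        (hc (hQ ((Subgroup.mem_normalizer_iff.mp hg x).mp hxQ)))).symm
    obtain ⟨i, rfl⟩ := Subgroup.mem_zpowers_iff.mp hyx
    rw [← conj_zpow, hgx]
  obtain ⟨N, hN, hcompl⟩ := (Cfsg.Agent.S0071.result P).mpr hfr
  intro g
  have hgm : g ∈ ((N ⊔ (P : Subgroup G) : Subgroup G) : Set G) := by
    rw [hcompl.sup_eq_top]; exact Subgroup.mem_top g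
  rw [Subgroup.normal_mul] at hgm
  obtain ⟨n, hn, q, hq, rfl⟩ := hgm
  refine Core.le_pPrimeCore hN ?_ ?_
  · have := hcompl.index_eq_card
    rw [← this]
    exact ((Fact.out : p.Prime).coprime_iff_not_dvd.mpr P.not_dvd_index).symm
  · have e : n * q * x * (n * q)⁻¹ * x⁻¹ = n * (x * n⁻¹ * x⁻¹) := by
      have hq' : q * x = x * q := Subgroup.mem_centralizer_singleton_iff.mp (hc hq)
      calc n * q * x * (n * q)⁻¹ * x⁻¹ = n * (q * x) * q⁻¹ * n⁻¹ * x⁻¹ := by group
        _ = n * (x * q) * q⁻¹ * n⁻¹ * x⁻¹ := by rw [hq']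
        _ = _ := by group
    show n * q * x * (n * q)⁻¹ * x⁻¹ ∈ N
    rw [e]
    exact mul_mem hn (hN.conj_mem _ (inv_mem hn) x)


end Cfsg.Agent.S2971
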