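import Cfsg.Statements.S2972
import Cfsg.Agent.LocalEven.IsolatedMinimal

set_option autoImplicit false
open Cfsg

namespace Cfsg.Agent.S2972

/-- Let G be a finite group, p a prime and x ∈ G an isolated element of order p (the only conjugate of x commuting with x is x) which is not central modulo the largest normal subgroup of order prime to p, while x is central modulo the largest normal subgroup of order prime to p in every proper subgroup containing x, and the image of x is so in every quotient of G by a nontrivial normal subgroup (a minimal counterexample to the Z*_p statement). Then the derived subgroup G' is a non-abelian simple group and G = G'⟨x⟩. -/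
theorem result {G : Type*} [Group G] [Finite G] {p : ℕ} [Fact p.Prime] (x : G) (hx : orderOf x = p) (hiso : Cfsg.IsIsolated x) (hnz : ¬ Cfsg.InZStar p x) (hmin : ∀ (H : Subgroup G) (hxH : x ∈ H), H ≠ ⊤ → Cfsg.InZStar p (⟨x, hxH⟩ : ↥H)) (hquot : ∀ (N : Subgroup G) [N.Normal], N ≠ ⊥ → Cfsg.InZStar p (QuotientGroup.mk x : G ⧸ N)) : IsSimpleGroup ↥(commutator G) ∧ ¬ IsMulCommutative ↥(commutator G) ∧ commutator G ⊔ Subgroup.zpowers x = ⊤ := by
  classical
  have hO := Cfsg.Agent.LocalEven.pPrimeCore_eq_bot_of_minimal hnz hquot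
  have hpp : p.Prime := Fact.out
  have hxp : IsPGroup p ↥(Subgroup.zpowers x) :=
    Cfsg.Agent.LocalEven.isPGroup_zpowers_of_orderOf ⟨1, by rw [hx, pow_one]⟩
  have hx1 : x ≠ 1 := fun h => hpp.one_lt.ne (by rw [← hx, h, orderOf_one])
  -- an element of order p normalizing a p-subgroup centralizes it
  have hcent : ∀ W : Subgroup G, IsPGroup p ↥W → x ∈ Subgroup.normalizer (W : Set G) → ∀ w ∈ W, w * x = x * w := by
    intro W hW hxW w hw
    exact Subgroup.mem_centralizer_singleton_iff.mp (Cfsg.Agent.LocalEven.isolated_le_centralizer hiso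
      (hxp.to_sup_of_normal_right' hW (Subgroup.zpowers_le.mpr hxW))
      (Subgroup.mem_sup_left (Subgroup.mem_zpowers x)) (Subgroup.mem_sup_right hw))
  -- a proper normal subgroup containing x gives a contradiction
  have hnocontain : ∀ C : Subgroup G, C.Normal → x ∈ C → C = ⊤ := by
    intro C hC hxC
    by_contra hne
    refine hnz (Cfsg.Agent.LocalEven.isolated_central hiso C hxC fun c hc => ?_)
    have h1 := hmin C hxC hne ⟨c, hc⟩
    rw [Cfsg.Agent.Core.pPrimeCore_eq_bot_of_normal C hO, Subgroup.mem_bot] at h1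
    exact mul_inv_eq_iff_eq_mul.mp (mul_inv_eq_one.mp (congrArg Subtype.val h1))
  haveI : Nontrivial G := ⟨x, 1, hx1⟩
  obtain ⟨N, ⟨hNn, hN1⟩, hNmin⟩ : ∃ N : Subgroup G, Minimal (fun M : Subgroup G => M.Normal ∧ M ≠ ⊥) N := by
    obtain ⟨N, -, hN⟩ := (Set.toFinite {M : Subgroup G | M.Normal ∧ M ≠ ⊥}).exists_le_minimal
      (a := (⊤ : Subgroup G)) ⟨inferInstance, top_ne_bot⟩
    exact ⟨N, hN⟩
  haveI := hNn
  have hmin' : ∀ M : Subgroup G, M.Normal → M ≤ N → M ≠ ⊥ → M = N := fun M hM hMN hM1 =>
    le_antisymm hMN (hNmin (y := M) ⟨hM, hM1⟩ hMN)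
  -- no minimal normal p-subgroup
  have hNp : ¬ IsPGroup p ↥N := by
    intro hp'
    have hxN := hcent N hp' (by rw [Subgroup.normalizer_eq_top (H := N)]; trivial)
    have hxC : x ∈ Subgroup.centralizer (N : Set G) := Subgroup.mem_centralizer_iff.mpr hxN
    have hCtop := hnocontain _ inferInstance hxC
    set M := (Cfsg.pPrimeCore p (G ⧸ N)).comap (QuotientGroup.mk' N) with hM
    haveI : M.Normal := by rw [hM]; infer_instance
    have hNM : N ≤ M := fun n hn => by
      show (n : G ⧸ N) ∈ Cfsg.pPrimeCore p (G ⧸ N)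
      rw [(QuotientGroup.eq_one_iff n).mpr hn]
      exact one_mem _
    have hidx : (N.subgroupOf M).index = Nat.card ↥(Cfsg.pPrimeCore p (G ⧸ N)) := by
      have h1 := (N.subgroupOf M).card_mul_index
      rw [Cfsg.Agent.Core.card_subgroupOf hNM] at h1
      have h2 : Nat.card ↥M = Nat.card ↥(Cfsg.pPrimeCore p (G ⧸ N)) * Nat.card ↥N := by
        rw [hM, Cfsg.Agent.Core.card_comap_mk]
      rw [h2, mul_comm (Nat.card ↥(Cfsg.pPrimeCore p (G ⧸ N)))] at h1
      exact Nat.eq_of_mul_eq_mul_left Nat.card_pos h1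
    have hcop : (Nat.card ↥(N.subgroupOf M)).Coprime (N.subgroupOf M).index := by
      rw [Cfsg.Agent.Core.card_subgroupOf hNM, hidx]
      obtain ⟨k, hk⟩ := IsPGroup.iff_card.mp hp'
      rw [hk]
      exact Nat.Coprime.pow_left k (Cfsg.Agent.Core.card_pPrimeCore_coprime p _).symm
    obtain ⟨K, hK⟩ := Subgroup.exists_right_complement'_of_coprime hcop
    haveI : K.Normal := by
      refine Subgroup.normalizer_eq_top_iff.mp (top_le_iff.mp (hK.sup_eq_top.ge.trans (sup_le ?_ Subgroup.le_normalizer)))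
      intro a ha
      refine (Subgroup.centralizer_le_normalizer (K : Set ↥M)) (Subgroup.mem_centralizer_iff.mpr fun k _ => Subtype.ext ?_)
      have : (k : G) ∈ Subgroup.centralizer (N : Set G) := hCtop ▸ Subgroup.mem_top _
      exact (Subgroup.mem_centralizer_iff.mp this a ha).symm
    have hK1 : K = ⊥ := by
      rw [eq_bot_iff, ← Cfsg.Agent.Core.pPrimeCore_eq_bot_of_normal (p := p) M hO]
      refine Cfsg.Agent.Core.le_pPrimeCore inferInstance ?_
      rw [← hK.symm.index_eq_card, hidx]
      exact Cfsg.Agent.Core.card_pPrimeCore_coprime p _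
    have hMN : M ≤ N := Subgroup.subgroupOf_eq_top.mp (by rw [← hK.sup_eq_top, hK1, sup_bot_eq])
    refine hnz fun g => ?_
    have h1 : g * x * g⁻¹ * x⁻¹ ∈ N := hMN (hquot N hN1 (QuotientGroup.mk g))
    have h2 := hxN _ h1
    rw [hiso g ?_, mul_inv_cancel]
    · exact one_mem _
    · show x * (g * x * g⁻¹) = g * x * g⁻¹ * x
      calc x * (g * x * g⁻¹) = x * (g * x * g⁻¹ * x⁻¹) * x := by group
        _ = (g * x * g⁻¹ * x⁻¹) * x * x := by rw [h2]
        _ = _ := by group
  have hcoreN : Cfsg.pPrimeCore p ↥N = ⊥ := Cfsg.Agent.Core.pPrimeCore_eq_bot_of_normal N hO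
  have hdvdN : p ∣ Nat.card ↥N := by
    by_contra h
    apply hN1
    rw [eq_bot_iff, ← hO]
    exact Cfsg.Agent.Core.le_pPrimeCore hNn ((hpp.coprime_iff_not_dvd.mpr h).symm)
  have hncomm : ¬ IsMulCommutative ↥N := by
    intro hc
    obtain ⟨P⟩ := (inferInstance : Nonempty (Sylow p ↥N))
    haveI : (P : Subgroup ↥N).Normal := ⟨fun a ha b => by rwa [mul_comm' b a, mul_inv_cancel_right]⟩
    haveI : (P : Subgroup ↥N).Characteristic := Sylow.characteristic_of_normal P inferInstance
    have hP1 : (P : Subgroup ↥N).map N.subtype ≠ ⊥ := by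
      intro h
      have := P.not_dvd_index
      rw [(Subgroup.map_eq_bot_iff_of_injective _ N.subtype_injective).mp h, Subgroup.index_bot] at this
      exact this hdvdN
    have h2 := hmin' _ (Cfsg.Agent.Core.normal_map_subtype_of_characteristic _) (Subgroup.map_subtype_le _) hP1
    exact hNp (h2 ▸ P.2.map _)
  set K := N ⊔ Subgroup.zpowers x with hK
  have hKtop : K = ⊤ := by
    by_contra hne
    have hxK : x ∈ K := Subgroup.mem_sup_right (Subgroup.mem_zpowers x)
    have hz := hmin K hxK hne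
    have hxC : x ∈ Subgroup.centralizer (N : Set G) := by
      refine Subgroup.mem_centralizer_iff.mpr fun n hn => ?_
      have h1 := hz ⟨n, Subgroup.mem_sup_left hn⟩
      have hmem : (n * x * n⁻¹ * x⁻¹) ∈ N := by
        rw [show n * x * n⁻¹ * x⁻¹ = n * (x * n⁻¹ * x⁻¹) by group]
        exact N.mul_mem hn (hNn.conj_mem _ (N.inv_mem hn) x)
      have h2 : ((Cfsg.pPrimeCore p ↥K).map K.subtype).subgroupOf N ≤ Cfsg.pPrimeCore p ↥N := by
        haveI hn' : (((Cfsg.pPrimeCore p ↥K).map K.subtype).subgroupOf N).Normal := by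
          refine ⟨fun a ha b => ?_⟩
          obtain ⟨k, hk, hka⟩ := ha
          refine ⟨⟨b, Subgroup.mem_sup_left b.2⟩ * k * ⟨b, Subgroup.mem_sup_left b.2⟩⁻¹,
            (inferInstance : (Cfsg.pPrimeCore p ↥K).Normal).conj_mem k hk _, ?_⟩
          show (b : G) * (k : G) * (b : G)⁻¹ = (b : G) * (a : G) * (b : G)⁻¹
          rw [show (k : G) = (a : G) from hka]
        refine Cfsg.Agent.Core.le_pPrimeCore hn' (Nat.Coprime.coprime_dvd_left ?_ (Cfsg.Agent.Core.card_pPrimeCore_coprime p ↥K))
        rw [← Cfsg.Agent.Core.card_map_subtype (Cfsg.pPrimeCore p ↥K)]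
        exact Subgroup.card_dvd_of_injective
          ((N.subtype.comp (((Cfsg.pPrimeCore p ↥K).map K.subtype).subgroupOf N).subtype).codRestrict
            ((Cfsg.pPrimeCore p ↥K).map K.subtype) (fun a => a.2))
          (fun a b h => Subtype.ext (Subtype.ext (congrArg (fun t => ((t : ↥((Cfsg.pPrimeCore p ↥K).map K.subtype)) : G)) h :)))
      have h3 := h2 (show (⟨_, hmem⟩ : ↥N) ∈ ((Cfsg.pPrimeCore p ↥K).map K.subtype).subgroupOf N from ⟨_, h1, rfl⟩)
      rw [hcoreN, Subgroup.mem_bot] at h3
      exact mul_inv_eq_iff_eq_mul.mp (mul_inv_eq_one.mp (congrArg Subtype.val h3))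
    refine hncomm ⟨⟨fun a b => Subtype.ext ?_⟩⟩
    have : (b : G) ∈ Subgroup.centralizer (N : Set G) := by
      rw [hnocontain _ inferInstance hxC]; trivial
    exact Subgroup.mem_centralizer_iff.mp this a a.2
  -- the commutator subgroup
  have hperf : commutator ↥N = ⊤ := by
    have h1 : (commutator ↥N).map N.subtype ≠ ⊥ := fun h => hncomm ⟨⟨fun a b => by
      rw [← commutatorElement_eq_one_iff_mul_comm, ← Subgroup.mem_bot,
        ← (Subgroup.map_eq_bot_iff_of_injective _ N.subtype_injective).mp h]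
      exact Subgroup.commutator_mem_commutator (Subgroup.mem_top a) (Subgroup.mem_top b)⟩⟩
    have h2 := hmin' _ (Cfsg.Agent.Core.normal_map_subtype_of_characteristic _) (Subgroup.map_subtype_le _) h1
    refine Subgroup.map_injective N.subtype_injective ?_
    rw [h2, ← MonoidHom.range_eq_map, Subgroup.range_subtype]
  have hcommN : commutator G = N := by
    refine le_antisymm ?_ ?_
    · have hgen : ∀ g : G, ∃ i : ℤ, (g : G ⧸ N) = (x : G ⧸ N) ^ i := by
        intro g
        have hg : g ∈ ((N ⊔ Subgroup.zpowers x : Subgroup G) : Set G) := by rw [← hK, hKtop]; trivial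
        rw [Subgroup.normal_mul] at hg
        obtain ⟨n, hn, a, ha, rfl⟩ := Set.mem_mul.mp hg
        obtain ⟨i, rfl⟩ := Subgroup.mem_zpowers_iff.mp ha
        exact ⟨i, by rw [QuotientGroup.mk_mul, (QuotientGroup.eq_one_iff n).mpr hn, one_mul, QuotientGroup.mk_zpow]⟩
      refine Subgroup.commutator_le.mpr fun a _ b _ => (QuotientGroup.eq_one_iff _).mp ?_
      obtain ⟨i, hi⟩ := hgen a
      obtain ⟨j, hj⟩ := hgen b
      rw [← QuotientGroup.mk'_apply, map_commutatorElement, QuotientGroup.mk'_apply, QuotientGroup.mk'_apply, hi, hj]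
      exact commutatorElement_eq_one_iff_mul_comm.mpr ((Commute.refl _).zpow_zpow i j).eq
    · calc N = (commutator ↥N).map N.subtype := by
            rw [hperf, ← MonoidHom.range_eq_map, Subgroup.range_subtype]
        _ ≤ commutator G := by
            rw [commutator_def, Subgroup.map_commutator]
            exact Subgroup.commutator_mono le_top le_top
  rw [hcommN]
  refine ⟨?_, hncomm, hK ▸ hKtop⟩
  -- simplicity
  haveI : Nontrivial ↥N := (Subgroup.nontrivial_iff_ne_bot N).mpr hN1
  refine ⟨fun M hM => ?_⟩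
  rw [or_iff_not_imp_left]
  intro hM1
  obtain ⟨S, hSM, ⟨hSn, hS1⟩, hSmin⟩ := (Set.toFinite {S : Subgroup ↥N | S.Normal ∧ S ≠ ⊥}).exists_le_minimal
    (a := M) ⟨hM, hM1⟩
  haveI := hSn
  set σ : MulAut ↥N := MulAut.conjNormal x with hσdef
  have hσp : σ ^ p = 1 := by rw [hσdef, ← map_pow, ← hx, pow_orderOf_eq_one, map_one]
  let Si : ℤ → Subgroup ↥N := fun i => S.comap (σ ^ i).toMonoidHom
  have hSi : ∀ i, (Si i).Normal := fun i => by infer_instance
  by_cases hfix : ∀ s : ↥N, s ∈ S ↔ σ s ∈ S
  · -- an invariant factor is normal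
    have hnS : (S.map N.subtype).Normal := by
      refine Subgroup.normalizer_eq_top_iff.mp (top_le_iff.mp (hKtop.ge.trans ?_))
      rw [hK, sup_le_iff]
      refine ⟨fun n hn => Subgroup.mem_normalizer_fintype ?_, Subgroup.zpowers_le.mpr (Subgroup.mem_normalizer_fintype ?_)⟩
      · rintro _ ⟨s, hs, rfl⟩
        exact ⟨⟨n, hn⟩ * s * ⟨n, hn⟩⁻¹, hSn.conj_mem s hs _, rfl⟩
      · rintro _ ⟨s, hs, rfl⟩
        exact ⟨σ s, (hfix s).mp hs, MulAut.conjNormal_apply x s⟩
    have := hmin' _ hnS (Subgroup.map_subtype_le _) (fun h => hS1 ((Subgroup.map_eq_bot_iff_of_injective _ N.subtype_injective).mp h))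
    refine top_le_iff.mp fun n _ => hSM ?_
    obtain ⟨s, hs, hsn⟩ := this.ge n.2
    rwa [← Subtype.ext (hsn : (s : G) = (n : G))]
  · exfalso
    have hdvdS : p ∣ Nat.card ↥S := by
      by_contra h
      apply hS1
      rw [eq_bot_iff, ← hcoreN]
      exact Cfsg.Agent.Core.le_pPrimeCore hSn ((hpp.coprime_iff_not_dvd.mpr h).symm)
    obtain ⟨m, hm⟩ := exists_prime_orderOf_dvd_card' p hdvdS
    have hm1 : (m : ↥N) ≠ 1 := fun h => hpp.one_lt.ne (by rw [← hm, ← Subgroup.orderOf_coe, h, orderOf_one])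
    -- two factors commute unless equal
    have hdich : ∀ T : Subgroup ↥N, T.Normal → (S ≤ T ∨ S ⊓ T = ⊥) := by
      intro T hT
      by_cases h : S ⊓ T = ⊥
      · exact Or.inr h
      · exact Or.inl ((hSmin (y := S ⊓ T) ⟨inferInstance, h⟩ inf_le_left).trans inf_le_right)
    have hpair : ∀ k : ℤ, (σ ^ k) (m : ↥N) * (m : ↥N) = (m : ↥N) * (σ ^ k) (m : ↥N) := by
      intro k
      rcases hdich (Si (-k)) (hSi _) with h | h
      · -- then the power fixes the factor
        have hcard : S = Si (-k) := Subgroup.eq_of_le_of_card_ge h (le_of_eq (Nat.card_congr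
          ((σ ^ (-k)).toEquiv.subtypeEquiv fun a => Iff.rfl)))
        by_cases hk : (p : ℤ) ∣ k
        · obtain ⟨t, rfl⟩ := hk
          rw [zpow_mul, zpow_natCast, hσp, one_zpow]; rfl
        · exfalso
          apply hfix
          let Stab : Subgroup (MulAut ↥N) :=
            { carrier := {τ | ∀ s, s ∈ S ↔ τ s ∈ S}
              one_mem' := fun s => Iff.rfl
              mul_mem' := fun {a b} ha hb s => (hb s).trans (ha (b s))
              inv_mem' := fun {a} ha s => by
                have := ha (a⁻¹ s)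
                rw [← MulAut.mul_apply, mul_inv_cancel, MulAut.one_apply] at this
                exact this.symm }
          have hmem : σ ^ (-k) ∈ Stab := fun s => by
            conv_lhs => rw [hcard]
            rfl
          have hbez : ∃ a b : ℤ, a * (-k) + b * (p : ℤ) = 1 := by
            have hco : IsCoprime (-k) (p : ℤ) := by
              refine IsCoprime.neg_left ?_
              rw [isCoprime_comm, (Nat.prime_iff_prime_int.mp hpp).coprime_iff_not_dvd]
              exact hk
            exact hco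
          obtain ⟨a, b, hab⟩ := hbez
          have hs : σ = (σ ^ (-k)) ^ a := by
            conv_lhs => rw [← zpow_one σ, ← hab, zpow_add, mul_comm b, zpow_mul σ (p : ℤ), zpow_natCast, hσp,
              one_zpow, mul_one, mul_comm a, zpow_mul]
          show σ ∈ Stab
          rw [hs]
          exact Stab.zpow_mem hmem a
      · -- commuting factors
        have h1 : (σ ^ k) (m : ↥N) ∈ Si (-k) := by
          show (σ ^ (-k)) ((σ ^ k) (m : ↥N)) ∈ S
          rw [← MulAut.mul_apply, ← zpow_add, neg_add_cancel, zpow_zero, MulAut.one_apply]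
          exact m.2
        exact (Subgroup.commute_of_normal_of_disjoint _ _ hSn (hSi _) (disjoint_iff.mpr h) _ _ m.2 h1).symm.eq
    let f : ℤ → G := fun i => (((σ ^ i) (m : ↥N) : ↥N) : G)
    have hcomm : ∀ i j, f i * f j = f j * f i := by
      intro i j
      have h1 := congrArg (fun t : ↥N => ((σ ^ j) t : ↥N)) (hpair (i - j))
      simp only [map_mul, ← MulAut.mul_apply, ← zpow_add, add_sub_cancel] at h1
      exact congrArg Subtype.val h1
    set W := Subgroup.closure (Set.range f) with hW
    haveI : IsMulCommutative ↥W := Subgroup.isMulCommutative_closure (by rintro _ ⟨i, rfl⟩ _ ⟨j, rfl⟩; exact hcomm i j)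
    have hWp : IsPGroup p ↥W := by
      intro w
      refine ⟨1, Subtype.ext ?_⟩
      rw [pow_one]
      show (w : G) ^ p = 1
      refine Subgroup.closure_induction (p := fun y _ => y ^ p = 1) ?_ (one_pow p) ?_ ?_ w.2
      · rintro _ ⟨i, rfl⟩
        show (((σ ^ i) (m : ↥N) : ↥N) : G) ^ p = 1
        rw [← Subgroup.coe_pow, ← map_pow, ← Subgroup.coe_pow, ← hm, pow_orderOf_eq_one, Subgroup.coe_one, map_one,
          Subgroup.coe_one]
      · intro a b ha hb hap hbp
        have hab : Commute a b := congrArg Subtype.val (mul_comm' (⟨a, ha⟩ : ↥W) ⟨b, hb⟩)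
        rw [hab.mul_pow, hap, hbp, one_mul]
      · intro a _ hap
        rw [inv_pow, hap, inv_one]
    have hxW : x ∈ Subgroup.normalizer (W : Set G) := by
      refine Subgroup.mem_normalizer_fintype fun w hw => ?_
      have hle : W ≤ W.comap (MulAut.conj x).toMonoidHom := by
        rw [hW, Subgroup.closure_le]
        rintro _ ⟨i, rfl⟩
        refine Subgroup.subset_closure ⟨1 + i, ?_⟩
        show (((σ ^ (1 + i)) (m : ↥N) : ↥N) : G) = x * (((σ ^ i) (m : ↥N) : ↥N) : G) * x⁻¹
        rw [zpow_add, zpow_one, MulAut.mul_apply]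
        exact MulAut.conjNormal_apply x _
      exact hle hw
    have hmx := hcent W hWp hxW _ (Subgroup.subset_closure ⟨0, rfl⟩)
    have hσm : σ (m : ↥N) = (m : ↥N) := Subtype.ext (by
      rw [hσdef, MulAut.conjNormal_apply]
      exact mul_inv_eq_iff_eq_mul.mpr (by simpa [f] using hmx.symm))
    rcases hdich (Si 1) (hSi _) with h | h
    · apply hfix
      have hcard : S = Si 1 := Subgroup.eq_of_le_of_card_ge h (le_of_eq (Nat.card_congr
        ((σ ^ (1 : ℤ)).toEquiv.subtypeEquiv fun a => Iff.rfl)))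
      intro s
      conv_lhs => rw [hcard]
      show (σ ^ (1 : ℤ)) s ∈ S ↔ σ s ∈ S
      rw [zpow_one]
    · refine hm1 (Subgroup.mem_bot.mp (h ▸ ⟨m.2, ?_⟩))
      show (σ ^ (1 : ℤ)) (m : ↥N) ∈ S
      rw [zpow_one, hσm]
      exact m.2


end Cfsg.Agent.S2972
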