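import Cfsg.Statements.S2975
import Cfsg.Agent.LocalEven.IsolatedMinimal

set_option autoImplicit false
open Cfsg

namespace Cfsg.Agent.S2975

/-- Let G be a finite group, p a prime and x ∈ G an isolated element of order p (the only conjugate of x commuting with x is x) which is not central modulo the largest normal subgroup of order prime to p, while x is central modulo the largest normal subgroup of order prime to p in every proper subgroup containing x, and the image of x is so in every quotient of G by a nontrivial normal subgroup (a minimal counterexample to the Z*_p statement). Then for every prime q, every q-subgroup of G that is normalized by x and maximal among the q-subgroups normalized by x is either trivial or a Sylow q-subgroup of G; and C_G(x) permutes the x-invariant Sylow q-subgroups of G transitively by conjugation. -/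
theorem result {G : Type*} [Group G] [Finite G] {p : ℕ} [Fact p.Prime] (x : G) (hx : orderOf x = p) (hiso : Cfsg.IsIsolated x) (hnz : ¬ Cfsg.InZStar p x) (hmin : ∀ (H : Subgroup G) (hxH : x ∈ H), H ≠ ⊤ → Cfsg.InZStar p (⟨x, hxH⟩ : ↥H)) (hquot : ∀ (N : Subgroup G) [N.Normal], N ≠ ⊥ → Cfsg.InZStar p (QuotientGroup.mk x : G ⧸ N)) (q : ℕ) [Fact q.Prime] : (∀ Q : Subgroup G, IsPGroup q ↥Q → x ∈ Subgroup.normalizer (Q : Set G) → (∀ R : Subgroup G, IsPGroup q ↥R → x ∈ Subgroup.normalizer (R : Set G) → Q ≤ R → R = Q) → Q = ⊥ ∨ ∃ S : Sylow q G, (S : Subgroup G) = Q) ∧ (∀ S₁ S₂ : Sylow q G, x ∈ Subgroup.normalizer ((S₁ : Subgroup G) : Set G) → x ∈ Subgroup.normalizer ((S₂ : Subgroup G) : Set G) → ∃ c ∈ Subgroup.centralizer ({x} : Set G), (S₁ : Subgroup G).map (MulAut.conj c).toMonoidHom = (S₂ : Subgroup G)) := by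
  constructor
  · intro Q hQ hxQ hmax
    rw [or_iff_not_imp_left]
    intro hQ1
    by_cases hqp : q = p
    · subst hqp
      have hxp : IsPGroup q ↥(Subgroup.zpowers x) :=
        Cfsg.Agent.LocalEven.isPGroup_zpowers_of_orderOf ⟨1, by rw [hx, pow_one]⟩
      obtain ⟨S, hS⟩ := (hxp.to_sup_of_normal_right' hQ (Subgroup.zpowers_le.mpr hxQ)).exists_le_sylow
      exact ⟨S, hmax _ S.2 (Subgroup.le_normalizer (hS (Subgroup.mem_sup_left (Subgroup.mem_zpowers x))))
        (le_sup_right.trans hS)⟩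
    set H := Subgroup.normalizer (Q : Set G) with hH
    have hHtop : H ≠ ⊤ := by
      intro h
      haveI hQn : Q.Normal := Subgroup.normalizer_eq_top_iff.mp h
      refine hnz fun g => ?_
      have hcop : (Nat.card ↥Q).Coprime p := by
        obtain ⟨k, hk⟩ := IsPGroup.iff_card.mp hQ
        rw [hk]
        exact Nat.Coprime.pow_left k ((Nat.coprime_primes Fact.out Fact.out).mpr hqp)
      rw [← Cfsg.Agent.Core.comap_pPrimeCore_quotient Q hcop]
      exact hquot Q hQ1 (QuotientGroup.mk g)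
    obtain ⟨R, hR⟩ := Cfsg.Agent.LocalEven.exists_sylow_normalized_of_inZStar (x := (⟨x, hxQ⟩ : ↥H))
      (Cfsg.Agent.LocalEven.IsIsolated_subtype hiso H hxQ) (by rw [← Subgroup.orderOf_coe]; exact hx)
      (hmin H hxQ hHtop) q
    haveI hQH : (Q.subgroupOf H).Normal := Subgroup.normal_in_normalizer
    have hQR : Q.subgroupOf H ≤ (R : Subgroup ↥H) :=
      (Cfsg.Agent.Core.le_pCore hQH hQ.comap_subtype).trans (Cfsg.Agent.Core.pCore_le_sylow R)
    set U := (R : Subgroup ↥H).map H.subtype with hU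
    have hQU : Q ≤ U := fun a ha => ⟨⟨a, Subgroup.le_normalizer ha⟩, hQR ha, rfl⟩
    have hxU : x ∈ Subgroup.normalizer (U : Set G) := by
      refine Subgroup.mem_normalizer_fintype ?_
      rintro _ ⟨r, hr, rfl⟩
      exact ⟨⟨x, hxQ⟩ * r * ⟨x, hxQ⟩⁻¹, (Subgroup.mem_normalizer_iff.mp hR r).mp hr, rfl⟩
    have hUQ : U = Q := hmax U (R.2.map _) hxU hQU
    obtain ⟨S, hS⟩ := hQ.exists_le_sylow
    refine ⟨S, (Cfsg.Agent.LocalEven.eq_of_normalizer_le (p := q) S.2 hS fun n hn => ?_).symm⟩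
    obtain ⟨hnS, hnH⟩ := Subgroup.mem_inf.mp hn
    -- the intersection with the normalizer is a `q`-group containing the Sylow subgroup of the normalizer
    have hle : (R : Subgroup ↥H) ≤ (S : Subgroup G).subgroupOf H := fun r hr =>
      hS (hUQ ▸ (⟨r, hr, rfl⟩ : (r : G) ∈ U))
    have heq := R.3 (S.2.comap_subtype) hle
    exact hUQ ▸ (⟨⟨n, hnH⟩, heq ▸ (hnS : (⟨n, hnH⟩ : ↥H) ∈ (S : Subgroup G).subgroupOf H), rfl⟩ : n ∈ U)
  · intro S₁ S₂ h1 h2
    obtain ⟨g, hg⟩ := MulAction.exists_smul_eq G S₁ S₂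
    set H := Subgroup.normalizer ((S₁ : Subgroup G) : Set G) with hH
    have hgx : g⁻¹ * x * g⁻¹⁻¹ ∈ H := by
      refine Subgroup.mem_normalizer_fintype fun s hs => ?_
      have h3 : g * s * g⁻¹ ∈ (S₂ : Subgroup G) := by
        rw [← hg, Sylow.coe_subgroup_smul]; exact ⟨s, hs, rfl⟩
      have h4 := (Subgroup.mem_normalizer_iff.mp h2 _).mp h3
      rw [← hg, Sylow.coe_subgroup_smul] at h4
      obtain ⟨t, ht, hteq⟩ := h4
      have hteq' : g * t * g⁻¹ = x * (g * s * g⁻¹) * x⁻¹ := hteq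
      have : g⁻¹ * x * g⁻¹⁻¹ * s * (g⁻¹ * x * g⁻¹⁻¹)⁻¹ = t := by
        calc g⁻¹ * x * g⁻¹⁻¹ * s * (g⁻¹ * x * g⁻¹⁻¹)⁻¹ = g⁻¹ * (x * (g * s * g⁻¹) * x⁻¹) * g := by group
          _ = t := by rw [← hteq']; group
      rwa [this]
    obtain ⟨c, hc, hcg⟩ := Cfsg.Agent.LocalEven.isolated_exists_conj hiso ⟨1, by rw [hx, pow_one]⟩ h1 hgx
    refine ⟨(c * g⁻¹)⁻¹, Subgroup.inv_mem _ (Subgroup.mem_centralizer_singleton_iff.mpr hcg), ?_⟩
    rw [← hg, Sylow.coe_subgroup_smul, mul_inv_rev, inv_inv]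
    ext y
    constructor
    · rintro ⟨s, hs, rfl⟩
      refine ⟨c⁻¹ * s * c, by have := (Subgroup.mem_normalizer_iff.mp (H.inv_mem hc) s).mp hs; rwa [inv_inv] at this, ?_⟩
      show g * (c⁻¹ * s * c) * g⁻¹ = g * c⁻¹ * s * (g * c⁻¹)⁻¹
      group
    · rintro ⟨s, hs, rfl⟩
      refine ⟨c * s * c⁻¹, (Subgroup.mem_normalizer_iff.mp hc s).mp hs, ?_⟩
      show g * c⁻¹ * (c * s * c⁻¹) * (g * c⁻¹)⁻¹ = g * s * g⁻¹
      group


end Cfsg.Agent.S2975
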