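import Cfsg.Statements.S2989
import Cfsg.Agent.Components.PushingUpMCL
import Cfsg.Agent.S3007

set_option autoImplicit false
open Cfsg

namespace Cfsg.Agent.S2989

/-- Let G be a finite group and S a Sylow p-subgroup of G in the basic pushing-up situation (G ≠ 1, C_G(O_p(G)) ≤ O_p(G), S lies in a unique maximal subgroup of G, and some quotient of G is isomorphic to PSL₂ over a field of order a power of p), and suppose that S centralizes Z(J(S)), where J(S) is generated by the abelian subgroups of S of largest order (that is, J̃(S) = C_S(Z(J(S))) = S). Call a subgroup R of S centrally large if |R|·|Z(R)| is as large as possible among subgroups of S, and let S_Φ be the subgroup generated by the Frattini subgroups Φ(Q) of those minimal centrally large subgroups Q of S whose Ω₁(Z(Q)) has the largest order among minimal centrally large subgroups. Then Z(S) or S_Φ is normal in G; and if S_Φ = 1, the minimal centrally large subgroups of S are exactly the abelian subgroups of S of largest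 order, and at least one of them is elementary abelian. -/
theorem result {G : Type*} [Group G] [Finite G] {p : ℕ} [Fact p.Prime] (S : Subgroup G) (hE : Cfsg.IsPushingUpSituation p S) (hJ : S ≤ Subgroup.centralizer (Cfsg.centerThompsonAOf S : Set G)) : ((S ⊓ Subgroup.centralizer (S : Set G)).Normal ∨ ((Cfsg.frattiniOfMinimalCLJoin p ↥S).map S.subtype).Normal) ∧ (Cfsg.frattiniOfMinimalCLJoin p ↥S = ⊥ → (∀ Q : Subgroup ↥S, Cfsg.IsMinimalCentrallyLarge Q ↔ Q ∈ Cfsg.maxAbelianSubgroups ↥S) ∧ ∃ A ∈ Cfsg.maxAbelianSubgroups ↥S, Cfsg.IsElementaryAbelian p A) := by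
  obtain ⟨F, _, _, σ, rfl⟩ := Components.PushingUpPSL.exists_setup_of_situation hE
  refine ⟨σ.frattiniJoin_normal hJ, fun hbot => ?_⟩
  obtain ⟨Q₀, hQ₀⟩ := LocalEven.CD.exists_mcl (G := ↥(σ.S : Subgroup G))
  obtain ⟨Q, hQ, hk⟩ := Nat.sSup_mem
    (s := {k : ℕ | ∃ Q : Subgroup ↥(σ.S : Subgroup G), Cfsg.IsMinimalCentrallyLarge Q ∧
      Nat.card ↥(Cfsg.omegaOneCenter p Q) = k}) ⟨_, Q₀, hQ₀, rfl⟩
    ((Set.finite_range fun R : Subgroup ↥(σ.S : Subgroup G) =>
      Nat.card (Cfsg.omegaOneCenter p R)).subset (by rintro k ⟨R, -, rfl⟩; exact ⟨R, rfl⟩)).bddAbove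
  have hQb : (frattini Q).map Q.subtype = ⊥ := le_bot_iff.1 (hbot ▸
    le_iSup (fun R : {R : Subgroup ↥(σ.S : Subgroup G) // Cfsg.IsMinimalCentrallyLarge R ∧
      Nat.card ↥(Cfsg.omegaOneCenter p R) = Cfsg.maxOmegaCenterOfMinimalCL p ↥(σ.S : Subgroup G)} =>
      (frattini R.1).map R.1.subtype) ⟨Q, hQ, hk⟩)
  rw [LocalEven.CD.frattini_map_eq (σ.S.isPGroup'.to_subgroup Q), sup_eq_bot_iff] at hQb
  have hab := LocalEven.CD.isMulCommutative_of_commutator_bot hQb.1
  have hiff := (S3007.result _ σ.S.isPGroup' Q Q hQ hQ).2.2.2.2 hab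
  refine ⟨hiff, Q, (hiff Q).1 hQ, hab, fun a ha => ?_⟩
  exact Subgroup.mem_bot.1 (hQb.2 ▸ LocalEven.CD.pow_mem_powerClosure ha)

end Cfsg.Agent.S2989
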