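import Cfsg.Statements.S3020
import Cfsg.Agent.LocalEven.Conj
import Cfsg.Agent.Core.Cores
import Cfsg.Agent.LocalEven.GroupModel

set_option autoImplicit false
open Cfsg

namespace Cfsg.Agent.S3020

/-- Let G be a finite group, p a prime and H an abelian p-subgroup of G that is extremely closed (for every g, the subgroup generated by H and g H g⁻¹ meets N_G(H) exactly in H). Then for every g ∈ G, the subgroup T generated by H and g H g⁻¹ is the product of H with O_{p'}(T), and H meets O_{p'}(T) trivially; that is, O_{p'}(T) is a normal p-complement of H in T. -/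
theorem result {G : Type*} [Group G] [Finite G] {p : ℕ} [Fact p.Prime] (H : Subgroup G) (hHp : IsPGroup p H) (hHab : IsMulCommutative H) (hcl : Cfsg.IsExtremelyClosed H) (g : G) (T : Subgroup G) (hT : T = H ⊔ H.map (MulAut.conj g).toMonoidHom) : H ⊔ (Cfsg.pPrimeCore p ↥T).map T.subtype = T ∧ H ⊓ (Cfsg.pPrimeCore p ↥T).map T.subtype = ⊥ := by
  classical
  subst hT
  set T := H ⊔ H.map (MulAut.conj g).toMonoidHom
  have hHT : H ≤ T := le_sup_left
  set H' := H.subgroupOf T with hH'
  have hHp' : IsPGroup p ↥H' := hHp.comap_subtype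
  have hN : ∀ t : ↥T, t ∈ Subgroup.normalizer (H' : Set ↥T) → t ∈ H' := by
    intro t ht
    have h1 : (t : G) ∈ Subgroup.normalizer (H : Set G) := by
      have := Subgroup.le_normalizer_map T.subtype ⟨t, ht, rfl⟩
      rwa [Subgroup.map_subgroupOf_eq_of_le hHT] at this
    have h2 : (t : G) ∈ T ⊓ Subgroup.normalizer (H : Set G) := ⟨t.2, h1⟩
    rw [hcl g] at h2
    exact h2
  obtain ⟨P, hP⟩ := hHp'.exists_le_sylow
  have hPH : (P : Subgroup ↥T) = H' := by
    refine Cfsg.Agent.LocalEven.eq_of_normalizer_le (p := p) P.isPGroup' hP ?_ |>.symm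
    exact fun t ht => hN t (Subgroup.mem_inf.mp ht).2
  have hab : Subgroup.normalizer ((P : Subgroup ↥T) : Set ↥T) ≤ Subgroup.centralizer ((P : Subgroup ↥T) : Set ↥T) := by
    intro t ht a ha
    rw [hPH] at ht ha
    exact Subtype.ext (congrArg Subtype.val (hHab.is_comm.comm ⟨a, ha⟩ ⟨t, hN t ht⟩) :)
  have hker := MonoidHom.ker_transferSylow_isComplement' P hab
  have hle : (MonoidHom.transferSylow P hab).ker ≤ Cfsg.pPrimeCore p ↥T := by
    refine Cfsg.Agent.Core.le_pPrimeCore inferInstance ?_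
    rw [Nat.coprime_comm, Nat.Prime.coprime_iff_not_dvd Fact.out]
    exact MonoidHom.not_dvd_card_ker_transferSylow P hab
  refine ⟨le_antisymm (sup_le hHT (Subgroup.map_subtype_le _)) ?_, ?_⟩
  · intro t ht
    have h : (⟨t, ht⟩ : ↥T) ∈ Cfsg.pPrimeCore p ↥T ⊔ H' := by
      exact sup_le_sup hle hPH.le (hker.sup_eq_top.ge (Subgroup.mem_top _))
    have h2 := Subgroup.mem_map_of_mem T.subtype h
    rw [Subgroup.map_sup, Subgroup.map_subgroupOf_eq_of_le hHT, sup_comm] at h2
    exact h2
  · obtain ⟨k, hk⟩ := IsPGroup.iff_card.mp hHp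
    refine Subgroup.inf_eq_bot_of_coprime (hk ▸ ?_)
    rw [Cfsg.Agent.Core.card_map_subtype]
    exact (Cfsg.Agent.Core.card_pPrimeCore_coprime p ↥T).symm.pow_left k


end Cfsg.Agent.S3020
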