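import Cfsg.Statements.S3035
import Cfsg.Agent.Screen.DihedralEight
import Cfsg.Agent.Screen.FourCentralizer
import Cfsg.Agent.Linear.IsoPSL27
import Cfsg.Agent.Core.Cores
import Cfsg.Agent.S0495
import Cfsg.Agent.S0497
import Cfsg.Agent.S1012

set_option autoImplicit false
open Cfsg

namespace Cfsg.Agent.S3035

theorem four_self {G : Type*} [Group G] [Finite G] {S : Sylow 2 G} {r s : G} {k : ℕ}
    (h : TwoGroups.DihIn S r s k) {i : ℤ} {x : G} (hx : x ∈ (S : Subgroup G))
    (hc : x * (r ^ i * s) = r ^ i * s * x) : x ∈ h.four i := by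
  obtain ⟨m, rfl | rfl⟩ := h.exists_eq hx
  · rw [TwoGroups.DihIn.rot_mul_refl, h.refl_mul_rot, mul_left_inj] at hc
    have h1 : r ^ m * r ^ m = 1 := by
      calc r ^ m * r ^ m = r ^ (m + i) * (r ^ (i - m))⁻¹ := by
            rw [← zpow_neg, ← zpow_add, ← zpow_add]; ring_nf
        _ = 1 := by rw [hc, mul_inv_cancel]
    rcases h.rot_sq h1 with e | e
    · rw [e]; exact one_mem _
    · rw [e]; exact h.z_mem_four i
  · rw [h.xy_mul_xy, h.xy_mul_xy] at hc
    have h1 : r ^ (m - i) * r ^ (m - i) = 1 := by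
      conv_lhs => arg 2; rw [hc]
      rw [← zpow_add, sub_add_sub_cancel, sub_self, zpow_zero]
    rw [show r ^ m * s = r ^ (m - i) * (r ^ i * s) by rw [← mul_assoc, ← zpow_add, sub_add_cancel]]
    rcases h.rot_sq h1 with e | e
    · rw [e, one_mul]; exact h.t_mem_four i
    · rw [e]; exact Subgroup.mul_mem _ (h.z_mem_four i) (h.t_mem_four i)

/-- One exotic four-group and one that is not: the symmetric groups of degree four and five. -/
theorem mixed {G : Type*} [Group G] [Finite G] {S : Sylow 2 G} {r s z : G}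
    (h : TwoGroups.DihIn S r s 2) (hzeq : r ^ ((2 : ℤ) ^ (2 - 1)) = z)
    (hSC : (S : Subgroup G) = Subgroup.centralizer ({z} : Set G))
    (hcenter : ∀ k ∈ (S : Subgroup G), (∀ y ∈ (S : Subgroup G), k * y = y * k) → k = 1 ∨ k = z)
    {i j : ℤ} (hi : TwoGroups.Exotic (h.four i)) (hj : ¬ TwoGroups.Exotic (h.four j)) :
    Nonempty (G ≃* Equiv.Perm (Fin 4)) ∨ Nonempty (G ≃* Equiv.Perm (Fin 5)) := by
  classical
  haveI := Fintype.ofFinite G
  haveI : Fact (Nat.Prime 2) := ⟨Nat.prime_two⟩
  set U := h.four i with hUdef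
  obtain ⟨hU4, hUsq, -⟩ := TwoGroups.four_facts (h.isKleinFour_four i)
  have hS8 : Nat.card (S : Subgroup G) = 8 := by rw [h.card]; norm_num
  have hzU : z ∈ U := hzeq ▸ h.z_mem_four i
  have hz1 : z ≠ 1 := hzeq ▸ h.z_ne
  obtain ⟨M, hMn, hM2⟩ := h.exists_normal_index_two hj
  haveI := hMn
  obtain ⟨g, hgN, hgo, hgC⟩ := hi
  have hgM : g ∈ M := by
    obtain ⟨m, hm⟩ := hgo
    have h1 : g ^ (2 * m + 1) = 1 := by rw [← hm, pow_orderOf_eq_one]
    have h2 : g = (g ^ m * g ^ m)⁻¹ := eq_inv_of_mul_eq_one_right (by rw [← h1, pow_succ, two_mul, pow_add])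
    rw [h2]
    exact M.inv_mem (Subgroup.mul_self_mem_of_index_two hM2 _)
  have htrans : ∀ a ∈ U, a ≠ 1 → ∀ b ∈ U, b ≠ 1 → ∃ k : ℕ, g ^ k * a * (g ^ k)⁻¹ = b :=
    fun a ha ha1 b hb hb1 => TwoGroups.four_transitive (h.isKleinFour_four i) hgN hgo hgC ha ha1 hb hb1
  have hUM : U ≤ M := by
    obtain ⟨u, hu, hu1, huM⟩ : ∃ u ∈ U, u ≠ 1 ∧ u ∈ M := by
      by_cases hz : z ∈ M
      · exact ⟨z, hzU, hz1, hz⟩
      · by_cases ht : r ^ i * s ∈ M
        · exact ⟨_, h.t_mem_four i, fun e => h.refl_notMem i (e ▸ one_mem _), ht⟩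
        · refine ⟨_, Subgroup.mul_mem _ hzU (h.t_mem_four i), fun e => ?_,
            (Subgroup.mul_mem_iff_of_index_two hM2).2 ⟨fun h' => absurd h' hz, fun h' => absurd h' ht⟩⟩
          have e2 : r ^ i * s = z := by
            rw [← inv_inv (r ^ i * s), ← eq_inv_of_mul_eq_one_left e]
            exact inv_eq_of_mul_eq_one_right (hUsq z hzU)
          exact h.refl_notMem i (e2 ▸ hzeq ▸ Subgroup.zpow_mem_zpowers r _)
    intro v hv
    by_cases hv1 : v = 1
    · exact hv1 ▸ M.one_mem
    · obtain ⟨k, hk⟩ := htrans u hu hu1 v hv hv1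
      exact hk ▸ hMn.conj_mem u huM _
  have hnS : ¬ (S : Subgroup G) ≤ M := fun hle =>
    S.not_dvd_index (dvd_trans (dvd_of_eq hM2.symm) (Subgroup.index_dvd_of_le hle))
  have hUS : U ≤ (S : Subgroup G) := h.four_le i
  have hMS : M ⊓ (S : Subgroup G) = U := by
    refine (Subgroup.eq_of_le_of_card_ge (le_inf hUM hUS) ?_).symm
    have hd : Nat.card ↥(M ⊓ (S : Subgroup G)) ∣ 2 ^ 3 := by
      have := Subgroup.card_dvd_of_le (H := M ⊓ (S : Subgroup G)) (K := (S : Subgroup G)) inf_le_right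
      rwa [hS8] at this
    obtain ⟨a, ha, hca⟩ := (Nat.dvd_prime_pow Nat.prime_two).1 hd
    by_contra hlt
    have ha3 : a = 3 := by interval_cases a <;> simp_all
    exact hnS (le_trans (Subgroup.eq_of_le_of_card_ge (H := M ⊓ (S : Subgroup G)) inf_le_right
      (by rw [hS8, hca, ha3]; norm_num)).ge inf_le_left)
  -- the normalizer of `U`
  have hSN : (S : Subgroup G) ≤ Subgroup.normalizer (U : Set G) := by
    refine (Subgroup.normal_subgroupOf_iff_le_normalizer hUS).1 (Subgroup.normal_of_index_eq_two ?_)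
    have := (U.subgroupOf (S : Subgroup G)).card_mul_index
    rw [Nat.card_congr (Subgroup.subgroupOfEquivOfLe hUS).toEquiv, hU4, hS8] at this
    omega
  set N := Subgroup.normalizer (U : Set G) with hN
  have hN24 : Nat.card N = 24 := by
    have h1 := Screen.FourCentralizer.card_eq_image_mul N z (hSC ▸ hSN)
    rw [← hSC, hS8, show ((Finset.univ.filter (· ∈ N)).image fun k => k * z * k⁻¹) =
      (Finset.univ.filter (· ∈ U)).erase 1 from ?_, Finset.card_erase_of_mem (by simp), ← Fintype.card_subtype,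
      ← Nat.card_eq_fintype_card, hU4] at h1
    · exact h1
    ext v
    simp only [Finset.mem_image, Finset.mem_filter, Finset.mem_univ, true_and, Finset.mem_erase]
    constructor
    · rintro ⟨k, hk, rfl⟩
      exact ⟨fun e => hz1 (conj_eq_one_iff.1 e), (Subgroup.mem_normalizer_iff.1 hk z).1 hzU⟩
    · rintro ⟨hv1, hv⟩
      obtain ⟨k, hk⟩ := htrans z hzU hz1 v hv hv1
      exact ⟨g ^ k, Subgroup.pow_mem _ hgN k, hk⟩
  -- involutions of `M`
  have hPM : ∀ u : G, orderOf u = 2 → ∃ c : G, c * u * c⁻¹ ∈ (S : Subgroup G) := by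
    intro u hu
    obtain ⟨Q, hQ⟩ := (IsPGroup.of_card (p := 2) (n := 1) (by rw [Nat.card_zpowers, hu, pow_one]) :
      IsPGroup 2 (Subgroup.zpowers u)).exists_le_sylow
    obtain ⟨c, rfl⟩ := MulAction.exists_smul_eq G Q S
    exact ⟨c, Subgroup.smul_mem_pointwise_smul u (MulAut.conj c) _ (hQ (Subgroup.mem_zpowers u))⟩
  have hconjz : ∀ u ∈ M, orderOf u = 2 → IsConj z u := by
    intro u huM hu
    obtain ⟨c, hc⟩ := hPM u hu
    have hcU : c * u * c⁻¹ ∈ U := hMS ▸ ⟨hMn.conj_mem u huM c, hc⟩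
    have h1 : c * u * c⁻¹ ≠ 1 := fun e => by rw [conj_eq_one_iff.1 e, orderOf_one] at hu; omega
    obtain ⟨k, hk⟩ := htrans z hzU hz1 _ hcU h1
    exact (isConj_iff.2 ⟨_, hk⟩).trans (isConj_iff.2 ⟨c, rfl⟩).symm
  by_cases hNtop : N = ⊤
  · -- order 24
    left
    have hG : Nat.card G = 24 := by rw [← Subgroup.card_top (G := G), ← hNtop, hN24]
    refine S1012.result hG fun w hw => ?_
    set u := w ^ 3 with hu
    set c := w ^ 2 with hc
    have huo : orderOf u = 2 := by rw [hu, orderOf_pow_of_dvd (by norm_num) (by rw [hw]; norm_num), hw]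
    have hco : orderOf c = 3 := by rw [hc, orderOf_pow_of_dvd (by norm_num) (by rw [hw]; norm_num), hw]
    have hcu : Commute c u := (Commute.refl w).pow_pow 2 3
    obtain ⟨b, hb⟩ := hPM u huo
    set u' := b * u * b⁻¹
    set c' := b * c * b⁻¹
    have hc'o : orderOf c' = 3 := by rw [← hco]; exact (MulAut.conj b).orderOf_eq c
    have hc'u : c' * u' = u' * c' := by
      show b * c * b⁻¹ * (b * u * b⁻¹) = b * u * b⁻¹ * (b * c * b⁻¹)
      calc b * c * b⁻¹ * (b * u * b⁻¹) = b * (c * u) * b⁻¹ := by group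
        _ = b * u * b⁻¹ * (b * c * b⁻¹) := by rw [hcu.eq]; group
    have hu'1 : u' ≠ 1 := fun e => by rw [conj_eq_one_iff.1 e, orderOf_one] at huo; omega
    have hno3 : ∀ v : G, IsConj z v → ∀ d : G, orderOf d = 3 → d * v ≠ v * d := by
      intro v hv d hd he
      obtain ⟨a, rfl⟩ := isConj_iff.1 hv
      have hm : a⁻¹ * d * a ∈ (S : Subgroup G) := by
        rw [hSC]
        refine Subgroup.mem_centralizer_singleton_iff.2 ?_
        calc a⁻¹ * d * a * z = a⁻¹ * (d * (a * z * a⁻¹)) * a := by group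
          _ = z * (a⁻¹ * d * a) := by rw [he]; group
      have h8 := Subgroup.orderOf_dvd_natCard _ hm
      rw [hS8, show orderOf (a⁻¹ * d * a) = 3 from by
        rw [← hd]; simpa using (MulAut.conj a⁻¹).orderOf_eq d] at h8
      norm_num at h8
    by_cases hu'U : u' ∈ U
    · obtain ⟨k, hk⟩ := htrans z hzU hz1 u' hu'U hu'1
      exact hno3 u' (isConj_iff.2 ⟨_, hk⟩) c' hc'o hc'u
    · -- `u'` centralizes `z` and a second involution of `U`
      have hzc : u' * z = z * u' := Subgroup.mem_centralizer_singleton_iff.1 (hSC ▸ hb)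
      have hc'N : c' ∈ N := hNtop ▸ Subgroup.mem_top c'
      set v := c' * z * c'⁻¹
      have hvU : v ∈ U := (Subgroup.mem_normalizer_iff.1 hc'N z).1 hzU
      have hvz : v ≠ z := fun e => hno3 z (IsConj.refl z) c' hc'o (mul_inv_eq_iff_eq_mul.1 e)
      have hv1 : v ≠ 1 := fun e => hz1 (conj_eq_one_iff.1 e)
      have hvc : u' * v = v * u' := by
        show u' * (c' * z * c'⁻¹) = c' * z * c'⁻¹ * u'
        calc u' * (c' * z * c'⁻¹) = (u' * c') * z * c'⁻¹ := by group
          _ = c' * (u' * z) * c'⁻¹ := by rw [← hc'u]; group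
          _ = c' * z * (u' * c'⁻¹) := by rw [hzc]; group
          _ = c' * z * c'⁻¹ * u' := by
            rw [show u' * c'⁻¹ = c'⁻¹ * u' from ((show Commute c' u' from hc'u).inv_left).eq.symm]; group
      refine hu'U (four_self h hb ?_)
      rcases hvU with e | e | e | e
      · exact absurd e hv1
      · exact absurd (e.trans hzeq) hvz
      · rw [← e, hvc]
      · have ht : r ^ i * s = z * v := by rw [e, hzeq, ← mul_assoc, hUsq z hzU, one_mul]
        rw [ht]
        calc u' * (z * v) = u' * z * v := (mul_assoc _ _ _).symm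
          _ = z * (u' * v) := by rw [hzc, mul_assoc]
          _ = z * v * u' := by rw [hvc, ← mul_assoc]
  · -- order 120
    right
    have hzM : z ∈ M := hUM hzU
    set x : M := ⟨z, hzM⟩
    have hxo : orderOf x = 2 := by rw [Subgroup.orderOf_mk, ← hzeq]; exact h.orderOf_z
    have hCx : (Subgroup.centralizer ({x} : Set M)).map M.subtype = U := by
      rw [← hMS, hSC]
      ext v
      constructor
      · rintro ⟨w, hw, rfl⟩
        exact ⟨w.2, Subgroup.mem_centralizer_singleton_iff.2 (congrArg Subtype.val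
          (Subgroup.mem_centralizer_singleton_iff.1 hw))⟩
      · rintro ⟨hvM, hv⟩
        exact ⟨⟨v, hvM⟩, Subgroup.mem_centralizer_singleton_iff.2 (Subtype.ext
          (Subgroup.mem_centralizer_singleton_iff.1 hv :)), rfl⟩
    have honeM : ∀ u : M, orderOf u = 2 → IsConj x u := by
      intro u hu
      have huo : orderOf (u : G) = 2 := by rw [Subgroup.orderOf_coe, hu]
      obtain ⟨c, hc⟩ := hPM _ huo
      obtain ⟨q, hqS, hqM⟩ := SetLike.not_le_iff_exists.1 hnS
      -- the conjugator can be taken inside `M`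
      obtain ⟨c₁, hc₁M, hc₁⟩ : ∃ c₁ ∈ M, c₁ * u * c₁⁻¹ ∈ (S : Subgroup G) := by
        by_cases hcM : c ∈ M
        · exact ⟨c, hcM, hc⟩
        · refine ⟨q * c, (Subgroup.mul_mem_iff_of_index_two hM2).2 ⟨fun h' => absurd h' hqM, fun h' => absurd h' hcM⟩, ?_⟩
          rw [show q * c * u * (q * c)⁻¹ = q * (c * u * c⁻¹) * q⁻¹ by group]
          exact Subgroup.mul_mem _ (Subgroup.mul_mem _ hqS hc) (Subgroup.inv_mem _ hqS)
      have hcU : c₁ * u * c₁⁻¹ ∈ U := hMS ▸ ⟨hMn.conj_mem _ u.2 c₁, hc₁⟩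
      have h1 : c₁ * (u : G) * c₁⁻¹ ≠ 1 := fun e => by rw [conj_eq_one_iff.1 e, orderOf_one] at huo; omega
      obtain ⟨k, hk⟩ := htrans z hzU hz1 _ hcU h1
      refine isConj_iff.2 ⟨⟨c₁⁻¹ * g ^ k, M.mul_mem (M.inv_mem hc₁M) (M.pow_mem hgM k)⟩, Subtype.ext ?_⟩
      show c₁⁻¹ * g ^ k * z * (c₁⁻¹ * g ^ k)⁻¹ = (u : G)
      rw [show c₁⁻¹ * g ^ k * z * (c₁⁻¹ * g ^ k)⁻¹ = c₁⁻¹ * (g ^ k * z * (g ^ k)⁻¹) * c₁ by group, hk]
      group
    have hAll : Screen.FourCentralizer.AllFour M := by
      have hbase : Nat.card (Subgroup.centralizer ({x} : Set M)) = 4 ∧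
          ∀ c ∈ Subgroup.centralizer ({x} : Set M), c * c = 1 := by
        refine ⟨?_, fun c hc => Subtype.ext (hUsq _ (hCx.le (Subgroup.mem_map_of_mem _ hc)))⟩
        rw [← Subgroup.card_map_of_injective M.subtype_injective, hCx, hU4]
      intro u hu
      obtain ⟨a, rfl⟩ := isConj_iff.1 (honeM u hu)
      have hmap : Subgroup.centralizer ({a * x * a⁻¹} : Set M) =
          (Subgroup.centralizer ({x} : Set M)).map (MulAut.conj a).toMonoidHom := by
        ext w
        simp only [Subgroup.mem_map, MulEquiv.coe_toMonoidHom, MulAut.conj_apply, Subgroup.mem_centralizer_singleton_iff]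
        constructor
        · intro hw
          refine ⟨a⁻¹ * w * a, ?_, by group⟩
          calc a⁻¹ * w * a * x = a⁻¹ * (w * (a * x * a⁻¹)) * a := by group
            _ = x * (a⁻¹ * w * a) := by rw [hw]; group
        · rintro ⟨w, hw, rfl⟩
          calc a * w * a⁻¹ * (a * x * a⁻¹) = a * (w * x) * a⁻¹ := by group
            _ = a * x * a⁻¹ * (a * w * a⁻¹) := by rw [hw]; group
      rw [hmap, Subgroup.card_map_of_injective (MulAut.conj a).injective]
      refine ⟨hbase.1, ?_⟩
      rintro _ ⟨c, hc, rfl⟩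
      rw [← map_mul, hbase.2 c hc, map_one]
    have hnn : ¬ (Subgroup.centralizer ({x} : Set M)).Normal := by
      intro hn
      apply hNtop
      have hMN : M ≤ N := by
        intro a ha
        rw [hN, ← hCx]
        exact Subgroup.le_normalizer_map M.subtype ⟨⟨a, ha⟩, by rw [Subgroup.normalizer_eq_top]; trivial, rfl⟩
      refine eq_top_iff.2 fun a _ => ?_
      by_cases ha : a ∈ M
      · exact hMN ha
      · obtain ⟨q, hqS, hqM⟩ := SetLike.not_le_iff_exists.1 hnS
        have : a * q ∈ M := (Subgroup.mul_mem_iff_of_index_two hM2).2 ⟨fun h' => absurd h' ha, fun h' => absurd h' hqM⟩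
        simpa using N.mul_mem (hMN this) (N.inv_mem (hSN hqS))
    have h60 := Screen.FourCentralizer.card_eq_sixty hAll hxo honeM hnn
    obtain ⟨eA⟩ := Screen.FourCentralizer.nonempty_mulEquiv_alternating_five hAll hxo honeM hnn
    have hG : Nat.card G = 120 := by rw [← M.card_mul_index, hM2, h60]
    have hidx : N.index = 5 := by
      have := N.card_mul_index
      rw [hN24, hG] at this
      omega
    have hK : N.normalCore = ⊥ := by
      set K := N.normalCore
      haveI : IsSimpleGroup (alternatingGroup (Fin 5)) := alternatingGroup.isSimpleGroup (by simp)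
      haveI : Nontrivial M := ⟨⟨x, 1, fun e => hz1 (congrArg Subtype.val e)⟩⟩
      haveI : IsSimpleGroup M := MulEquiv.isSimpleGroup eA
      have hKM : K ⊓ M = ⊥ := by
        rcases (Subgroup.Normal.eq_bot_or_eq_top (inferInstance : ((K ⊓ M).subgroupOf M).Normal)) with e | e
        · rwa [Subgroup.subgroupOf_eq_bot, disjoint_iff, inf_assoc, inf_idem] at e
        · rw [Subgroup.subgroupOf_eq_top] at e
          have : M ≤ N := (e.trans inf_le_left).trans N.normalCore_le
          have := Subgroup.card_le_of_le this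
          omega
      by_contra hne
      obtain ⟨k, hk, hk1⟩ := (Subgroup.bot_or_exists_ne_one K).resolve_left hne
      have hkM : k ∉ M := fun hh => hk1 (Subgroup.mem_bot.1 (hKM.le (⟨hk, hh⟩ : k ∈ K ⊓ M)))
      have hcent : ∀ a : G, k * a = a * k := by
        intro a
        have hkc : a * k * a⁻¹ ∈ K := N.normalCore_normal.conj_mem k hk a
        have hkc1 : a * k * a⁻¹ ∉ M := fun hh => hkM (by simpa [mul_assoc] using hMn.conj_mem _ hh a⁻¹)
        have hd : k * (a * k * a⁻¹)⁻¹ ∈ M := (Subgroup.mul_mem_iff_of_index_two hM2).2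
          ⟨fun h' => absurd h' hkM, fun h' => absurd (inv_mem_iff.1 h') hkc1⟩
        have := Subgroup.mem_bot.1 (hKM.le (⟨K.mul_mem hk (K.inv_mem hkc), hd⟩ : k * (a * k * a⁻¹)⁻¹ ∈ K ⊓ M))
        exact mul_inv_eq_iff_eq_mul.1 (mul_inv_eq_one.1 this).symm |>.symm
      have hkS : k ∈ (S : Subgroup G) := hSC ▸ Subgroup.mem_centralizer_singleton_iff.2 (hcent z)
      rcases hcenter k hkS (fun y _ => hcent y) with e | e
      · exact hk1 e
      · exact hkM (e ▸ hzM)
    let e : G ⧸ N ≃ Fin 5 := (Finite.equivFin (G ⧸ N)).trans (finCongr (by rw [← Subgroup.index_eq_card, hidx]))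
    let f : G →* Equiv.Perm (Fin 5) := e.permCongrHom.toMonoidHom.comp (MulAction.toPermHom G (G ⧸ N))
    have hf : Function.Injective f := by
      refine e.permCongrHom.injective.comp ?_
      rw [← MonoidHom.ker_eq_bot_iff, ← Subgroup.normalCore_eq_ker, hK]
    exact ⟨MulEquiv.ofBijective f ((Nat.bijective_iff_injective_and_card f).2
      ⟨hf, by rw [hG, Nat.card_perm, Nat.card_fin]; rfl⟩)⟩


/-- Let G be a finite group with an involution z whose centralizer is dihedral of order 8. Then G = C_G(z) O(G) with O(G) the largest normal subgroup of odd order, or G is isomorphic to the symmetric group of degree 4, the symmetric group of degree 5, the group SL₃(2), or the alternating group of degree 6. -/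
theorem result {G : Type*} [Group G] [Finite G] (z : G) (hz : orderOf z = 2)
    (hC : Nonempty (↥(Subgroup.centralizer ({z} : Set G)) ≃* DihedralGroup 4)) :
    Subgroup.centralizer ({z} : Set G) ⊔ Cfsg.oddCore G = ⊤ ∨ Nonempty (G ≃* Equiv.Perm (Fin 4)) ∨ Nonempty (G ≃* Equiv.Perm (Fin 5)) ∨
      Nonempty (G ≃* Matrix.SpecialLinearGroup (Fin 3) (ZMod 2)) ∨ Nonempty (G ≃* ↥(alternatingGroup (Fin 6))) := by
  classical
  haveI : Fact (Nat.Prime 2) := ⟨Nat.prime_two⟩
  obtain ⟨e⟩ := hC
  obtain ⟨P, σ, τ, hPC, -, hσz, hD, -, -⟩ := Screen.DihedralEight.exists_setup hz e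
  have hzeq : σ ^ ((2 : ℤ) ^ (2 - 1)) = z := by
    rw [show ((2 : ℤ) ^ (2 - 1)) = ((2 : ℕ) : ℤ) by norm_num, zpow_natCast, hσz]
  by_cases h0 : TwoGroups.Exotic (hD.four 0) <;> by_cases h1 : TwoGroups.Exotic (hD.four 1)
  · -- both exotic: simple
    have hall : ∀ U : Subgroup G, U ≤ P → IsKleinFour U → TwoGroups.Exotic U := by
      intro U hU hU4
      obtain ⟨i, rfl⟩ := hD.eq_four hU4 hU
      rw [hD.exotic_four_iff i]
      split <;> assumption
    have hone := fun u hu => Screen.DihedralEight.isConj_of_no_index_two hz e (hD.index_ne_two hall) (u := u) hu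
    haveI := Screen.DihedralEight.isSimple hz e hone
    rcases Screen.DihedralEight.card_eq hz e hone with h | h
    · haveI : Fact (Nat.Prime 7) := ⟨by norm_num⟩
      obtain ⟨a⟩ := S0495.result h (ZMod.card 7)
      obtain ⟨b⟩ := Linear.PSL2_seven_iso (F := ZMod 7) (K := ZMod 2) (ZMod.card 7) (ZMod.card 2)
      have hzc : Subgroup.center (Matrix.SpecialLinearGroup (Fin 3) (ZMod 2)) = ⊥ := by
        rw [← Subgroup.card_eq_one, Linear.card_center_SL]
        rfl
      refine Or.inr (Or.inr (Or.inr (Or.inl ⟨(a.trans b).trans ?_⟩)))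
      exact (QuotientGroup.quotientMulEquivOfEq hzc).trans QuotientGroup.quotientBot
    · exact Or.inr (Or.inr (Or.inr (Or.inr (S0497.result h))))
  rotate_left 2
  · -- no exotic four-group: a normal complement
    have hne : ∀ U : Subgroup G, U ≤ P → IsKleinFour U → ¬ TwoGroups.Exotic U := by
      intro U hU hU4
      obtain ⟨i, rfl⟩ := hD.eq_four hU4 hU
      rw [hD.exotic_four_iff i]
      split <;> assumption
    obtain ⟨Q, N, hN, hcomp⟩ := hD.hasNormalPComplement hne
    have hQ8 : Nat.card (Q : Subgroup G) = 2 ^ 3 := by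
      rw [Q.card_eq_multiplicity, ← P.card_eq_multiplicity, hD.card]
    have hN2 : ¬ 2 ∣ Nat.card N := by
      have h1 := Q.not_dvd_index
      rwa [hcomp.index_eq_card] at h1
    refine Or.inl (eq_top_iff.2 ?_)
    have hNC : Subgroup.IsComplement' N (Subgroup.centralizer ({z} : Set G)) := by
      refine Subgroup.isComplement'_of_coprime ?_ ?_
      · rw [← hPC, hD.card]
        have := hcomp.card_mul_card
        rw [hQ8] at this
        exact this
      · rw [← hPC, hD.card]
        exact ((Nat.prime_two.coprime_iff_not_dvd.2 hN2).pow_left _).symm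
    rw [← hNC.sup_eq_top, sup_comm N]
    refine sup_le le_sup_left (le_trans ?_ le_sup_right)
    exact Core.le_pPrimeCore hN (Nat.prime_two.coprime_iff_not_dvd.2 hN2).symm
  all_goals
    have hcenter : ∀ k ∈ (P : Subgroup G), (∀ y ∈ (P : Subgroup G), k * y = y * k) → k = 1 ∨ k = z := by
      intro k hk hkc
      have key : ∀ c : ↥(Subgroup.centralizer ({z} : Set G)),
          (∀ d, c * d = d * c) → e c = 1 ∨ e c = DihedralGroup.r 2 := by
        intro c hc
        refine Screen.DihedralEight.center_eq _ fun y => ?_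
        obtain ⟨d, rfl⟩ := e.surjective y
        rw [← map_mul, ← map_mul, hc]
      have ez := (key ⟨z, Subgroup.mem_centralizer_singleton_iff.2 rfl⟩
        (fun d => Subtype.ext (Subgroup.mem_centralizer_singleton_iff.1 d.2).symm)).resolve_left fun h' => by
          rw [e.map_eq_one_iff] at h'
          have h'' : z = 1 := congrArg Subtype.val h'
          rw [h'', orderOf_one] at hz
          omega
      rcases key ⟨k, hPC ▸ hk⟩ (fun d => Subtype.ext (hkc d (hPC.symm ▸ d.2))) with h' | h'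
      · exact Or.inl (congrArg Subtype.val (e.map_eq_one_iff.1 h'))
      · exact Or.inr (congrArg Subtype.val (e.injective (h'.trans ez.symm)))
    have hmix : Nonempty (G ≃* Equiv.Perm (Fin 4)) ∨ Nonempty (G ≃* Equiv.Perm (Fin 5)) := by
      first
        | exact mixed hD hzeq hPC hcenter h0 h1
        | exact mixed hD hzeq hPC hcenter h1 h0
    rcases hmix with h | h
    · exact Or.inr (Or.inl h)
    · exact Or.inr (Or.inr (Or.inl h))

end Cfsg.Agent.S3035
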