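import Cfsg.Statements.S3064
import Cfsg.Agent.FGS2.FrobeniusType
import Cfsg.Agent.TwoGroups.FactorPair
import Cfsg.Agent.Transfer.Burnside

set_option autoImplicit false
open Cfsg

namespace Cfsg.Agent.S3064

universe u in
theorem key {p : ℕ} [hp : Fact p.Prime] : ∀ (n : ℕ) {G : Type u} [Group G] [Finite G], Nat.card G ≤ n →
    ∀ (S : Sylow p G) (x : G), x ∈ S → (∀ g : G, g⁻¹ * x * g ∈ S → g⁻¹ * x * g = x) →
    (∀ H : Subgroup G, (Nat.card H).Coprime p → (∀ h ∈ H, x * h * x⁻¹ ∈ H) → ∀ h ∈ H, x * h = h * x) →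
    x ∈ Subgroup.center G := by
  intro n
  induction n with
  | zero => intro G _ _ h; exact absurd h (by simp [Nat.card_pos.ne'])
  | succ n ih =>
  intro G _ _ hcard S x hx hU hb
  by_contra hxc
  set M := Subgroup.centralizer ({x} : Set G) with hM
  set Z := Subgroup.center G with hZ
  have hxM : x ∈ M := Subgroup.mem_centralizer_singleton_iff.2 rfl
  have hSM : (S : Subgroup G) ≤ M := fun s hs => Subgroup.mem_centralizer_singleton_iff.2 (by
    have h := hU s (mul_mem (mul_mem (inv_mem hs) hx) hs)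
    calc s * x = s * (s⁻¹ * x * s) := by rw [h]
      _ = x * s := by group)
  have hMtop : M ≠ ⊤ := fun e => hxc (Subgroup.mem_center_iff.2 fun g =>
    Subgroup.mem_centralizer_singleton_iff.1 (show g ∈ M from e.symm ▸ Subgroup.mem_top g))
  -- proper subgroups containing `x` centralize it
  have hsub : ∀ H : Subgroup G, x ∈ H → H ≠ ⊤ → H ≤ M := by
    intro H hxH hH
    have hlt : Nat.card H < Nat.card G :=
      lt_of_le_of_ne (Subgroup.card_le_card_group H) fun e => hH (Subgroup.eq_top_of_card_eq H e)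
    have hxp : IsPGroup p (Subgroup.zpowers x) := S.2.to_le (Subgroup.zpowers_le.2 hx)
    obtain ⟨R, hR⟩ := (hxp.comap_subtype (K := H)).exists_le_sylow
    obtain ⟨T, hT⟩ := (R.2.map H.subtype).exists_le_sylow
    obtain ⟨k, hk⟩ := MulAction.exists_smul_eq G S T
    have hmem : ∀ r : H, r ∈ (R : Subgroup H) → k⁻¹ * (r : G) * k ∈ (S : Subgroup G) := by
      intro r hr
      have h1 : (r : G) ∈ ((k • S : Sylow p G) : Subgroup G) := by rw [hk]; exact hT ⟨r, hr, rfl⟩
      rw [Sylow.coe_subgroup_smul] at h1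
      obtain ⟨w, hw, e⟩ := h1
      rw [← e]
      show k⁻¹ * (k * w * k⁻¹) * k ∈ (S : Subgroup G)
      rwa [show k⁻¹ * (k * w * k⁻¹) * k = w by group]
    have hxR : (⟨x, hxH⟩ : H) ∈ (R : Subgroup H) := hR (Subgroup.mem_subgroupOf.2 (Subgroup.mem_zpowers x))
    have h1 := ih (G := H) (by omega) R ⟨x, hxH⟩ hxR (fun g hg => by
      have e1 := hU k (hmem _ hxR)
      have e2 := hU ((g : G) * k) (by
        have := hmem _ hg
        show _ ∈ (S : Subgroup G)
        simpa [mul_assoc] using this)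
      refine Subtype.ext ?_
      show (g : G)⁻¹ * x * g = x
      calc (g : G)⁻¹ * x * g = k * (((g : G) * k)⁻¹ * x * ((g : G) * k)) * k⁻¹ := by group
        _ = k * (k⁻¹ * x * k) * k⁻¹ := by rw [e2, e1]
        _ = x := by group) (fun K hK hKi h hh => by
      refine Subtype.ext (hb (K.map H.subtype) ?_ ?_ h ⟨h, hh, rfl⟩)
      · rwa [Subgroup.card_map_of_injective H.subtype_injective]
      · rintro _ ⟨y, hy, rfl⟩
        exact ⟨_, hKi y hy, rfl⟩)
    intro h hh
    exact Subgroup.mem_centralizer_singleton_iff.2 (congrArg Subtype.val (Subgroup.mem_center_iff.1 h1 ⟨h, hh⟩))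
  -- the centralizer is trivial intersection modulo the centre
  have hTI : ∀ d ∈ M, d ∉ Z → ∀ g : G, g⁻¹ * d * g ∈ M → g ∈ M := by
    intro d hd hdZ g hg
    have hCne : Subgroup.centralizer ({d} : Set G) ≠ ⊤ := fun e => hdZ (Subgroup.mem_center_iff.2 fun y =>
      Subgroup.mem_centralizer_singleton_iff.1 (e ▸ Subgroup.mem_top y))
    have hxd : x ∈ Subgroup.centralizer ({d} : Set G) :=
      Subgroup.mem_centralizer_singleton_iff.2 (Subgroup.mem_centralizer_singleton_iff.1 hd).symm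
    have hyd : g * x * g⁻¹ ∈ Subgroup.centralizer ({d} : Set G) := by
      refine Subgroup.mem_centralizer_singleton_iff.2 ?_
      have h1 : x * (g⁻¹ * d * g) = g⁻¹ * d * g * x := (Subgroup.mem_centralizer_singleton_iff.1 hg).symm
      calc g * x * g⁻¹ * d = g * (x * (g⁻¹ * d * g)) * g⁻¹ := by group
        _ = g * (g⁻¹ * d * g * x) * g⁻¹ := by rw [h1]
        _ = d * (g * x * g⁻¹) := by group
    have hyM : g * x * g⁻¹ ∈ M := hsub _ hxd hCne hyd
    have hyp : IsPGroup p (Subgroup.zpowers (g * x * g⁻¹)) := by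
      have h : IsPGroup p ((Subgroup.zpowers x).map (MulAut.conj g).toMonoidHom) :=
        (S.2.to_le (Subgroup.zpowers_le.2 hx)).map _
      rwa [MonoidHom.map_zpowers] at h
    obtain ⟨m, hm, hmy⟩ := TwoGroups.FactorPair.exists_conj_le (Subgroup.zpowers_le.2 hyM) hyp hSM S.2
      (TwoGroups.SectionFunctors.not_dvd_relIndex S hSM)
    have h2 := hU (m * g)⁻¹ (by
      have := hmy _ (Subgroup.mem_zpowers _)
      show _ ∈ (S : Subgroup G)
      simpa [mul_assoc] using this)
    have h3 : g * x * g⁻¹ = x := by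
      have hm1 : m * x = x * m := Subgroup.mem_centralizer_singleton_iff.1 hm
      calc g * x * g⁻¹ = m⁻¹ * ((m * g)⁻¹⁻¹ * x * (m * g)⁻¹) * m := by group
        _ = m⁻¹ * (x * m) := by rw [h2, mul_assoc]
        _ = x := by rw [← hm1, inv_mul_cancel_left]
    exact Subgroup.mem_centralizer_singleton_iff.2 (mul_inv_eq_iff_eq_mul.1 h3)
  -- the Frobenius kernel of `G/Z(G)`
  set π := QuotientGroup.mk' Z with hπ
  have hπs : Function.Surjective π := QuotientGroup.mk'_surjective Z
  have hZM : Z ≤ M := fun z hz => Subgroup.mem_centralizer_singleton_iff.2 (Subgroup.mem_center_iff.1 hz x).symm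
  have hback : ∀ y, π y ∈ M.map π → y ∈ M := by
    rintro y ⟨m, hm, e⟩
    have h := mul_mem hm (hZM (QuotientGroup.eq.1 e))
    rwa [mul_inv_cancel_left] at h
  have hC : Cfsg.IsFrobeniusComplement (M.map π) := by
    refine ⟨fun e => hxc ?_, fun e => hMtop (eq_top_iff.2 fun y _ => hback y (e ▸ Subgroup.mem_top _)), ?_⟩
    · have h : π x ∈ (⊥ : Subgroup (G ⧸ Z)) := e ▸ Subgroup.mem_map_of_mem π hxM
      exact (QuotientGroup.eq_one_iff x).1 (Subgroup.mem_bot.1 h)
    intro gb hgb
    refine (Subgroup.eq_bot_iff_forall _).2 fun db hdb => ?_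
    obtain ⟨g, rfl⟩ := hπs gb
    obtain ⟨⟨d, hd, rfl⟩, hdg⟩ := Subgroup.mem_inf.1 hdb
    by_contra hd1
    have hdZ : d ∉ Z := fun h => hd1 ((QuotientGroup.eq_one_iff d).2 h)
    rw [Subgroup.mem_pointwise_smul_iff_inv_smul_mem] at hdg
    refine hgb (Subgroup.mem_map_of_mem π (hTI d hd hdZ g (hback _ ?_)))
    rw [MulAut.smul_def, MulAut.conj_inv_apply] at hdg
    rw [map_mul, map_mul, map_inv]
    exact hdg
  obtain ⟨N, hN, hcompl, -, hN1, hcop, -, -⟩ := FGS2.FrobeniusType.kernel_data hC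
  haveI := hN
  set L := N.comap π with hL
  haveI : L.Normal := hN.comap π
  have hpN : (Nat.card N).Coprime p := by
    refine hcop.coprime_dvd_right ?_
    rw [hcompl.symm.index_eq_card]
    obtain ⟨k, hk⟩ := IsPGroup.iff_orderOf.mp S.2 ⟨x, hx⟩
    rw [Subgroup.orderOf_mk] at hk
    have h1 := orderOf_map_dvd π x
    rw [hk] at h1
    obtain ⟨i, -, hi⟩ := (Nat.dvd_prime_pow hp.out).1 h1
    have hi0 : i ≠ 0 := fun h => hxc ((QuotientGroup.eq_one_iff x).1 (orderOf_eq_one_iff.1 (by
      rw [show ((x : G) : G ⧸ Z) = π x from rfl, hi, h, pow_zero])))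
    have h2 := Subgroup.orderOf_dvd_natCard (M.map π) (Subgroup.mem_map_of_mem π hxM)
    rw [hi] at h2
    exact (dvd_pow_self p hi0).trans h2
  obtain ⟨P⟩ : Nonempty (Sylow p L) := inferInstance
  have hPZ : ∀ y : L, y ∈ (P : Subgroup L) → (y : G) ∈ Z := by
    intro y hy
    refine (QuotientGroup.eq_one_iff _).1 ?_
    obtain ⟨k, hk⟩ := IsPGroup.iff_orderOf.mp P.2 ⟨y, hy⟩
    rw [Subgroup.orderOf_mk, ← Subgroup.orderOf_coe] at hk
    have h1 := orderOf_map_dvd π (y : G)
    rw [hk] at h1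
    have h2 : orderOf (π y) ∣ Nat.card N := Subgroup.orderOf_dvd_natCard N y.2
    exact orderOf_eq_one_iff.1 (Nat.eq_one_of_dvd_coprimes (hpN.pow_right k) h2 h1)
  have hnpc : Cfsg.HasNormalPComplement p L := Transfer.hasNormalPComplement_of_normalizer_le_centralizer P
    fun y _ v hv => Subtype.ext (Subgroup.mem_center_iff.1 (hPZ v hv) y).symm
  set K := (Cfsg.pResidual p L).map L.subtype with hK
  haveI : K.Normal := Core.normal_map_subtype_of_characteristic _
  have hKc : (Nat.card K).Coprime p := by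
    rw [hK, Subgroup.card_map_of_injective L.subtype_injective]
    exact Transfer.hasNormalPComplement_iff_coprime_pResidual.mp hnpc
  have hKM : K ≤ M := fun k hk => Subgroup.mem_centralizer_singleton_iff.2
    (hb K hKc (fun h hh => (inferInstance : K.Normal).conj_mem h hh x) k hk).symm
  have hLM : L ≤ M := by
    intro y hy
    have h1 : (⟨y, hy⟩ : L) ∈ (P : Subgroup L) ⊔ Cfsg.pResidual p L := by
      rw [Transfer.sylow_sup_pResidual]; trivial
    obtain ⟨a, ha, b, hb', e⟩ := Subgroup.mem_sup_of_normal_right.1 h1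
    show ((⟨y, hy⟩ : L) : G) ∈ M
    rw [← e, Subgroup.coe_mul]
    exact mul_mem (hZM (hPZ a ha)) (hKM ⟨b, hb', rfl⟩)
  refine hN1 ((Subgroup.eq_bot_iff_forall _).2 fun v hv => ?_)
  obtain ⟨y, rfl⟩ := hπs v
  have h : π y ∈ N ⊓ M.map π := Subgroup.mem_inf.2 ⟨hv, Subgroup.mem_map_of_mem π (hLM hv)⟩
  rw [hcompl.disjoint.eq_bot, Subgroup.mem_bot] at h
  exact h

/-- Let S be a Sylow p-subgroup of the finite group G and x an element of S such that (i) x is the only G-conjugate of x lying in S, and (ii) x centralizes every subgroup of order prime to p that it normalizes. Then x lies in the centre of G. -/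
theorem result {G : Type*} [Group G] [Finite G] {p : ℕ} [Fact p.Prime]
    (S : Sylow p G) (x : G) (hx : x ∈ S)
    (hU : ∀ g : G, g⁻¹ * x * g ∈ S → g⁻¹ * x * g = x)
    (hb : ∀ H : Subgroup G, (Nat.card H).Coprime p → (∀ h ∈ H, x * h * x⁻¹ ∈ H) → ∀ h ∈ H, x * h = h * x) :
    x ∈ Subgroup.center G := by
  exact key _ le_rfl S x hx hU hb

end Cfsg.Agent.S3064
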