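import Cfsg.Statements.S3074
import Cfsg.Agent.FusionZJ.QdSylow
import Cfsg.Agent.FGS3.PGroupFrattini
import Cfsg.Agent.FGS3.FrattiniAction

set_option autoImplicit false
open Cfsg

namespace Cfsg.Agent.S3074

open scoped commutatorElement in
open Cfsg.Agent.FusionZJ in
theorem aux (p : ℕ) [Fact p.Prime] (hp : p ≠ 2) :
    Cfsg.IsExtraspecial p ↥(qdP p) ∧ Nat.card ↥(qdP p) = p ^ 3 ∧ Monoid.exponent ↥(qdP p) = p := by
  have hu : ∀ g : qdP p, ∃ k x y, g = ⟨qdU k x y, qdU_mem k x y⟩ := fun ⟨g, k, x, y, e⟩ =>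
    ⟨k, x, y, Subtype.ext e⟩
  let Z : Subgroup (qdP p) :=
    { carrier := {g | ∃ x, (g : ↥(Cfsg.qd p)) = qdU 0 x 0}
      one_mem' := ⟨0, qdU_zero.symm⟩
      mul_mem' := by
        rintro a b ⟨x, hx⟩ ⟨y, hy⟩
        exact ⟨x + y, by rw [Subgroup.coe_mul, hx, hy, qdU_mul]; congr 1 <;> ring⟩
      inv_mem' := by
        rintro a ⟨x, hx⟩
        exact ⟨-x, by rw [Subgroup.coe_inv, hx]; exact inv_eq_of_mul_eq_one_right (by rw [qdU_mul, ← qdU_zero]; congr 1 <;> ring)⟩ }
  have hZc : Z = Subgroup.center (qdP p) := by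
    refine le_antisymm ?_ fun g hg => ?_
    · rintro g ⟨x, hx⟩
      refine Subgroup.mem_center_iff.mpr fun h => ?_
      obtain ⟨k, a, b, rfl⟩ := hu h
      refine Subtype.ext ?_
      rw [Subgroup.coe_mul, Subgroup.coe_mul, hx, qdU_mul, qdU_mul]
      congr 1 <;> ring
    · obtain ⟨k, x, y, rfl⟩ := hu g
      refine ⟨x, ?_⟩
      have h1 := congrArg Subtype.val (Subgroup.mem_center_iff.mp hg ⟨qdU 1 0 0, qdU_mem _ _ _⟩)
      have h2 := congrArg Subtype.val (Subgroup.mem_center_iff.mp hg ⟨qdU 0 0 1, qdU_mem _ _ _⟩)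
      simp only [Subgroup.coe_mul, qdU_mul] at h1 h2
      have e1 := (qdU_inj h1).2.1
      have e2 := (qdU_inj h2).2.1
      simp at e1 e2
      show qdU k x y = qdU 0 x 0
      rw [show y = 0 by linear_combination e1, show k = 0 by linear_combination e2]
  have hpow : ∀ (n : ℕ) (k x y : ZMod p), qdU k x y ^ n =
      qdU ((n : ZMod p) * k) ((n : ZMod p) * x + ((n.choose 2 : ℕ) : ZMod p) * (k * y)) ((n : ZMod p) * y) := by
    intro n k x y
    induction n with
    | zero => simp [qdU_zero]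
    | succ n ih =>
      rw [pow_succ, ih, qdU_mul, Nat.choose_succ_succ' n 1, Nat.choose_one_right]
      push_cast
      congr 1 <;> ring
  have hexp : ∀ g : qdP p, g ^ p = 1 := by
    intro g
    obtain ⟨k, x, y, rfl⟩ := hu g
    refine Subtype.ext ?_
    rw [SubmonoidClass.coe_pow, hpow]
    have hc : ((p.choose 2 : ℕ) : ZMod p) = 0 :=
      (CharP.cast_eq_zero_iff (ZMod p) p _).mpr ((Fact.out : p.Prime).dvd_choose_self (by norm_num)
        (lt_of_le_of_ne (Fact.out : p.Prime).two_le hp.symm))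
    rw [hc]
    simp [qdU_zero]
  have hcard : Nat.card (qdP p) = p ^ 3 := card_qdP
  have hcom : commutator (qdP p) = Z := by
    refine le_antisymm ?_ ?_
    · rw [commutator_def, Subgroup.commutator_le]
      intro a _ b _
      obtain ⟨k, x, y, rfl⟩ := hu a
      obtain ⟨l, x', y', rfl⟩ := hu b
      refine ⟨k * y' - l * y, ?_⟩
      have : (⟨qdU k x y, qdU_mem _ _ _⟩ : qdP p) * ⟨qdU l x' y', qdU_mem _ _ _⟩ =
          ⟨qdU 0 (k * y' - l * y) 0, qdU_mem _ _ _⟩ * (⟨qdU l x' y', qdU_mem _ _ _⟩ * ⟨qdU k x y, qdU_mem _ _ _⟩) := by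
        refine Subtype.ext ?_
        simp only [Subgroup.coe_mul, qdU_mul]
        congr 1 <;> ring
      rw [commutatorElement_def, mul_inv_eq_iff_eq_mul.mpr (mul_inv_eq_iff_eq_mul.mpr (this.trans (mul_assoc _ _ _).symm))]
    · rintro g ⟨x, hx⟩
      rw [commutator_def]
      have hg : g = ⁅(⟨qdU x 0 0, qdU_mem _ _ _⟩ : qdP p), ⟨qdU 0 0 1, qdU_mem _ _ _⟩⁆ := by
        rw [commutatorElement_def, eq_mul_inv_iff_mul_eq, eq_mul_inv_iff_mul_eq]
        refine Subtype.ext ?_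
        simp only [Subgroup.coe_mul, hx, qdU_mul]
        congr 1 <;> ring
      rw [hg]
      exact Subgroup.commutator_mem_commutator (Subgroup.mem_top _) (Subgroup.mem_top _)
  have hP : IsPGroup p (qdP p) := isPGroup_qdP
  have hfr : frattini (qdP p) = Z := by
    rw [FGS3.frattini_eq_sup hP, hcom]
    refine sup_eq_left.mpr ((Subgroup.closure_le _).mpr ?_)
    rintro _ ⟨g, rfl⟩
    simp [hexp g]
  refine ⟨⟨⟨hP, hfr.trans hZc, hcom.trans hZc⟩, ?_⟩, hcard, ?_⟩
  · rw [← hZc]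
    let f : ZMod p → Z := fun x => ⟨⟨qdU 0 x 0, qdU_mem _ _ _⟩, x, rfl⟩
    have hf : Function.Bijective f :=
      ⟨fun a b h => (qdU_inj (congrArg (fun z : Z => (z.1 : ↥(Cfsg.qd p))) h)).2.1,
        fun ⟨g, x, hx⟩ => ⟨x, Subtype.ext (Subtype.ext hx.symm)⟩⟩
    rw [← Nat.card_eq_of_bijective f hf, Nat.card_zmod]
  · haveI : Nontrivial (qdP p) := Finite.one_lt_card_iff_nontrivial.mp
      (hcard ▸ Nat.one_lt_pow three_ne_zero (Fact.out : p.Prime).one_lt)
    exact ((Nat.dvd_prime Fact.out).mp (Monoid.exponent_dvd_of_forall_pow_eq_one hexp)).resolve_left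
      (fun h => not_subsingleton (qdP p) (Monoid.exp_eq_one_iff.mp h))

/-- Let p be an odd prime. A Sylow p-subgroup of Qd(p), the split extension of an elementary abelian group of order p² by SL₂(p) acting naturally, is extraspecial of order p³ and exponent p. -/
theorem result (p : ℕ) [Fact p.Prime] (hp : p ≠ 2) (P : Sylow p ↥(Cfsg.qd p)) :
    Cfsg.IsExtraspecial p ↥P ∧ Nat.card P = p ^ 3 ∧ Monoid.exponent ↥P = p := by
  obtain ⟨S₀, hS₀⟩ := Cfsg.Agent.FusionZJ.coe_sylow_qdP (p := p)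
  obtain ⟨h1, h2, h3⟩ := aux p hp
  have e : ↥P ≃* ↥(Cfsg.Agent.FusionZJ.qdP p) := (Sylow.equiv P S₀).trans (MulEquiv.subgroupCongr hS₀)
  refine ⟨?_, (Nat.card_congr e.toEquiv).trans h2, (Monoid.exponent_eq_of_mulEquiv e).trans h3⟩
  obtain ⟨⟨hp1, hfr, hcom⟩, hz⟩ := h1
  have hcz : (Subgroup.center ↥P).map e.toMonoidHom = Subgroup.center ↥(Cfsg.Agent.FusionZJ.qdP p) := by
    ext y
    obtain ⟨x, rfl⟩ := e.surjective y
    rw [show e x = e.toMonoidHom x from rfl, Subgroup.mem_map_iff_mem e.injective,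
      Subgroup.mem_center_iff, Subgroup.mem_center_iff]
    refine ⟨fun h w => ?_, fun h w => e.injective ?_⟩
    · obtain ⟨w, rfl⟩ := e.surjective w
      show e w * e x = e x * e w
      rw [← map_mul, ← map_mul, h w]
    · rw [map_mul, map_mul]; exact h (e w)
  refine ⟨⟨hp1.of_equiv e.symm, Subgroup.map_injective (f := e.toMonoidHom) e.injective ?_,
    Subgroup.map_injective (f := e.toMonoidHom) e.injective ?_⟩, ?_⟩
  · rw [hcz, ← hfr]
    refine le_antisymm (FGS3.map_frattini_le_of_surjective e.surjective) fun y hy => ?_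
    exact ⟨e.symm y, FGS3.map_frattini_le_of_surjective (f := e.symm.toMonoidHom) e.symm.surjective
      ⟨y, hy, rfl⟩, e.apply_symm_apply y⟩
  · rw [hcz, ← hcom, commutator_def, commutator_def, Subgroup.map_commutator,
      Subgroup.map_top_of_surjective _ e.surjective]
  · refine Eq.trans ?_ hz
    rw [← hcz, Subgroup.card_map_of_injective e.injective]

end Cfsg.Agent.S3074
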