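import Cfsg.Statements.S3157
import Cfsg.Agent.TwoGroups.SixtyFourMain

set_option autoImplicit false
open Cfsg

namespace Cfsg.Agent.S3157

/-- Let T be a non-abelian group of order 64 admitting automorphisms ρ of order 3 and x of order 2 with x ρ x⁻¹ = ρ⁻¹ (so they generate a symmetric group of degree 3), where ρ fixes only the identity. Then T is isomorphic to a Sylow 2-subgroup of the projective special linear group of dimension 3 over the field with 4 elements, and the subgroup of fixed points of x is dihedral of order 8 or quaternion of order 8. -/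
theorem result {T : Type*} [Group T] [Finite T] (hT : Nat.card T = 64) (hna : ¬ IsMulCommutative T) (ρ x : MulAut T) (hρ : orderOf ρ = 3) (hx : orderOf x = 2)
    (hxr : x * ρ * x⁻¹ = ρ⁻¹) (hfp : ∀ y : T, ρ y = y → y = 1) (C : Subgroup T) (hC : ∀ y : T, y ∈ C ↔ x y = y) :
    (∃ (F : Type) (_ : Field F) (_ : Fintype F), Fintype.card F = 4 ∧
        ∃ S : Sylow 2 (Matrix.ProjectiveSpecialLinearGroup (Fin 3) F), Nonempty (T ≃* ↥(S : Subgroup (Matrix.ProjectiveSpecialLinearGroup (Fin 3) F)))) ∧
      (Nonempty (↥C ≃* DihedralGroup 4) ∨ Nonempty (↥C ≃* QuaternionGroup 2)) := by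
    have h3 : ρ ^ 3 = 1 := by rw [← hρ]; exact pow_orderOf_eq_one ρ
    have h2 : x ^ 2 = 1 := by rw [← hx]; exact pow_orderOf_eq_one x
    have s : Cfsg.Agent.TwoGroups.SixtyFour.Setup ρ x :=
      { card := hT
        nab := hna
        h3 := fun y => by
          have := congrArg (fun α : MulAut T => α y) h3
          simpa [pow_succ, MulAut.mul_apply] using this
        fpf := hfp
        inv := fun y => by
          have := congrArg (fun α : MulAut T => α y) h2
          simpa [pow_two, MulAut.mul_apply] using this
        xρ := fun y => by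
          have e : x * ρ = ρ * ρ * x := by
            have e1 : x * ρ = ρ⁻¹ * x := by rw [← hxr, inv_mul_cancel_right]
            rw [e1, show ρ⁻¹ = ρ * ρ from inv_eq_of_mul_eq_one_right (by rw [← mul_assoc, ← h3]; simp [pow_succ])]
          exact congrArg (fun α : MulAut T => α y) e }
    exact ⟨Cfsg.Agent.TwoGroups.SixtyFour.sylow_psl34 s,
      Cfsg.Agent.TwoGroups.SixtyFour.fixed_shape s C hC⟩

end Cfsg.Agent.S3157
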