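import Cfsg.Statements.S3222
import Cfsg.Agent.Screen.CTwoSFourId
-- import your own Cfsg.Agent.* helpers here

set_option autoImplicit false
open Cfsg

namespace Cfsg.Agent.S3222

set_option maxRecDepth 100000 in
/-- The symmetric group of degree four is solvable. -/
theorem perm_four_isSolvable : Group.IsSolvable (Equiv.Perm (Fin 4)) := by
  let V : Subgroup (Equiv.Perm (Fin 4)) :=
    { carrier := {p | p * p = 1 ∧ Equiv.Perm.sign p = 1}
      mul_mem' := fun {a b} => (by decide : ∀ a b : Equiv.Perm (Fin 4), a * a = 1 ∧ Equiv.Perm.sign a = 1 →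
        b * b = 1 ∧ Equiv.Perm.sign b = 1 → a * b * (a * b) = 1 ∧ Equiv.Perm.sign (a * b) = 1) a b
      one_mem' := by simp
      inv_mem' := fun {a} => (by decide : ∀ a : Equiv.Perm (Fin 4), a * a = 1 ∧ Equiv.Perm.sign a = 1 →
        a⁻¹ * a⁻¹ = 1 ∧ Equiv.Perm.sign a⁻¹ = 1) a }
  have h1 : derivedSeries (Equiv.Perm (Fin 4)) 1 ≤ (Equiv.Perm.sign (α := Fin 4)).ker := by
    rw [derivedSeries_succ, derivedSeries_zero, Subgroup.commutator_le]
    intro a _ b _
    rw [MonoidHom.mem_ker, commutatorElement_def, map_mul, map_mul, map_mul, map_inv, map_inv,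
      mul_comm (Equiv.Perm.sign a) (Equiv.Perm.sign b), mul_inv_cancel_right, mul_inv_cancel]
  have h2 : derivedSeries (Equiv.Perm (Fin 4)) 2 ≤ V := by
    rw [derivedSeries_succ, Subgroup.commutator_le]
    intro a ha b hb
    exact (by decide : ∀ a b : Equiv.Perm (Fin 4), Equiv.Perm.sign a = 1 → Equiv.Perm.sign b = 1 →
      (a * b * a⁻¹ * b⁻¹) * (a * b * a⁻¹ * b⁻¹) = 1 ∧ Equiv.Perm.sign (a * b * a⁻¹ * b⁻¹) = 1) a b (h1 ha) (h1 hb)
  refine ⟨⟨3, ?_⟩⟩
  rw [eq_bot_iff, derivedSeries_succ, Subgroup.commutator_le]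
  intro a ha b hb
  rw [Subgroup.mem_bot]
  exact (by decide : ∀ a b : Equiv.Perm (Fin 4), a * a = 1 ∧ Equiv.Perm.sign a = 1 →
    b * b = 1 ∧ Equiv.Perm.sign b = 1 → a * b * a⁻¹ * b⁻¹ = 1) a b (h2 ha) (h2 hb)

/-- Let G be a finite group of even order such that (1) some involution t lying in the centre of a Sylow 2-subgroup of G has C_G(t) ≅ Z₂ × S₄, and (2) every Sylow 2-subgroup S of G satisfies C_G(S′) = S, where S′ is the derived subgroup of S. Then G = C_G(t) if G is solvable, and G ≅ S₆ otherwise. -/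
theorem result {G : Type*} [Group G] [Finite G] (hev : Even (Nat.card G))
    (t : G) (ht : orderOf t = 2) (T : Sylow 2 G) (htT : t ∈ (T : Subgroup G)) (htc : ∀ s ∈ (T : Subgroup G), s * t = t * s)
    (e : ↥(Subgroup.centralizer ({t} : Set G)) ≃* (Multiplicative (ZMod 2) × Equiv.Perm (Fin 4)))
    (h2 : ∀ S : Sylow 2 G, Subgroup.centralizer ((⁅(S : Subgroup G), (S : Subgroup G)⁆ : Subgroup G) : Set G) = (S : Subgroup G)) :
    (Group.IsSolvable G → Subgroup.centralizer ({t} : Set G) = ⊤) ∧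
      (¬ Group.IsSolvable G → Nonempty (G ≃* Equiv.Perm (Fin 6))) := by
  haveI := perm_four_isSolvable
  haveI : Group.IsSolvable (Multiplicative (ZMod 2)) := Group.isSolvable_of_comm fun a b => mul_comm a b
  obtain ⟨hS, hz⟩ := Screen.CTwoSFour.setup e ht T htT htc h2
  obtain ⟨M, hMn, hM2, htM⟩ := Screen.CTwoSFour.exists_index_two e ht hS hz
  haveI := hMn
  rcases Screen.CTwoSFour.identify e ht hS hz M hM2 htM with hC | ⟨⟨f⟩⟩
  · refine ⟨fun _ => hC, fun hns => absurd ?_ hns⟩
    have h1 : Group.IsSolvable ↥(Subgroup.centralizer ({t} : Set G)) :=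
      Group.isSolvable_of_isSolvable_injective (f := e.toMonoidHom) e.injective
    rw [hC] at h1
    exact Group.isSolvable_of_surjective (f := (Subgroup.topEquiv (G := G)).toMonoidHom) Subgroup.topEquiv.surjective
  · refine ⟨fun hsol => ?_, fun _ => ⟨f⟩⟩
    exfalso
    have h6 : Group.IsSolvable (Equiv.Perm (Fin 6)) :=
      Group.isSolvable_of_surjective (f := f.toMonoidHom) f.surjective
    exact Equiv.Perm.not_isSolvable (Fin 6) (by rw [Cardinal.mk_fin]; norm_num) h6

end Cfsg.Agent.S3222
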