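import Cfsg.Statements.S3244
import Cfsg.Agent.PermGroups.EarlyCharTwo

set_option autoImplicit false
open Cfsg

namespace Cfsg.Agent.S3244

/-- Say that a finite group G is of characteristic 2 type in the early sense when a Sylow 2-subgroup S of G has a self-centralizing normal subgroup of rank at least 3, S normalizes no nontrivial subgroup of odd order, and every 2-local subgroup of G is 2-constrained. If G is a non-abelian simple group of characteristic 2 type in this sense, then for some maximal 2-local subgroup M of G the centre of O₂(M) is not cyclic. -/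
theorem result {G : Type*} [Group G] [Finite G] [IsSimpleGroup G]
    (hG : ¬ IsMulCommutative G) (S : Sylow 2 G) (A : Subgroup G) (hA : Cfsg.IsSCN (S : Subgroup G) A) (hA3 : ¬ Cfsg.PRankLE 2 2 ↥A)
    (hinv : ∀ X : Subgroup G, Odd (Nat.card ↥X) → (S : Subgroup G) ≤ Subgroup.normalizer (X : Set G) → X = ⊥)
    (hcon : ∀ T : Subgroup G, IsPGroup 2 ↥T → T ≠ ⊥ → Cfsg.IsPConstrained 2 ↥(Subgroup.normalizer (T : Set G))) :
    ∃ M : Subgroup G, Cfsg.IsMaximalTwoLocal M ∧ ¬ IsCyclic ↥(Subgroup.center ↥(Cfsg.pCore 2 ↥M)) := by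
  haveI : Fact (Nat.Prime 2) := ⟨Nat.prime_two⟩
  by_contra hno
  push Not at hno
  obtain ⟨hAS, hAn, hAc⟩ := hA
  have hAab : ∀ a ∈ A, ∀ b ∈ A, a * b = b * a := by
    intro a ha b hb
    have hb' : b ∈ Subgroup.centralizer (A : Set G) := by
      rw [← hAc] at hb
      exact (Subgroup.mem_inf.mp hb).2
    exact Subgroup.mem_centralizer_iff.mp hb' a ha
  let B : Subgroup G :=
    { carrier := {a | a ∈ A ∧ a * a = 1}
      one_mem' := ⟨one_mem _, one_mul 1⟩
      mul_mem' := fun {a b} ha hb => ⟨mul_mem ha.1 hb.1, by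
        calc (a * b) * (a * b) = (a * b) * (b * a) := by rw [hAab a ha.1 b hb.1]
          _ = a * (b * b) * a := by group
          _ = 1 := by rw [hb.2, mul_one, ha.2]⟩
      inv_mem' := fun {a} ha => ⟨inv_mem ha.1, by rw [← mul_inv_rev, ha.2, inv_one]⟩ }
  have hBS : B ≤ (S : Subgroup G) := fun b hb => hAS hb.1
  have hB8 : 2 ^ 3 ≤ Nat.card B := by
    obtain ⟨E, -, hE2, hE4⟩ : ∃ E : Subgroup ↥A, IsMulCommutative E ∧ (∀ a ∈ E, a ^ 2 = 1) ∧
        2 ^ 2 < Nat.card E := by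
      by_contra hcon'
      push Not at hcon'
      exact hA3 fun E hEc hE => hcon' E hEc hE
    have hEB : E.map A.subtype ≤ B := by
      rintro _ ⟨a, ha, rfl⟩
      refine ⟨a.2, ?_⟩
      have := congrArg Subtype.val (hE2 a ha)
      simpa [pow_two] using this
    have h1 := Subgroup.card_le_of_le hEB
    rw [Core.card_map_subtype] at h1
    have h2 : IsPGroup 2 B := S.isPGroup'.to_le hBS
    obtain ⟨k, hk⟩ := h2.exists_card_eq
    rw [hk] at h1 ⊢
    exact Nat.pow_le_pow_right two_pos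
      ((Nat.pow_lt_pow_iff_right (le_refl 2)).mp (lt_of_lt_of_le hE4 h1))
  have hBn : (B.subgroupOf (S : Subgroup G)).Normal := ⟨fun b hb s => by
    rw [Subgroup.mem_subgroupOf] at hb ⊢
    refine ⟨(Subgroup.mem_normalizer_iff.mp (hAn s.2) _).mp hb.1, ?_⟩
    calc (s : G) * b * (s : G)⁻¹ * ((s : G) * b * (s : G)⁻¹) = s * ((b : G) * b) * (s : G)⁻¹ := by group
      _ = 1 := by rw [hb.2, mul_one, mul_inv_cancel]⟩
  have hB8' : 2 ^ 3 ≤ Nat.card (B.subgroupOf (S : Subgroup G)) := by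
    rw [Nat.card_congr (Subgroup.subgroupOfEquivOfLe hBS).toEquiv]; exact hB8
  obtain ⟨M₀, hM₀n, hM₀B, hM₀c⟩ := Transfer.PNormal.exists_normal_card S.isPGroup' hBn 3 hB8'
  set V := M₀.map (S : Subgroup G).subtype with hVdef
  have hV : PermGroups.EarlyCharTwo.Elem8 S V := by
    refine ⟨Subgroup.map_subtype_le _, ?_, ?_, ?_⟩
    · rintro s hs _ ⟨v, hv, rfl⟩
      exact ⟨⟨s, hs⟩ * v * ⟨s, hs⟩⁻¹, hM₀n.conj_mem v hv _, rfl⟩
    · rintro _ ⟨v, hv, rfl⟩
      exact (Subgroup.mem_subgroupOf.mp (hM₀B hv)).2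
    · rw [hVdef, Core.card_map_subtype, hM₀c]; norm_num
  have hchar : ∀ T : Subgroup G, IsPGroup 2 T → T ≠ ⊥ → _ :=
    fun T => PermGroups.EarlyCharTwo.charTwo_local (T := T) hcon hinv hV
  have hsame : ∀ (P₁ P₂ : Sylow 2 G) (z₁ z₂ x : G), x ∈ (P₁ : Subgroup G) → x ∈ (P₂ : Subgroup G) → x ≠ 1 →
      PermGroups.EarlyCharTwo.CentralInv P₁ z₁ → PermGroups.EarlyCharTwo.CentralInv P₂ z₂ → z₁ = z₂ :=
    fun P₁ P₂ z₁ z₂ x hx₁ hx₂ hx => PermGroups.EarlyCharTwo.central_eq hchar hno _ P₁ P₂ z₁ z₂ le_rfl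
      fun h => hx (Subgroup.mem_bot.mp (h ▸ Subgroup.mem_inf.mpr ⟨hx₁, hx₂⟩))
  obtain ⟨z, hzV, hz1, hzS⟩ := hV.exists_center
  have hz2 := hV.order hzV hz1
  have hzc : PermGroups.EarlyCharTwo.CentralInv S z := ⟨hV.le hzV, hz2, hzS⟩
  obtain ⟨u, huV, hu⟩ : ∃ u ∈ V, u ∉ ({1, z} : Set G) := by
    by_contra hcon'
    push Not at hcon'
    have h1 : Nat.card V ≤ ({1, z} : Set G).ncard := by
      rw [← SetLike.coe_sort_coe, Nat.card_coe_set_eq]
      exact Set.ncard_le_ncard hcon'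
    have h2 := Set.ncard_insert_le (1 : G) {z}
    rw [Set.ncard_singleton] at h2
    rw [hV.card] at h1
    omega
  simp only [Set.mem_insert_iff, Set.mem_singleton_iff, not_or] at hu
  obtain ⟨hu1, huz⟩ := hu
  have hu2 := hV.order huV hu1
  have huu := hV.sq u huV
  obtain ⟨g, hg⟩ : ∃ g : G, g * z * g⁻¹ ≠ z := by
    by_contra hcon'
    push Not at hcon'
    have hz : z ∈ Subgroup.center G :=
      Subgroup.mem_center_iff.mpr fun g => mul_inv_eq_iff_eq_mul.mp (hcon' g)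
    rcases Subgroup.Normal.eq_bot_or_eq_top (inferInstance : (Subgroup.center G).Normal) with h | h
    · exact hz1 (Subgroup.mem_bot.mp (h ▸ hz))
    · exact hG ⟨⟨fun a b => (Subgroup.mem_center_iff.mp (h ▸ Subgroup.mem_top a) b).symm⟩⟩
  -- the conjugate Sylow subgroup
  have hcj : ∀ y : G, ∃ P : Sylow 2 G, (∀ x ∈ (S : Subgroup G), y * x * y⁻¹ ∈ (P : Subgroup G)) ∧
      PermGroups.EarlyCharTwo.CentralInv P (y * z * y⁻¹) := by
    intro y
    refine ⟨y • S, ?_, ?_⟩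
    · intro x hx
      rw [Sylow.coe_subgroup_smul]
      exact ⟨x, hx, by simp⟩
    refine ⟨?_, by rw [← MulAut.conj_apply, MulEquiv.orderOf_eq, hz2], ?_⟩
    · rw [Sylow.coe_subgroup_smul]
      exact ⟨z, hV.le hzV, by simp⟩
    · intro s hs
      rw [Sylow.coe_subgroup_smul] at hs
      obtain ⟨x, hx, rfl⟩ := hs
      simp only [MulDistribMulAction.toMonoidEnd_apply, MulDistribMulAction.toMonoidHom_apply,
        MulAut.smul_def, MulAut.conj_apply]
      calc y * x * y⁻¹ * (y * z * y⁻¹) = y * (x * z) * y⁻¹ := by group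
        _ = _ := by rw [hzS x hx]; group
  set w := g * z * g⁻¹ with hwdef
  obtain ⟨Pg, hPg, hwc⟩ := hcj g
  have hw2 : orderOf w = 2 := hwc.2.1
  have hww := PermGroups.EarlyCharTwo.sq_eq_one hw2
  set x := u * w with hx
  have hux : u * x * u⁻¹ = x⁻¹ := by
    rw [hx, mul_inv_rev, PermGroups.EarlyCharTwo.inv_self huu, PermGroups.EarlyCharTwo.inv_self hww,
      ← mul_assoc, huu, one_mul]
  rcases Nat.even_or_odd (orderOf x) with ⟨k, hk⟩ | ⟨k, hk⟩
  · -- a commuting involution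
    set v := x ^ k with hv
    have hk0 : k ≠ 0 := fun h => (orderOf_pos x).ne' (by omega)
    have hv2 : orderOf v = 2 := by
      rw [hv, orderOf_pow' x hk0, hk, ← two_mul, Nat.gcd_eq_right (dvd_mul_left k 2),
        Nat.mul_div_cancel _ (Nat.pos_of_ne_zero hk0)]
    have hvv := PermGroups.EarlyCharTwo.sq_eq_one hv2
    have huv : u * v = v * u := by
      have h1 : u * v * u⁻¹ = v⁻¹ := by
        rw [hv, ← conj_pow, hux, inv_pow]
      rw [PermGroups.EarlyCharTwo.inv_self hvv] at h1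
      exact mul_inv_eq_iff_eq_mul.mp h1
    have hwv : w * v = v * w := by
      have e1 : w = u * x := by rw [hx, ← mul_assoc, huu, one_mul]
      rw [e1, mul_assoc, ((Commute.self_pow x k).eq : x * v = v * x), ← mul_assoc, huv, mul_assoc]
    have hpair : ∀ y : G, orderOf y = 2 → y * v = v * y →
        ∃ P : Sylow 2 G, y ∈ (P : Subgroup G) ∧ v ∈ (P : Subgroup G) := by
      intro y hy hyv
      have hle : Subgroup.zpowers y ≤ Subgroup.normalizer (Subgroup.zpowers v : Set G) := by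
        rw [PermGroups.EarlyCharTwo.normalizer_zpowers_eq hv2, Subgroup.zpowers_le]
        exact Subgroup.mem_centralizer_singleton_iff.mpr hyv
      obtain ⟨P, hP⟩ := ((PermGroups.EarlyCharTwo.isPGroup_zpowers hy).to_sup_of_normal_right'
        (PermGroups.EarlyCharTwo.isPGroup_zpowers hv2) hle).exists_le_sylow
      exact ⟨P, hP (Subgroup.mem_sup_left (Subgroup.mem_zpowers y)),
        hP (Subgroup.mem_sup_right (Subgroup.mem_zpowers v))⟩
    obtain ⟨P₁, huP, hvP⟩ := hpair u hu2 huv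
    obtain ⟨P₂, hwP, hvP'⟩ := hpair w hw2 hwv
    have hv1 : v ≠ 1 := fun h => by simp [h] at hv2
    have hw1 : w ≠ 1 := fun h => by simp [h] at hw2
    have ne1 : ∀ (P : Sylow 2 G) (y : G), y ∈ (P : Subgroup G) → y ≠ 1 →
        ∃ c, PermGroups.EarlyCharTwo.CentralInv P c := fun P y hy hy1 =>
      PermGroups.EarlyCharTwo.exists_centralInv P fun h => hy1 (Subgroup.mem_bot.mp (h ▸ hy))
    obtain ⟨c₁, hc₁⟩ := ne1 P₁ u huP hu1
    obtain ⟨c₂, hc₂⟩ := ne1 P₂ w hwP hw1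
    refine hg ?_
    rw [hsame S P₁ z c₁ u (hV.le huV) huP hu1 hzc hc₁,
      hsame P₁ P₂ c₁ c₂ v hvP hvP' hv1 hc₁ hc₂]
    exact (hsame P₂ Pg c₂ w w hwP hwc.1 hw1 hc₂ hwc).symm
  · -- `u` is a conjugate of `z`
    have hconj : x ^ (k + 1) * w * (x ^ (k + 1))⁻¹ = u := by
      have e1 : w = u * x := by rw [hx, ← mul_assoc, huu, one_mul]
      have e2 : x ^ (k + 1) * u = u * (x ^ (k + 1))⁻¹ := by
        have h3 : u * x ^ (k + 1) * u⁻¹ = (x ^ (k + 1))⁻¹ := by rw [← conj_pow, hux, inv_pow]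
        rw [← h3, PermGroups.EarlyCharTwo.inv_self huu, ← mul_assoc, ← mul_assoc, huu, one_mul]
      have e3 : x ^ (k + 1) * x ^ (k + 1) = x := by
        rw [← pow_add, show k + 1 + (k + 1) = orderOf x + 1 by omega, pow_succ, pow_orderOf_eq_one, one_mul]
      calc x ^ (k + 1) * w * (x ^ (k + 1))⁻¹ = x ^ (k + 1) * u * x * (x ^ (k + 1))⁻¹ := by
            rw [e1, mul_assoc (x ^ (k + 1)) u x]
        _ = u * ((x ^ (k + 1))⁻¹ * x * (x ^ (k + 1))⁻¹) := by rw [e2]; group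
        _ = u := by
            rw [show (x ^ (k + 1))⁻¹ * x * (x ^ (k + 1))⁻¹ = 1 by
              nth_rewrite 2 [← e3]; group, mul_one]
    obtain ⟨P, hP, hPc⟩ := hcj (x ^ (k + 1) * g)
    have e : x ^ (k + 1) * g * z * (x ^ (k + 1) * g)⁻¹ = u := by
      rw [← hconj, hwdef]; group
    rw [e] at hPc
    exact huz (hsame S P z u u (hV.le huV) hPc.1 hu1 hzc hPc).symm

end Cfsg.Agent.S3244
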