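import Cfsg.Statements.S3246
import Cfsg.Agent.LocalEven.CharTwoLocals

set_option autoImplicit false
set_option linter.style.haveILetI false
open Cfsg

namespace Cfsg.Agent.S3246

/-- Let G be a finite group whose Sylow 2-subgroup S has a self-centralizing normal subgroup of rank at least 3. Suppose that either every maximal 2-local subgroup of G is 2-constrained with no nontrivial normal subgroup of odd order, or the centralizer of every involution of G is 2-constrained with no nontrivial normal subgroup of odd order. Then S normalizes no nontrivial subgroup of G of odd order and every 2-local subgroup of G is 2-constrained. -/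
theorem result {G : Type*} [Group G] [Finite G]
    (S : Sylow 2 G) (A : Subgroup G) (hA : Cfsg.IsSCN (S : Subgroup G) A) (hA3 : ¬ Cfsg.PRankLE 2 2 ↥A)
    (h : (∀ M : Subgroup G, Cfsg.IsMaximalTwoLocal M → Cfsg.IsPConstrained 2 ↥M ∧ Cfsg.oddCore ↥M = ⊥) ∨
      (∀ t : G, orderOf t = 2 → Cfsg.IsPConstrained 2 ↥(Subgroup.centralizer ({t} : Set G)) ∧
        Cfsg.oddCore ↥(Subgroup.centralizer ({t} : Set G)) = ⊥)) :
    (∀ X : Subgroup G, Odd (Nat.card ↥X) → (S : Subgroup G) ≤ Subgroup.normalizer (X : Set G) → X = ⊥) ∧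
      (∀ T : Subgroup G, IsPGroup 2 ↥T → T ≠ ⊥ → Cfsg.IsPConstrained 2 ↥(Subgroup.normalizer (T : Set G))) := by
    haveI : Fact (Nat.Prime 2) := ⟨Nat.prime_two⟩
    have hgood : ∀ t : G, orderOf t = 2 →
        Subgroup.centralizer (Cfsg.pCore 2 ↥(Subgroup.centralizer ({t} : Set G)) :
          Set ↥(Subgroup.centralizer ({t} : Set G))) ≤ Cfsg.pCore 2 ↥(Subgroup.centralizer ({t} : Set G)) := by
      intro t ht
      rcases h with h | h
      · exact LocalEven.CharTwoLocals.charTwo_centralizer_of_maximal
          (fun M hM => (PLocal.isPConstrained_iff_of_pPrimeCore_eq_bot (h M hM).2).mp (h M hM).1) ht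
      · exact (PLocal.isPConstrained_iff_of_pPrimeCore_eq_bot (h t ht).2).mp (h t ht).1
    refine ⟨fun X hX hSX => ?_, fun T hT hT1 =>
      LocalEven.CharTwoLocals.isPConstrained_of_charP (LocalEven.CharTwoLocals.charTwo_normalizer hgood hT hT1)⟩
    obtain ⟨hAS, hAn, hAc⟩ := hA
    have hAab : ∀ a ∈ A, ∀ b ∈ A, a * b = b * a := by
      intro a ha b hb
      have hb' : b ∈ Subgroup.centralizer (A : Set G) := by
        rw [← hAc] at hb
        exact (Subgroup.mem_inf.mp hb).2
      exact Subgroup.mem_centralizer_iff.mp hb' a ha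
    let B : Subgroup G :=
      { carrier := {a | a ∈ A ∧ a * a = 1}
        one_mem' := ⟨one_mem _, one_mul 1⟩
        mul_mem' := fun {a b} ha hb => ⟨mul_mem ha.1 hb.1, by
          calc (a * b) * (a * b) = (a * b) * (b * a) := by rw [hAab a ha.1 b hb.1]
            _ = a * (b * b) * a := by group
            _ = 1 := by rw [hb.2, mul_one, ha.2]⟩
        inv_mem' := fun {a} ha => ⟨inv_mem ha.1, by rw [← mul_inv_rev, ha.2, inv_one]⟩ }
    obtain ⟨E, hE2, hE4⟩ : ∃ E : Subgroup ↥A, (∀ a ∈ E, a ^ 2 = 1) ∧ 2 ^ 2 < Nat.card E := by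
      by_contra hcon
      push Not at hcon
      exact hA3 fun E _ hE => hcon E hE
    refine LocalEven.CharTwoLocals.eq_bot_of_sylow_normalizes hgood S (B := B)
      (fun b hb => hAS hb.1) ?_ (fun b hb => hb.2) ?_ X hX hSX
    · intro s hs
      refine Coprime.mem_normalizer_of_conj_mem fun b hb => ⟨(Subgroup.mem_normalizer_iff.mp (hAn hs) b).mp hb.1, ?_⟩
      calc (s * b * s⁻¹) * (s * b * s⁻¹) = s * (b * b) * s⁻¹ := by group
        _ = 1 := by rw [hb.2, mul_one, mul_inv_cancel]
    · have hle : E.map A.subtype ≤ B := by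
        rintro _ ⟨a, ha, rfl⟩
        refine ⟨a.2, ?_⟩
        have := congrArg Subtype.val (hE2 a ha)
        simpa [pow_two] using this
      have := Subgroup.card_le_of_le hle
      rw [Core.card_map_subtype] at this
      omega

end Cfsg.Agent.S3246
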