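import Cfsg.Statements.S3247
import Cfsg.Agent.Components.ExtendedLayer
import Cfsg.Agent.Components.PComponent
import Cfsg.Agent.S1293
import Cfsg.Agent.S1266
import Cfsg.Agent.Core.Cores
-- import your own Cfsg.Agent.* helpers here

set_option autoImplicit false
open Cfsg

namespace Cfsg.Agent.S3247

/-- A group whose `p`-components lie in a normal subgroup shared with a group of trivial `p`-layer has
trivial `p`-layer. -/
theorem pLayer_eq_bot_of_normal {G : Type*} [Group G] [Finite G] {p : ℕ} [Fact p.Prime] {H N : Subgroup G}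
    (hH : Cfsg.pLayer p H = ⊥) (D : Subgroup G) (hDH : D ≤ H) (hDn : (D.subgroupOf H).Normal) (hDN : D ≤ N)
    (hle : ∀ K : Subgroup N, Cfsg.IsPComponent p K → K ≤ D.subgroupOf N) : Cfsg.pLayer p N = ⊥ := by
  refine le_bot_iff.1 (sSup_le fun K hK => ?_)
  exfalso
  have hKD : ∀ k ∈ K, (k : G) ∈ D := fun k hk => hle K hK hk
  let ψ : (D.subgroupOf H : Subgroup H) →* N :=
    { toFun := fun x => ⟨((x : H) : G), hDN x.2⟩
      map_one' := rfl
      map_mul' := fun _ _ => rfl }
  set K' := (K.comap ψ).map (D.subgroupOf H).subtype with hK'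
  have hsub : K'.IsSubnormal := (hK.1.comap ψ).trans' hDn.isSubnormal
  have hmem : ∀ x : H, x ∈ K' ↔ ∃ h : (x : G) ∈ N, (⟨(x : G), h⟩ : N) ∈ K := by
    intro x
    constructor
    · rintro ⟨u, hu, rfl⟩
      exact ⟨hDN u.2, hu⟩
    · rintro ⟨h, hx⟩
      exact ⟨⟨x, hKD _ hx⟩, hx, rfl⟩
  let e : K ≃* K' :=
    { toFun := fun k => ⟨⟨((k : N) : G), hDH (hKD _ k.2)⟩, (hmem _).2 ⟨(k : N).2, k.2⟩⟩
      invFun := fun k => ⟨⟨((k : H) : G), ((hmem _).1 k.2).1⟩, ((hmem _).1 k.2).2⟩
      left_inv := fun _ => rfl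
      right_inv := fun _ => rfl
      map_mul' := fun _ _ => rfl }
  have hq : Cfsg.IsQuasisimple (↥K' ⧸ Cfsg.pPrimeCore p K') :=
    Components.isQuasisimple_of_equiv (QuotientGroup.congr _ _ e (Core.pPrimeCore_map_equiv e))
      (Components.pComponent_quotient_quasisimple hK)
  let f : K' →* (K'.map (Components.pBar p H)) := (Components.pBar p H).subgroupMap K'
  have hf : Function.Surjective f := (Components.pBar p H).subgroupMap_surjective K'
  have hk : f.ker = Cfsg.pPrimeCore p K' := by
    ext x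
    constructor
    · intro hx
      have h1 : (x : H) ∈ K' ⊓ Cfsg.pPrimeCore p H :=
        ⟨x.2, Components.pBar_eq_one_iff.mp (congrArg Subtype.val (MonoidHom.mem_ker.mp hx))⟩
      rw [← Components.pPrimeCore_map_subtype hsub] at h1
      obtain ⟨y, hy, hyx⟩ := h1
      exact Subtype.ext hyx ▸ hy
    · intro hx
      have h1 : (x : H) ∈ K' ⊓ Cfsg.pPrimeCore p H := by
        rw [← Components.pPrimeCore_map_subtype hsub]
        exact ⟨x, hx, rfl⟩
      exact MonoidHom.mem_ker.mpr (Subtype.ext (Components.pBar_eq_one_iff.mpr h1.2))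
  have hq' : Cfsg.IsQuasisimple ↥(K'.map (Components.pBar p H)) :=
    Components.isQuasisimple_of_equiv ((QuotientGroup.quotientMulEquivOfEq hk.symm).trans
      (QuotientGroup.quotientKerEquivOfSurjective f hf)) hq
  exact Components.layer_eq_bot_iff.1 (Components.pLayer_eq_bot_iff.1 hH) (K'.map (Components.pBar p H))
    ⟨hsub.map Components.pBar_surjective, hq'⟩

/-- A `p`-component centralizes `O_p`. -/
theorem centralizes_of_mem {G : Type*} [Group G] [Finite G] (p : ℕ) [Fact p.Prime]
    (h : (((Cfsg.layer (↥(Subgroup.normalizer (((⊥ : Subgroup G)) : Set G)) ⧸ Cfsg.pPrimeCore p ↥(Subgroup.normalizer (((⊥ : Subgroup G)) : Set G)))).comap (QuotientGroup.mk' (Cfsg.pPrimeCore p ↥(Subgroup.normalizer (((⊥ : Subgroup G)) : Set G))))).map (Subgroup.normalizer (((⊥ : Subgroup G)) : Set G)).subtype) ≤ Subgroup.centralizer (Cfsg.pCore p G : Set G))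
    {K : Subgroup G} (hK : Cfsg.IsPComponent p K) {y : G} (hy : y ∈ K) :
    y ∈ Subgroup.centralizer (Cfsg.pCore p G : Set G) := by
  set M := Subgroup.normalizer (((⊥ : Subgroup G)) : Set G) with hM
  have hMtop : M = ⊤ := Subgroup.normalizer_eq_top_iff.2 inferInstance
  let e : G ≃* M := (Subgroup.topEquiv.symm).trans (MulEquiv.subgroupCongr hMtop.symm)
  have hle := Components.map_equiv_pLayer (p := p) e
  refine h ⟨e y, ?_, rfl⟩
  show QuotientGroup.mk' _ (e y) ∈ Cfsg.layer _
  rw [← Components.pLayer_map (p := p) (G := M)]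
  exact Subgroup.mem_map_of_mem _ (hle ⟨y, le_sSup (show K ∈ {K : Subgroup G | Cfsg.IsPComponent p K} from hK) hy, rfl⟩)

/-- Let G be a finite group and p a prime; here a p-local subgroup means the normalizer of a nontrivial p-subgroup, other than G itself. If every p-local subgroup of G that is maximal among p-local subgroups is p-constrained, or if the centralizer of every element of order p of G is p-constrained, then every p-local subgroup of G is p-constrained. -/
theorem result {G : Type*} [Group G] [Finite G] (p : ℕ) [hp : Fact p.Prime]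
    (h : (∀ M : Subgroup G, (∃ T : Subgroup G, IsPGroup p ↥T ∧ T ≠ ⊥ ∧ M = Subgroup.normalizer (T : Set G)) → M ≠ ⊤ →
        (∀ M' : Subgroup G, (∃ T' : Subgroup G, IsPGroup p ↥T' ∧ T' ≠ ⊥ ∧ M' = Subgroup.normalizer (T' : Set G)) → M' ≠ ⊤ → M ≤ M' → M = M') →
        Cfsg.IsPConstrained p ↥M) ∨
      (∀ x : G, orderOf x = p → Cfsg.IsPConstrained p ↥(Subgroup.centralizer ({x} : Set G))))
    (T : Subgroup G) (hT : IsPGroup p ↥T) (hT1 : T ≠ ⊥) (hTG : Subgroup.normalizer (T : Set G) ≠ ⊤) :
    Cfsg.IsPConstrained p ↥(Subgroup.normalizer (T : Set G)) := by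
  haveI : Fact p.Prime := hp
  rw [Components.isPConstrained_iff_pLayer_eq_bot]
  set N := Subgroup.normalizer (T : Set G) with hN
  rcases h with h | h
  · -- inside a maximal `p`-local subgroup
    obtain ⟨M, ⟨⟨T₁, hT₁, hT₁1, rfl⟩, hMne, hNM⟩, hmax⟩ := Set.Finite.exists_maximal (Set.toFinite
      {M : Subgroup G | (∃ T' : Subgroup G, IsPGroup p ↥T' ∧ T' ≠ ⊥ ∧ M = Subgroup.normalizer (T' : Set G)) ∧ M ≠ ⊤ ∧ N ≤ M})
      ⟨N, ⟨T, hT, hT1, rfl⟩, hTG, le_rfl⟩
    set M := Subgroup.normalizer (T₁ : Set G) with hM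
    have hMc := h M ⟨T₁, hT₁, hT₁1, rfl⟩ hMne (fun M' hM' hM'ne hle =>
      le_antisymm hle (hmax ⟨hM', hM'ne, hNM.trans hle⟩ hle))
    rw [Components.isPConstrained_iff_pLayer_eq_bot] at hMc
    have hTM : T ≤ M := Subgroup.le_normalizer.trans hNM
    have h1 := (S1293.result p hMc (T.subgroupOf M) (hT.of_equiv (Subgroup.subgroupOfEquivOfLe hTM).symm)
      (fun e => hT1 (by rwa [Subgroup.subgroupOf_eq_bot, disjoint_iff, inf_eq_left.2 hTM] at e))).1
    have heq : Subgroup.normalizer ((T.subgroupOf M : Subgroup M) : Set M) = N.subgroupOf M := by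
      ext x
      rw [Subgroup.mem_normalizer_iff, Subgroup.mem_subgroupOf, hN, Subgroup.mem_normalizer_iff]
      constructor
      · intro hx y
        constructor
        · exact fun hy => (hx ⟨y, hTM hy⟩).1 hy
        · intro hy
          have hyM : y ∈ M := by
            have := M.mul_mem (M.mul_mem (M.inv_mem x.2) (hTM hy)) x.2
            simpa [mul_assoc] using this
          exact (hx ⟨y, hyM⟩).2 hy
      · exact fun hx y => hx y
    rw [heq] at h1
    have h2 := Components.map_equiv_pLayer (p := p) (Subgroup.subgroupOfEquivOfLe hNM).symm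
    rw [h1] at h2
    exact (Subgroup.map_eq_bot_iff_of_injective _ (Subgroup.subgroupOfEquivOfLe hNM).symm.injective).1
      (le_bot_iff.1 h2)
  · -- inside the centralizer of an element of order `p`
    haveI : Nontrivial T := (Subgroup.nontrivial_iff_ne_bot T).2 hT1
    haveI := hT.center_nontrivial
    obtain ⟨k, hk, hc⟩ := (hT.to_subgroup (Subgroup.center T)).nontrivial_iff_card.1 inferInstance
    obtain ⟨x, hx⟩ := exists_prime_orderOf_dvd_card' p (hc ▸ dvd_pow_self p hk.ne' : p ∣ Nat.card (Subgroup.center T))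
    have hxo : orderOf ((x : T) : G) = p := by rw [Subgroup.orderOf_coe, Subgroup.orderOf_coe, hx]
    set C := Subgroup.centralizer ({((x : T) : G)} : Set G) with hC
    have hCc := h _ hxo
    rw [Components.isPConstrained_iff_pLayer_eq_bot] at hCc
    have hTC : T ≤ C := fun t ht => Subgroup.mem_centralizer_singleton_iff.2
      (congrArg Subtype.val (Subgroup.mem_center_iff.1 x.2 ⟨t, ht⟩))
    have h1 := (S1293.result p hCc (T.subgroupOf C) (hT.of_equiv (Subgroup.subgroupOfEquivOfLe hTC).symm)
      (fun e => hT1 (by rwa [Subgroup.subgroupOf_eq_bot, disjoint_iff, inf_eq_left.2 hTC] at e))).1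
    have heq : Subgroup.normalizer ((T.subgroupOf C : Subgroup C) : Set C) = (N ⊓ C).subgroupOf C := by
      ext c
      rw [Subgroup.mem_normalizer_iff, Subgroup.mem_subgroupOf, Subgroup.mem_inf, hN,
        Subgroup.mem_normalizer_iff]
      constructor
      · intro hc
        refine ⟨fun y => ⟨fun hy => (hc ⟨y, hTC hy⟩).1 hy, fun hy => ?_⟩, c.2⟩
        have hyC : y ∈ C := by
          have := C.mul_mem (C.mul_mem (C.inv_mem c.2) (hTC hy)) c.2
          simpa [mul_assoc] using this
        exact (hc ⟨y, hyC⟩).2 hy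
      · exact fun hc y => hc.1 y
    rw [heq] at h1
    set H := N ⊓ C with hH
    have hH0 : Cfsg.pLayer p H = ⊥ := by
      have h2 := Components.map_equiv_pLayer (p := p) (Subgroup.subgroupOfEquivOfLe (inf_le_right : H ≤ C)).symm
      rw [h1] at h2
      exact (Subgroup.map_eq_bot_iff_of_injective _
        (Subgroup.subgroupOfEquivOfLe (inf_le_right : H ≤ C)).symm.injective).1 (le_bot_iff.1 h2)
    set D := Subgroup.centralizer (T : Set G) with hD
    have hnorm : ∀ n ∈ N, ∀ d ∈ D, n * d * n⁻¹ ∈ D := by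
      intro n hn d hd
      rw [hD, Subgroup.mem_centralizer_iff]
      intro y hy
      have hy' : n⁻¹ * y * n ∈ T := by
        have := ((Subgroup.mem_normalizer_iff).1 (N.inv_mem hn) y).1 hy
        simpa using this
      calc y * (n * d * n⁻¹) = n * ((n⁻¹ * y * n) * d) * n⁻¹ := by group
        _ = _ := by rw [(Subgroup.mem_centralizer_iff.1 hd) _ hy']; group
    have hDN : D ≤ N := fun d hd => by
      rw [hN, Subgroup.mem_normalizer_iff]
      intro y
      constructor
      · intro hy
        rwa [← (Subgroup.mem_centralizer_iff.1 hd) y hy, mul_inv_cancel_right]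
      · intro hy
        have h' := (Subgroup.mem_centralizer_iff.1 hd) _ hy
        rw [inv_mul_cancel_right] at h'
        have e : d * y * d⁻¹ = y := (mul_left_cancel h').symm
        rwa [e] at hy
    have hDH : D ≤ H := le_inf hDN fun d hd => Subgroup.mem_centralizer_singleton_iff.2
      ((Subgroup.mem_centralizer_iff.1 hd) _ (x : T).2).symm
    refine pLayer_eq_bot_of_normal hH0 D hDH ?_ hDN ?_
    · exact ⟨fun d hd h => hnorm h h.2.1 d hd⟩
    -- the `p`-layer centralizes `T`
    intro K hK
    have hTN : T ≤ N := Subgroup.le_normalizer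
    have hTp : T.subgroupOf N ≤ Cfsg.pCore p N :=
      Core.le_pCore ((Subgroup.normal_subgroupOf_iff_le_normalizer hTN).2 le_rfl)
        (hT.of_equiv (Subgroup.subgroupOfEquivOfLe hTN).symm)
    have h3 := S1266.result (G := N) p ⊥ (IsPGroup.of_bot)
    intro y hy
    rw [Subgroup.mem_subgroupOf, hD, Subgroup.mem_centralizer_iff]
    intro u hu
    have hy' : y ∈ Subgroup.centralizer (Cfsg.pCore p N : Set N) := centralizes_of_mem p h3 hK hy
    exact congrArg Subtype.val ((Subgroup.mem_centralizer_iff.1 hy') ⟨u, hTN hu⟩ (hTp hu))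

end Cfsg.Agent.S3247
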