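import Cfsg.Statements.S3380
import Cfsg.Agent.S0519
import Cfsg.Agent.OddLocal.UniqueSubgroup
import Cfsg.Agent.Transfer.PGroupNormal

set_option autoImplicit false
open Cfsg

namespace Cfsg.Agent.S3380

/-- Sum of the powers of an element of order dividing `p` applied to a vector. -/
theorem sum_pow_fixed {R V : Type*} [Semiring R] [AddCommGroup V] [Module R V] {G : Type*} [Group G]
    (ρ : G →* (V ≃ₗ[R] V)) (p : ℕ) (w : G) (hw : w ^ p = 1) (v : V) :
    ρ w (∑ k ∈ Finset.range p, ρ (w ^ k) v) = ∑ k ∈ Finset.range p, ρ (w ^ k) v := by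
  have happ : ∀ (a b : G) (x : V), ρ a (ρ b x) = ρ (a * b) x := fun a b x => by rw [map_mul]; rfl
  have h1 := Finset.sum_range_succ' (fun k => ρ (w ^ k) v) p
  have h2 := Finset.sum_range_succ (fun k => ρ (w ^ k) v) p
  rw [h1, hw, pow_zero] at h2
  rw [map_sum]
  simp only [happ, ← pow_succ']
  exact add_right_cancel h2

theorem exists_uz {G : Type*} [Group G] [Finite G] (p : ℕ) [hp : Fact p.Prime] (hG : IsPGroup p G)
    (hnc : ¬ IsCyclic G) (hnq : ∀ n : ℕ, ¬ Nonempty (G ≃* QuaternionGroup n))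
    (hnd : ∀ n : ℕ, ¬ Nonempty (G ≃* DihedralGroup n)) (hnsd : ¬ Cfsg.IsQuasiDihedral G) :
    ∃ z u : G, z ∈ Subgroup.center G ∧ orderOf z = p ∧ u ^ p = 1 ∧ u ∉ Subgroup.zpowers z ∧
      ∀ g : G, ∃ i : ℕ, g * u * g⁻¹ = u * z ^ i := by
  classical
  have hnt : Nontrivial G := by
    by_contra hc
    rw [not_nontrivial_iff_subsingleton] at hc
    exact hnc inferInstance
  obtain ⟨A, hAn, hAc, hAnc⟩ : ∃ A : Subgroup G, A.Normal ∧ IsMulCommutative A ∧ ¬ IsCyclic A := by
    by_contra hc
    push Not at hc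
    have hc' : ∀ A : Subgroup G, A.Normal → IsMulCommutative A → IsCyclic A := hc
    by_cases hm : ∃ B : Subgroup G, IsMulCommutative B ∧ ¬ IsCyclic B
    · obtain ⟨-, ⟨n, h⟩ | ⟨n, -, h⟩ | h⟩ := S0519.result p hG hc' hm
      exacts [hnq n h, hnd n h, hnsd h]
    push Not at hm
    obtain ⟨c, hc0⟩ := exists_prime_orderOf_dvd_card' (G := Subgroup.center G) p (by
      obtain ⟨j, hj⟩ := IsPGroup.iff_card.1 (hG.to_subgroup (Subgroup.center G))
      haveI : Nontrivial (Subgroup.center G) := hG.center_nontrivial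
      have := Finite.one_lt_card (α := Subgroup.center G)
      rw [hj] at this ⊢
      exact dvd_pow_self p (fun h0 => by rw [h0, pow_zero] at this; omega))
    rw [← Subgroup.orderOf_coe] at hc0
    have hkey : ∀ a : G, a ^ p = 1 → a ∈ Subgroup.zpowers (c : G) := by
      intro a ha
      have hcomm : IsMulCommutative (Subgroup.closure ({(c : G), a} : Set G)) :=
        Subgroup.isMulCommutative_closure (by
          rintro x (rfl | rfl) y (rfl | rfl)
          · rfl
          · exact (Subgroup.mem_center_iff.1 c.2 _).symm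
          · exact Subgroup.mem_center_iff.1 c.2 _
          · rfl)
      haveI := hm _ hcomm
      by_cases ha1 : a = 1
      · rw [ha1]; exact one_mem _
      obtain ⟨g, hg⟩ := IsCyclic.exists_ofOrder_eq_natCard (α := Subgroup.closure ({(c : G), a} : Set G))
      have hcm : (c : G) ∈ Subgroup.closure ({(c : G), a} : Set G) := Subgroup.subset_closure (by simp)
      have ham : a ∈ Subgroup.closure ({(c : G), a} : Set G) := Subgroup.subset_closure (by simp)
      have e : Subgroup.zpowers (⟨c, hcm⟩ : Subgroup.closure ({(c : G), a} : Set G)) =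
          Subgroup.zpowers ⟨a, ham⟩ := FGS2.subgroup_eq_of_card_eq (by
            rw [Nat.card_zpowers, Nat.card_zpowers, Subgroup.orderOf_mk, Subgroup.orderOf_mk, hc0,
              orderOf_eq_prime ha ha1])
      obtain ⟨i, hi⟩ := Subgroup.mem_zpowers_iff.1 (e.ge (Subgroup.mem_zpowers _))
      exact Subgroup.mem_zpowers_iff.2 ⟨i, by simpa using congrArg Subtype.val hi⟩
    have huniq : OddLocal.UniqueOrderP p G := fun a b ha hb ha1 => by
      have h1 : Subgroup.zpowers a = Subgroup.zpowers (c : G) :=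
        Subgroup.eq_of_le_of_card_ge (Subgroup.zpowers_le.2 (hkey a ha))
          (by rw [Nat.card_zpowers, Nat.card_zpowers, hc0, orderOf_eq_prime ha ha1])
      rw [h1]; exact hkey b hb
    rcases OddLocal.isCyclic_or_quaternion hG huniq with h | ⟨-, n, h⟩
    exacts [hnc h, hnq _ h]
  let N : Subgroup G :=
    { carrier := {a | a ∈ A ∧ a ^ p = 1}
      one_mem' := ⟨one_mem _, one_pow _⟩
      mul_mem' := fun {a b} ha hb => ⟨mul_mem ha.1 hb.1, by
        have hab : Commute a b := congrArg Subtype.val (mul_comm' (⟨a, ha.1⟩ : A) ⟨b, hb.1⟩)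
        rw [hab.mul_pow, ha.2, hb.2, one_mul]⟩
      inv_mem' := fun {a} ha => ⟨inv_mem ha.1, by rw [inv_pow, ha.2, inv_one]⟩ }
  have hNn : N.Normal := ⟨fun a ha g => ⟨hAn.conj_mem a ha.1 g, by rw [conj_pow, ha.2, mul_one, mul_inv_cancel]⟩⟩
  have hN1 : N ≠ ⊥ := by
    intro h
    obtain ⟨j, hj⟩ := IsPGroup.iff_card.1 (hG.to_subgroup A)
    have hj0 : j ≠ 0 := fun h0 => hAnc (by
      rw [h0, pow_zero] at hj
      have := (Nat.card_eq_one_iff_unique.1 hj).1
      infer_instance)
    obtain ⟨a, ha⟩ := exists_prime_orderOf_dvd_card' (G := A) p (hj ▸ dvd_pow_self p hj0)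
    rw [← Subgroup.orderOf_coe] at ha
    have : (a : G) ∈ N := ⟨a.2, ha ▸ pow_orderOf_eq_one _⟩
    rw [h, Subgroup.mem_bot] at this
    rw [this, orderOf_one] at ha
    exact hp.out.one_lt.ne ha
  haveI := hG.isNilpotent
  haveI := hNn
  obtain ⟨z, hzN, hz1, hzc⟩ := OddLocal.exists_ne_one_mem_center_of_normal N hN1
  have hzo : orderOf z = p := orderOf_eq_prime hzN.2 hz1
  have hlt : Subgroup.zpowers z < N := by
    refine lt_of_le_of_ne (Subgroup.zpowers_le.2 hzN) fun e => hAnc ?_
    have hu : OddLocal.UniqueOrderP p A := fun a b ha hb ha1 => by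
      have haN : (a : G) ∈ N := ⟨a.2, by rw [← SubmonoidClass.coe_pow, ha]; rfl⟩
      have hbN : (b : G) ∈ N := ⟨b.2, by rw [← SubmonoidClass.coe_pow, hb]; rfl⟩
      rw [← e] at haN hbN
      have h1 : Subgroup.zpowers (a : G) = Subgroup.zpowers z :=
        Subgroup.eq_of_le_of_card_ge (Subgroup.zpowers_le.2 haN)
          (by rw [Nat.card_zpowers, Nat.card_zpowers, hzo, Subgroup.orderOf_coe, orderOf_eq_prime ha ha1])
      rw [← h1] at hbN
      obtain ⟨i, hi⟩ := Subgroup.mem_zpowers_iff.1 hbN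
      exact Subgroup.mem_zpowers_iff.2 ⟨i, Subtype.ext (by rw [SubgroupClass.coe_zpow]; exact hi)⟩
    exact OddLocal.isCyclic_of_uniqueOrderP (Nat.card A) (hG.to_subgroup A) hu
      (Or.inr fun a b => mul_comm' a b) le_rfl
  have hMn : (Subgroup.zpowers z).Normal := ⟨fun x hx g => by
    have h := (Subgroup.zpowers_le.mpr hzc) hx
    rw [Subgroup.mem_center_iff] at h
    rwa [h g, mul_inv_cancel_right]⟩
  obtain ⟨u, huN, huz, -, hug, -, -⟩ := Transfer.PNormal.exists_central_step hG hMn hNn hlt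
  refine ⟨z, u, hzc, hzo, huN.2, huz, fun g => ?_⟩
  obtain ⟨i, hi⟩ := (mem_powers_iff_mem_zpowers).2 (inv_mem (hug g))
  simp only at hi
  refine ⟨i, ?_⟩
  have hc : u * z ^ i = z ^ i * u := Subgroup.mem_center_iff.1 (pow_mem hzc i) u
  rw [hc, hi]
  group

theorem zmod_pow {G : Type*} [Group G] {z : G} {p : ℕ} (h : orderOf z = p) (n : ℕ) : z ^ (n % p) = z ^ n := by
  rw [← h, pow_mod_orderOf]


/-- Let a finite p-group G act faithfully and irreducibly on a non-trivial finite vector space V over the field with q elements (q prime), and suppose G is not cyclic, generalized quaternion, dihedral or semidihedral. Then G has a subgroup H of index p and V is the direct sum of p subspaces, each invariant under H, on none of which H acts faithfully, and which every element of G outside H permutes in a single p-cycle. -/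
theorem result
    (q : ℕ) [Fact q.Prime] {V : Type*} [AddCommGroup V] [Module (ZMod q) V] [Finite V] [Nontrivial V]
    {G : Type*} [Group G] [Finite G] (p : ℕ) [Fact p.Prime] (hG : IsPGroup p G)
    (ρ : G →* (V ≃ₗ[ZMod q] V)) (hρ : Function.Injective ρ)
    (hirr : ∀ W : Submodule (ZMod q) V, (∀ g : G, ∀ w ∈ W, ρ g w ∈ W) → W = ⊥ ∨ W = ⊤)
    (hnc : ¬ IsCyclic G) (hnq : ∀ n : ℕ, ¬ Nonempty (G ≃* QuaternionGroup n))
    (hnd : ∀ n : ℕ, ¬ Nonempty (G ≃* DihedralGroup n)) (hnsd : ¬ Cfsg.IsQuasiDihedral G) :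
    ∃ (H : Subgroup G) (W : Fin p → Submodule (ZMod q) V), H.index = p ∧
      iSup W = ⊤ ∧ iSupIndep W ∧
      (∀ h ∈ H, ∀ i, ∀ w ∈ W i, ρ h w ∈ W i) ∧
      (∀ i, ∃ h ∈ H, h ≠ 1 ∧ ∀ w ∈ W i, ρ h w = w) ∧
      ∀ g : G, g ∉ H → ∃ σ : Equiv.Perm (Fin p), orderOf σ = p ∧ ∀ i, (W i).map (ρ g : V →ₗ[ZMod q] V) = W (σ i) := by
  classical
  obtain ⟨z, u, hzc, hzo, hup, huz, hconj⟩ := exists_uz p hG hnc hnq hnd hnsd
  have hpp := (Fact.out : p.Prime)
  haveI : NeZero p := ⟨hpp.ne_zero⟩
  have hzp : z ^ p = 1 := hzo ▸ pow_orderOf_eq_one z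
  have hzcomm : ∀ g : G, Commute g z := fun g => Subgroup.mem_center_iff.1 hzc g
  have hz1 : z ≠ 1 := fun h => by rw [h, orderOf_one] at hzo; exact hpp.one_lt.ne hzo
  have happ : ∀ (a b : G) (x : V), ρ a (ρ b x) = ρ (a * b) x := fun a b x => by rw [map_mul]; rfl
  let Fx : G → Submodule (ZMod q) V := fun g =>
    { carrier := {v | ρ g v = v}
      add_mem' := fun {a b} ha hb => by show ρ g (a + b) = a + b; rw [map_add, ha, hb]
      zero_mem' := map_zero _
      smul_mem' := fun c v hv => by show ρ g (c • v) = c • v; rw [map_smul, hv] }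
  have hcentral : ∀ c ∈ Subgroup.center G, c ≠ 1 → ∀ v : V, ρ c v = v → v = 0 := by
    intro c hc hc1 v hv
    rcases hirr (Fx c) (fun g w hw => by
      show ρ c (ρ g w) = ρ g w
      rw [happ, ← Subgroup.mem_center_iff.1 hc g, ← happ]
      exact congrArg _ hw) with h | h
    · have : v ∈ Fx c := hv
      rwa [h, Submodule.mem_bot] at this
    · exfalso
      refine hc1 (hρ ?_)
      rw [map_one]
      refine LinearEquiv.ext fun w => ?_
      have : w ∈ Fx c := h ▸ Submodule.mem_top
      exact this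
  have hzfix := hcentral z hzc hz1
  have hzk : ∀ k, k < p → k ≠ 0 → ∀ v : V, ∑ i ∈ Finset.range p, ρ ((z ^ k) ^ i) v = 0 := by
    intro k hk hk0 v
    have hne : z ^ k ≠ 1 := fun h => by
      have := Nat.le_of_dvd (by omega) (orderOf_dvd_of_pow_eq_one h)
      omega
    exact hcentral _ (pow_mem hzc k) hne _
      (sum_pow_fixed ρ p (z ^ k) (by rw [← pow_mul, mul_comm, pow_mul, hzp, one_pow]) v)
  have hpq : (p : ZMod q) ≠ 0 := by
    intro h
    have hqp : q = p := (Nat.prime_dvd_prime_iff_eq Fact.out hpp).1 ((CharP.cast_eq_zero_iff (ZMod q) q p).1 h)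
    subst hqp
    let act : MulAction (Subgroup.zpowers z) V :=
      { smul := fun g v => ρ (g : G) v
        one_smul := fun v => by show ρ 1 v = v; rw [map_one]; rfl
        mul_smul := fun a b v => by show ρ ((a : G) * b) v = ρ (a : G) (ρ (b : G) v); rw [happ] }
    letI := act
    have hd : q ∣ Nat.card V := by
      rw [Module.natCard_eq_pow_finrank (K := ZMod q), Nat.card_zmod]
      exact dvd_pow_self q (Module.finrank_pos (R := ZMod q) (M := V)).ne'
    obtain ⟨b, hb, hb0⟩ := (hG.to_subgroup (Subgroup.zpowers z)).exists_fixed_point_of_prime_dvd_card_of_fixed_point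
      V hd (a := 0) (fun g => map_zero (ρ (g : G)))
    exact hb0 (hzfix b (hb ⟨z, Subgroup.mem_zpowers z⟩)).symm
  let w : ℕ → G := fun i => u * z ^ i
  have hwp : ∀ i, w i ^ p = 1 := fun i => by
    show (u * z ^ i) ^ p = 1
    rw [((hzcomm u).pow_right i).mul_pow, hup, ← pow_mul, mul_comm, pow_mul, hzp, one_pow, one_mul]
  have hwne : ∀ i, w i ≠ 1 := fun i h => huz (by
    rw [eq_inv_of_mul_eq_one_left h]
    exact inv_mem (pow_mem (Subgroup.mem_zpowers z) i))
  let S : ℕ → V →ₗ[ZMod q] V := fun i => ∑ k ∈ Finset.range p, (ρ (w i ^ k) : V →ₗ[ZMod q] V)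
  have hSa : ∀ i v, S i v = ∑ k ∈ Finset.range p, ρ (w i ^ k) v := fun i v => by
    simp [S, LinearMap.sum_apply]
  have hSmem : ∀ i v, S i v ∈ Fx (w i) := fun i v => by
    rw [hSa]; exact sum_pow_fixed ρ p _ (hwp i) v
  have hsum : ∀ v : V, ∑ i ∈ Finset.range p, S i v = (p : ZMod q) • v := by
    intro v
    simp only [hSa]
    rw [Finset.sum_comm, Finset.sum_eq_single 0]
    · simp [Nat.cast_smul_eq_nsmul]
    · intro k hk hk0
      have hk' := Finset.mem_range.1 hk
      have e : ∀ i, ρ (w i ^ k) v = ρ (u ^ k) (ρ ((z ^ k) ^ i) v) := fun i => by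
        rw [happ, ← pow_mul, mul_comm k i, pow_mul]
        show ρ ((u * z ^ i) ^ k) v = _
        rw [((hzcomm u).pow_right i).mul_pow]
      simp only [e]
      rw [← map_sum, hzk k hk' hk0, map_zero]
    · intro h; exact absurd (Finset.mem_range.2 hpp.pos) h
  let W : Fin p → Submodule (ZMod q) V := fun i => Fx (w i)
  have htop : iSup W = ⊤ := by
    rw [eq_top_iff]
    intro v _
    have h1 : (p : ZMod q) • v ∈ iSup W := by
      rw [← hsum]
      refine Submodule.sum_mem _ fun i hi => ?_
      exact Submodule.mem_iSup_of_mem (⟨i, Finset.mem_range.1 hi⟩ : Fin p) (hSmem i v)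
    have h2 := Submodule.smul_mem (iSup W) ((p : ZMod q)⁻¹) h1
    rwa [smul_smul, inv_mul_cancel₀ hpq, one_smul] at h2
  have hind : iSupIndep W := by
    intro i
    rw [disjoint_iff, eq_bot_iff]
    rintro v ⟨hv1, hv2⟩
    have h1 : S i v = (p : ZMod q) • v := by
      rw [hSa, Finset.sum_congr rfl (g := fun _ => v) ?_, Finset.sum_const, Finset.card_range,
        Nat.cast_smul_eq_nsmul]
      intro k _
      induction k with
      | zero => rw [pow_zero, map_one]; rfl
      | succ k ih => rw [pow_succ, ← happ, show ρ (w i) v = v from hv1, ih (Finset.mem_range.2 (by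
          rename_i hk; have := Finset.mem_range.1 hk; omega))]
    have h2 : S i v = 0 := by
      have hle : (⨆ (j) (_ : j ≠ i), W j) ≤ LinearMap.ker (S i) := by
        refine iSup₂_le fun j hj x hx => ?_
        rw [LinearMap.mem_ker, hSa]
        have hjp := j.2
        set d := ((i : ℕ) + (p - j)) % p with hd
        have hd0 : d ≠ 0 := by
          intro h
          apply hj
          apply Fin.ext
          obtain ⟨c, hc⟩ := Nat.dvd_of_mod_eq_zero h
          have hi := i.2
          have hc2 : c < 2 := by by_contra hc2; have := Nat.mul_le_mul_left p (show 2 ≤ c by omega); omega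
          interval_cases c <;> omega
        have hw' : w i = w j * z ^ d := by
          show u * z ^ (i : ℕ) = u * z ^ (j : ℕ) * z ^ d
          rw [mul_assoc, ← pow_add, ← zmod_pow hzo, ← zmod_pow hzo ((j : ℕ) + d)]
          congr 2
          rw [hd, Nat.add_mod_mod, show (j : ℕ) + ((i : ℕ) + (p - j)) = (i : ℕ) + p by omega, Nat.add_mod_right]
        have e : ∀ k, ρ (w i ^ k) x = ρ ((z ^ d) ^ k) x := by
          intro k
          induction k with
          | zero => rw [pow_zero, pow_zero]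
          | succ k ih =>
            have hx' : ρ (w i) x = ρ (z ^ d) x := by
              rw [hw', show w j * z ^ d = z ^ d * w j from (hzcomm _).pow_right d, ← happ,
                show ρ (w j) x = x from hx]
            rw [pow_succ, ← happ, hx', happ,
              ((hzcomm (w i)).pow_right d).pow_left k |>.eq, ← happ, ih, happ, ← pow_succ']
        rw [Finset.sum_congr rfl fun k _ => e k]
        exact hzk d (Nat.mod_lt _ hpp.pos) hd0 x
      exact LinearMap.mem_ker.1 (hle hv2)
    rw [Submodule.mem_bot]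
    exact (smul_eq_zero.1 (h1.symm.trans h2)).resolve_left hpq
  let H : Subgroup G := Subgroup.centralizer {u}
  have hH : ∀ g, g ∈ H ↔ g * u * g⁻¹ = u := fun g => by
    rw [Subgroup.mem_centralizer_singleton_iff]
    exact ⟨fun h => by rw [h, mul_inv_cancel_right], fun h => by
      conv_rhs => rw [← h]
      rw [inv_mul_cancel_right]⟩
  have hconjk : ∀ (g : G) (k : ℕ), g * u * g⁻¹ = u * z ^ k → ∀ i, g * w i * g⁻¹ = w (i + k) := by
    intro g k hk i
    show g * (u * z ^ i) * g⁻¹ = u * z ^ (i + k)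
    rw [← mul_assoc, mul_assoc (g * u), ← ((hzcomm g⁻¹).pow_right i).eq, ← mul_assoc, hk, mul_assoc,
      ← pow_add, add_comm k i]
  have hwmod : ∀ i, w (i % p) = w i := fun i => by
    show u * z ^ (i % p) = u * z ^ i
    rw [zmod_pow hzo i]
  have hidx : H.index = p := by
    obtain ⟨g0, k0, hk0, hk0'⟩ : ∃ g0 k0, g0 * u * g0⁻¹ = u * z ^ k0 ∧ z ^ k0 ≠ 1 := by
      by_contra hcon
      push Not at hcon
      obtain ⟨v, hv⟩ := exists_ne (0 : V)
      refine hv ((smul_eq_zero.1 ((hsum v).symm.trans (Finset.sum_eq_zero fun i _ => ?_))).resolve_left hpq)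
      refine hcentral (w i) (mul_mem ?_ (pow_mem hzc i)) (hwne i) _ (hSmem i v)
      refine Subgroup.mem_center_iff.2 fun g => ?_
      obtain ⟨k, hk⟩ := hconj g
      rw [hcon g k hk, mul_one] at hk
      conv_rhs => rw [← hk]
      rw [inv_mul_cancel_right]
    choose c hc using hconj
    let χ : G →* Multiplicative (ZMod p) :=
      MonoidHom.mk' (fun g => Multiplicative.ofAdd (c g : ZMod p)) (fun a b => by
        rw [← ofAdd_add, ← Nat.cast_add]
        refine congrArg Multiplicative.ofAdd ((ZMod.natCast_eq_natCast_iff' _ _ _).2 ?_)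
        rw [← hzo]
        refine (pow_eq_pow_iff_modEq.1 (mul_left_cancel (a := u) ?_))
        rw [← hc]
        have := hconjk a (c a) (hc a) (c b)
        change _ = u * z ^ _ at this
        rw [add_comm, ← this]
        show _ = a * (u * z ^ c b) * a⁻¹
        rw [← hc b]; group)
    have hker : χ.ker = H := by
      ext g
      rw [MonoidHom.mem_ker, hH, hc, mul_eq_left]
      show Multiplicative.ofAdd (c g : ZMod p) = 1 ↔ _
      rw [ofAdd_eq_one, CharP.cast_eq_zero_iff (ZMod p) p, ← hzo, orderOf_dvd_iff_pow_eq_one]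
    have hsurj : χ.range = ⊤ := by
      haveI : Fact (Nat.card (Multiplicative (ZMod p))).Prime := ⟨by simpa using hpp⟩
      refine (χ.range.eq_bot_or_eq_top_of_prime_card).resolve_left fun h => hk0' ?_
      have h1 : χ g0 = 1 := by rw [← Subgroup.mem_bot, ← h]; exact ⟨g0, rfl⟩
      have h2 : g0 ∈ H := hker ▸ h1
      rw [hH, hk0, mul_eq_left] at h2
      exact h2
    rw [← hker, Subgroup.index_ker, hsurj, Subgroup.card_top]
    simp
  refine ⟨H, W, hidx, htop, hind, ?_, fun i => ⟨w i, ?_, hwne i, fun x hx => hx⟩, ?_⟩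
  · intro g hg i x hx
    show ρ (w i) (ρ g x) = ρ g x
    have h1 := hconjk g 0 (by rw [pow_zero, mul_one]; exact (hH g).1 hg) i
    rw [add_zero] at h1
    rw [happ, show w i * g = g * w i by conv_lhs => rw [← h1, inv_mul_cancel_right], ← happ]
    exact congrArg _ hx
  · rw [hH]
    show u * z ^ (i : ℕ) * u * (u * z ^ (i : ℕ))⁻¹ = u
    rw [mul_assoc u, ← ((hzcomm u).pow_right _).eq, mul_inv_rev, mul_assoc, mul_assoc, ← mul_assoc (z ^ (i : ℕ)),
      mul_inv_cancel, one_mul, mul_inv_cancel, mul_one]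
  · intro g hg
    obtain ⟨k, hk⟩ := hconj g
    refine ⟨Equiv.addRight (Fin.ofNat p k), ?_, fun i => ?_⟩
    · have hne : Fin.ofNat p k ≠ (0 : Fin p) := by
        intro h
        apply hg
        rw [hH, hk, mul_eq_left, ← orderOf_dvd_iff_pow_eq_one, hzo]
        have h' := congrArg Fin.val h
        simp at h'
        exact Nat.dvd_of_mod_eq_zero h'
      have hpow : ∀ n (i : Fin p), (Equiv.addRight (Fin.ofNat p k) ^ n) i = i + n • Fin.ofNat p k := by
        intro n
        induction n with
        | zero => intro i; simp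
        | succ n ih => intro i; rw [pow_succ', Equiv.Perm.mul_apply, ih, succ_nsmul]; simp [add_assoc]
      refine orderOf_eq_prime (Equiv.ext fun i => ?_) (fun h => hne ?_)
      · have := card_nsmul_eq_zero' (x := Fin.ofNat p k)
        rw [Nat.card_eq_fintype_card, Fintype.card_fin] at this
        rw [hpow, this, add_zero]; rfl
      · simpa using Equiv.congr_fun h 0
    · have hv : ((Equiv.addRight (Fin.ofNat p k) i : Fin p) : ℕ) = ((i : ℕ) + k) % p := by
        simp [Fin.val_add, Nat.add_mod]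
      show (Fx (w i)).map (ρ g : V →ₗ[ZMod q] V) = Fx (w _)
      rw [hv, hwmod, ← hconjk g k hk i]
      ext y
      constructor
      · rintro ⟨x, hx, rfl⟩
        show ρ (g * w i * g⁻¹) (ρ g x) = ρ g x
        rw [happ, inv_mul_cancel_right, ← happ]
        exact congrArg _ hx
      · intro hy
        refine ⟨ρ g⁻¹ y, ?_, ?_⟩
        · show ρ (w i) (ρ g⁻¹ y) = ρ g⁻¹ y
          have : ρ (g * w i * g⁻¹) y = y := hy
          conv_rhs => rw [← this]
          rw [happ, happ]
          congr 2
          group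
        · show ρ g (ρ g⁻¹ y) = y
          rw [happ, mul_inv_cancel, map_one]; rfl

end Cfsg.Agent.S3380
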