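import Cfsg.Statements.S3371
import Cfsg.Agent.S3380
import Cfsg.Agent.S3370
import Cfsg.Agent.FGS2.Basic
import Cfsg.Agent.TwoGroups.CyclicTwo

set_option autoImplicit false
open Cfsg

namespace Cfsg.Agent.S3371

open Cfsg.Agent.TwoGroups

/-- `q^d + 1 = 2^j` forces `d = 1`. -/
theorem pow_add_one_eq {q d j : ℕ} (hq : 3 ≤ q) (hodd : Odd q) (hd : 1 ≤ d) (h : q ^ d + 1 = 2 ^ j) :
    d = 1 := by
  rcases Nat.even_or_odd d with ⟨r, rfl⟩ | hdo
  · exfalso
    obtain ⟨a, ha⟩ := hodd.pow (n := r)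
    have hge : 3 ≤ q ^ r := le_trans hq (Nat.le_self_pow (by omega) q)
    rw [pow_add, ha, show (2 * a + 1) * (2 * a + 1) + 1 = 4 * (a * a + a) + 2 by ring] at h
    rcases (show j ≤ 1 ∨ 2 ≤ j by omega) with hj | hj
    · have := Nat.pow_le_pow_right (show 1 ≤ 2 by norm_num) hj
      nlinarith
    · obtain ⟨c, hc⟩ : 4 ∣ 2 ^ j := (show (4 : ℕ) = 2 ^ 2 from rfl) ▸ pow_dvd_pow 2 hj
      omega
  · obtain ⟨S, hS⟩ : ∃ S : ℤ, (∑ i ∈ Finset.range d, (-(q : ℤ)) ^ i) = S := ⟨_, rfl⟩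
    have hg := geom_sum_mul (-(q : ℤ)) d
    rw [hS, hdo.neg_pow] at hg
    have hSo : Odd S := by
      have hq' : Odd (-(q : ℤ)) := by
        obtain ⟨a, ha⟩ := hodd; exact ⟨-(a : ℤ) - 1, by rw [ha]; push_cast; ring⟩
      have key : ∀ n : ℕ, (Odd (∑ i ∈ Finset.range n, (-(q : ℤ)) ^ i) ↔ Odd n) := by
        intro n
        induction n with
        | zero => simp
        | succ n ih =>
          rw [Finset.sum_range_succ, Int.odd_add', Nat.odd_add_one, ← ih, ← Int.not_odd_iff_even]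
          simp [hq'.pow]
      rw [← hS]
      exact (key d).2 hdo
    have hdvd : S.natAbs ∣ 2 ^ j := by
      rw [← h, ← Int.natCast_dvd_natCast, Int.natAbs_dvd]
      exact ⟨(q : ℤ) + 1, by push_cast; linarith⟩
    obtain ⟨i, -, hi⟩ := (Nat.dvd_prime_pow Nat.prime_two).1 hdvd
    have hS1 : S.natAbs = 1 := by
      rcases Nat.eq_zero_or_pos i with rfl | hi0
      · simpa using hi
      · exfalso
        rw [← Int.natAbs_odd, hi] at hSo
        exact (Nat.not_odd_iff_even.2 (Nat.even_pow.2 ⟨even_two, by omega⟩)) hSo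
    have hqd : (q : ℤ) ^ d = q := by
      rcases Int.natAbs_eq_iff.1 hS1 with e | e <;> rw [e] at hg
      · push_cast at hg
        linarith
      · have : (q : ℤ) ^ d ≥ 0 := by positivity
        push_cast at hg
        linarith
    have := Nat.pow_right_injective (show 2 ≤ q by omega) (show q ^ d = q ^ 1 by rw [pow_one]; exact_mod_cast hqd)
    exact this

variable {q : ℕ} [Fact q.Prime] {V : Type*} [AddCommGroup V] [Module (ZMod q) V] [Finite V]
variable {G : Type*} [Group G] [Finite G]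

theorem rho_comp (ρ : G →* (V ≃ₗ[ZMod q] V)) (a b : G) (x : V) : ρ a (ρ b x) = ρ (a * b) x := by
  rw [map_mul]; rfl

theorem rho_one (ρ : G →* (V ≃ₗ[ZMod q] V)) (x : V) : ρ 1 x = x := by rw [map_one]; rfl

/-- The stabilizer of a vector. -/
def stab (ρ : G →* (V ≃ₗ[ZMod q] V)) (v : V) : Subgroup G where
  carrier := {g | ρ g v = v}
  one_mem' := rho_one ρ v
  mul_mem' {a b} ha hb := by
    show ρ (a * b) v = v
    rw [← rho_comp, show ρ b v = v from hb]; exact ha
  inv_mem' {a} ha := by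
    show ρ a⁻¹ v = v
    conv_lhs => rw [← show ρ a v = v from ha]
    rw [rho_comp, inv_mul_cancel, rho_one]

theorem mem_stab (ρ : G →* (V ≃ₗ[ZMod q] V)) (v : V) (g : G) : g ∈ stab ρ v ↔ ρ g v = v := Iff.rfl

theorem orbit_mul_stab (ρ : G →* (V ≃ₗ[ZMod q] V)) (v : V) :
    Nat.card {u : V | ∃ g : G, ρ g v = u} * Nat.card (stab ρ v) = Nat.card G := by
  letI : MulAction G V :=
    { smul := fun g v => ρ g v
      one_smul := rho_one ρ
      mul_smul := fun a b v => (rho_comp ρ a b v).symm }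
  have h := MulAction.index_stabilizer G v
  rw [← Nat.card_coe_set_eq] at h
  have e : stab ρ v = MulAction.stabilizer G v := rfl
  rw [show Nat.card {u : V | ∃ g : G, ρ g v = u} = (MulAction.stabilizer G v).index from h.symm, e,
    Subgroup.index_mul_card]

theorem two_smul_ne {v : V} (hq : q ≠ 2) (hv : v ≠ 0) : v + v ≠ 0 := fun h => by
  have h2 : ((2 : ℕ) : ZMod q) • v = 0 := by rw [Nat.cast_smul_eq_nsmul, two_nsmul]; exact h
  rcases smul_eq_zero.1 h2 with e | e
  · exact hq ((Nat.prime_dvd_prime_iff_eq Fact.out Nat.prime_two).1 ((CharP.cast_eq_zero_iff (ZMod q) q 2).1 e))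
  · exact hv e

/-- Dihedral and semidihedral groups. -/
theorem ext_case [Nontrivial V] (hq2 : q ≠ 2) (ρ : G →* (V ≃ₗ[ZMod q] V)) (hρ : Function.Injective ρ)
    (hcen : ∀ c ∈ Subgroup.center G, c ≠ 1 → ∀ v : V, ρ c v = v → v = 0)
    (hhalf : ∀ v w : V, v ≠ 0 → w ≠ 0 → Nat.card (stab ρ v) = Nat.card (stab ρ w))
    {x y : G} {N : ℕ} {c : ℤ} (h : IsTwoExt x y N c) {M : ℕ} (hM : N = 2 * M) {k : ℕ} (hk : N = 2 ^ k)
    (hzc : (N : ℤ) ∣ (c - 1) * (M : ℤ)) (j₀ : ℤ) (hj₀ : (N : ℤ) ∣ j₀ * (1 - c) - M)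
    {s : ℕ} (hI : Nat.card {i : Fin N // (N : ℤ) ∣ (1 + c) * (i : ℕ)} = 2 ^ s) :
    (¬ ∀ v : V, v ≠ 0 → ∀ g : G, ρ g v = v → g = 1) ∧ Nat.card V = q ^ 2 ∧ q + 1 = 2 ^ s := by
  classical
  have hNpos := h.npos
  haveI : NeZero N := ⟨hNpos.ne'⟩
  set z := x ^ (M : ℤ) with hz
  have hzz : z * z = 1 := by
    rw [hz, ← zpow_add, h.zpow_eq_one_iff]; exact ⟨1, by push_cast [hM]; ring⟩
  have hz1 : z ≠ 1 := by
    rw [hz, Ne, h.zpow_eq_one_iff, hM]
    intro hd
    have := Nat.le_of_dvd (by omega) (Int.natCast_dvd_natCast.1 hd)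
    omega
  have hzcen : z ∈ Subgroup.center G := Subgroup.mem_center_iff.2 fun g => by
    obtain ⟨i, rfl | rfl⟩ := h.exists_eq g
    · exact (Commute.zpow_zpow_self x i M).eq
    · exact ((h.commute_iff i M).2 hzc).symm.eq
  have hfpf : ∀ v : V, ρ z v = v → v = 0 := hcen z hzcen hz1
  have hneg : ∀ v : V, ρ z v = -v := fun v => by
    refine eq_neg_of_add_eq_zero_left (hfpf _ ?_)
    rw [map_add, rho_comp, hzz, rho_one, add_comm]
  -- nothing on the cyclic subgroup fixes a vector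
  have hC : ∀ g ∈ Subgroup.zpowers x, ∀ v : V, v ≠ 0 → ρ g v = v → g = 1 := by
    intro g hg v hv hgv
    by_contra hg1
    have hox : orderOf x = 2 ^ k := by rw [h.ord, hk]
    obtain ⟨i, hi, hio⟩ := (Nat.dvd_prime_pow Nat.prime_two).1 (hox ▸ orderOf_dvd_of_mem_zpowers hg)
    have hi0 : i ≠ 0 := fun e => hg1 (orderOf_eq_one_iff.1 (by rw [hio, e, pow_zero]))
    have he : Subgroup.zpowers z ≤ Subgroup.zpowers g := by
      haveI : IsCyclic (Subgroup.zpowers x) := Subgroup.isCyclic_zpowers x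
      haveI := h.finite
      have hzx : z ∈ Subgroup.zpowers x := zpow_mem (Subgroup.mem_zpowers x) _
      have hzo : orderOf z = 2 := orderOf_eq_prime (by rw [sq, hzz]) hz1
      have h2g : orderOf (g ^ (orderOf g / 2)) = 2 :=
        orderOf_pow_orderOf_div (orderOf_pos g).ne' (by rw [hio]; exact dvd_pow_self 2 hi0)
      have e := FGS2.subgroup_eq_of_card_eq (G := Subgroup.zpowers x)
        (H := Subgroup.zpowers ⟨z, hzx⟩) (K := Subgroup.zpowers ⟨g ^ (orderOf g / 2), pow_mem hg _⟩)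
        (by rw [Nat.card_zpowers, Nat.card_zpowers, Subgroup.orderOf_mk, Subgroup.orderOf_mk, hzo, h2g])
      obtain ⟨l, hl⟩ := Subgroup.mem_zpowers_iff.1 (e.le (Subgroup.mem_zpowers _))
      have hl' : (g ^ (orderOf g / 2)) ^ l = z := by simpa using congrArg Subtype.val hl
      rw [Subgroup.zpowers_le, ← hl']
      exact zpow_mem (pow_mem (Subgroup.mem_zpowers g) _) _
    exact hv (hfpf v (show z ∈ stab ρ v from (he.trans (Subgroup.zpowers_le.2 hgv)) (Subgroup.mem_zpowers z)))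
  let t : {i : Fin N // (N : ℤ) ∣ (1 + c) * (i : ℕ)} → G := fun i => x ^ ((i.1 : ℕ) : ℤ) * y
  have htt : ∀ i, t i * t i = 1 := fun i => by
    show (x ^ ((i.1 : ℕ) : ℤ) * y) * (x ^ ((i.1 : ℕ) : ℤ) * y) = 1
    rw [h.xy_sq, h.zpow_eq_one_iff]; exact i.2
  let F : G → Set V := fun g => {v | ρ g v = v}
  have hhalfcard : ∀ i, Nat.card (F (t i)) * Nat.card (F (t i)) = Nat.card V := by
    intro i
    have hzt : Nat.card (F (t i * z)) = Nat.card (F (t i)) := by
      have e : x ^ j₀ * t i * (x ^ j₀)⁻¹ = t i * z := by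
        show x ^ j₀ * (x ^ ((i.1 : ℕ) : ℤ) * y) * (x ^ j₀)⁻¹ = _ * y * z
        rw [h.conj_xy, mul_assoc _ y, Subgroup.mem_center_iff.1 hzcen y, ← mul_assoc, hz, ← zpow_add, h.mul_y_inj,
          Int.modEq_iff_dvd]
        obtain ⟨w, hw⟩ := hj₀
        exact ⟨-w, by linarith⟩
      refine Nat.card_congr
        { toFun := fun v => ⟨ρ (x ^ j₀)⁻¹ v.1, ?_⟩
          invFun := fun v => ⟨ρ (x ^ j₀) v.1, ?_⟩
          left_inv := fun v => Subtype.ext (by simp [rho_comp])
          right_inv := fun v => Subtype.ext (by simp [rho_comp]) }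
      · show ρ (t i) (ρ (x ^ j₀)⁻¹ v.1) = ρ (x ^ j₀)⁻¹ v.1
        have hv : ρ (t i * z) v.1 = v.1 := v.2
        obtain ⟨v, hv0⟩ := v
        calc _ = ρ (x ^ j₀)⁻¹ (ρ (x ^ j₀ * t i * (x ^ j₀)⁻¹) v) := by rw [rho_comp, rho_comp]; congr 2; group
          _ = ρ (x ^ j₀)⁻¹ (ρ (t i * z) v) := by rw [e]
          _ = _ := by rw [hv]
      · show ρ (t i * z) (ρ (x ^ j₀) v.1) = ρ (x ^ j₀) v.1
        have hv : ρ (t i) v.1 = v.1 := v.2
        calc _ = ρ (x ^ j₀) (ρ (t i) v.1) := by rw [rho_comp, rho_comp, ← e]; congr 2; group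
          _ = _ := by rw [hv]
    conv_lhs => arg 2; rw [← hzt]
    rw [← Nat.card_prod]
    have hts : ∀ v, ρ (t i) (ρ (t i) v) = v := fun v => by rw [rho_comp, htt, rho_one]
    have hneg' : ∀ v, ρ (t i * z) v = -ρ (t i) v := fun v => by rw [← rho_comp, hneg, map_neg]
    refine Nat.card_congr (Equiv.ofBijective (fun p : F (t i) × F (t i * z) => p.1.1 + p.2.1) ⟨?_, ?_⟩)
    · rintro ⟨⟨a, ha⟩, ⟨b, hb⟩⟩ ⟨⟨a', ha'⟩, ⟨b', hb'⟩⟩ e
      change a + b = a' + b' at e
      have hb1 : ρ (t i) b = -b := by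
        have := hneg' b; rw [show ρ (t i * z) b = b from hb] at this; exact neg_eq_iff_eq_neg.1 this.symm
      have hb1' : ρ (t i) b' = -b' := by
        have := hneg' b'; rw [show ρ (t i * z) b' = b' from hb'] at this; exact neg_eq_iff_eq_neg.1 this.symm
      have e2 := congrArg (ρ (t i)) e
      rw [map_add, map_add, show ρ (t i) a = a from ha, show ρ (t i) a' = a' from ha', hb1, hb1'] at e2
      have e3 : (a - a') + (a - a') = 0 := by
        have := congrArg₂ (· + ·) e e2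
        rw [← sub_eq_zero] at this
        rw [← this]; abel
      have ea : a = a' := sub_eq_zero.1 (by_contra fun hne => two_smul_ne hq2 hne e3)
      subst ea
      have eb := add_left_cancel e
      subst eb
      rfl
    · intro v
      have h2 : ((2 : ℕ) : ZMod q) ≠ 0 := fun e => hq2
        ((Nat.prime_dvd_prime_iff_eq Fact.out Nat.prime_two).1 ((CharP.cast_eq_zero_iff (ZMod q) q 2).1 e))
      refine ⟨(⟨((2 : ℕ) : ZMod q)⁻¹ • (v + ρ (t i) v), ?_⟩, ⟨((2 : ℕ) : ZMod q)⁻¹ • (v - ρ (t i) v), ?_⟩), ?_⟩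
      · show ρ (t i) _ = _
        rw [map_smul, map_add, hts, add_comm]
      · show ρ (t i * z) _ = _
        rw [hneg', map_smul, map_sub, hts, ← smul_neg, neg_sub]
      · show _ + _ = v
        rw [← smul_add, show v + ρ (t i) v + (v - ρ (t i) v) = ((2 : ℕ) : ZMod q) • v by
          rw [Nat.cast_smul_eq_nsmul, two_nsmul]; abel, smul_smul, inv_mul_cancel₀ h2, one_smul]
  -- a reflection fixes a nonzero vector
  have hI0 : 0 < Nat.card {i : Fin N // (N : ℤ) ∣ (1 + c) * (i : ℕ)} := by rw [hI]; positivity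
  obtain ⟨i₀⟩ := (Nat.card_pos_iff.1 hI0).1
  have hnot : ¬ ∀ v : V, v ≠ 0 → ∀ g : G, ρ g v = v → g = 1 := by
    intro hs
    have ht1 : ρ (t i₀) ≠ 1 := fun e => h.notMem' _ (by
      rw [show x ^ ((i₀.1 : ℕ) : ℤ) * y = 1 from hρ (e.trans (map_one ρ).symm)]; exact one_mem _)
    refine ht1 (LinearEquiv.ext fun v => ?_)
    by_cases hv : v = 0
    · rw [hv, map_zero, map_zero]
    have hfix : ρ (t i₀) (v + ρ (t i₀) v) = v + ρ (t i₀) v := by
      rw [map_add, rho_comp, htt, rho_one, add_comm]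
    by_cases hw : v + ρ (t i₀) v = 0
    · exfalso
      have e : ρ (t i₀) v = ρ z v := by rw [hneg]; exact eq_neg_of_add_eq_zero_right hw
      have := hs v hv (z * t i₀) (by rw [← rho_comp, e, rho_comp, hzz, rho_one])
      have e2 : t i₀ = z := by rw [← one_mul (t i₀), ← hzz, mul_assoc, this, mul_one]
      exact h.notMem' ((i₀.1 : ℕ) : ℤ) (show t i₀ ∈ Subgroup.zpowers x by
        rw [e2]; exact zpow_mem (Subgroup.mem_zpowers x) _)
    · exact absurd (hs _ hw _ hfix) fun e => ht1 (by rw [e, map_one])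
  refine ⟨hnot, ?_⟩
  have hall : ∀ v : V, v ≠ 0 → ∃ g : G, g ≠ 1 ∧ ρ g v = v := by
    intro v hv
    push Not at hnot
    obtain ⟨w, hw, g, hgw, hg1⟩ := hnot
    have h1 : 1 < Nat.card (stab ρ v) := by
      rw [hhalf v w hv hw]
      exact (Subgroup.one_lt_card_iff_ne_bot _).2 fun e => hg1 (by rw [← Subgroup.mem_bot, ← e]; exact hgw)
    obtain ⟨g', hg'⟩ := (Subgroup.ne_bot_iff_exists_ne_one.1 ((Subgroup.one_lt_card_iff_ne_bot _).1 h1))
    exact ⟨g', fun e => hg' (Subtype.ext e), g'.2⟩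
  have hrefl : ∀ v : V, v ≠ 0 → ∃ i, ρ (t i) v = v := by
    intro v hv
    obtain ⟨g, hg1, hgv⟩ := hall v hv
    obtain ⟨i, rfl | rfl⟩ := h.exists_eq g
    · exact absurd (hC _ (zpow_mem (Subgroup.mem_zpowers x) i) v hv hgv) hg1
    have hNz : (N : ℤ) ≠ 0 := by exact_mod_cast hNpos.ne'
    let i' : Fin N := ⟨(i % (N : ℤ)).toNat, by
      have := Int.emod_lt_of_pos i (show (0 : ℤ) < N by exact_mod_cast hNpos)
      have := Int.emod_nonneg i hNz
      omega⟩
    have hi' : ((i' : ℕ) : ℤ) = i % (N : ℤ) := Int.toNat_of_nonneg (Int.emod_nonneg i hNz)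
    have he : x ^ i * y = x ^ ((i' : ℕ) : ℤ) * y := by
      rw [h.mul_y_inj, hi']; exact (Int.mod_modEq i N).symm
    have hsq : (x ^ i * y) * (x ^ i * y) = 1 := by
      refine hC _ ?_ v hv (by rw [← rho_comp, hgv, hgv])
      rw [h.xy_sq]; exact zpow_mem (Subgroup.mem_zpowers x) _
    refine ⟨⟨i', ?_⟩, ?_⟩
    · rw [← h.zpow_eq_one_iff, ← h.xy_sq, ← he, hsq]
    · show ρ (x ^ ((i' : ℕ) : ℤ) * y) v = v
      rw [← he]; exact hgv
  have huniq : ∀ v : V, v ≠ 0 → ∀ i i', ρ (t i) v = v → ρ (t i') v = v → i = i' := by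
    intro v hv i i' hi hi'
    have := hC (t i * t i') (by
      show x ^ ((i.1 : ℕ) : ℤ) * y * (x ^ ((i'.1 : ℕ) : ℤ) * y) ∈ _
      rw [h.xy_mul_xy]; exact zpow_mem (Subgroup.mem_zpowers x) _) v hv (by rw [← rho_comp, hi', hi])
    have e : t i' = t i := by rw [← one_mul (t i'), ← htt i, mul_assoc, this, mul_one]
    have e' := (h.mul_y_inj _ _).1 e
    apply Subtype.ext
    apply Fin.ext
    have hm : (i'.1 : ℕ) ≡ (i.1 : ℕ) [MOD N] := Int.natCast_modEq_iff.1 e'
    have := hm.eq_of_lt_of_lt i'.1.2 i.1.2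
    omega
  obtain ⟨a, ha⟩ : ∃ a, Nat.card (F (t i₀)) = a := ⟨_, rfl⟩
  have haV : a * a = Nat.card V := ha ▸ hhalfcard i₀
  have hconst : ∀ i, Nat.card (F (t i)) = a := fun i => Nat.mul_self_inj.1 ((hhalfcard i).trans haV.symm)
  have hsum : Nat.card V - 1 = 2 ^ s * (a - 1) := by
    haveI := h.finite
    let := Fintype.ofFinite V
    have hcnt : Nat.card {v : V // v ≠ 0} = Nat.card (Σ i, {v : F (t i) // v.1 ≠ 0}) := by
      refine (Nat.card_congr (Equiv.ofBijective (fun p : Σ i, {v : F (t i) // v.1 ≠ 0} => (⟨p.2.1.1, p.2.2⟩ : {v : V // v ≠ 0})) ⟨?_, ?_⟩)).symm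
      · rintro ⟨i, ⟨⟨v, hv⟩, hv0⟩⟩ ⟨i', ⟨⟨v', hv'⟩, hv0'⟩⟩ e
        obtain rfl : v = v' := congrArg Subtype.val e
        obtain rfl := huniq v hv0 i i' hv hv'
        rfl
      · rintro ⟨v, hv⟩
        obtain ⟨i, hi⟩ := hrefl v hv
        exact ⟨⟨i, ⟨⟨v, hi⟩, hv⟩⟩, rfl⟩
    have hfib : ∀ i, Nat.card {v : F (t i) // v.1 ≠ 0} = a - 1 := fun i => by
      let := Fintype.ofFinite (F (t i))
      have h0 : (0 : V) ∈ F (t i) := map_zero _
      rw [Nat.card_congr (Equiv.subtypeEquivRight (q := fun v : F (t i) => v ≠ ⟨0, h0⟩) fun v => by simp [Subtype.ext_iff]),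
        Nat.card_eq_fintype_card, Fintype.card_subtype_compl, Fintype.card_subtype_eq, ← Nat.card_eq_fintype_card, hconst]
    rw [Nat.card_sigma, Finset.sum_congr rfl (fun i _ => hfib i), Finset.sum_const, Finset.card_univ,
      ← Nat.card_eq_fintype_card, hI, smul_eq_mul] at hcnt
    rw [← hcnt, Nat.card_eq_fintype_card, Nat.card_eq_fintype_card, Fintype.card_subtype_compl, Fintype.card_subtype_eq]
  have hn : Nat.card V = q ^ Module.finrank (ZMod q) V := by
    rw [Module.natCard_eq_pow_finrank (K := ZMod q), Nat.card_zmod]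
  have hV1 : 1 < Nat.card V := Finite.one_lt_card
  have ha2 : 2 ≤ a := by
    by_contra hlt
    rcases (show a = 0 ∨ a = 1 by omega) with rfl | rfl <;> omega
  have has : a + 1 = 2 ^ s := by
    rw [← haV, show a * a - 1 = (a + 1) * (a - 1) by
      obtain ⟨b, rfl⟩ : ∃ b, a = b + 1 := ⟨a - 1, by omega⟩
      simp only [Nat.add_sub_cancel]
      rw [show (b + 1) * (b + 1) = (b + 1 + 1) * b + 1 by ring, Nat.add_sub_cancel]] at hsum
    exact Nat.eq_of_mul_eq_mul_right (by omega) hsum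
  obtain ⟨d, -, rfl⟩ := (Nat.dvd_prime_pow (Fact.out : q.Prime)).1 (hn ▸ haV ▸ dvd_mul_right a a : a ∣ q ^ _)
  have hd : 1 ≤ d := by
    rcases Nat.eq_zero_or_pos d with rfl | hd
    · simp at ha2
    · exact hd
  have hqp := (Fact.out : q.Prime)
  have hd1 := pow_add_one_eq (by have := hqp.two_le; omega) (hqp.odd_of_ne_two hq2) hd has
  subst hd1
  rw [pow_one] at haV has
  exact ⟨by rw [← haV, sq], has⟩

theorem card_even_fin (n : ℕ) : Nat.card {i : Fin (2 * n) // 2 ∣ (i : ℕ)} = n := by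
  conv_rhs => rw [← Nat.card_fin n]
  exact Nat.card_congr
    { toFun := fun i => ⟨(i.1 : ℕ) / 2, by have := i.1.2; omega⟩
      invFun := fun j => ⟨⟨2 * j, by omega⟩, dvd_mul_right 2 _⟩
      left_inv := fun i => Subtype.ext (Fin.ext (Nat.mul_div_cancel' i.2))
      right_inv := fun j => Fin.ext (Nat.mul_div_cancel_left _ two_pos) }


/-- Let q be a prime, V a non-trivial finite vector space over the field with q elements, and G a finite p-group (p prime) acting faithfully and linearly on V such that all G-orbits on the non-zero vectors have the same size. Then one of the following holds: G is cyclic or generalized quaternion and acts semiregularly on the non-zero vectors; or V has q² elements with q = 2^m − 1 and G is dihedral of order 2^(m+1) or semidihedral of order 2^(m+2); or V has q² elements with q = 2^m + 1 and, in suitable coordinates V = F_q², G is exactly the group of maps (x, y) ↦ (a x, ± a⁻¹ y) and (x, y) ↦ (± a⁻¹ y, a x) with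 a ≠ 0; or V has 81 elements (q = 3) and G is a 2-group. -/
theorem result (q : ℕ) [Fact q.Prime] {V : Type*} [AddCommGroup V] [Module (ZMod q) V] [Finite V] [Nontrivial V]
    {G : Type*} [Group G] [Finite G] (p : ℕ) [Fact p.Prime] (hG : IsPGroup p G)
    (ρ : G →* (V ≃ₗ[ZMod q] V)) (hρ : Function.Injective ρ)
    (hhalf : ∀ v w : V, v ≠ 0 → w ≠ 0 → Nat.card {u : V | ∃ g : G, ρ g v = u} = Nat.card {u : V | ∃ g : G, ρ g w = u}) :
    ((IsCyclic G ∨ ∃ n : ℕ, Nonempty (G ≃* QuaternionGroup n)) ∧ ∀ v : V, v ≠ 0 → ∀ g : G, ρ g v = v → g = 1) ∨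
    (Nat.card V = q ^ 2 ∧ ∃ m : ℕ, q = 2 ^ m - 1 ∧
      (Nonempty (G ≃* DihedralGroup (2 ^ m)) ∨ (Cfsg.IsQuasiDihedral G ∧ Nat.card G = 2 ^ (m + 2)))) ∨
    (Nat.card V = q ^ 2 ∧ (∃ m : ℕ, q = 2 ^ m + 1) ∧
      ∃ e : V ≃ₗ[ZMod q] (Fin 2 → ZMod q), ∀ f : (Fin 2 → ZMod q) ≃ₗ[ZMod q] (Fin 2 → ZMod q),
        (∃ g : G, f = e.symm.trans ((ρ g).trans e)) ↔
        ∃ a s : ZMod q, a ≠ 0 ∧ (s = 1 ∨ s = -1) ∧
          ((∀ v, f v = ![a * v 0, s * a⁻¹ * v 1]) ∨ (∀ v, f v = ![s * a⁻¹ * v 1, a * v 0]))) ∨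
    (Nat.card V = 81 ∧ q = 3 ∧ p = 2) := by
  classical
  have hpp := (Fact.out : p.Prime)
  have hqp := (Fact.out : q.Prime)
  have hst : ∀ v w : V, v ≠ 0 → w ≠ 0 → Nat.card (stab ρ v) = Nat.card (stab ρ w) := by
    intro v w hv hw
    have h1 := orbit_mul_stab ρ v
    have h2 := orbit_mul_stab ρ w
    rw [hhalf v w hv hw] at h1
    refine Nat.eq_of_mul_eq_mul_left ?_ (h1.trans h2.symm)
    rcases Nat.eq_zero_or_pos (Nat.card {u : V | ∃ g : G, ρ g w = u}) with e | e
    · rw [e, zero_mul] at h2; exact absurd h2.symm Nat.card_pos.ne'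
    · exact e
  have hid : ∀ g : G, (∀ v, ρ g v = v) → g = 1 := fun g hg => hρ (LinearEquiv.ext fun v => by rw [hg, rho_one])
  obtain ⟨v₀, hv₀⟩ := exists_ne (0 : V)
  by_cases htriv : Subsingleton G
  · exact Or.inl ⟨Or.inl inferInstance, fun v _ g _ => Subsingleton.elim g 1⟩
  rw [not_subsingleton_iff_nontrivial] at htriv
  -- the characteristic is prime to the group
  by_cases hpq : p = q
  · exfalso
    subst hpq
    let act : MulAction G V :=
      { smul := fun g v => ρ g v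
        one_smul := rho_one ρ
        mul_smul := fun a b v => (rho_comp ρ a b v).symm }
    letI := act
    have hd : p ∣ Nat.card V := by
      rw [Module.natCard_eq_pow_finrank (K := ZMod p), Nat.card_zmod]
      exact dvd_pow_self p (Module.finrank_pos (R := ZMod p) (M := V)).ne'
    obtain ⟨b, hb, hb0⟩ := hG.exists_fixed_point_of_prime_dvd_card_of_fixed_point V hd (a := 0) (fun g => map_zero (ρ g))
    obtain ⟨g, hg⟩ := exists_ne (1 : G)
    refine hg (hid g fun v => ?_)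
    by_cases hv : v = 0
    · rw [hv, map_zero]
    have h1 : stab ρ b = ⊤ := eq_top_iff.2 fun g _ => hb g
    have h2 : stab ρ v = ⊤ := Subgroup.eq_top_of_card_eq _ (by rw [hst v b hv (Ne.symm hb0), h1, Subgroup.card_top])
    exact (mem_stab ρ v g).1 (h2 ▸ Subgroup.mem_top g)
  by_cases hsemi : ∀ v : V, v ≠ 0 → ∀ g : G, ρ g v = v → g = 1
  · refine Or.inl ⟨?_, fun v hv g hg => hsemi v hv g hg⟩
    by_cases hnc : IsCyclic G
    · exact Or.inl hnc
    refine Or.inr ?_
    have huniq : OddLocal.UniqueOrderP p G := by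
      intro a b ha hb ha1
      -- two commuting subgroups of order `p` would give a fixed vector
      have hpne : (p : ZMod q) ≠ 0 := fun e => hpq
        ((Nat.prime_dvd_prime_iff_eq hqp hpp).1 ((CharP.cast_eq_zero_iff (ZMod q) q p).1 e)).symm
      have hsum : ∀ g : G, g ≠ 1 → g ^ p = 1 → ∀ v : V, ∑ k ∈ Finset.range p, ρ (g ^ k) v = 0 := fun g hg1 hgp v => by
        by_contra hne
        exact hg1 (hsemi _ hne g (S3380.sum_pow_fixed ρ p g hgp v))
      have hkey : ∀ z u : G, z ≠ 1 → z ^ p = 1 → u ^ p = 1 → Commute u z → u ∈ Subgroup.zpowers z := by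
        intro z u hz1 hzp hup hc
        by_contra hu
        refine hv₀ ((smul_eq_zero.1 (show (p : ZMod q) • v₀ = 0 from ?_)).resolve_left hpne)
        have h0 : ∀ i ∈ Finset.range p, ∑ k ∈ Finset.range p, ρ ((u * z ^ i) ^ k) v₀ = 0 := fun i _ =>
          hsum _ (fun e => hu (by rw [eq_inv_of_mul_eq_one_left e]; exact inv_mem (pow_mem (Subgroup.mem_zpowers z) i)))
            (by rw [(hc.pow_right i).mul_pow, hup, ← pow_mul, mul_comm, pow_mul, hzp, one_pow, one_mul]) v₀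
        have h1 := Finset.sum_eq_zero h0
        rw [Finset.sum_comm, Finset.sum_eq_single 0] at h1
        · simpa [Nat.cast_smul_eq_nsmul, rho_one] using h1
        · intro k hk hk0
          have hk' := Finset.mem_range.1 hk
          have e : ∀ i, ρ ((u * z ^ i) ^ k) v₀ = ρ (u ^ k) (ρ ((z ^ k) ^ i) v₀) := fun i => by
            rw [rho_comp, ← pow_mul, mul_comm k i, pow_mul, (hc.pow_right i).mul_pow]
          simp only [e]
          rw [← map_sum, hsum (z ^ k) (fun e => by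
            have := Nat.le_of_dvd (by omega) (orderOf_dvd_of_pow_eq_one e)
            rw [orderOf_eq_prime hzp hz1] at this
            omega) (by rw [← pow_mul, mul_comm, pow_mul, hzp, one_pow]), map_zero]
        · intro h; exact absurd (Finset.mem_range.2 hpp.pos) h
      obtain ⟨z, hz⟩ := exists_prime_orderOf_dvd_card' (G := Subgroup.center G) p (by
        obtain ⟨j, hj⟩ := IsPGroup.iff_card.1 (hG.to_subgroup (Subgroup.center G))
        haveI : Nontrivial (Subgroup.center G) := hG.center_nontrivial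
        have := Finite.one_lt_card (α := Subgroup.center G)
        rw [hj] at this ⊢
        exact dvd_pow_self p (fun h0 => by rw [h0, pow_zero] at this; omega))
      rw [← Subgroup.orderOf_coe] at hz
      have hz1 : (z : G) ≠ 1 := fun e => by rw [e, orderOf_one] at hz; exact hpp.one_lt.ne hz
      have hzp : (z : G) ^ p = 1 := hz ▸ pow_orderOf_eq_one _
      have haz := hkey z a hz1 hzp ha (Subgroup.mem_center_iff.1 z.2 a)
      have hbz := hkey z b hz1 hzp hb (Subgroup.mem_center_iff.1 z.2 b)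
      have e : Subgroup.zpowers a = Subgroup.zpowers (z : G) :=
        Subgroup.eq_of_le_of_card_ge (Subgroup.zpowers_le.2 haz)
          (by rw [Nat.card_zpowers, Nat.card_zpowers, hz, orderOf_eq_prime ha ha1])
      exact e ▸ hbz
    rcases OddLocal.isCyclic_or_quaternion hG huniq with h | ⟨-, n, h⟩
    · exact absurd h hnc
    · exact ⟨_, h⟩
  refine Or.inr ?_
  have hstab1 : ∀ v : V, v ≠ 0 → stab ρ v ≠ ⊥ := by
    push Not at hsemi
    obtain ⟨w, hw, g, hgw, hg1⟩ := hsemi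
    intro v hv
    rw [← Subgroup.one_lt_card_iff_ne_bot, hst v w hv hw, Subgroup.one_lt_card_iff_ne_bot]
    exact fun e => hg1 (by rw [← Subgroup.mem_bot, ← e]; exact hgw)
  have hGne : (Nat.card G : ZMod q) ≠ 0 := by
    intro e
    obtain ⟨a, ha⟩ := IsPGroup.iff_card.1 hG
    rw [CharP.cast_eq_zero_iff (ZMod q) q, ha] at e
    exact hpq ((Nat.prime_dvd_prime_iff_eq hqp hpp).1 (hqp.dvd_of_dvd_pow e)).symm
  -- irreducibility
  have hirr : ∀ W : Submodule (ZMod q) V, (∀ g : G, ∀ w ∈ W, ρ g w ∈ W) → W = ⊥ ∨ W = ⊤ := by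
    intro W hW
    by_contra hcon
    push Not at hcon
    obtain ⟨hW0, hW1⟩ := hcon
    let := Fintype.ofFinite G
    obtain ⟨π, hπ⟩ := LinearMap.exists_leftInverse_of_injective W.subtype W.ker_subtype
    let P : V →ₗ[ZMod q] V := ∑ g : G, ((ρ g : V →ₗ[ZMod q] V) ∘ₗ W.subtype ∘ₗ π ∘ₗ (ρ g⁻¹ : V →ₗ[ZMod q] V))
    have hPa : ∀ v, P v = ∑ g : G, ρ g ((π (ρ g⁻¹ v) : W) : V) := fun v => by simp [P, LinearMap.sum_apply]
    have hPW : ∀ w ∈ W, P w = (Nat.card G : ZMod q) • w := by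
      intro w hw
      rw [hPa, Finset.sum_congr rfl (g := fun _ => w) ?_, Finset.sum_const, Finset.card_univ, Nat.card_eq_fintype_card,
        Nat.cast_smul_eq_nsmul]
      intro g _
      rw [show π (ρ g⁻¹ w) = (⟨_, hW g⁻¹ w hw⟩ : W) from LinearMap.congr_fun hπ ⟨_, hW g⁻¹ w hw⟩]
      show ρ g (ρ g⁻¹ w) = w
      rw [rho_comp, mul_inv_cancel, rho_one]
    have hPmem : ∀ v, P v ∈ W := fun v => by
      rw [hPa]; exact Submodule.sum_mem _ fun g _ => hW g _ (π (ρ g⁻¹ v)).2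
    have hPc : ∀ (h : G) v, P (ρ h v) = ρ h (P v) := by
      intro h v
      rw [hPa, hPa, map_sum]
      refine Fintype.sum_equiv (Equiv.mulLeft h⁻¹) _ _ fun g => ?_
      rw [Equiv.coe_mulLeft, rho_comp ρ h, mul_inv_cancel_left, rho_comp ρ g⁻¹ h, mul_inv_rev, inv_inv]
    obtain ⟨w, hw, hw0⟩ := (Submodule.ne_bot_iff W).1 hW0
    obtain ⟨u, hu, hu0⟩ : ∃ u, P u = 0 ∧ u ≠ 0 := by
      obtain ⟨v, -, hv⟩ := SetLike.exists_of_lt (lt_top_iff_ne_top.2 hW1)
      refine ⟨(Nat.card G : ZMod q) • v - P v, ?_, fun e => hv ?_⟩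
      · rw [map_sub, map_smul, hPW _ (hPmem v), sub_self]
      · have h' : (Nat.card G : ZMod q) • v ∈ W := by rw [sub_eq_zero.1 e]; exact hPmem v
        have := W.smul_mem (Nat.card G : ZMod q)⁻¹ h'
        rwa [smul_smul, inv_mul_cancel₀ hGne, one_smul] at this
    have hpair : ∀ a ∈ W, a ≠ 0 → ∀ b, P b = 0 → b ≠ 0 → stab ρ a = stab ρ b := by
      intro a ha ha0 b hb hb0
      have hab : a + b ≠ 0 := fun e => ha0 (by
        have := congrArg P e
        rw [map_add, hPW a ha, hb, add_zero, map_zero, smul_eq_zero] at this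
        exact this.resolve_left hGne)
      have hle : stab ρ (a + b) ≤ stab ρ a ⊓ stab ρ b := by
        intro g hg
        have hg' : ρ g (a + b) = a + b := hg
        have h1 := congrArg P hg'
        rw [hPc, map_add, hb, add_zero, hPW a ha, map_smul] at h1
        have h2 : ρ g a = a := smul_right_injective V hGne h1
        rw [map_add, h2] at hg'
        exact ⟨h2, add_left_cancel hg'⟩
      have e1 := Subgroup.eq_of_le_of_card_ge (hle.trans inf_le_left) (hst a _ ha0 hab).le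
      have e2 := Subgroup.eq_of_le_of_card_ge (hle.trans inf_le_right) (hst b _ hb0 hab).le
      rw [← e1, e2]
    obtain ⟨g, hg⟩ := (Subgroup.ne_bot_iff_exists_ne_one.1 (hstab1 w hw0))
    refine hg (Subtype.ext (hid g fun v => ?_))
    have hgu : ρ (g : G) u = u := by
      show (g : G) ∈ stab ρ u
      rw [← hpair w hw hw0 u hu hu0]; exact g.2
    have hA : ∀ a ∈ W, ρ (g : G) a = a := fun a ha => by
      by_cases ha0 : a = 0
      · rw [ha0, map_zero]
      show (g : G) ∈ stab ρ a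
      rw [hpair a ha ha0 u hu hu0]; exact hgu
    have hB : ∀ b, P b = 0 → ρ (g : G) b = b := fun b hb => by
      by_cases hb0 : b = 0
      · rw [hb0, map_zero]
      show (g : G) ∈ stab ρ b
      rw [← hpair w hw hw0 b hb hb0]; exact g.2
    have hv2 : ρ (g : G) ((Nat.card G : ZMod q) • v) = (Nat.card G : ZMod q) • v := by
      rw [show (Nat.card G : ZMod q) • v = P v + ((Nat.card G : ZMod q) • v - P v) by abel, map_add, hA _ (hPmem v),
        hB _ (by rw [map_sub, map_smul, hPW _ (hPmem v), sub_self])]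
    rw [map_smul] at hv2
    exact smul_right_injective V hGne hv2
  have hcen : ∀ c ∈ Subgroup.center G, c ≠ 1 → ∀ v : V, ρ c v = v → v = 0 := by
    intro c hc hc1 v hv
    let W : Submodule (ZMod q) V :=
      { carrier := {v | ρ c v = v}
        add_mem' := fun {a b} ha hb => by show ρ c (a + b) = a + b; rw [map_add, ha, hb]
        zero_mem' := map_zero _
        smul_mem' := fun r v hv => by show ρ c (r • v) = r • v; rw [map_smul, hv] }
    rcases hirr W (fun g w hw => by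
      show ρ c (ρ g w) = ρ g w
      rw [rho_comp, ← Subgroup.mem_center_iff.1 hc g, ← rho_comp]
      exact congrArg _ hw) with h | h
    · have : v ∈ W := hv
      rwa [h, Submodule.mem_bot] at this
    · exact absurd (hid c fun w => (h ▸ Submodule.mem_top : w ∈ W)) hc1
  have hnc : ¬ IsCyclic G := fun hc => by
    obtain ⟨g, hg⟩ := (Subgroup.ne_bot_iff_exists_ne_one.1 (hstab1 v₀ hv₀))
    letI := hc.commGroup
    exact hv₀ (hcen g (Subgroup.mem_center_iff.2 fun a => mul_comm a _) (fun e => hg (Subtype.ext e)) v₀ g.2)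
  have hnq : ∀ n : ℕ, ¬ Nonempty (G ≃* QuaternionGroup n) := by
    rintro n ⟨e⟩
    haveI : NeZero n := ⟨fun h0 => by
      subst h0
      haveI : Finite (QuaternionGroup 0) := Finite.of_equiv _ e.toEquiv
      haveI : Finite (ZMod (2 * 0)) := Finite.of_injective (QuaternionGroup.a (n := 0)) fun a b h => QuaternionGroup.a.inj h
      haveI : Infinite (ZMod (2 * 0)) := inferInstanceAs (Infinite ℤ)
      exact not_finite (ZMod (2 * 0))⟩
    have h4 : p = 2 := by
      obtain ⟨a, ha⟩ := IsPGroup.iff_card.1 hG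
      have := Nat.card_congr e.toEquiv
      rw [ha, Nat.card_eq_fintype_card, QuaternionGroup.card] at this
      exact ((Nat.prime_dvd_prime_iff_eq Nat.prime_two hpp).1 (Nat.prime_two.dvd_of_dvd_pow (this ▸ ⟨2 * n, by ring⟩ : 2 ∣ p ^ a))).symm
    subst h4
    obtain ⟨g, hg⟩ := (Subgroup.ne_bot_iff_exists_ne_one.1 (hstab1 v₀ hv₀))
    obtain ⟨a, ha⟩ := IsPGroup.iff_orderOf.1 hG (g : G)
    have ha0 : a ≠ 0 := fun h0 => hg (Subtype.ext (orderOf_eq_one_iff.1 (by rw [ha, h0, pow_zero])))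
    have hu2 : orderOf ((g : G) ^ (orderOf (g : G) / 2)) = 2 :=
      orderOf_pow_orderOf_div (orderOf_pos _).ne' (by rw [ha]; exact dvd_pow_self 2 ha0)
    set u := (g : G) ^ (orderOf (g : G) / 2)
    have hu1 : u ≠ 1 := fun h => by rw [h, orderOf_one] at hu2; omega
    refine hv₀ (hcen u ?_ hu1 v₀ (pow_mem g.2 _))
    have hval : e u = QuaternionGroup.a (n : ZMod (2 * n)) := by
      have h2 : orderOf (e u) = 2 := by rw [MulEquiv.orderOf_eq, hu2]
      rcases he : e u with i | i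
      · rw [he] at h2
        congr 1
        rw [QuaternionGroup.orderOf_a] at h2
        have hi := i.val_lt
        have hd := Nat.gcd_dvd_right (2 * n) i.val
        have hg' : Nat.gcd (2 * n) i.val = n := by
          have hd2 := Nat.gcd_dvd_left (2 * n) i.val
          have := Nat.div_mul_cancel hd2
          rw [h2] at this; omega
        rw [hg'] at hd
        obtain ⟨t, ht⟩ := hd
        have ht2 : t < 2 := by by_contra h; have := Nat.mul_le_mul_left n (show 2 ≤ t by omega); omega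
        rw [← ZMod.natCast_rightInverse i, ht]
        interval_cases t
        · exfalso
          have : i.val = 0 := by omega
          rw [this, Nat.gcd_zero_right] at hg'
          have := NeZero.ne n
          omega
        · rw [mul_one]
      · rw [he, QuaternionGroup.orderOf_xa] at h2; omega
    refine Subgroup.mem_center_iff.2 fun b => e.injective ?_
    rw [map_mul, map_mul, hval]
    rcases e b with i | i
    · rw [QuaternionGroup.a_mul_a, QuaternionGroup.a_mul_a, add_comm]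
    · rw [QuaternionGroup.xa_mul_a, QuaternionGroup.a_mul_xa]
      congr 1
      have : ((n : ZMod (2 * n))) + (n : ZMod (2 * n)) = 0 := by
        rw [← Nat.cast_add, ← two_mul, ZMod.natCast_self]
      rw [sub_eq_add_neg]; congr 1
      exact eq_neg_of_add_eq_zero_left this
  -- dihedral
  by_cases hD : ∃ n : ℕ, Nonempty (G ≃* DihedralGroup n)
  · left
    obtain ⟨n, ⟨e⟩⟩ := hD
    have hn0 : 0 < n := by
      by_contra h0
      obtain rfl : n = 0 := by omega
      haveI : Finite (DihedralGroup 0) := Finite.of_equiv _ e.toEquiv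
      haveI : Finite (ZMod 0) := Finite.of_injective (DihedralGroup.r (n := 0)) fun a b h => DihedralGroup.r.inj h
      exact not_finite (ZMod 0)
    have h := isTwoExt_dihedral hn0 e
    obtain ⟨a, ha⟩ := IsPGroup.iff_card.1 hG
    rw [h.card] at ha
    obtain rfl : p = 2 := ((Nat.prime_dvd_prime_iff_eq Nat.prime_two hpp).1 (Nat.prime_two.dvd_of_dvd_pow (ha ▸ dvd_mul_right 2 n))).symm
    obtain ⟨k, -, hk⟩ := (Nat.dvd_prime_pow Nat.prime_two).1 (ha ▸ dvd_mul_left n 2 : n ∣ 2 ^ a)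
    have hq2 : q ≠ 2 := Ne.symm hpq
    set x := e.symm (DihedralGroup.r 1)
    set y := e.symm (DihedralGroup.sr 0)
    rcases (show k = 0 ∨ k = 1 ∨ 2 ≤ k by omega) with rfl | rfl | hk2
    · exfalso
      rw [pow_zero] at hk
      exact hnc (isCyclic_of_prime_card (p := 2) (by rw [h.card, hk, mul_one]))
    · exfalso
      rw [pow_one] at hk
      have hx1 : x ≠ 1 := fun e1 => by
        have := h.ord; rw [e1, orderOf_one] at this; omega
      have hxx : x * x = 1 := by rw [← sq, ← hk, ← h.ord, pow_orderOf_eq_one]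
      have hyx : y * x = x * y := by
        have h1 := h.conj
        rw [zpow_neg_one, inv_eq_of_mul_eq_one_right hxx] at h1
        exact mul_inv_eq_iff_eq_mul.1 h1
      have hall : ∀ g : G, g ∈ Subgroup.center G := by
        intro g
        refine Subgroup.mem_center_iff.2 fun b => ?_
        obtain ⟨i, rfl | rfl⟩ := h.exists_eq g <;> obtain ⟨j, rfl | rfl⟩ := h.exists_eq b
        all_goals
          have hc : Commute x y := hyx.symm
          first
            | exact (Commute.zpow_zpow_self x j i).eq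
            | exact ((Commute.zpow_zpow_self x j i).mul_right (hc.zpow_left j)).eq
            | exact ((Commute.zpow_zpow_self x j i).mul_left (hc.symm.zpow_right i)).eq
            | exact (((Commute.zpow_zpow_self x j i).mul_right (hc.zpow_left j)).mul_left
                ((hc.symm.zpow_right i).mul_right (Commute.refl y))).eq
      have hneg : ∀ g : G, g ≠ 1 → g * g = 1 → ∀ v, ρ g v = -v := fun g hg1 hgg v => by
        refine eq_neg_of_add_eq_zero_left (hcen g (hall g) hg1 _ ?_)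
        rw [map_add, rho_comp, hgg, rho_one, add_comm]
      have e1 : x = y := hρ (LinearEquiv.ext fun v => by
        rw [hneg x hx1 hxx, hneg y (fun e1 => h.notMem (e1 ▸ one_mem _)) h.ysq])
      exact h.notMem (e1 ▸ Subgroup.mem_zpowers x)
    have hn : (n : ℤ) = 4 * 2 ^ (k - 2) := by
      rw [hk]; push_cast; rw [show (4 : ℤ) = 2 ^ 2 by norm_num, ← pow_add]; congr 1; omega
    obtain ⟨-, hV, hs⟩ := ext_case hq2 ρ hρ hcen hst h (M := 2 ^ (k - 1))
      (by rw [hk, ← pow_succ']; congr 1; omega) hk (by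
        rw [hk]; push_cast
        exact ⟨-1, by rw [show k = k - 1 + 1 by omega, pow_succ, Nat.add_sub_cancel]; ring⟩)
      (2 ^ (k - 2)) (by
        rw [show ((2 ^ (k - 1) : ℕ) : ℤ) = 2 * 2 ^ (k - 2) by push_cast; rw [← pow_succ']; congr 1; omega]
        exact ⟨0, by ring⟩)
      (s := k) (by
        rw [Nat.card_congr (Equiv.subtypeUnivEquiv fun i => ⟨0, by ring⟩), Nat.card_fin, hk])
    exact ⟨hV, k, by omega, Or.inl ⟨hk ▸ e⟩⟩
  push Not at hD
  by_cases hSD : Cfsg.IsQuasiDihedral G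
  · left
    obtain ⟨n, x, y, hn3, hcard, h⟩ := isTwoExt_quasiDihedral hSD
    obtain rfl : p = 2 := by
      obtain ⟨a, ha⟩ := IsPGroup.iff_card.1 hG
      rw [hcard] at ha
      exact ((Nat.prime_dvd_prime_iff_eq Nat.prime_two hpp).1 (Nat.prime_two.dvd_of_dvd_pow (ha ▸ dvd_pow_self 2 (by omega)))).symm
    have hq2 : q ≠ 2 := Ne.symm hpq
    obtain ⟨r, rfl⟩ : ∃ r, n = r + 3 := ⟨n - 3, by omega⟩
    obtain ⟨-, hV, hs⟩ := ext_case hq2 ρ hρ hcen hst h (M := 2 ^ (r + 2)) (by rw [← pow_succ'])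
      rfl (by
        push_cast
        exact ⟨2 ^ (r + 1) - 1, by ring⟩)
      (2 ^ (r + 1)) (by
        push_cast
        exact ⟨-(2 ^ r), by ring⟩)
      (s := r + 2) (by
        have key : ∀ i : ℕ, (((2 : ℕ) ^ (r + 3) : ℕ) : ℤ) ∣ (1 + ((2 : ℤ) ^ (r + 3 - 1) - 1)) * (i : ℤ) ↔ 2 ∣ i := by
          intro i
          rw [show r + 3 - 1 = r + 2 by omega, add_sub_cancel]
          push_cast
          rw [pow_succ (2 : ℤ) (r + 2), mul_dvd_mul_iff_left (by positivity)]
          exact_mod_cast Iff.rfl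
        rw [Nat.card_congr (Equiv.subtypeEquivRight fun i : Fin (2 ^ (r + 3)) => key i),
          Nat.card_congr ((finCongr (show 2 ^ (r + 3) = 2 * 2 ^ (r + 2) by ring)).subtypeEquiv
            (q := fun j : Fin (2 * 2 ^ (r + 2)) => 2 ∣ (j : ℕ)) fun i => by simp)]
        exact card_even_fin _)
    exact ⟨hV, r + 2, by omega, Or.inr ⟨hSD, by rw [hcard]⟩⟩
  right
  obtain ⟨H, W, hidx, htop, hind, hinv, hker, hperm⟩ :=
    S3380.result q p hG ρ hρ hirr hnc hnq (fun n ⟨e⟩ => (hD n).false e) hSD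
  have hW0 : ∀ i, W i ≠ ⊥ := by
    intro i hi
    obtain ⟨g, hg⟩ : ∃ g, g ∉ H := by
      by_contra hc
      push Not at hc
      rw [(Subgroup.eq_top_iff' H).2 hc, Subgroup.index_top] at hidx
      exact hpp.one_lt.ne hidx
    obtain ⟨σ, hσ, hσW⟩ := hperm g hg
    have hall : ∀ n : ℕ, W ((σ ^ n) i) = ⊥ := by
      intro n
      induction n with
      | zero => simpa using hi
      | succ n ih => rw [pow_succ', Equiv.Perm.mul_apply, ← hσW, ih, Submodule.map_bot]
    have hcyc : Equiv.Perm.IsCycle σ :=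
      Equiv.Perm.isCycle_of_prime_order' (hσ.symm ▸ hpp) (by rw [Fintype.card_fin, hσ]; have := hpp.pos; omega)
    have hsupp : σ.support = Finset.univ := Finset.eq_univ_of_card _ (by rw [← hcyc.orderOf, hσ, Fintype.card_fin])
    refine hv₀ ?_
    have : v₀ ∈ iSup W := htop ▸ Submodule.mem_top
    rw [show iSup W = ⊥ from iSup_eq_bot.2 fun j => by
      obtain ⟨n, rfl⟩ := hcyc.exists_pow_eq (Equiv.Perm.mem_support.1 (hsupp ▸ Finset.mem_univ i))
        (Equiv.Perm.mem_support.1 (hsupp ▸ Finset.mem_univ j))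
      exact hall n, Submodule.mem_bot] at this
    exact this
  have hmove : ∀ σ : Equiv.Perm (Fin p), orderOf σ = p → ∀ i, σ i ≠ i := by
    intro σ hσ i
    have hcyc : Equiv.Perm.IsCycle σ :=
      Equiv.Perm.isCycle_of_prime_order' (hσ.symm ▸ hpp) (by rw [Fintype.card_fin, hσ]; have := hpp.pos; omega)
    have hsupp : σ.support = Finset.univ := Finset.eq_univ_of_card _ (by rw [← hcyc.orderOf, hσ, Fintype.card_fin])
    exact Equiv.Perm.mem_support.1 (hsupp ▸ Finset.mem_univ i)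
  have hsep : ∀ (i : Fin p) (a : V), a ∈ W i → a ∈ (⨆ (j) (_ : j ≠ i), W j) → a = 0 := fun i a h1 h2 => by
    rw [← Submodule.mem_bot (R := ZMod q), ← disjoint_iff.1 (hind i)]; exact ⟨h1, h2⟩
  have hcomp : ∀ i j, i ≠ j → ∀ a ∈ W i, ∀ b ∈ W j, a ≠ 0 → b ≠ 0 → ∀ g : G, ρ g (a + b) = a + b →
      (g ∈ H ∧ ρ g a = a ∧ ρ g b = b) ∨ (g ∉ H ∧ ρ g a = b ∧ ρ g b = a ∧ p = 2) := by
    intro i j hij a ha b hb ha0 hb0 g hg
    rw [map_add] at hg
    by_cases hgH : g ∈ H
    · left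
      have ha' := hinv g hgH i a ha
      have hb' := hinv g hgH j b hb
      have e : ρ g a - a = 0 := hsep i _ (sub_mem ha' ha) (by
        rw [show ρ g a - a = b - ρ g b by rw [eq_sub_iff_add_eq, sub_add_eq_add_sub, hg, add_sub_cancel_left]]
        exact Submodule.mem_iSup_of_mem j (Submodule.mem_iSup_of_mem hij.symm (sub_mem hb hb')))
      rw [sub_eq_zero] at e
      rw [e] at hg
      exact ⟨hgH, e, add_left_cancel hg⟩
    · right
      obtain ⟨σ, hσ, hσW⟩ := hperm g hgH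
      have hga : ρ g a ∈ W (σ i) := hσW i ▸ Submodule.mem_map_of_mem (f := (ρ g : V →ₗ[ZMod q] V)) ha
      have hgb : ρ g b ∈ W (σ j) := hσW j ▸ Submodule.mem_map_of_mem (f := (ρ g : V →ₗ[ZMod q] V)) hb
      have hsi : σ i = j := by
        by_contra hne
        have e : ρ g a = 0 := by
          refine hsep (σ i) _ hga ?_
          rw [show ρ g a = a + b - ρ g b from eq_sub_of_add_eq hg]
          exact sub_mem (add_mem (Submodule.mem_iSup_of_mem i (Submodule.mem_iSup_of_mem (hmove σ hσ i).symm ha))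
            (Submodule.mem_iSup_of_mem j (Submodule.mem_iSup_of_mem (Ne.symm hne) hb)))
            (Submodule.mem_iSup_of_mem (σ j) (Submodule.mem_iSup_of_mem (fun e => hij (σ.injective e).symm) hgb))
        exact ha0 ((ρ g).injective (e.trans (map_zero _).symm))
      have hsj : σ j = i := by
        by_contra hne
        have e : ρ g b = 0 := by
          refine hsep (σ j) _ hgb ?_
          rw [show ρ g b = a + b - ρ g a from eq_sub_of_add_eq' hg]
          exact sub_mem (add_mem (Submodule.mem_iSup_of_mem i (Submodule.mem_iSup_of_mem (Ne.symm hne) ha))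
            (Submodule.mem_iSup_of_mem j (Submodule.mem_iSup_of_mem (hmove σ hσ j).symm hb)))
            (Submodule.mem_iSup_of_mem (σ i) (Submodule.mem_iSup_of_mem (fun e => hij (σ.injective e)) hga))
        exact hb0 ((ρ g).injective (e.trans (map_zero _).symm))
      rw [hsi] at hga
      rw [hsj] at hgb
      have e : ρ g a - b = 0 := hsep j _ (sub_mem hga hb) (by
        rw [show ρ g a - b = a - ρ g b by rw [eq_sub_iff_add_eq, sub_add_eq_add_sub, hg, add_sub_cancel_right]]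
        exact Submodule.mem_iSup_of_mem i (Submodule.mem_iSup_of_mem hij (sub_mem ha hgb)))
      rw [sub_eq_zero] at e
      rw [e, add_comm a] at hg
      refine ⟨hgH, e, add_left_cancel hg, ?_⟩
      by_contra hp2
      have ho2 : orderOf (σ ^ 2) = p := by
        rw [Nat.Coprime.orderOf_pow, hσ]
        rw [hσ]; exact (Nat.coprime_primes hpp Nat.prime_two).2 hp2
      exact hmove _ ho2 i (by rw [sq, Equiv.Perm.mul_apply, hsi, hsj])
  have hab0 : ∀ i j, i ≠ j → ∀ a ∈ W i, ∀ b ∈ W j, a ≠ 0 → a + b ≠ 0 := fun i j hij a ha b hb ha0 e =>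
    ha0 (hsep i a ha (by
      rw [eq_neg_of_add_eq_zero_left e]
      exact Submodule.mem_iSup_of_mem j (Submodule.mem_iSup_of_mem hij.symm (neg_mem hb))))
  obtain rfl : p = 2 := by
    by_contra hp2
    have hsame : ∀ i j, i ≠ j → ∀ a ∈ W i, ∀ b ∈ W j, a ≠ 0 → b ≠ 0 → stab ρ a = stab ρ b := by
      intro i j hij a ha b hb ha0 hb0
      have hle : stab ρ (a + b) ≤ stab ρ a ⊓ stab ρ b := fun g hg => by
        rcases hcomp i j hij a ha b hb ha0 hb0 g hg with ⟨-, h1, h2⟩ | ⟨-, -, -, h⟩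
        exacts [⟨h1, h2⟩, absurd h hp2]
      have hab := hab0 i j hij a ha b hb ha0
      rw [← Subgroup.eq_of_le_of_card_ge (hle.trans inf_le_left) (hst a _ ha0 hab).le,
        Subgroup.eq_of_le_of_card_ge (hle.trans inf_le_right) (hst b _ hb0 hab).le]
    let i0 : Fin p := ⟨0, hpp.pos⟩
    obtain ⟨a, ha, ha0⟩ := (Submodule.ne_bot_iff _).1 (hW0 i0)
    obtain ⟨g, hg⟩ := (Subgroup.ne_bot_iff_exists_ne_one.1 (hstab1 a ha0))
    refine hg (Subtype.ext (hid g fun v => ?_))
    have hgW : ∀ j, ∀ b ∈ W j, ρ (g : G) b = b := by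
      intro j b hb
      by_cases hb0 : b = 0
      · rw [hb0, map_zero]
      by_cases hj : j = i0
      · let i1 : Fin p := ⟨1, hpp.one_lt⟩
        obtain ⟨c, hc, hc0⟩ := (Submodule.ne_bot_iff _).1 (hW0 i1)
        have h01 : i0 ≠ i1 := fun e => by simp [i0, i1, Fin.ext_iff] at e
        have e1 := hsame i0 i1 h01 a ha c hc ha0 hc0
        have e2 := hsame j i1 (hj.symm ▸ h01) b hb c hc hb0 hc0
        show (g : G) ∈ stab ρ b
        rw [e2, ← e1]; exact g.2
      · show (g : G) ∈ stab ρ b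
        rw [hsame j i0 hj b hb a ha hb0 ha0]; exact g.2
    have : v ∈ iSup W := htop ▸ Submodule.mem_top
    induction this using Submodule.iSup_induction' with
    | mem i x hx => exact hgW i x hx
    | zero => exact map_zero _
    | add x y _ _ hx hy => rw [map_add, hx, hy]
  have hq2 : q ≠ 2 := Ne.symm hpq
  have h01 : (0 : Fin 2) ≠ 1 := by decide
  have hcompl : IsCompl (W 0) (W 1) := by
    refine ⟨?_, ?_⟩
    · rw [disjoint_iff, eq_bot_iff]
      intro v hv
      exact (Submodule.mem_bot _).2 (hsep 0 v hv.1 (Submodule.mem_iSup_of_mem 1 (Submodule.mem_iSup_of_mem h01.symm hv.2)))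
    · rw [codisjoint_iff, eq_top_iff, ← htop]
      refine iSup_le fun i => ?_
      fin_cases i
      exacts [le_sup_left, le_sup_right]
  haveI hHn : H.Normal := Subgroup.normal_of_index_eq_two hidx
  -- a kernel element without fixed points on `W 1`
  obtain ⟨k, hkH, hk0, hk1⟩ : ∃ k ∈ H, (∀ w ∈ W 0, ρ k w = w) ∧ ∀ w ∈ W 1, ρ k w = w → w = 0 := by
    obtain ⟨h, hhH, hh1, hhfix⟩ := hker 0
    let K : Subgroup H :=
      { carrier := {x | ∀ w ∈ W 0, ρ (x : G) w = w}
        one_mem' := fun w _ => rho_one ρ w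
        mul_mem' := fun {a b} ha hb w hw => by
          show ρ ((a : G) * b) w = w
          rw [← rho_comp, hb w hw, ha w hw]
        inv_mem' := fun {a} ha w hw => by
          show ρ (a : G)⁻¹ w = w
          conv_lhs => rw [← ha w hw]
          rw [rho_comp, inv_mul_cancel, rho_one] }
    have hKn : K.Normal := ⟨fun x hx a w hw => by
      show ρ ((a : G) * x * (a : G)⁻¹) w = w
      rw [← rho_comp, ← rho_comp, hx _ (hinv _ (inv_mem a.2) 0 w hw), rho_comp, mul_inv_cancel, rho_one]⟩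
    haveI := hKn
    haveI : Group.IsNilpotent H := (hG.to_subgroup H).isNilpotent
    obtain ⟨k, hkK, hk1, hkc⟩ := OddLocal.exists_ne_one_mem_center_of_normal K (fun e => hh1 (by
      have : (⟨h, hhH⟩ : H) ∈ K := hhfix
      rw [e, Subgroup.mem_bot] at this
      exact congrArg Subtype.val this))
    refine ⟨k, k.2, hkK, fun w hw hkw => ?_⟩
    let U : Submodule (ZMod q) V :=
      { carrier := {v | v ∈ W 1 ∧ ρ (k : G) v = v}
        add_mem' := fun {a b} ha hb => ⟨add_mem ha.1 hb.1, by rw [map_add, ha.2, hb.2]⟩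
        zero_mem' := ⟨zero_mem _, map_zero _⟩
        smul_mem' := fun r v hv => ⟨Submodule.smul_mem _ r hv.1, by rw [map_smul, hv.2]⟩ }
    have hUH : ∀ a ∈ H, ∀ v ∈ U, ρ a v ∈ U := fun a ha v hv => ⟨hinv a ha 1 v hv.1, by
      rw [rho_comp, ← show a * (k : G) = k * a from congrArg Subtype.val (Subgroup.mem_center_iff.1 hkc ⟨a, ha⟩),
        ← rho_comp, hv.2]⟩
    obtain ⟨g, hg⟩ : ∃ g, g ∉ H := by
      by_contra hc
      push Not at hc
      rw [(Subgroup.eq_top_iff' H).2 hc, Subgroup.index_top] at hidx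
      omega
    obtain ⟨σ, hσ, hσW⟩ := hperm g hg
    have hσ1 : σ 1 = 0 := by
      have := hmove σ hσ 1
      revert this; generalize σ 1 = r; revert r; decide
    rcases hirr (U ⊔ U.map (ρ g : V →ₗ[ZMod q] V)) (fun b x hx => by
      obtain ⟨u, hu, y, ⟨u', hu', rfl⟩, rfl⟩ := Submodule.mem_sup.1 hx
      rw [map_add]
      by_cases hb : b ∈ H
      · refine Submodule.add_mem_sup (hUH b hb u hu) ⟨ρ (g⁻¹ * b * g) u', hUH _ ?_ u' hu', ?_⟩
        · have := hHn.conj_mem b hb g⁻¹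
          rwa [inv_inv] at this
        · show ρ g (ρ (g⁻¹ * b * g) u') = ρ b (ρ g u')
          rw [rho_comp, rho_comp, ← mul_assoc, ← mul_assoc, mul_inv_cancel, one_mul]
      · rw [add_comm]
        refine Submodule.add_mem_sup ?_ ⟨ρ (g⁻¹ * b) u, hUH _ ?_ u hu, ?_⟩
        · show ρ b (ρ g u') ∈ U
          rw [rho_comp]
          exact hUH _ ((Subgroup.mul_mem_iff_of_index_two hidx).2 (iff_of_false hb hg)) u' hu'
        · exact (Subgroup.mul_mem_iff_of_index_two hidx).2 (iff_of_false (fun e => hg (inv_inv g ▸ inv_mem e)) hb)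
        · show ρ g (ρ (g⁻¹ * b) u) = ρ b u
          rw [rho_comp, mul_inv_cancel_left]) with e | e
    · have : w ∈ U ⊔ U.map (ρ g : V →ₗ[ZMod q] V) := Submodule.mem_sup_left ⟨hw, hkw⟩
      rwa [e, Submodule.mem_bot] at this
    · exfalso
      refine hk1 (Subtype.ext (hid k fun v => ?_))
      obtain ⟨a, ha, b, hb, rfl⟩ := Submodule.mem_sup.1 (show v ∈ W 0 ⊔ W 1 by rw [hcompl.sup_eq_top]; exact Submodule.mem_top)
      rw [map_add, hkK a ha]
      congr 1
      obtain ⟨u, hu, y, ⟨u', hu', rfl⟩, hsum⟩ := Submodule.mem_sup.1 (show b ∈ U ⊔ U.map (ρ g : V →ₗ[ZMod q] V) by rw [e]; exact Submodule.mem_top)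
      have hy : ρ g u' ∈ W 0 := hσ1 ▸ hσW 1 ▸ Submodule.mem_map_of_mem (f := (ρ g : V →ₗ[ZMod q] V)) hu'.1
      have hbu : b - u = 0 := (Submodule.mem_bot (ZMod q)).1 (hcompl.inf_eq_bot ▸ (⟨by
        rw [← hsum, add_sub_cancel_left]; exact hy, sub_mem hb hu.1⟩ : b - u ∈ W 0 ⊓ W 1))
      rw [sub_eq_zero] at hbu
      rw [hbu]; exact hu.2
  have hswap : ∀ a ∈ W 0, ∀ b ∈ W 1, a ≠ 0 → b ≠ 0 → ∃ g, g ∉ H ∧ ρ g a = b ∧ ρ g b = a := by
    intro a ha b hb ha0 hb0
    by_contra hc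
    push Not at hc
    have hle : stab ρ (a + b) ≤ stab ρ a ⊓ stab ρ b := fun g hg => by
      rcases hcomp 0 1 h01 a ha b hb ha0 hb0 g hg with ⟨-, h1, h2⟩ | ⟨h1, h2, h3, -⟩
      exacts [⟨h1, h2⟩, absurd h3 (hc g h1 h2)]
    have e := Subgroup.eq_of_le_of_card_ge (hle.trans inf_le_left) (hst a _ ha0 (hab0 0 1 h01 a ha b hb ha0)).le
    have : k ∈ stab ρ b := (hle (e.symm ▸ (hk0 a ha : k ∈ stab ρ a))).2
    exact hb0 (hk1 b hb this)
  obtain ⟨b₁, hb₁, hb₁0⟩ := (Submodule.ne_bot_iff _).1 (hW0 1)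
  obtain ⟨a₀, ha₀, ha₀0⟩ := (Submodule.ne_bot_iff _).1 (hW0 0)
  -- `H` is transitive on the nonzero vectors of `W 0`
  let θ : H →* (W 0 ≃ₗ[ZMod q] W 0) :=
    { toFun := fun h =>
        { toFun := fun w => ⟨ρ (h : G) w, hinv _ h.2 0 w w.2⟩
          map_add' := fun u v => Subtype.ext (map_add (ρ (h : G)) (u : V) v)
          map_smul' := fun r u => Subtype.ext (map_smul (ρ (h : G)) r (u : V))
          invFun := fun w => ⟨ρ ((h : G)⁻¹) w, hinv _ (inv_mem h.2) 0 w w.2⟩
          left_inv := fun w => Subtype.ext (by simp [rho_comp])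
          right_inv := fun w => Subtype.ext (by simp [rho_comp]) }
      map_one' := LinearEquiv.ext fun w => Subtype.ext (rho_one ρ (w : V))
      map_mul' := fun a b => LinearEquiv.ext fun w => Subtype.ext (rho_comp ρ (a : G) b (w : V)).symm }
  have htrans : ∀ v w : W 0, v ≠ 0 → w ≠ 0 → ∃ g : θ.range, θ.range.subtype g v = w := by
    intro v w hv hw
    have hv' : (v : V) ≠ 0 := fun e => hv (Subtype.ext e)
    have hw' : (w : V) ≠ 0 := fun e => hw (Subtype.ext e)
    obtain ⟨g, hg, hg1, -⟩ := hswap _ v.2 b₁ hb₁ hv' hb₁0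
    obtain ⟨g', hg', -, hg'2⟩ := hswap _ w.2 b₁ hb₁ hw' hb₁0
    refine ⟨⟨θ ⟨g' * g, (Subgroup.mul_mem_iff_of_index_two hidx).2 (iff_of_false hg' hg)⟩, _, rfl⟩, ?_⟩
    apply Subtype.ext
    show ρ (g' * g) v = w
    rw [← rho_comp, hg1, hg'2]
  haveI : Nontrivial (W 0) := ⟨⟨⟨a₀, ha₀⟩, 0, fun e => ha₀0 (congrArg Subtype.val e)⟩⟩
  have hneg0 : -a₀ ≠ a₀ := fun e => two_smul_ne hq2 ha₀0 (by
    nth_rw 1 [← e]
    exact neg_add_cancel a₀)
  haveI : Nontrivial θ.range := by
    obtain ⟨g, hg⟩ := htrans ⟨a₀, ha₀⟩ (-⟨a₀, ha₀⟩) (fun e => ha₀0 (congrArg Subtype.val e))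
      (fun e => ha₀0 (congrArg Subtype.val (neg_eq_zero.1 e)))
    refine ⟨⟨g, 1, fun e => hneg0 ?_⟩⟩
    rw [e] at hg
    exact (congrArg Subtype.val hg).symm
  have hVW : Nat.card V = Nat.card (W 0) * Nat.card (W 1) := by
    rw [← Nat.card_prod]; exact (Nat.card_congr (Submodule.prodEquivOfIsCompl _ _ hcompl).toEquiv).symm
  have hW01 : Nat.card (W 1) = Nat.card (W 0) := by
    obtain ⟨g, hg, hga, -⟩ := hswap a₀ ha₀ b₁ hb₁ ha₀0 hb₁0
    obtain ⟨σ, hσ, hσW⟩ := hperm g hg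
    have hσ0 : σ 0 = 1 := by
      have := hmove σ hσ 0
      revert this; generalize σ 0 = r; revert r; decide
    rw [← hσ0, ← hσW 0]
    exact (Nat.card_congr (Submodule.equivMapOfInjective _ (ρ g).injective _).toEquiv).symm
  rcases S3370.result q (V := W 0) 2 ((hG.to_subgroup H).of_surjective θ.rangeRestrict θ.rangeRestrict_surjective)
    θ.range.subtype θ.range.subtype_injective htrans with ⟨h, -, -⟩ | ⟨-, hc, ⟨m, hm, -⟩, -⟩ | ⟨-, h3, h9, -⟩
  · exact absurd h hq2
  swap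
  · right
    refine ⟨?_, h3, rfl⟩
    rw [hVW, hW01, h9]
  left
  refine ⟨by rw [hVW, hW01, hc, sq], ⟨m, hm⟩, ?_⟩
  have hline : ∀ i, ∀ u ∈ W i, u ≠ 0 → Nat.card (W i) = q → ∀ w ∈ W i, ∃ c : ZMod q, w = c • u := by
    intro i u hu hu0 hcard w hw
    have hspan : Submodule.span (ZMod q) {u} = W i := by
      refine SetLike.coe_injective (Set.eq_of_subset_of_ncard_le
        (Submodule.span_le.2 (Set.singleton_subset_iff.2 hu)) ?_ (Set.toFinite _))
      rw [← Nat.card_coe_set_eq, ← Nat.card_coe_set_eq]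
      show Nat.card (W i) ≤ Nat.card (Submodule.span (ZMod q) {u})
      rw [hcard, ← Nat.card_congr (LinearEquiv.toSpanNonzeroSingleton (ZMod q) V u hu0).toEquiv, Nat.card_zmod]
    rw [← hspan, Submodule.mem_span_singleton] at hw
    exact hw.imp fun c hc => hc.symm
  have hL0 := hline 0 a₀ ha₀ ha₀0 hc
  have hL1 := hline 1 b₁ hb₁ hb₁0 (hW01.trans hc)
  let L : (Fin 2 → ZMod q) →ₗ[ZMod q] V :=
    (LinearMap.proj 0).smulRight a₀ + (LinearMap.proj 1).smulRight b₁
  have hLa : ∀ x, L x = x 0 • a₀ + x 1 • b₁ := fun x => rfl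
  have hLinj : Function.Injective L := by
    rw [← LinearMap.ker_eq_bot, LinearMap.ker_eq_bot']
    intro x hx
    rw [hLa] at hx
    have h0 : x 0 • a₀ = 0 := hsep 0 _ (Submodule.smul_mem _ _ ha₀) (by
      rw [eq_neg_of_add_eq_zero_left hx]
      exact Submodule.mem_iSup_of_mem 1 (Submodule.mem_iSup_of_mem h01.symm (neg_mem (Submodule.smul_mem _ _ hb₁))))
    rw [h0, zero_add] at hx
    funext i
    fin_cases i
    · exact (smul_eq_zero.1 h0).resolve_right ha₀0
    · exact (smul_eq_zero.1 hx).resolve_right hb₁0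
  have hLsurj : Function.Surjective L := fun v => by
    obtain ⟨a, ha, b, hb, rfl⟩ := Submodule.mem_sup.1 (show v ∈ W 0 ⊔ W 1 by rw [hcompl.sup_eq_top]; exact Submodule.mem_top)
    obtain ⟨c, rfl⟩ := hL0 a ha
    obtain ⟨d, rfl⟩ := hL1 b hb
    exact ⟨![c, d], by rw [hLa]; simp⟩
  let E := (LinearEquiv.ofBijective L ⟨hLinj, hLsurj⟩).symm
  have hE : ∀ c d : ZMod q, E (c • a₀ + d • b₁) = ![c, d] := fun c d => by
    rw [LinearEquiv.symm_apply_eq]
    show _ = L _
    rw [hLa]; simp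
  have hconj : ∀ (g : G) (x : Fin 2 → ZMod q), E.symm.trans ((ρ g).trans E) x = E (x 0 • ρ g a₀ + x 1 • ρ g b₁) :=
    fun g x => by
      show E (ρ g (L x)) = _
      rw [hLa, map_add, map_smul, map_smul]
  -- the stabilizer of `a₀` has order two
  have hS2 : ∀ g ∈ H, ρ g a₀ = a₀ → g * g = 1 := by
    intro g _ hg
    obtain ⟨g1, hg1, hg1a, hg1b⟩ := hswap a₀ ha₀ b₁ hb₁ ha₀0 hb₁0
    have hcard : Nat.card (stab ρ (a₀ + b₁)) ≤ 2 := by
      refine le_trans (Nat.card_le_card_of_injective (fun x : stab ρ (a₀ + b₁) => decide ((x : G) ∈ H)) ?_) (by simp)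
      intro x y e
      have hxy : (x : G) ∈ H ↔ (y : G) ∈ H := by simpa using e
      have hm : (x : G)⁻¹ * y ∈ H := (Subgroup.mul_mem_iff_of_index_two hidx).2 (by rwa [Subgroup.inv_mem_iff])
      rcases hcomp 0 1 h01 a₀ ha₀ b₁ hb₁ ha₀0 hb₁0 _ ((stab ρ (a₀ + b₁)).mul_mem ((stab ρ (a₀ + b₁)).inv_mem x.2) y.2) with
        ⟨-, e1, e2⟩ | ⟨e1, -⟩
      · refine Subtype.ext (inv_mul_eq_one.1 (hid _ fun v => ?_))
        obtain ⟨x', rfl⟩ := hLsurj v
        rw [hLa, map_add, map_smul, map_smul, e1, e2]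
      · exact absurd hm e1
    rw [hst _ a₀ (hab0 0 1 h01 a₀ ha₀ b₁ hb₁ ha₀0) ha₀0] at hcard
    have h1 : 1 < Nat.card (stab ρ a₀) := (Subgroup.one_lt_card_iff_ne_bot _).2 (hstab1 a₀ ha₀0)
    have := pow_card_eq_one' (x := (⟨g, hg⟩ : stab ρ a₀))
    rw [show Nat.card (stab ρ a₀) = 2 by omega, sq] at this
    exact congrArg Subtype.val this
  have hanti : ∀ r : ZMod q, r ≠ 0 → ∃ g, g ∉ H ∧ ρ g a₀ = r • b₁ ∧ ρ g b₁ = r⁻¹ • a₀ := by
    intro r hr
    obtain ⟨g, hg, h1, h2⟩ := hswap a₀ ha₀ _ (Submodule.smul_mem _ r hb₁) ha₀0 (smul_ne_zero hr hb₁0)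
    refine ⟨g, hg, h1, ?_⟩
    have := congrArg (r⁻¹ • ·) h2
    rwa [map_smul, smul_smul, inv_mul_cancel₀ hr, one_smul] at this
  have hdiag : ∀ a : ZMod q, a ≠ 0 → ∃ g ∈ H, ρ g a₀ = a • a₀ ∧ ρ g b₁ = a⁻¹ • b₁ := by
    intro a ha
    obtain ⟨g, hg, h1, h2⟩ := hanti 1 one_ne_zero
    obtain ⟨g', hg', h1', h2'⟩ := hanti a⁻¹ (inv_ne_zero ha)
    rw [inv_inv] at h2'
    refine ⟨g' * g, (Subgroup.mul_mem_iff_of_index_two hidx).2 (iff_of_false hg' hg), ?_, ?_⟩
    · rw [← rho_comp, h1, one_smul, h2']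
    · rw [← rho_comp, h2, inv_one, one_smul, h1']
  have hkb : ρ k b₁ = -b₁ := by
    refine eq_neg_of_add_eq_zero_left (hk1 _ (add_mem (hinv k hkH 1 b₁ hb₁) hb₁) ?_)
    rw [map_add, rho_comp, hS2 k hkH (hk0 a₀ ha₀), rho_one, add_comm]
  have hform : ∀ g ∈ H, ∃ a s : ZMod q, a ≠ 0 ∧ (s = 1 ∨ s = -1) ∧ ρ g a₀ = a • a₀ ∧ ρ g b₁ = (s * a⁻¹) • b₁ := by
    intro g hg
    obtain ⟨a, ha⟩ := hL0 _ (hinv g hg 0 a₀ ha₀)
    obtain ⟨b, hb⟩ := hL1 _ (hinv g hg 1 b₁ hb₁)
    have ha' : a ≠ 0 := fun e => ha₀0 ((ρ g).injective (by rw [ha, e, zero_smul, map_zero]))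
    obtain ⟨d, hd, hd1, hd2⟩ := hdiag a⁻¹ (inv_ne_zero ha')
    rw [inv_inv] at hd2
    have h1 : ρ (d * g) a₀ = a₀ := by rw [← rho_comp, ha, map_smul, hd1, smul_smul, mul_inv_cancel₀ ha', one_smul]
    have h2 : ρ (d * g) b₁ = (b * a) • b₁ := by rw [← rho_comp, hb, map_smul, hd2, smul_smul]
    have h3 := congrArg (fun x => ρ x b₁) (hS2 _ (mul_mem hd hg) h1)
    simp only [← rho_comp ρ (d * g) (d * g), rho_one] at h3
    rw [h2, map_smul, h2, smul_smul] at h3
    have h4 : (b * a) * (b * a) = 1 := smul_left_injective (ZMod q) hb₁0 (by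
      show _ • b₁ = (1 : ZMod q) • b₁
      rw [h3, one_smul])
    refine ⟨a, b * a, ha', mul_self_eq_one_iff.1 h4, ha, ?_⟩
    rw [mul_assoc, mul_inv_cancel₀ ha', mul_one, hb]
  refine ⟨E, fun f => ⟨?_, ?_⟩⟩
  · rintro ⟨g, rfl⟩
    by_cases hg : g ∈ H
    · obtain ⟨a, s, ha, hs, h1, h2⟩ := hform g hg
      refine ⟨a, s, ha, hs, Or.inl fun x => ?_⟩
      rw [hconj, h1, h2, smul_smul, smul_smul, hE]
      congr 1
      · exact mul_comm _ _
      · rw [mul_comm]
    · obtain ⟨g', hg', h1', h2'⟩ := hanti 1 one_ne_zero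
      obtain ⟨a, s, ha, hs, h1, h2⟩ := hform (g' * g) ((Subgroup.mul_mem_iff_of_index_two hidx).2 (iff_of_false hg' hg))
      rw [inv_one, one_smul] at h2'
      rw [one_smul] at h1'
      have hgg : g' * g' ∈ H := Subgroup.mul_self_mem_of_index_two hidx g'
      have hinvol : ∀ u : V, ρ g' (ρ g' u) = u := fun u => by
        obtain ⟨x, rfl⟩ := hLsurj u
        simp [hLa, h1', h2']
      refine ⟨a, s, ha, hs, Or.inr fun x => ?_⟩
      have e1 : ρ g a₀ = a • b₁ := by
        rw [← hinvol (ρ g a₀), rho_comp ρ g' g, h1, map_smul, h1']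
      have e2 : ρ g b₁ = (s * a⁻¹) • a₀ := by
        rw [← hinvol (ρ g b₁), rho_comp ρ g' g, h2, map_smul, h2']
      rw [hconj, e1, e2, smul_smul, smul_smul, add_comm, hE]
      congr 1
      · exact mul_comm _ _
      · rw [mul_comm]
  · rintro ⟨a, s, ha, hs, hf⟩
    obtain ⟨d, hd, hd1, hd2⟩ := hdiag a ha
    obtain ⟨d', hd', hd1', hd2'⟩ : ∃ d' ∈ H, ρ d' a₀ = a • a₀ ∧ ρ d' b₁ = (s * a⁻¹) • b₁ := by
      rcases hs with rfl | rfl
      · exact ⟨d, hd, hd1, by rw [one_mul]; exact hd2⟩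
      · refine ⟨d * k, mul_mem hd hkH, by rw [← rho_comp, hk0 a₀ ha₀, hd1], ?_⟩
        rw [← rho_comp, hkb, map_neg, hd2, ← neg_smul, neg_one_mul]
    rcases hf with hf | hf
    · refine ⟨d', LinearEquiv.ext fun x => ?_⟩
      rw [hconj, hd1', hd2', smul_smul, smul_smul, hE, hf]
      congr 1
      · exact mul_comm _ _
      · rw [mul_comm]
    · obtain ⟨g', hg', h1', h2'⟩ := hanti 1 one_ne_zero
      rw [inv_one, one_smul] at h2'
      rw [one_smul] at h1'
      refine ⟨g' * d', LinearEquiv.ext fun x => ?_⟩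
      rw [hconj, ← rho_comp ρ g' d', ← rho_comp ρ g' d', hd1', hd2', map_smul, map_smul, h1', h2', smul_smul,
        smul_smul, add_comm, hE, hf]
      congr 1
      · exact mul_comm _ _
      · rw [mul_comm]

end Cfsg.Agent.S3371
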