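import Cfsg.Statements.S3390
import Cfsg.Agent.S3224
import Cfsg.Agent.FGS2.Basic

set_option autoImplicit false
open Cfsg

namespace Cfsg.Agent.S3390

open MulAction

variable {G : Type*} [Group G] [Finite G] {Ω : Type*} [Fintype Ω] [MulAction G Ω]

theorem three_le (g : G) {a b c : Ω} (hab : a ≠ b) (hac : a ≠ c) (hbc : b ≠ c) (ha : g • a = a) (hb : g • b = b)
    (hc : g • c = c) : 3 ≤ Nat.card (fixedBy Ω g) := by
  classical
  rw [Nat.card_eq_fintype_card]
  have : ({a, b, c} : Finset Ω).card = 3 := Finset.card_eq_three.2 ⟨a, b, c, hab, hac, hbc, rfl⟩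
  rw [← this, ← Set.toFinset_card]
  refine Finset.card_le_card fun x hx => ?_
  simp only [Finset.mem_insert, Finset.mem_singleton] at hx
  rw [Set.mem_toFinset, mem_fixedBy]
  rcases hx with rfl | rfl | rfl <;> assumption

/-- A proper nontrivial point stabilizer in a `2`-group has exactly one companion point. -/
theorem companion (hfix : ∀ g : G, g ≠ 1 → Nat.card (fixedBy Ω g) ≤ 2) (S : Sylow 2 G) (ω : Ω)
    (h1 : (S : Subgroup G) ⊓ stabilizer G ω ≠ ⊥) (h2 : ¬ (S : Subgroup G) ≤ stabilizer G ω) :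
    ∃ β, β ≠ ω ∧ ∃ s ∈ (S : Subgroup G), s • ω = β ∧ s • β = ω ∧
      (∀ u ∈ (S : Subgroup G) ⊓ stabilizer G ω, u • β = β ∧ s * u * s⁻¹ ∈ (S : Subgroup G) ⊓ stabilizer G ω) ∧
      ∀ u ∈ (S : Subgroup G) ⊓ stabilizer G ω, u ≠ 1 → ∀ ν, u • ν = ν → ν = ω ∨ ν = β := by
  classical
  haveI : Fact (Nat.Prime 2) := ⟨Nat.prime_two⟩
  haveI : Group.IsNilpotent (S : Subgroup G) := S.isPGroup'.isNilpotent
  set U := (S : Subgroup G) ⊓ stabilizer G ω with hU
  have hlt : U.subgroupOf (S : Subgroup G) < ⊤ := by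
    rw [lt_top_iff_ne_top, Ne, Subgroup.subgroupOf_eq_top]
    exact fun h => h2 (h.trans inf_le_right)
  obtain ⟨s, hs, hsn⟩ := SetLike.exists_of_lt ((Group.normalizerCondition_of_isNilpotent :
    NormalizerCondition (S : Subgroup G)) _ hlt)
  rw [Subgroup.mem_subgroupOf] at hsn
  have hconj : ∀ u ∈ U, (s : G) * u * (s : G)⁻¹ ∈ U := fun u hu => by
    have := (Subgroup.mem_normalizer_iff.1 hs ⟨u, hu.1⟩).1 hu
    simpa [Subgroup.mem_subgroupOf] using this
  have hconj' : ∀ u ∈ U, (s : G)⁻¹ * u * (s : G) ∈ U := fun u hu => by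
    have := (Subgroup.mem_normalizer_iff.1 (inv_mem hs) ⟨u, hu.1⟩).1 hu
    simpa [Subgroup.mem_subgroupOf] using this
  have hβ : (s : G) • ω ≠ ω := fun h => hsn ⟨s.2, h⟩
  have hfixβ : ∀ u ∈ U, u • ((s : G) • ω) = (s : G) • ω := fun u hu => by
    have h : ((s : G)⁻¹ * u * (s : G)) • ω = ω := (hconj' u hu).2
    rwa [mul_smul, mul_smul, inv_smul_eq_iff] at h
  have honly : ∀ u ∈ U, u ≠ 1 → ∀ ν, u • ν = ν → ν = ω ∨ ν = (s : G) • ω := by
    intro u hu hu1 ν hν
    by_contra h
    push Not at h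
    have := three_le u hβ.symm h.1.symm h.2.symm hu.2 (hfixβ u hu) hν
    have := hfix u hu1
    omega
  obtain ⟨u, hu, hu1⟩ := (Subgroup.ne_bot_iff_exists_ne_one.1 h1).elim fun u hu =>
    (⟨(u : G), u.2, fun h => hu (Subtype.ext h)⟩ : ∃ u : G, u ∈ U ∧ u ≠ 1)
  refine ⟨_, hβ, s, s.2, rfl, ?_, fun v hv => ⟨hfixβ v hv, hconj v hv⟩, honly⟩
  have h : u • ((s : G) • ((s : G) • ω)) = (s : G) • ((s : G) • ω) := by
    have h := hfixβ _ (hconj' u hu)
    rwa [mul_smul, mul_smul, inv_smul_eq_iff] at h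
  rcases honly u hu hu1 _ h with e | e
  · exact e
  · exact absurd (smul_left_cancel _ e) hβ

/-- A point stabilizer of order two. -/
theorem shape_of_card_two (hfix : ∀ g : G, g ≠ 1 → Nat.card (fixedBy Ω g) ≤ 2) (S : Sylow 2 G) (ω : Ω)
    (hU : Nat.card ↥((S : Subgroup G) ⊓ stabilizer G ω) = 2) (h2 : ¬ (S : Subgroup G) ≤ stabilizer G ω) :
    ((∃ n : ℕ, Nonempty (↥(S : Subgroup G) ≃* DihedralGroup n)) ∨ Cfsg.IsQuasiDihedral ↥(S : Subgroup G)) ∨
    (Nat.card (S : Subgroup G) = 4 ∧ IsCyclic (S : Subgroup G)) := by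
  classical
  haveI : Fact (Nat.Prime 2) := ⟨Nat.prime_two⟩
  have h1 : (S : Subgroup G) ⊓ stabilizer G ω ≠ ⊥ := fun h => by
    rw [h, Subgroup.card_bot] at hU; omega
  obtain ⟨β, hβ, s, hs, hsω, -, hU', honly⟩ := companion hfix S ω h1 h2
  set U := (S : Subgroup G) ⊓ stabilizer G ω
  obtain ⟨⟨u, hu⟩, hu2⟩ := exists_prime_orderOf_dvd_card' (G := U) 2 (by rw [hU])
  rw [Subgroup.orderOf_mk] at hu2
  have hu1 : u ≠ 1 := fun h => by rw [h, orderOf_one] at hu2; omega
  have huniq : ∀ v ∈ U, v = 1 ∨ v = u := by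
    intro v hv
    have hz : Subgroup.zpowers u = U :=
      Subgroup.eq_of_le_of_card_ge (Subgroup.zpowers_le.2 hu) (by rw [Nat.card_zpowers, hu2, hU])
    rw [← hz] at hv
    obtain ⟨k, rfl⟩ := Subgroup.mem_zpowers_iff.1 hv
    have huu : u * u = 1 := by rw [← sq, ← hu2, pow_orderOf_eq_one]
    rcases Int.even_or_odd k with ⟨l, rfl⟩ | ⟨l, rfl⟩
    · left; rw [← two_mul, zpow_mul, zpow_two, huu, one_zpow]
    · right; rw [zpow_add, zpow_mul, zpow_two, huu, one_zpow, one_mul, zpow_one]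
  let uS : (S : Subgroup G) := ⟨u, hu.1⟩
  set C := Subgroup.centralizer ({uS} : Set (S : Subgroup G)) with hC
  have hmap : ∀ c ∈ C, (c : G) • ω = ω ∨ (c : G) • ω = β := by
    intro c hc
    refine honly u hu hu1 _ ?_
    rw [smul_smul, ← show (c : G) * u = u * c from congrArg Subtype.val (Subgroup.mem_centralizer_singleton_iff.1 hc),
      mul_smul, show u • ω = ω from hu.2]
  have hcard : Nat.card C ≤ 4 := by
    let f : C → U × Bool := fun c => if h : ((c : (S : Subgroup G)) : G) • ω = ω then (⟨_, (c : (S : Subgroup G)).2, h⟩, true)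
      else (⟨s⁻¹ * ((c : (S : Subgroup G)) : G), (S : Subgroup G).mul_mem ((S : Subgroup G).inv_mem hs) (c : (S : Subgroup G)).2, by
        show (s⁻¹ * ((c : (S : Subgroup G)) : G)) • ω = ω
        rw [mul_smul, (hmap _ c.2).resolve_left h, inv_smul_eq_iff, hsω]⟩, false)
    have hf : Function.Injective f := by
      intro a b e
      by_cases ha : ((a : (S : Subgroup G)) : G) • ω = ω <;> by_cases hb : ((b : (S : Subgroup G)) : G) • ω = ω <;>
        (have e1 := congrArg (fun p : U × Bool => (((p.1 : U) : G), p.2)) e) <;> simp [f, ha, hb] at e1 <;> exact e1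
    refine (Nat.card_le_card_of_injective f hf).trans ?_
    rw [Nat.card_prod, hU, Nat.card_eq_fintype_card, Fintype.card_bool]
  have hsC : (⟨s, hs⟩ : (S : Subgroup G)) ∈ C := by
    rw [hC, Subgroup.mem_centralizer_singleton_iff]
    refine Subtype.ext ?_
    show s * u = u * s
    rcases huniq _ (hU' u hu).2 with e | e
    · exact absurd (conj_eq_one_iff.1 e) hu1
    · exact mul_inv_eq_iff_eq_mul.1 e
  have huC : uS ∈ C := Subgroup.mem_centralizer_singleton_iff.2 rfl
  have hne : (⟨⟨s, hs⟩, hsC⟩ : C) ∉ Subgroup.zpowers (⟨uS, huC⟩ : C) := by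
    intro h
    obtain ⟨k, hk⟩ := Subgroup.mem_zpowers_iff.1 h
    have hk' : u ^ k = s := congrArg (fun c : C => ((c : (S : Subgroup G)) : G)) hk
    have : s • ω = ω := hk' ▸ (zpow_mem hu k : u ^ k ∈ U).2
    exact hβ (hsω.symm.trans this)
  have hC4 : Nat.card C = 4 := by
    obtain ⟨k, hk⟩ := IsPGroup.iff_card.1 (S.isPGroup'.to_subgroup C)
    have h2' : 2 < Nat.card C := by
      have h3 : Nat.card (Subgroup.zpowers (⟨uS, huC⟩ : C)) = 2 := by
        rw [Nat.card_zpowers, Subgroup.orderOf_mk, Subgroup.orderOf_mk, hu2]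
      by_contra h
      have := Subgroup.eq_top_of_le_card (Subgroup.zpowers (⟨uS, huC⟩ : C)) (by omega)
      exact hne (this ▸ Subgroup.mem_top _)
    rcases (show k ≤ 1 ∨ k = 2 ∨ 3 ≤ k by omega) with h | h | h
    · have := Nat.pow_le_pow_right (show 1 ≤ 2 by norm_num) h; omega
    · rw [hk, h]; norm_num
    · have := Nat.pow_le_pow_right (show 1 ≤ 2 by norm_num) h; omega
  have huS : orderOf uS = 2 := by rw [Subgroup.orderOf_mk, hu2]
  rcases S3224.result S.isPGroup' uS huS hC4 with h | h | h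
  · exact Or.inl (Or.inl h)
  · exact Or.inl (Or.inr h)
  by_cases hcyc : IsCyclic (S : Subgroup G)
  · exact Or.inr ⟨h, hcyc⟩
  haveI : Nontrivial (S : Subgroup G) := Finite.one_lt_card_iff_nontrivial.1 (by omega)
  haveI : IsKleinFour (S : Subgroup G) :=
    { card_four := h
      exponent_two := (Monoid.exponent_eq_prime_iff (G := (S : Subgroup G)) Nat.prime_two).2 (fun g hg => by
        have hd : orderOf g ∣ 2 ^ 2 := (show (2 : ℕ) ^ 2 = 4 from rfl) ▸ h ▸ orderOf_dvd_natCard g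
        obtain ⟨j, hj, hj'⟩ := (Nat.dvd_prime_pow Nat.prime_two).1 hd
        interval_cases j
        · exact absurd (orderOf_eq_one_iff.1 hj') hg
        · exact hj'
        · exact absurd (isCyclic_of_orderOf_eq_card g (by rw [hj', h]; rfl)) hcyc) }
  exact Or.inl (Or.inl ⟨2, IsKleinFour.nonempty_mulEquiv⟩)


/-- Let G be a finite group acting faithfully and transitively on a finite set Ω with fixity 2 (every non-identity element fixes at most two points, and some fixes exactly two). Let α ∈ Ω and S a Sylow 2-subgroup of G. Then one of the following holds: the stabilizer S_α of α in S is trivial; S is dihedral or semidihedral and either |S_α| = 2 or |S : S_α| = 2; |S| ≥ 4, S has exactly one orbit of size 2 on Ω, every other S-orbit is regular, and G has a normal subgroup of index 2 or of index |S| which is a Frobenius group; or S ≤ G_α. -/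
theorem result {G : Type*} [Group G] [Finite G] {Ω : Type*} [Fintype Ω] [MulAction G Ω] [FaithfulSMul G Ω] (htr : MulAction.IsPretransitive G Ω)
    (hfix : ∀ g : G, g ≠ 1 → Nat.card (MulAction.fixedBy Ω g) ≤ 2) (hex : ∃ g : G, g ≠ 1 ∧ Nat.card (MulAction.fixedBy Ω g) = 2) (α : Ω) (S : Sylow 2 G) :
    (S : Subgroup G) ⊓ MulAction.stabilizer G α = ⊥ ∨
    (((∃ n : ℕ, Nonempty (↥(S : Subgroup G) ≃* DihedralGroup n)) ∨ Cfsg.IsQuasiDihedral ↥(S : Subgroup G)) ∧
       (Nat.card ↥((S : Subgroup G) ⊓ MulAction.stabilizer G α) = 2 ∨ ((S : Subgroup G) ⊓ MulAction.stabilizer G α).relIndex (S : Subgroup G) = 2)) ∨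
    (4 ≤ Nat.card (S : Subgroup G) ∧
       (∃ ω : Ω, Nat.card (MulAction.orbit ↥(S : Subgroup G) ω) = 2 ∧
          ∀ ω' : Ω, ω' ∉ MulAction.orbit ↥(S : Subgroup G) ω → Nat.card (MulAction.orbit ↥(S : Subgroup G) ω') = Nat.card (S : Subgroup G)) ∧
       ∃ N : Subgroup G, N.Normal ∧ (N.index = 2 ∨ N.index = Nat.card (S : Subgroup G)) ∧ (∃ H : Subgroup ↥N, Cfsg.IsFrobeniusComplement H)) ∨
    (S : Subgroup G) ≤ MulAction.stabilizer G α := by
  classical
  haveI : Fact (Nat.Prime 2) := ⟨Nat.prime_two⟩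
  haveI := htr
  by_cases h1 : (S : Subgroup G) ⊓ stabilizer G α = ⊥
  · exact Or.inl h1
  by_cases h2 : (S : Subgroup G) ≤ stabilizer G α
  · exact Or.inr (Or.inr (Or.inr h2))
  refine Or.inr ?_
  obtain ⟨β, hβ, s, hs, hsα, hsβ, hU', honly⟩ := companion hfix S α h1 h2
  set U := (S : Subgroup G) ⊓ stabilizer G α with hUdef
  obtain ⟨u₀, hu₀, hu₀1⟩ := (Subgroup.ne_bot_iff_exists_ne_one.1 h1).elim fun u hu =>
    (⟨(u : G), u.2, fun h => hu (Subtype.ext h)⟩ : ∃ u : G, u ∈ U ∧ u ≠ 1)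
  let M : Subgroup G :=
    { carrier := {g | g ∈ (S : Subgroup G) ∧ ((g • α = α ∧ g • β = β) ∨ (g • α = β ∧ g • β = α))}
      one_mem' := ⟨one_mem _, Or.inl ⟨one_smul _ _, one_smul _ _⟩⟩
      mul_mem' := fun {a b} ha hb => ⟨mul_mem ha.1 hb.1, by
        rcases ha.2 with ⟨a1, a2⟩ | ⟨a1, a2⟩ <;> rcases hb.2 with ⟨b1, b2⟩ | ⟨b1, b2⟩ <;>
          simp [mul_smul, a1, a2, b1, b2]⟩
      inv_mem' := fun {a} ha => ⟨inv_mem ha.1, by
        rcases ha.2 with ⟨a1, a2⟩ | ⟨a1, a2⟩
        · exact Or.inl ⟨inv_smul_eq_iff.2 a1.symm, inv_smul_eq_iff.2 a2.symm⟩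
        · exact Or.inr ⟨inv_smul_eq_iff.2 a2.symm, inv_smul_eq_iff.2 a1.symm⟩⟩ }
  have hsM : s ∈ M := ⟨hs, Or.inr ⟨hsα, hsβ⟩⟩
  have hUM : U ≤ M := fun u hu => ⟨hu.1, Or.inl ⟨hu.2, (hU' u hu).1⟩⟩
  have hrel : Nat.card U = 2 ∨ U.relIndex (S : Subgroup G) = 2 := by
    by_cases hM : (S : Subgroup G) ≤ M
    · right
      show (U.subgroupOf (S : Subgroup G)).index = 2
      rw [Subgroup.index_eq_two_iff]
      refine ⟨⟨s, hs⟩, fun b => ?_⟩
      rw [Subgroup.mem_subgroupOf, Subgroup.mem_subgroupOf]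
      rcases (hM b.2).2 with ⟨b1, b2⟩ | ⟨b1, b2⟩
      · refine Or.inr ⟨⟨b.2, b1⟩, ?_⟩
        rintro ⟨-, h⟩
        have h' : ((b : G) * s) • α = α := h
        rw [mul_smul, hsα, b2] at h'
        exact hβ h'
      · refine Or.inl ⟨⟨mul_mem b.2 hs, ?_⟩, ?_⟩
        · show ((b : G) * s) • α = α
          rw [mul_smul, hsα, b2]
        · rintro ⟨-, h⟩
          exact hβ (b1.symm.trans h)
    · left
      haveI : Group.IsNilpotent (S : Subgroup G) := S.isPGroup'.isNilpotent
      have hlt : M.subgroupOf (S : Subgroup G) < ⊤ := by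
        rw [lt_top_iff_ne_top, Ne, Subgroup.subgroupOf_eq_top]; exact hM
      obtain ⟨g, hg, hgn⟩ := SetLike.exists_of_lt ((Group.normalizerCondition_of_isNilpotent :
        NormalizerCondition (S : Subgroup G)) _ hlt)
      rw [Subgroup.mem_subgroupOf] at hgn
      let f : U → ({α, β} : Finset Ω) := fun u => ⟨((g : G) * u * (g : G)⁻¹) • α, by
        have h := (Subgroup.mem_normalizer_iff.1 hg ⟨u, u.2.1⟩).1 (hUM u.2)
        rcases h.2 with ⟨e, -⟩ | ⟨e, -⟩ <;> · simp at e; simp [e]⟩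
      have hf : Function.Injective f := by
        intro u v e
        have e' : ((g : G) * u * (g : G)⁻¹) • α = ((g : G) * v * (g : G)⁻¹) • α := congrArg Subtype.val e
        rw [mul_smul, mul_smul, mul_smul, mul_smul, smul_left_cancel_iff] at e'
        by_contra hne
        set γ := (g : G)⁻¹ • α with hγ
        have hfixγ : ((v : G)⁻¹ * u) • γ = γ := by rw [mul_smul, e', inv_smul_smul]
        apply hgn
        refine ⟨g.2, ?_⟩
        have hne' : (v : G)⁻¹ * u ≠ 1 := fun h => hne (Subtype.ext (inv_mul_eq_one.1 h).symm)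
        have hmem : (v : G)⁻¹ * u ∈ U := mul_mem (inv_mem v.2) u.2
        have hg' : (g : G)⁻¹ ∈ M := by
          refine ⟨inv_mem g.2, ?_⟩
          have hfixγ' : ∀ w : U, (w : G) ≠ 1 → True := fun _ _ => trivial
          have hβ2 : ((v : G)⁻¹ * u) • β = β := (hU' _ hmem).1
          rcases honly _ hmem hne' γ hfixγ with e | e
          · left
            refine ⟨e, ?_⟩
            have hgs := (Subgroup.mem_normalizer_iff.1 (inv_mem hg) ⟨s, hs⟩).1 hsM
            rcases hgs.2 with ⟨a1, a2⟩ | ⟨a1, a2⟩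
            · exfalso
              simp [mul_smul] at a1
              have eα : (g : G) • α = α := by
                conv_lhs => rw [← e]
                rw [hγ, smul_inv_smul]
              rw [eα, hsα, inv_smul_eq_iff, eα] at a1
              exact hβ a1
            · simp [mul_smul] at a1
              have eα : (g : G) • α = α := by
                conv_lhs => rw [← e]
                rw [hγ, smul_inv_smul]
              rwa [eα, hsα] at a1
          · right
            refine ⟨e, ?_⟩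
            have hgs := (Subgroup.mem_normalizer_iff.1 hg ⟨s, hs⟩).1 hsM
            rcases hgs.2 with ⟨a1, a2⟩ | ⟨a1, a2⟩
            · exfalso
              simp [mul_smul] at a1
              rw [← hγ, e, hsβ] at a1
              have : (g : G)⁻¹ • α = α := by rw [inv_smul_eq_iff, a1]
              exact hβ ((e.symm.trans (hγ ▸ this)))
            · simp [mul_smul] at a1
              rw [← hγ, e, hsβ] at a1
              rw [inv_smul_eq_iff]; exact a1.symm
        have := inv_mem hg'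
        rw [inv_inv] at this
        exact this.2
      have hle := Nat.card_le_card_of_injective f hf
      rw [Nat.card_eq_finsetCard, Finset.card_pair hβ.symm] at hle
      have hgt : 1 < Nat.card U := (Subgroup.one_lt_card_iff_ne_bot U).2 h1
      omega
  have hD : ((∃ n : ℕ, Nonempty (↥(S : Subgroup G) ≃* DihedralGroup n)) ∨ Cfsg.IsQuasiDihedral ↥(S : Subgroup G)) ∨
      (U.relIndex (S : Subgroup G) = 2 ∧ ∀ ν, ν ≠ α → ν ≠ β → ∀ t ∈ (S : Subgroup G), t • ν = ν → t = 1) := by
    by_cases hnone : ∀ ν, ν ≠ α → ν ≠ β → ∀ t ∈ (S : Subgroup G), t • ν = ν → t = 1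
    · rcases hrel with h | h
      · rcases shape_of_card_two hfix S α h h2 with h' | ⟨h4, -⟩
        · exact Or.inl h'
        · refine Or.inr ⟨?_, hnone⟩
          have := (U.subgroupOf (S : Subgroup G)).card_mul_index
          rw [Nat.card_congr (Subgroup.subgroupOfEquivOfLe (inf_le_left : U ≤ (S : Subgroup G))).toEquiv, h, h4] at this
          show (U.subgroupOf (S : Subgroup G)).index = 2
          omega
      · exact Or.inr ⟨h, hnone⟩
    left
    rcases hrel with h | h
    · rcases shape_of_card_two hfix S α h h2 with h' | ⟨h4, hcyc⟩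
      · exact h'
      exfalso
      apply hnone
      intro ν hνα hνβ t ht htν
      by_contra ht1
      -- in a cyclic group every nontrivial subgroup contains the involution of `U`
      obtain ⟨k, hk⟩ := IsPGroup.iff_orderOf.1 S.isPGroup' ⟨t, ht⟩
      rw [Subgroup.orderOf_mk] at hk
      have hk0 : k ≠ 0 := fun e => ht1 (orderOf_eq_one_iff.1 (by rw [hk, e, pow_zero]))
      have hu₀2 : orderOf u₀ = 2 := by
        refine orderOf_eq_prime ?_ hu₀1
        have := pow_card_eq_one' (x := (⟨u₀, hu₀⟩ : U))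
        rw [h] at this
        simpa using congrArg Subtype.val this
      haveI := hcyc
      have hsub : Subgroup.zpowers (⟨u₀, hu₀.1⟩ : (S : Subgroup G)) ≤ Subgroup.zpowers ⟨t, ht⟩ := by
        have h2t : orderOf ((⟨t, ht⟩ : (S : Subgroup G)) ^ (orderOf (⟨t, ht⟩ : (S : Subgroup G)) / 2)) = 2 :=
          orderOf_pow_orderOf_div (orderOf_pos _).ne' (by rw [Subgroup.orderOf_mk, hk]; exact dvd_pow_self 2 hk0)
        rw [FGS2.subgroup_eq_of_card_eq (H := Subgroup.zpowers (⟨u₀, hu₀.1⟩ : (S : Subgroup G)))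
          (K := Subgroup.zpowers ((⟨t, ht⟩ : (S : Subgroup G)) ^ (orderOf (⟨t, ht⟩ : (S : Subgroup G)) / 2)))
          (by rw [Nat.card_zpowers, Nat.card_zpowers, h2t, Subgroup.orderOf_mk, hu₀2])]
        exact Subgroup.zpowers_le.2 (pow_mem (Subgroup.mem_zpowers _) _)
      obtain ⟨i, hi⟩ := Subgroup.mem_zpowers_iff.1 (hsub (Subgroup.mem_zpowers _))
      have hi' : t ^ i = u₀ := by simpa using congrArg Subtype.val hi
      rcases honly u₀ hu₀ hu₀1 ν (hi' ▸ (zpow_mem (show t ∈ stabilizer G ν from htν) i)) with e | e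
      exacts [hνα e, hνβ e]
    · push Not at hnone
      obtain ⟨ν, hνα, hνβ, t, ht, htν, ht1⟩ := hnone
      have hdisj : ∀ x ∈ U, x • ν = ν → x = 1 := fun x hx hxν => by
        by_contra hx1
        rcases honly x hx hx1 ν hxν with e | e
        exacts [hνα e, hνβ e]
      have hV : Nat.card ↥((S : Subgroup G) ⊓ stabilizer G ν) = 2 := by
        apply le_antisymm
        · let f : ↥((S : Subgroup G) ⊓ stabilizer G ν) → Bool := fun x => decide ((x : G) ∈ U)
          have hf : Function.Injective f := by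
            intro x y e
            have hiff : (x : G) ∈ U ↔ (y : G) ∈ U := by simpa [f] using e
            apply Subtype.ext
            have hxy : (x : G)⁻¹ * y ∈ U := by
              have h' := (Subgroup.mul_mem_iff_of_index_two (H := U.subgroupOf (S : Subgroup G)) h
                (a := (⟨(x : G), x.2.1⟩ : (S : Subgroup G))⁻¹) (b := ⟨(y : G), y.2.1⟩))
              rw [inv_mem_iff] at h'
              simpa [Subgroup.mem_subgroupOf] using h'.2 (by simpa [Subgroup.mem_subgroupOf] using hiff)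
            exact (inv_mul_eq_one.1 (hdisj _ hxy ((stabilizer G ν).mul_mem ((stabilizer G ν).inv_mem x.2.2) y.2.2)))
          simpa using Nat.card_le_card_of_injective f hf
        · exact (Subgroup.one_lt_card_iff_ne_bot _).2 fun e => ht1 (by
            rw [← Subgroup.mem_bot, ← e]; exact ⟨ht, htν⟩)
      have h2' : ¬ (S : Subgroup G) ≤ stabilizer G ν := fun hle => hu₀1 (hdisj u₀ hu₀ (hle hu₀.1))
      rcases shape_of_card_two hfix S ν hV h2' with h' | ⟨h4, hcyc⟩
      · exact h'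
      exfalso
      have := Subgroup.card_le_of_le (show U ≤ (S : Subgroup G) from inf_le_left)
      have hU2 : Nat.card U = 2 := by
        have e := (U.subgroupOf (S : Subgroup G)).card_mul_index
        rw [Nat.card_congr (Subgroup.subgroupOfEquivOfLe (inf_le_left : U ≤ (S : Subgroup G))).toEquiv, h4] at e
        have h'' : (U.subgroupOf (S : Subgroup G)).index = 2 := h
        rw [h''] at e
        change Nat.card U * 2 = 4 at e
        omega
      have e := FGS2.subgroup_eq_of_card_eq (G := (S : Subgroup G))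
        (H := U.subgroupOf (S : Subgroup G)) (K := ((S : Subgroup G) ⊓ stabilizer G ν).subgroupOf (S : Subgroup G)) (by
          rw [Nat.card_congr (Subgroup.subgroupOfEquivOfLe (inf_le_left : U ≤ (S : Subgroup G))).toEquiv,
            Nat.card_congr (Subgroup.subgroupOfEquivOfLe (inf_le_left : (S : Subgroup G) ⊓ stabilizer G ν ≤ S)).toEquiv, hU2, hV])
      have : (⟨u₀, hu₀.1⟩ : (S : Subgroup G)) ∈ ((S : Subgroup G) ⊓ stabilizer G ν).subgroupOf (S : Subgroup G) :=
        e ▸ (show _ ∈ U.subgroupOf (S : Subgroup G) from hu₀)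
      exact hu₀1 (hdisj u₀ hu₀ this.2)
  rcases hD with h | ⟨hidx, hfree⟩
  · exact Or.inl ⟨h, hrel⟩
  refine Or.inr (Or.inl ?_)
  have hUS : Nat.card U * 2 = Nat.card (S : Subgroup G) := by
    have e := (U.subgroupOf (S : Subgroup G)).card_mul_index
    rw [Nat.card_congr (Subgroup.subgroupOfEquivOfLe (inf_le_left : U ≤ (S : Subgroup G))).toEquiv] at e
    rw [← e]; congr 1; exact hidx.symm
  have hS4 : 4 ≤ Nat.card (S : Subgroup G) := by
    have := (Subgroup.one_lt_card_iff_ne_bot U).2 h1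
    omega
  have hiff : ∀ a b : G, a ∈ (S : Subgroup G) → b ∈ (S : Subgroup G) → (a * b ∈ U ↔ (a ∈ U ↔ b ∈ U)) := fun a b ha hb => by
    simpa [Subgroup.mem_subgroupOf] using Subgroup.mul_mem_iff_of_index_two (H := U.subgroupOf (S : Subgroup G)) hidx
      (a := (⟨a, ha⟩ : (S : Subgroup G))) (b := ⟨b, hb⟩)
  have hsU : s ∉ U := fun h => hβ (hsα.symm.trans h.2)
  have hpres : ∀ g ∈ (S : Subgroup G), (g ∈ U → g • α = α ∧ g • β = β) ∧ (g ∉ U → g • α = β ∧ g • β = α) := by
    intro g hg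
    refine ⟨fun h => ⟨h.2, (hU' g h).1⟩, fun h => ?_⟩
    have h' : s⁻¹ * g ∈ U := (hiff s⁻¹ g (inv_mem hs) hg).2 (iff_of_false (fun e => hsU (inv_inv s ▸ inv_mem e)) h)
    constructor
    · have e : (s⁻¹ * g) • α = α := h'.2
      rwa [mul_smul, inv_smul_eq_iff, hsα] at e
    · have e : (s⁻¹ * g) • β = β := (hU' _ h').1
      rwa [mul_smul, inv_smul_eq_iff, hsβ] at e
  refine ⟨hS4, ⟨α, ?_, ?_⟩, ?_⟩
  · have e : orbit ↥(S : Subgroup G) α = {α, β} := by
      ext x
      constructor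
      · rintro ⟨g, rfl⟩
        by_cases hg : (g : G) ∈ U
        · exact Or.inl ((hpres g g.2).1 hg).1
        · exact Or.inr ((hpres g g.2).2 hg).1
      · rintro (rfl | rfl)
        exacts [mem_orbit_self _, ⟨⟨s, hs⟩, hsα⟩]
    rw [e, Nat.card_coe_set_eq, Set.ncard_pair hβ.symm]
  · intro ω' hω'
    have hne : ω' ≠ α ∧ ω' ≠ β :=
      ⟨fun e => hω' (e ▸ mem_orbit_self _), fun e => hω' (e ▸ ⟨⟨s, hs⟩, hsα⟩)⟩
    have hst : stabilizer ↥(S : Subgroup G) ω' = ⊥ := by
      rw [eq_bot_iff]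
      intro g hg
      exact Subtype.ext (hfree ω' hne.1 hne.2 g g.2 hg)
    rw [Nat.card_coe_set_eq, ← MulAction.index_stabilizer, hst, Subgroup.index_bot]
  -- the free part of the action
  let R : Type _ := {x : Ω // x ≠ α ∧ x ≠ β}
  have hinv : ∀ (g : (S : Subgroup G)) (x : Ω), x ≠ α ∧ x ≠ β → (g : G) • x ≠ α ∧ (g : G) • x ≠ β := by
    intro g x hx
    by_cases hg : (g : G) ∈ U
    · obtain ⟨a1, a2⟩ := (hpres g g.2).1 hg
      exact ⟨fun e => hx.1 (smul_left_cancel _ (e.trans a1.symm)), fun e => hx.2 (smul_left_cancel _ (e.trans a2.symm))⟩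
    · obtain ⟨a1, a2⟩ := (hpres g g.2).2 hg
      exact ⟨fun e => hx.2 (smul_left_cancel _ (e.trans a2.symm)), fun e => hx.1 (smul_left_cancel _ (e.trans a1.symm))⟩
  letI mR : MulAction (S : Subgroup G) R :=
    { smul := fun g x => ⟨(g : G) • (x : Ω), hinv g x x.2⟩
      one_smul := fun x => Subtype.ext (one_smul G (x : Ω))
      mul_smul := fun g h x => Subtype.ext (mul_smul (g : G) (h : G) (x : Ω)) }
  have hRfree : ∀ x : R, stabilizer (S : Subgroup G) x = ⊥ := fun x => by
    rw [eq_bot_iff]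
    intro g hg
    exact Subtype.ext (hfree x x.2.1 x.2.2 g g.2 (congrArg Subtype.val hg))
  obtain ⟨k, hk⟩ : ∃ k, Fintype.card Ω = 2 + k * Nat.card (S : Subgroup G) := by
    refine ⟨Nat.card (Quotient (orbitRel (S : Subgroup G) R)), ?_⟩
    rw [← Nat.card_prod, ← Nat.card_congr (MulAction.selfEquivOrbitsQuotientProd hRfree)]
    rw [Nat.card_eq_fintype_card, Fintype.card_subtype]
    have e : (Finset.univ.filter fun x : Ω => x ≠ α ∧ x ≠ β) = ({α, β} : Finset Ω)ᶜ := by ext; simp
    rw [e, Finset.card_compl, Finset.card_pair hβ.symm]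
    have : 2 ≤ Fintype.card Ω := Fintype.one_lt_card_iff.2 ⟨α, β, hβ.symm⟩
    omega
  -- signs
  let sgn : G →* ℤˣ := Equiv.Perm.sign.comp (MulAction.toPermHom G Ω)
  have hsgn : ∀ g ∈ (S : Subgroup G), ∀ o, orderOf g = o → 2 * o ∣ Nat.card (S : Subgroup G) →
      sgn g = if g ∈ U then 1 else -1 := by
    intro g hg o ho hdvd
    set σ : Equiv.Perm Ω := (if g ∈ U then 1 else Equiv.swap α β) * MulAction.toPerm g with hσ
    have hσ1 : σ α = α ∧ σ β = β := by
      by_cases h : g ∈ U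
      · obtain ⟨a1, a2⟩ := (hpres g hg).1 h
        simp [hσ, h, a1, a2]
      · obtain ⟨a1, a2⟩ := (hpres g hg).2 h
        simp [hσ, h, a1, a2]
    have hσ2 : ∀ i : ℕ, ∀ x, x ≠ α → x ≠ β → (σ ^ i) x = g ^ i • x := by
      intro i
      induction i with
      | zero => intro x _ _; simp
      | succ i ih =>
        intro x h h'
        rw [pow_succ', Equiv.Perm.mul_apply, ih x h h']
        obtain ⟨a, b⟩ := hinv ⟨g ^ i, pow_mem hg i⟩ x ⟨h, h'⟩
        obtain ⟨a', b'⟩ := hinv ⟨g, hg⟩ _ ⟨a, b⟩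
        rw [pow_succ', mul_smul]
        by_cases hU1 : g ∈ U
        · simp [hσ, hU1]
        · simp [hσ, hU1, Equiv.swap_apply_of_ne_of_ne a' b']
    have hσfix : ∀ i : ℕ, (σ ^ i) α = α ∧ (σ ^ i) β = β := by
      intro i
      induction i with
      | zero => simp
      | succ i ih => exact ⟨by rw [pow_succ', Equiv.Perm.mul_apply, ih.1]; exact hσ1.1, by rw [pow_succ', Equiv.Perm.mul_apply, ih.2]; exact hσ1.2⟩
    have hall : ∀ m ∈ σ.cycleType, m = o := by
      intro m hm
      obtain ⟨c, hc, rfl⟩ : ∃ c, c ∈ σ.cycleFactorsFinset ∧ c.support.card = m := by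
        rw [Equiv.Perm.cycleType_def, Multiset.mem_map] at hm
        obtain ⟨c, hc, rfl⟩ := hm
        exact ⟨c, hc, rfl⟩
      obtain ⟨hcyc, hceq⟩ := Equiv.Perm.mem_cycleFactorsFinset_iff.1 hc
      obtain ⟨x, hx⟩ := hcyc.nonempty_support
      have hxc : c = σ.cycleOf x := Equiv.Perm.cycle_is_cycleOf hx hc
      have hxs : x ∈ σ.support := Equiv.Perm.mem_cycleFactorsFinset_support_le hc hx
      have hxαβ : x ≠ α ∧ x ≠ β := ⟨fun e => Equiv.Perm.mem_support.1 hxs (e ▸ hσ1.1), fun e => Equiv.Perm.mem_support.1 hxs (e ▸ hσ1.2)⟩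
      apply Nat.dvd_antisymm
      · have hσo : σ ^ o = 1 := by
          refine Equiv.ext fun y => ?_
          by_cases hy : y ≠ α ∧ y ≠ β
          · rw [hσ2 o y hy.1 hy.2, ← ho, pow_orderOf_eq_one, one_smul]; rfl
          · rcases (not_and_or.1 hy) with e | e
            · rw [not_not.1 e]; exact (hσfix o).1
            · rw [not_not.1 e]; exact (hσfix o).2
        have h1 := (Equiv.Perm.dvd_of_mem_cycleType hm).trans (orderOf_dvd_of_pow_eq_one hσo)
        exact h1
      · rw [← ho]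
        refine orderOf_dvd_of_pow_eq_one (hfree x hxαβ.1 hxαβ.2 _ (pow_mem hg _) ?_)
        rw [← hσ2 _ x hxαβ.1 hxαβ.2]
        have h1 : (c ^ c.support.card) x = x := by rw [← hcyc.orderOf, pow_orderOf_eq_one]; rfl
        rw [hxc] at h1 ⊢
        rwa [Equiv.Perm.cycleOf_pow_apply_self] at h1
    have hsum := Equiv.Perm.sum_cycleType σ
    have hrep := Multiset.eq_replicate_card.2 hall
    have hsupp : 1 < o → σ.support.card = k * Nat.card (S : Subgroup G) := by
      intro ho1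
      have e : σ.support = ({α, β} : Finset Ω)ᶜ := by
        ext x
        rw [Equiv.Perm.mem_support, Finset.mem_compl, Finset.mem_insert, Finset.mem_singleton]
        refine ⟨fun h e => h (e.elim (fun e => e ▸ hσ1.1) (fun e => e ▸ hσ1.2)), fun h e => ?_⟩
        push Not at h
        have e' := hσ2 1 x h.1 h.2
        rw [pow_one, pow_one] at e'
        have := hfree x h.1 h.2 g hg (e'.symm.trans e)
        rw [this, orderOf_one] at ho
        omega
      rw [e, Finset.card_compl, Finset.card_pair hβ.symm, hk, Nat.add_sub_cancel_left]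
    have hσsign : Equiv.Perm.sign σ = 1 := by
      rw [Equiv.Perm.sign_of_cycleType]
      have hopos : 0 < o := ho ▸ orderOf_pos g
      by_cases ho1 : 1 < o
      · rw [hrep, Multiset.sum_replicate, Multiset.card_replicate, smul_eq_mul]
        rw [hrep, Multiset.sum_replicate, smul_eq_mul, hsupp ho1] at hsum
        obtain ⟨j, hj⟩ := hdvd
        have hc : Multiset.card σ.cycleType = 2 * (k * j) :=
          Nat.eq_of_mul_eq_mul_right hopos (by rw [hsum, hj]; ring)
        rw [hc, show 2 * (k * j) * o + 2 * (k * j) = 2 * (k * j * o + k * j) by ring, pow_mul]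
        simp
      · have hc0 : σ.cycleType = 0 := by
          by_contra h
          obtain ⟨m, hm⟩ := Multiset.exists_mem_of_ne_zero h
          have := Equiv.Perm.two_le_of_mem_cycleType hm
          rw [hall m hm] at this
          omega
        simp [hc0]
    show Equiv.Perm.sign (MulAction.toPerm g) = _
    rw [hσ, map_mul] at hσsign
    by_cases h : g ∈ U
    · simpa [h] using hσsign
    · simp [h, Equiv.Perm.sign_swap hβ.symm] at hσsign
      rw [if_neg h]
      rwa [neg_eq_iff_eq_neg] at hσsign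
  have hdvdcard : ∀ g ∈ (S : Subgroup G), ¬ IsCyclic (S : Subgroup G) ∨ g ∈ U → 2 * orderOf g ∣ Nat.card (S : Subgroup G) := by
    intro g hg hcase
    obtain ⟨a, ha⟩ := IsPGroup.iff_card.1 S.isPGroup'
    obtain ⟨j, hj, hj'⟩ := (Nat.dvd_prime_pow Nat.prime_two).1
      (show orderOf g ∣ 2 ^ a from ha ▸ Subgroup.orderOf_dvd_natCard _ hg)
    rcases hcase with hnc | hgU
    · have hlt : j < a := by
        refine lt_of_le_of_ne hj fun e => hnc (isCyclic_of_orderOf_eq_card (⟨g, hg⟩ : (S : Subgroup G)) ?_)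
        rw [Subgroup.orderOf_mk, hj', ha, e]
      rw [ha, hj', ← pow_succ']
      exact pow_dvd_pow 2 hlt
    · rw [← hUS, mul_comm (Nat.card U)]
      exact Nat.mul_dvd_mul_left 2 (Subgroup.orderOf_dvd_natCard _ hgU)
  obtain ⟨ψ, hψU, hψs⟩ : ∃ ψ : G →* ℤˣ, (∀ u ∈ U, ψ u = 1) ∧ ψ s = -1 := by
    by_cases hcyc : IsCyclic (S : Subgroup G)
    · haveI := hcyc
      have hprime : Nat.card G ≠ 0 := Nat.card_pos.ne'
      have hmin : (Nat.card G).minFac = 2 := by
        rw [Nat.minFac_eq_two_iff]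
        exact (dvd_trans (Dvd.intro_left _ hUS) (Subgroup.card_subgroup_dvd_card _))
      haveI : Fact (Nat.Prime 2) := ⟨Nat.prime_two⟩
      obtain ⟨χ, hχs, hχU⟩ : ∃ χ : (S : Subgroup G) →* ℤˣ, χ ⟨s, hs⟩ = -1 ∧ ∀ u : (S : Subgroup G), (u : G) ∈ U → χ u = 1 := by
        refine ⟨MonoidHom.mk' (fun g => if (g : G) ∈ U then 1 else -1) (fun a b => ?_), if_neg hsU, fun u hu => if_pos hu⟩
        have h := hiff a b a.2 b.2
        by_cases ha : (a : G) ∈ U <;> by_cases hb : (b : G) ∈ U <;> simp [ha, hb, h]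
      let τ : G →* (S : Subgroup G) := MonoidHom.transferSylow S (IsCyclic.normalizer_le_centralizer hmin hcyc)
      have hodd : Odd (S : Subgroup G).index := by
        rw [← Nat.not_even_iff_odd, even_iff_two_dvd]
        exact S.not_dvd_index
      have hτ : ∀ g (hg : g ∈ (S : Subgroup G)), χ (τ g) = χ ⟨g, hg⟩ := fun g hg => by
        rw [show τ g = (⟨g, hg⟩ : (S : Subgroup G)) ^ (S : Subgroup G).index from
          (MonoidHom.transferSylow_eq_pow _ _ g hg).trans (Subtype.ext (by simp)), map_pow]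
        obtain ⟨j, hj⟩ := hodd
        rw [hj, pow_succ, pow_mul, Int.units_sq, one_pow, one_mul]
      exact ⟨χ.comp τ, fun u hu => (hτ u hu.1).trans (hχU _ hu), (hτ s hs).trans hχs⟩
    · refine ⟨sgn, fun u hu => ?_, ?_⟩
      · rw [hsgn u hu.1 _ rfl (hdvdcard u hu.1 (Or.inr hu)), if_pos hu]
      · rw [hsgn s hs _ rfl (hdvdcard s hs (Or.inl hcyc)), if_neg hsU]
  have hψsurj : ψ.range = ⊤ := by
    rw [eq_top_iff]
    intro x _
    rcases Int.units_eq_one_or x with rfl | rfl
    exacts [one_mem _, ⟨s, hψs⟩]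
  set N := ψ.ker with hN
  have hN2 : N.index = 2 := by
    rw [hN, Subgroup.index_ker, hψsurj, Subgroup.card_top, Nat.card_eq_fintype_card, Fintype.card_units_int]
  refine ⟨N, MonoidHom.normal_ker ψ, Or.inl hN2, ?_⟩
  set H := stabilizer G α with hH
  have hHN : H ≤ N := by
    obtain ⟨b, hb⟩ : ∃ b, Nat.card U = 2 ^ b := ((IsPGroup.iff_card.1 (S.isPGroup'.to_le (inf_le_left : U ≤ (S : Subgroup G)))))
    have hv : ∀ x ∈ H, orderOf x = 2 ^ (multiplicity 2 (orderOf x)) → x ∈ N := by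
      intro x hx hxo
      have hpx : IsPGroup 2 (Subgroup.zpowers x) := IsPGroup.of_card (by rw [Nat.card_zpowers]; exact hxo)
      obtain ⟨S', hS'⟩ := hpx.exists_le_sylow
      obtain ⟨g, rfl⟩ := MulAction.exists_smul_eq G S S'
      have hxg : g⁻¹ * x * g ∈ (S : Subgroup G) := by
        have := hS' (Subgroup.mem_zpowers x)
        rw [Sylow.coe_subgroup_smul, Subgroup.mem_pointwise_smul_iff_inv_smul_mem, ← map_inv, MulAut.smul_def,
          MulAut.conj_apply, inv_inv] at this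
        exact this
      have hψc : ψ (g⁻¹ * x * g) = ψ x := by rw [map_mul, map_mul, map_inv, mul_comm, ← mul_assoc, mul_inv_cancel, one_mul]
      show ψ x = 1
      rw [← hψc]
      by_cases hxU : g⁻¹ * x * g ∈ U
      · exact hψU _ hxU
      by_cases hx1 : g⁻¹ * x * g = 1
      · rw [hx1, map_one]
      exfalso
      set ν := g⁻¹ • α with hν
      have hfixν : (g⁻¹ * x * g) • ν = ν := by
        rw [hν, mul_smul, mul_smul, smul_inv_smul, show x • α = α from hx]
      obtain ⟨a1, a2⟩ := (hpres _ hxg).2 hxU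
      refine hx1 (hfree ν ?_ ?_ _ hxg hfixν)
      · intro e; rw [e, a1] at hfixν; exact hβ hfixν
      · intro e; rw [e, a2] at hfixν; exact hβ hfixν.symm
    intro x hx
    show ψ x = 1
    set m := orderOf x with hm
    have hmpos : 0 < m := orderOf_pos x
    obtain ⟨e, r, hr, her⟩ := Nat.exists_eq_two_pow_mul_odd hmpos.ne'
    have hxr : ψ (x ^ r) = 1 := by
      refine hv _ (pow_mem hx r) ?_
      have : orderOf (x ^ r) = 2 ^ e := by
        rw [orderOf_pow_of_dvd hr.pos.ne' (hm ▸ her ▸ dvd_mul_left r _), ← hm, her, Nat.mul_div_cancel _ hr.pos]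
      rw [this]
      congr 1
      exact (multiplicity_pow_self_of_prime (Nat.prime_iff.1 Nat.prime_two) e).symm
    rw [map_pow] at hxr
    obtain ⟨j, rfl⟩ := hr
    rwa [pow_succ, pow_mul, Int.units_sq, one_pow, one_mul] at hxr
  let Hn := H.subgroupOf N
  refine ⟨Hn, ?_, ?_, fun g hg => ?_⟩
  · rw [Ne, Subgroup.subgroupOf_eq_bot, disjoint_iff, inf_eq_left.2 hHN]
    exact fun h => hu₀1 (by rw [← Subgroup.mem_bot, ← h]; exact hu₀.2)
  · rw [Ne, Subgroup.subgroupOf_eq_top]
    intro h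
    have hn2 : Fintype.card Ω = 2 := by
      rw [← Nat.card_eq_fintype_card, ← MulAction.index_stabilizer_of_transitive G α, ← hH, le_antisymm hHN h, hN2]
    have hall : ∀ x : Ω, x = α ∨ x = β := fun x => by
      by_contra hx
      push Not at hx
      have := Finset.card_le_univ ({x, α, β} : Finset Ω)
      rw [Finset.card_insert_of_notMem (by simp [hx.1, hx.2]), Finset.card_pair hβ.symm] at this
      omega
    refine hu₀1 (FaithfulSMul.eq_of_smul_eq_smul (α := Ω) fun x => ?_)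
    rw [one_smul]
    rcases hall x with rfl | rfl
    exacts [hu₀.2, (hU' u₀ hu₀).1]
  rw [eq_bot_iff]
  intro x hx
  obtain ⟨hx1, hx2⟩ := Subgroup.mem_inf.1 hx
  rw [Subgroup.mem_pointwise_smul_iff_inv_smul_mem, ← map_inv, MulAut.smul_def, MulAut.conj_apply, inv_inv] at hx2
  rw [Subgroup.mem_bot]
  by_contra hxne
  set γ := (g : G) • α with hγ
  have hγα : γ ≠ α := fun e => hg e
  have hxα : (x : G) • α = α := hx1
  have hxγ : (x : G) • γ = γ := by
    have : ((g : G)⁻¹ * x * g) • α = α := hx2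
    rwa [mul_smul, mul_smul, inv_smul_eq_iff] at this
  obtain ⟨r, hr, hrd⟩ := Nat.exists_prime_and_dvd (n := orderOf (x : G)) (fun e => hxne (Subtype.ext (orderOf_eq_one_iff.1 e)))
  set y := (x : G) ^ (orderOf (x : G) / r) with hy
  have hyo : orderOf y = r := orderOf_pow_orderOf_div (orderOf_pos _).ne' hrd
  haveI : Fact r.Prime := ⟨hr⟩
  have hyα : y • α = α := pow_mem (show (x : G) ∈ stabilizer G α from hxα) _
  have hyγ : y • γ = γ := pow_mem (show (x : G) ∈ stabilizer G γ from hxγ) _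
  have hyN : y ∈ N := pow_mem x.2 _
  let O := orbit N α
  have hO : 2 * Nat.card O = Fintype.card Ω := by
    have e1 : Nat.card O = H.relIndex N := by
      rw [Nat.card_coe_set_eq, ← MulAction.index_stabilizer]; rfl
    have e2 := Subgroup.relIndex_mul_index hHN
    rw [hN2, hH, MulAction.index_stabilizer_of_transitive, Nat.card_eq_fintype_card] at e2
    rw [e1, mul_comm]; exact e2
  obtain ⟨a, ha⟩ := IsPGroup.iff_card.1 S.isPGroup'
  have ha2 : 2 ≤ a := by
    by_contra h
    have := Nat.pow_le_pow_right (show 1 ≤ 2 by norm_num) (show a ≤ 1 by omega)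
    omega
  have hOodd : Odd (Nat.card O) := by
    refine ⟨k * 2 ^ (a - 2), ?_⟩
    have : 2 ^ a = 4 * 2 ^ (a - 2) := by rw [show (4 : ℕ) = 2 ^ 2 from rfl, ← pow_add]; congr 1; omega
    rw [hk, ha, this] at hO
    linarith
  let Y : Subgroup N := Subgroup.zpowers (⟨y, hyN⟩ : N)
  have hY : IsPGroup r Y := IsPGroup.of_card (n := 1) (by rw [Nat.card_zpowers, Subgroup.orderOf_mk, hyo, pow_one])
  let O' : Set Ω := Oᶜ
  letI mO' : MulAction Y ↥O' :=
    { smul := fun g x => ⟨((g : N) : G) • (x : Ω), fun h => x.2 (by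
        obtain ⟨w, hw⟩ := h
        exact ⟨(g : N)⁻¹ * w, by
          show ((((g : N)⁻¹ * w : N) : G)) • α = (x : Ω)
          have hw' : (w : G) • α = ((g : N) : G) • (x : Ω) := hw
          rw [Subgroup.coe_mul, mul_smul, hw', Subgroup.coe_inv, inv_smul_smul]⟩)⟩
      one_smul := fun x => Subtype.ext (one_smul G (x : Ω))
      mul_smul := fun g h x => Subtype.ext (mul_smul ((g : N) : G) ((h : N) : G) (x : Ω)) }
  have m1 := hY.card_modEq_card_fixedPoints ↥O
  have m2 := hY.card_modEq_card_fixedPoints ↥O'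
  have hcompl : Nat.card O' = Nat.card O := by
    have := Set.ncard_add_ncard_compl O
    rw [← Nat.card_coe_set_eq, ← Nat.card_coe_set_eq, Nat.card_eq_fintype_card (α := Ω)] at this
    show Nat.card ↥Oᶜ = _
    omega
  have hfy := hfix y (fun e => by rw [e, orderOf_one] at hyo; exact hr.one_lt.ne hyo)
  have hY1 : (⟨⟨y, hyN⟩, Subgroup.mem_zpowers _⟩ : Y) ∈ (⊤ : Subgroup Y) := Subgroup.mem_top _
  let yy : Y := ⟨⟨y, hyN⟩, Subgroup.mem_zpowers _⟩
  have hinj : Nat.card (fixedPoints Y ↥O) + Nat.card (fixedPoints Y ↥O') ≤ Nat.card (fixedBy Ω y) := by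
    rw [← Nat.card_sum]
    refine Nat.card_le_card_of_injective (fun x => Sum.elim
      (fun (p : fixedPoints Y ↥O) => (⟨p.1.1, congrArg Subtype.val (p.2 yy)⟩ : fixedBy Ω y))
      (fun (p : fixedPoints Y ↥O') => ⟨p.1.1, congrArg Subtype.val (p.2 yy)⟩) x) ?_
    rintro (p | p) (q | q) e <;> have e' := congrArg Subtype.val e
    · exact congrArg Sum.inl (Subtype.ext (Subtype.ext e'))
    · exact absurd (show ((q : ↥O') : Ω) ∈ O by rw [← show ((p : ↥O) : Ω) = ((q : ↥O') : Ω) from e']; exact (p : ↥O).2) (q : ↥O').2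
    · exact absurd (show ((p : ↥O') : Ω) ∈ O by rw [show ((p : ↥O') : Ω) = ((q : ↥O) : Ω) from e']; exact (q : ↥O).2) (p : ↥O').2
    · exact congrArg Sum.inr (Subtype.ext (Subtype.ext e'))
  have hgenfix : ∀ (p : ↥O), y • (p : Ω) = p → p ∈ fixedPoints Y ↥O := fun p hp z => by
    obtain ⟨i, hi⟩ := Subgroup.mem_zpowers_iff.1 z.2
    apply Subtype.ext
    show ((z : N) : G) • (p : Ω) = p
    rw [← hi, SubgroupClass.coe_zpow]
    exact zpow_mem (show y ∈ stabilizer G (p : Ω) from hp) i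
  have h2O : 2 ≤ Nat.card (fixedPoints Y ↥O) := by
    refine (Finite.one_lt_card_iff_nontrivial.2 ⟨⟨⟨⟨α, mem_orbit_self _⟩, hgenfix _ hyα⟩,
      ⟨⟨γ, ⟨g, rfl⟩⟩, hgenfix _ hyγ⟩, fun e => hγα ?_⟩⟩)
    exact (congrArg (fun p : fixedPoints Y ↥O => ((p : ↥O) : Ω)) e).symm
  have hfO : Nat.card (fixedPoints Y ↥O) = 2 ∧ Nat.card (fixedPoints Y ↥O') = 0 := by omega
  rw [hfO.1] at m1
  rw [hfO.2, hcompl] at m2
  have hr2 : r ∣ 2 := Nat.modEq_zero_iff_dvd.1 (m1.symm.trans m2)
  obtain rfl : r = 2 := (Nat.prime_dvd_prime_iff_eq hr Nat.prime_two).1 hr2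
  exact (Nat.not_even_iff_odd.2 hOodd) (even_iff_two_dvd.2 (Nat.modEq_zero_iff_dvd.1 m2))

end Cfsg.Agent.S3390
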