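import Cfsg.Statements.S3501
import Cfsg.Agent.SmallOrder.DerangementsAffine

set_option autoImplicit false
open Cfsg

namespace Cfsg.Agent.S3501

/-- Let a finite group G act faithfully and primitively on a finite set Ω with at least two points, and suppose G is not almost simple (it has no non-abelian simple normal subgroup with trivial centralizer). Then the derangements of G form a single conjugacy class if and only if G is sharply 2-transitive (2-transitive, and no non-identity element fixes two points). -/
theorem result {G : Type*} [Group G] [Finite G] {Ω : Type*} [Fintype Ω] [MulAction G Ω] [FaithfulSMul G Ω] (hΩ : 2 ≤ Fintype.card Ω) (hprim : MulAction.IsPreprimitive G Ω) (hnas : ¬ ∃ T : Subgroup G, T.Normal ∧ IsSimpleGroup T ∧ ¬ IsMulCommutative T ∧ Subgroup.centralizer (T : Set G) = ⊥) :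
    Nat.card {c : ConjClasses G // ∃ g : G, ConjClasses.mk g = c ∧ ∀ ω : Ω, g • ω ≠ ω} = 1 ↔ (MulAction.IsMultiplyPretransitive G Ω 2 ∧ ∀ g : G, g ≠ 1 → ∀ a b : Ω, a ≠ b → g • a = a → g • b ≠ b) := by
  classical
  haveI : Nontrivial Ω := Fintype.one_lt_card_iff_nontrivial.mp (by omega)
  constructor
  · intro h1
    exact SmallOrder.sharply_of_one_class inferInstance inferInstance hnas h1
  · rintro ⟨h2t, hsharp⟩
    haveI := Fintype.ofFinite G
    haveI : MulAction.IsPretransitive G Ω := inferInstance
    obtain ⟨a, b, hab⟩ := exists_pair_ne Ω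
    -- every derangement is conjugate to a given one, by counting
    have hone : ∀ g : G, g ≠ 1 → Fintype.card (MulAction.fixedBy Ω g) ≤ 1 := fun g hg => by
      rw [Fintype.card_le_one_iff]
      intro x y
      by_contra hxy
      exact hsharp g hg x y (fun e => hxy (Subtype.ext e)) x.2 y.2
    haveI : Subsingleton (MulAction.orbitRel.Quotient G Ω) := ⟨fun x y => by
      induction x using Quotient.inductionOn' with | h x => ?_
      induction y using Quotient.inductionOn' with | h y => ?_
      exact Quotient.sound' (MulAction.exists_smul_eq G y x)⟩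
    haveI : Nonempty (MulAction.orbitRel.Quotient G Ω) := ⟨Quotient.mk'' a⟩
    have hq : Fintype.card (MulAction.orbitRel.Quotient G Ω) = 1 :=
      Fintype.card_eq_one_iff.mpr ⟨Quotient.mk'' a, fun y => Subsingleton.elim _ _⟩
    have hburn := MulAction.sum_card_fixedBy_eq_card_orbits_mul_card_group G Ω
    rw [hq, one_mul] at hburn
    let D : Finset G := Finset.univ.filter fun g => ∀ ω : Ω, g • ω ≠ ω
    have h1D : (1 : G) ∉ D := fun h => (Finset.mem_filter.mp h).2 a (one_smul _ _)
    have hsum : D.card + 1 = Fintype.card Ω := by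
      have hval : ∀ g ∈ (Finset.univ : Finset G),
          Fintype.card (MulAction.fixedBy Ω g) + (if g ∈ D then 1 else 0) =
            1 + (if g = 1 then Fintype.card Ω - 1 else 0) := by
        intro g _
        by_cases hg : g = 1
        · subst hg
          rw [if_neg h1D, if_pos rfl]
          have : Fintype.card (MulAction.fixedBy Ω (1 : G)) = Fintype.card Ω :=
            Fintype.card_congr (Equiv.subtypeUnivEquiv fun x => one_smul G x)
          rw [this]; omega
        · rw [if_neg hg]
          by_cases hd : g ∈ D
          · have h0 : Fintype.card (MulAction.fixedBy Ω g) = 0 :=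
              Fintype.card_eq_zero_iff.mpr ⟨fun x => (Finset.mem_filter.mp hd).2 x x.2⟩
            rw [if_pos hd, h0]
          · rw [if_neg hd]
            have h1 := hone g hg
            have h2 : 0 < Fintype.card (MulAction.fixedBy Ω g) := by
              simp only [D, Finset.mem_filter, Finset.mem_univ, true_and, not_forall, not_not] at hd
              obtain ⟨ω, hω⟩ := hd
              exact Fintype.card_pos_iff.mpr ⟨⟨ω, hω⟩⟩
            omega
      have h3 := Finset.sum_congr rfl hval
      rw [Finset.sum_add_distrib, hburn, Finset.sum_add_distrib, Finset.sum_boole, Finset.sum_const,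
        Finset.card_univ, smul_eq_mul, mul_one, Finset.sum_ite_eq', if_pos (Finset.mem_univ _),
        Finset.filter_univ_mem] at h3
      push_cast at h3
      omega
    obtain ⟨x, hx⟩ : ∃ x, x ∈ D := Finset.card_pos.mp (by omega)
    have hx' : ∀ ω : Ω, x • ω ≠ ω := (Finset.mem_filter.mp hx).2
    have hconj : ∀ y : G, (∀ ω : Ω, y • ω ≠ ω) → IsConj x y := by
      let C : Finset G := D.filter fun y => IsConj x y
      have hC : (Finset.univ.erase a) ⊆ C.image (fun y : G => y • a) := by
        intro c hc
        obtain ⟨k, hk1, hk2⟩ := MulAction.is_two_pretransitive_iff.mp h2t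
          (show a ≠ x • a from fun e => hx' a e.symm) (show a ≠ c from (Finset.ne_of_mem_erase hc).symm)
        refine Finset.mem_image.mpr ⟨k * x * k⁻¹, Finset.mem_filter.mpr ⟨Finset.mem_filter.mpr
          ⟨Finset.mem_univ _, fun ω e => hx' (k⁻¹ • ω) ?_⟩, isConj_iff.mpr ⟨k, rfl⟩⟩, ?_⟩
        · rw [mul_smul, mul_smul] at e
          calc x • k⁻¹ • ω = k⁻¹ • k • x • k⁻¹ • ω := (inv_smul_smul _ _).symm
            _ = k⁻¹ • ω := by rw [e]
        · rw [mul_smul, mul_smul, show k⁻¹ • a = a by rw [inv_smul_eq_iff, hk1], hk2]
      have hle := (Finset.card_le_card hC).trans Finset.card_image_le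
      rw [Finset.card_erase_of_mem (Finset.mem_univ _), Finset.card_univ] at hle
      have hCD : C = D := Finset.eq_of_subset_of_card_le (Finset.filter_subset _ _) (by omega)
      intro y hy
      have hm : y ∈ C := hCD ▸ Finset.mem_filter.mpr ⟨Finset.mem_univ _, hy⟩
      exact (Finset.mem_filter.mp hm).2
    rw [Nat.card_eq_one_iff_unique]
    refine ⟨⟨?_⟩, ⟨⟨_, x, rfl, hx'⟩⟩⟩
    rintro ⟨c₁, u, rfl, hu⟩ ⟨c₂, v, rfl, hv⟩
    exact Subtype.ext (ConjClasses.mk_eq_mk_iff_isConj.mpr ((hconj u hu).symm.trans (hconj v hv)))

end Cfsg.Agent.S3501
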