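import Cfsg.Statements.S3554
import Mathlib

set_option autoImplicit false
open Cfsg

namespace Cfsg.Agent.S3554

/-- Let G act faithfully and transitively on a finite set and suppose G has a non-trivial cyclic normal subgroup. Then some element of G of prime order fixes no point. -/
theorem result {G Ω : Type*} [Group G] [Finite G] [MulAction G Ω] [FaithfulSMul G Ω] [Finite Ω]
    (htrans : MulAction.IsPretransitive G Ω) (C : Subgroup G) (hC : C.Normal) (hC1 : C ≠ ⊥) (hcyc : IsCyclic ↥C) :
    ∃ g : G, (orderOf g).Prime ∧ ∀ ω : Ω, g • ω ≠ ω := by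
  classical
  obtain ⟨c, hc, hc1⟩ := C.bot_or_exists_ne_one.resolve_left hC1
  have : Nontrivial C := ⟨⟨⟨c, hc⟩, 1, fun e => hc1 (congrArg Subtype.val e)⟩⟩
  obtain ⟨p, hp, hpd⟩ := Nat.exists_prime_and_dvd (Finite.one_lt_card (α := C)).ne'
  have : Fact p.Prime := ⟨hp⟩
  obtain ⟨x, hx⟩ := exists_prime_orderOf_dvd_card' (G := C) p hpd
  refine ⟨x, by rw [Subgroup.orderOf_coe, hx]; exact hp, fun ω hω => ?_⟩
  -- every conjugate of `x` is a power of `x`
  have hnorm : ∀ g : G, ∃ n : ℕ, g * x * g⁻¹ = (x : G) ^ n := by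
    intro g
    have : Fintype C := Fintype.ofFinite C
    set y : C := ⟨g * x * g⁻¹, hC.conj_mem _ x.2 g⟩ with hy
    have hS : (Subgroup.zpowers x : Set C).toFinset = Finset.univ.filter (fun z : C => z ^ p = 1) := by
      refine Finset.eq_of_subset_of_card_le (fun z hz => ?_) ?_
      · rw [Set.mem_toFinset] at hz
        obtain ⟨k, rfl⟩ := hz
        rw [Finset.mem_filter]
        refine ⟨Finset.mem_univ _, ?_⟩
        change (x ^ k) ^ p = 1
        rw [← zpow_natCast, ← zpow_mul, mul_comm, zpow_mul, zpow_natCast, ← hx,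
          pow_orderOf_eq_one, one_zpow]
      · rw [Set.toFinset_card]
        refine (IsCyclic.card_pow_eq_one_le hp.pos).trans ?_
        rw [← Nat.card_eq_fintype_card, SetLike.coe_sort_coe, Nat.card_zpowers, hx]
    have hyp : y ^ p = 1 := by
      apply Subtype.ext
      have hxp : (x : G) ^ p = 1 := by
        rw [← hx, ← Subgroup.orderOf_coe, pow_orderOf_eq_one]
      change (g * x * g⁻¹) ^ p = 1
      rw [conj_pow, hxp, mul_one, mul_inv_cancel]
    have hmem : y ∈ Subgroup.zpowers x := by
      rw [← SetLike.mem_coe, ← Set.mem_toFinset, hS, Finset.mem_filter]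
      exact ⟨Finset.mem_univ _, hyp⟩
    obtain ⟨n, hn⟩ := (mem_powers_iff_mem_zpowers (x := x)).mpr hmem
    exact ⟨n, by simpa [hy] using congrArg Subtype.val hn.symm⟩
  have hfixall : ∀ u : Ω, (x : G) • u = u := by
    intro u
    obtain ⟨g, rfl⟩ := htrans.exists_smul_eq ω u
    obtain ⟨n, hn⟩ := hnorm g⁻¹
    have : (g⁻¹ * x * g⁻¹⁻¹) • ω = ω := by
      rw [hn]
      clear hn
      induction n with
      | zero => simp
      | succ n ih => rw [pow_succ, mul_smul, hω, ih]
    rw [inv_inv, mul_smul, mul_smul, inv_smul_eq_iff] at this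
    exact this
  have : (x : G) = 1 := FaithfulSMul.eq_of_smul_eq_smul (α := Ω) fun u => by rw [hfixall, one_smul]
  have : x = 1 := Subtype.ext this
  rw [this, orderOf_one] at hx
  exact hp.ne_one hx.symm

end Cfsg.Agent.S3554
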