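import Cfsg.Statements.S3555
import Cfsg.Agent.PermGroups.InvolutoryDerangements

set_option autoImplicit false
open Cfsg
open scoped Pointwise

namespace Cfsg.Agent.S3555

/-- Let G act faithfully and transitively on a finite set and suppose every element of G fixing no point is an involution. Then either G is an elementary abelian 2-group, or G is a Frobenius group whose Frobenius kernel is an elementary abelian 2-group: G has a Frobenius complement H, and the elements lying in no conjugate of H, together with the identity, pairwise commute and square to the identity. -/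
theorem result {G Ω : Type*} [Group G] [Finite G] [MulAction G Ω] [FaithfulSMul G Ω] [Finite Ω]
    (htrans : MulAction.IsPretransitive G Ω) (hinv : ∀ g : G, (∀ ω : Ω, g • ω ≠ ω) → orderOf g = 2) :
    (IsMulCommutative G ∧ ∀ g : G, g ^ 2 = 1) ∨
    (∃ H : Subgroup G, Cfsg.IsFrobeniusComplement H ∧
      (∀ x ∈ Cfsg.frobeniusKernel H, x ^ 2 = 1) ∧
      ∀ x ∈ Cfsg.frobeniusKernel H, ∀ y ∈ Cfsg.frobeniusKernel H, x * y = y * x) := by
  classical
  haveI := htrans
  have hsq : ∀ g : G, (∀ ω : Ω, g • ω ≠ ω) → g * g = 1 := fun g hg => by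
    rw [← sq]; exact hinv g hg ▸ pow_orderOf_eq_one g
  have hcomm2 : ∀ (x y : G), x * x = 1 → y * y = 1 → (x * y) * (x * y) = 1 → x * y = y * x := by
    intro x y hx hy hxy
    calc x * y = (x * y)⁻¹ := (inv_eq_of_mul_eq_one_right hxy).symm
      _ = y * x := by rw [mul_inv_rev, inv_eq_of_mul_eq_one_right hx, inv_eq_of_mul_eq_one_right hy]
  by_cases hreg : ∀ g : G, g ≠ 1 → ∀ ω : Ω, g • ω ≠ ω
  · left
    have h2 : ∀ g : G, g * g = 1 := fun g => by
      rcases eq_or_ne g 1 with rfl | hg
      · exact one_mul 1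
      · exact hsq g (hreg g hg)
    exact ⟨⟨⟨fun x y => hcomm2 x y (h2 x) (h2 y) (h2 _)⟩⟩, fun g => by rw [sq]; exact h2 g⟩
  push Not at hreg
  obtain ⟨g₀, hg₀, a, ha⟩ := hreg
  have huniq : ∀ {g : G}, g ≠ 1 → ∀ {u v : Ω}, g • u = u → g • v = v → u = v := fun hg _ _ hu hv =>
    Cfsg.Agent.PermGroups.unique_fixed_of_derangements_involutions htrans hsq hg hu hv
  have hst : ∀ g x : G, x ∈ MulAut.conj g • MulAction.stabilizer G a ↔ x • g • a = g • a := by
    intro g x
    rw [Subgroup.mem_pointwise_smul_iff_inv_smul_mem, MulAction.mem_stabilizer_iff,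
      show ((MulAut.conj g)⁻¹ : MulAut G) • x = g⁻¹ * x * g by simp [MulAut.smul_def], mul_smul,
      mul_smul, inv_smul_eq_iff]
  refine Or.inr ⟨MulAction.stabilizer G a, ?_, ?_⟩
  · refine ⟨fun e => hg₀ ?_, fun e => hg₀ ?_, fun g hg => ?_⟩
    · exact Subgroup.mem_bot.1 (e ▸ MulAction.mem_stabilizer_iff.2 ha)
    · refine eq_of_smul_eq_smul (α := Ω) fun w => ?_
      obtain ⟨x, rfl⟩ := MulAction.exists_smul_eq G a w
      rw [show x • a = a from MulAction.mem_stabilizer_iff.1 (e ▸ Subgroup.mem_top x), one_smul, ha]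
    · rw [Subgroup.eq_bot_iff_forall]
      intro x hx
      by_contra hx1
      exact hg (MulAction.mem_stabilizer_iff.2 (huniq hx1 hx.1 ((hst g x).1 hx.2)).symm)
  have hmem : ∀ x ∈ Cfsg.frobeniusKernel (MulAction.stabilizer G a), x = 1 ∨ ∀ ω : Ω, x • ω ≠ ω := by
    intro x hx
    rcases hx with rfl | hx
    · exact Or.inl rfl
    · refine Or.inr fun ω hω => ?_
      obtain ⟨g, rfl⟩ := MulAction.exists_smul_eq G a ω
      exact hx g ((hst g x).2 hω)
  have hone : ∀ x ∈ Cfsg.frobeniusKernel (MulAction.stabilizer G a), x * x = 1 := fun x hx => by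
    rcases hmem x hx with rfl | h
    · exact one_mul 1
    · exact hsq x h
  refine ⟨fun x hx => by rw [sq]; exact hone x hx, fun x hx y hy => ?_⟩
  rcases hmem x hx with rfl | hdx
  · rw [one_mul, mul_one]
  refine hcomm2 x y (hone x hx) (hone y hy) ?_
  rcases eq_or_ne (x * y) 1 with h | h
  · rw [h, one_mul]
  refine hsq _ fun ω hω => hdx ω (huniq h ?_ hω)
  have hy' : y • ω = x • ω := by
    conv_rhs => rw [← hω]
    rw [smul_smul, ← mul_assoc, hone x hx, one_mul]
  calc (x * y) • x • ω = (x * y) • y • ω := by rw [hy']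
    _ = x • (y * y) • ω := by rw [smul_smul, smul_smul, mul_assoc]
    _ = x • ω := by rw [hone y hy, one_smul]

end Cfsg.Agent.S3555
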