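import Cfsg.Statements.S3556
import Cfsg.Agent.PermGroups.DerangementsPrimePower

set_option autoImplicit false
open Cfsg MulAction

namespace Cfsg.Agent.S3556

/-- Let G act faithfully and primitively on a finite set with at least two points, and suppose that for some fixed prime p every element of G fixing no point has order a power of p. Then G is of affine type (it has a regular normal subgroup that is an elementary abelian r-group for some prime r) or almost simple (it has a non-abelian simple normal subgroup with trivial centralizer). -/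
theorem result {G Ω : Type*} [Group G] [Finite G] [MulAction G Ω] [FaithfulSMul G Ω] [Finite Ω]
    (hprim : MulAction.IsPreprimitive G Ω) (hΩ : 2 ≤ Nat.card Ω) (p : ℕ) (hp : p.Prime)
    (hder : ∀ g : G, (∀ ω : Ω, g • ω ≠ ω) → ∃ k : ℕ, orderOf g = p ^ k) :
    (∃ (N : Subgroup G) (r : ℕ), r.Prime ∧ N.Normal ∧ Cfsg.IsElementaryAbelian r N ∧
      MulAction.IsPretransitive N Ω ∧ ∀ a : Ω, MulAction.stabilizer N a = ⊥) ∨
    (∃ T : Subgroup G, T.Normal ∧ IsSimpleGroup ↥T ∧ ¬ IsMulCommutative ↥T ∧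
      Subgroup.centralizer (T : Set G) = ⊥) := by
  classical
  have : IsPreprimitive G Ω := hprim
  have : Nontrivial Ω := Finite.one_lt_card_iff_nontrivial.mp hΩ
  obtain ⟨a⟩ : Nonempty Ω := inferInstance
  have hG : (⊤ : Subgroup G) ≠ ⊥ := by
    intro e
    obtain ⟨x, y, hxy⟩ := exists_pair_ne Ω
    obtain ⟨g, hg⟩ := exists_smul_eq G x y
    have : g ∈ (⊥ : Subgroup G) := e ▸ Subgroup.mem_top g
    rw [Subgroup.mem_bot] at this
    rw [this, one_smul] at hg
    exact hxy hg
  obtain ⟨N, ⟨hN, hNne⟩, hNmin⟩ :=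
    (Set.toFinite {K : Subgroup G | K.Normal ∧ K ≠ ⊥}).exists_minimal ⟨⊤, inferInstance, hG⟩
  have hmin : ∀ K : Subgroup G, K.Normal → K ≤ N → K = ⊥ ∨ K = N := fun K hK hKN => by
    by_cases h : K = ⊥
    · exact Or.inl h
    · exact Or.inr (le_antisymm hKN (hNmin ⟨hK, h⟩ hKN))
  have hNt : IsPretransitive N Ω := PermGroups.pretransitive_of_normal N hNne
  by_cases hab : ∀ x ∈ N, ∀ y ∈ N, x * y = y * x
  · left
    have hcard : Nat.card N ≠ 1 := fun h => hNne (Subgroup.eq_bot_of_card_eq N h)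
    obtain ⟨r, hr, hrdvd⟩ := Nat.exists_prime_and_dvd hcard
    have : Fact r.Prime := ⟨hr⟩
    obtain ⟨x, hx⟩ := exists_prime_orderOf_dvd_card' r hrdvd
    let K : Subgroup G :=
      { carrier := {y | y ∈ N ∧ y ^ r = 1}
        one_mem' := ⟨N.one_mem, one_pow r⟩
        mul_mem' := fun {u v} hu hv => ⟨N.mul_mem hu.1 hv.1, by
          rw [(show Commute u v from hab u hu.1 v hv.1).mul_pow, hu.2, hv.2, one_mul]⟩
        inv_mem' := fun {u} hu => ⟨N.inv_mem hu.1, by rw [inv_pow, hu.2, inv_one]⟩ }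
    have hKn : K.Normal := ⟨fun u hu g => ⟨hN.conj_mem u hu.1 g, by
      rw [conj_pow, hu.2]; group⟩⟩
    have hKN : K = N := by
      refine (hmin K hKn fun u hu => hu.1).resolve_left fun e => ?_
      have hxK : (x : G) ∈ K := ⟨x.2, by
        rw [← SubmonoidClass.coe_pow, ← hx, pow_orderOf_eq_one]; rfl⟩
      rw [e, Subgroup.mem_bot] at hxK
      have : orderOf x = 1 := orderOf_eq_one_iff.2 (Subtype.ext hxK)
      rw [hx] at this
      exact hr.one_lt.ne' this
    refine ⟨N, r, hr, hN, ⟨⟨⟨fun u v => Subtype.ext (hab u u.2 v v.2)⟩⟩, fun u hu => ?_⟩, hNt,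
      PermGroups.stabilizer_eq_bot_of_centralizes' hNt hab⟩
    rw [← hKN] at hu
    exact hu.2
  · right
    obtain ⟨hs, hc⟩ :=
      PermGroups.minimalNormal_of_prime_power_derangements hΩ p hp hder N hNne hmin hab
    exact ⟨N, hN, hs, fun hcm => hab fun x hx y hy =>
      congrArg Subtype.val (hcm.is_comm.comm ⟨x, hx⟩ ⟨y, hy⟩), hc⟩

end Cfsg.Agent.S3556
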