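import Cfsg.Statements.S3592
import Cfsg.Agent.SmallOrder.M11Facts
import Cfsg.Agent.S0420

set_option autoImplicit false
open Cfsg

namespace Cfsg.Agent.S3592

/-- Simple groups of order 7920 are isomorphic to the concrete M11. -/
theorem iso_m11 {G : Type*} [Group G] [Finite G] [IsSimpleGroup G] (hG : Nat.card G = 7920) :
    Nonempty (G ≃* ↥Cfsg.Spor.M11) := by
  obtain ⟨e⟩ := S0420.result (G := G) ⟨inferInstance, hG⟩ _ Golay.squareDodecad_mem _ Golay.zero_mem_squareDodecad
  obtain ⟨e'⟩ := S0420.result (G := ↥Cfsg.Spor.M11) ⟨Golay.spor_M11_simple, Golay.spor_M11_card⟩ _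
    Golay.squareDodecad_mem _ Golay.zero_mem_squareDodecad
  exact ⟨e.trans e'.symm⟩

/-- Let M be the Mathieu group M₁₁ (order 7920). If a finite group G has the same order as M and the same set of values of the function 'number of elements of order n' (taken over the element orders n that occur), then G is isomorphic to M. -/
theorem result {G : Type*} [Group G] [Finite G]
    (hcard : Nat.card G = Nat.card ↥Cfsg.Spor.M11)
    (hnse : {c : ℕ | 0 < c ∧ ∃ n : ℕ, c = Nat.card {g : G // orderOf g = n}} =
      {c : ℕ | 0 < c ∧ ∃ n : ℕ, c = Nat.card {g : ↥Cfsg.Spor.M11 // orderOf g = n}}) :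
    Nonempty (G ≃* ↥Cfsg.Spor.M11) := by
  classical
  have := Fintype.ofFinite G
  haveI := Golay.spor_M11_simple
  have := Fintype.ofFinite ↥Cfsg.Spor.M11
  haveI : Fact (Nat.Prime 11) := ⟨by norm_num⟩
  rw [Golay.spor_M11_card] at hcard
  have hno : ∀ v : ℕ, (v = 10 ∨ v = 120 ∨ v = 450 ∨ v = 5760) → ∀ n : ℕ,
      Nat.card {g : G // orderOf g = n} ≠ v := by
    intro v hv n hn
    obtain ⟨-, k, hk⟩ := (Set.ext_iff.1 hnse v).1 ⟨by omega, n, hn.symm⟩
    exact SmallOrder.M11Facts.count_ne Golay.spor_M11_card hv k hk.symm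
  have hmul : Nat.card G = 11 ^ 1 * 720 := by rw [hcard]; norm_num
  have hcount := SmallOrder.S168.card_prime_elements (p := 11) hmul (by norm_num)
  obtain ⟨P⟩ := (inferInstance : Nonempty (Sylow 11 G))
  obtain ⟨hP, -, hd, hm⟩ := SmallOrder.sylow_arith P hmul (by norm_num)
  have key : ∀ n < 721, n ∣ 720 → n % 11 = 1 → n = 1 ∨ n = 12 ∨ n = 45 ∨ n = 144 := by decide +kernel
  have hn : Nat.card (Sylow 11 G) = 144 := by
    rcases key _ (Nat.lt_succ_of_le (Nat.le_of_dvd (by norm_num) hd)) hd hm with h | h | h | h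
    · exact absurd (by rw [hcount, h]) (hno 10 (by norm_num) 11)
    · exact absurd (by rw [hcount, h]) (hno 120 (by norm_num) 11)
    · exact absurd (by rw [hcount, h]) (hno 450 (by norm_num) 11)
    · exact h
  haveI : IsSimpleGroup G := SmallOrder.M11Facts.simple_of_eleven hcard fun x hx => by
    obtain ⟨Q, hQ⟩ := (IsPGroup.of_card (p := 11) (n := 1) (G := Subgroup.zpowers x)
      (by rw [Nat.card_zpowers, hx, pow_one])).exists_le_sylow
    obtain ⟨hQc, -, -, -⟩ := SmallOrder.sylow_arith Q hmul (by norm_num)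
    rw [pow_one] at hQc
    have hQx : Subgroup.zpowers x = (Q : Subgroup G) :=
      Subgroup.eq_of_le_of_card_ge hQ (by rw [Nat.card_zpowers, hx, hQc])
    have hN := SmallOrder.card_normalizer_mul_card_sylow Q
    rw [hn, hcard] at hN
    have hN55 : Nat.card (Subgroup.normalizer ((Q : Subgroup G) : Set G)) = 55 := by omega
    have hCN : Subgroup.centralizer ({x} : Set G) ≤ Subgroup.normalizer ((Q : Subgroup G) : Set G) := by
      rw [← hQx, Subgroup.zpowers_eq_closure, ← Subgroup.centralizer_closure]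
      exact Subgroup.centralizer_le_normalizer _
    have hxC : x ∈ Subgroup.centralizer ({x} : Set G) := Subgroup.mem_centralizer_singleton_iff.2 rfl
    have h11 : 11 ∣ Nat.card (Subgroup.centralizer ({x} : Set G)) := hx ▸ Subgroup.orderOf_dvd_natCard _ hxC
    have h55 := Subgroup.card_dvd_of_le hCN
    rw [hN55] at h55
    obtain ⟨k, hk⟩ := h11
    rw [hk] at h55
    have hk5 : k ∣ 5 := Nat.dvd_of_mul_dvd_mul_left (by norm_num : 0 < 11) h55
    rcases (Nat.dvd_prime (by norm_num : Nat.Prime 5)).1 hk5 with rfl | rfl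
    · rw [hk]
    exfalso
    have : Fact (Nat.Prime 5) := ⟨by norm_num⟩
    obtain ⟨⟨v, hvC⟩, hv⟩ := exists_prime_orderOf_dvd_card' (G := Subgroup.centralizer ({x} : Set G)) 5
      (by rw [hk]; norm_num)
    rw [Subgroup.orderOf_mk] at hv
    have hvx : orderOf (v * x) = 55 := by
      rw [(show Commute v x from Subgroup.mem_centralizer_singleton_iff.1 hvC).orderOf_mul_eq_mul_orderOf_of_coprime
        (by rw [hv, hx]; norm_num), hv, hx]
    -- the elements of order 55: forty generators in each of the 144 normalisers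
    have hcyc : ∀ R : Sylow 11 G, ∃ z : G, orderOf z = 55 ∧
        Subgroup.zpowers z = Subgroup.normalizer ((R : Subgroup G) : Set G) := by
      intro R
      obtain ⟨g, rfl⟩ := MulAction.exists_smul_eq G Q R
      refine ⟨g * (v * x) * g⁻¹, by rw [← MulAut.conj_apply, MulEquiv.orderOf_eq, hvx], ?_⟩
      refine Subgroup.eq_of_le_of_card_ge (Subgroup.zpowers_le.2 ?_) ?_
      · apply Sylow.smul_eq_iff_mem_normalizer.1
        rw [← mul_smul, show g * (v * x) * g⁻¹ * g = g * (v * x) by group, mul_smul]
        congr 1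
        exact Sylow.smul_eq_iff_mem_normalizer.2 (hCN (mul_mem hvC hxC))
      · have := SmallOrder.card_normalizer_mul_card_sylow (g • Q)
        rw [hn, hcard] at this
        rw [Nat.card_zpowers, ← MulAut.conj_apply, MulEquiv.orderOf_eq, hvx]
        omega
    choose z hz hzR using hcyc
    have hgen : ∀ w : G, orderOf w = 55 → ∃ R : Sylow 11 G, w ∈ Subgroup.zpowers (z R) := by
      intro w hw
      obtain ⟨R, hR⟩ := (IsPGroup.of_card (p := 11) (n := 1) (G := Subgroup.zpowers (w ^ 5))
        (by rw [Nat.card_zpowers, orderOf_pow, hw]; norm_num)).exists_le_sylow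
      refine ⟨R, hzR R ▸ ?_⟩
      obtain ⟨hRc, -, -, -⟩ := SmallOrder.sylow_arith R hmul (by norm_num)
      have hR' : Subgroup.zpowers (w ^ 5) = (R : Subgroup G) :=
        Subgroup.eq_of_le_of_card_ge hR (by rw [Nat.card_zpowers, orderOf_pow, hw, hRc]; norm_num)
      rw [← hR', Subgroup.zpowers_eq_closure]
      refine Subgroup.centralizer_le_normalizer _ ?_
      rw [Subgroup.centralizer_closure, Subgroup.mem_centralizer_singleton_iff]
      exact Commute.self_pow w 5
    have hcnt : Nat.card {g : G // orderOf g = 55} = 5760 := by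
      let Sg := Σ R : Sylow 11 G, {w : Subgroup.zpowers (z R) // orderOf w = 55}
      let φ : Sg → {g : G // orderOf g = 55} := fun s => ⟨s.2.1.1, by rw [Subgroup.orderOf_coe]; exact s.2.2⟩
      have hbij : Function.Bijective φ := by
        constructor
        · rintro ⟨R, ⟨⟨a, ha⟩, ha'⟩⟩ ⟨R', ⟨⟨b, hb⟩, hb'⟩⟩ hab
          obtain rfl : a = b := congrArg Subtype.val hab
          have ho : orderOf a = 55 := by rw [← ha', Subgroup.orderOf_mk]
          have e : ∀ S : Sylow 11 G, a ∈ Subgroup.zpowers (z S) → Subgroup.zpowers a = Subgroup.zpowers (z S) :=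
            fun S hS => Subgroup.eq_of_le_of_card_ge (Subgroup.zpowers_le.2 hS)
              (by rw [Nat.card_zpowers, Nat.card_zpowers, ho, hz])
          have hNN : Subgroup.normalizer ((R : Subgroup G) : Set G) = Subgroup.normalizer ((R' : Subgroup G) : Set G) := by
            rw [← hzR R, ← hzR R', ← e R ha, ← e R' hb]
          obtain rfl : R = R' := by
            have hle : (R : Subgroup G) ≤ Subgroup.normalizer ((R' : Subgroup G) : Set G) :=
              hNN ▸ Subgroup.le_normalizer
            have hsup := (R.isPGroup').to_sup_of_normal_right' R'.isPGroup' hle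
            have h1 : (R : Subgroup G) ⊔ R' = R' := R'.3 hsup le_sup_right
            exact (Sylow.ext (R.3 R'.2 (h1 ▸ le_sup_left))).symm
          rfl
        · rintro ⟨w, hw⟩
          obtain ⟨R, hR⟩ := hgen w hw
          exact ⟨⟨R, ⟨⟨w, hR⟩, by rw [Subgroup.orderOf_mk, hw]⟩⟩, rfl⟩
      have hfib : ∀ R : Sylow 11 G, Nat.card {w : Subgroup.zpowers (z R) // orderOf w = 55} = 40 := by
        intro R
        rw [Nat.card_eq_fintype_card, Fintype.card_subtype,
          IsCyclic.card_orderOf_eq_totient (by rw [← Nat.card_eq_fintype_card, Nat.card_zpowers, hz])]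
        decide
      rw [← Nat.card_eq_of_bijective φ hbij, Nat.card_sigma, Finset.sum_congr rfl fun R _ => hfib R,
        Finset.sum_const, Finset.card_univ, ← Nat.card_eq_fintype_card, hn]
      rfl
    exact hno 5760 (by norm_num) 55 hcnt
  exact iso_m11 hcard

end Cfsg.Agent.S3592
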