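import Cfsg.Statements.S3600
import Cfsg.Agent.OddChar.CritA6Affine
import Cfsg.Agent.SmallOrder.Spec5.Main

set_option autoImplicit false
open Cfsg

namespace Cfsg.Agent.S3600

/-- A finite group is critical with respect to a set Ω of natural numbers when its set of element orders is Ω while no proper section has Ω as its set of element orders. A finite group critical with respect to {1, 2, 3, 4, 5} (the set of element orders of the alternating group of degree 6) is isomorphic either to the alternating group of degree 6 or to the affine group F² ⋊ SL(2,F) over the field F with four elements (realised as the matrices of SL(3,F) with last row (0, 0, 1)). -/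
theorem result {G : Type*} [Group G] [Finite G]
    (hcrit : Set.range (orderOf : G → ℕ) = ({1, 2, 3, 4, 5} : Set ℕ) ∧
      ∀ (H : Subgroup G) (N : Subgroup ↥H) [N.Normal], (H ≠ ⊤ ∨ N ≠ ⊥) → Set.range (orderOf : (↥H ⧸ N) → ℕ) ≠ ({1, 2, 3, 4, 5} : Set ℕ)) :
    Nonempty (G ≃* alternatingGroup (Fin 6)) ∨
      ∃ (F : Type) (_ : Field F) (_ : Fintype F), Fintype.card F = 4 ∧
        Nonempty (G ≃* ↥(Subgroup.closure {M : Matrix.SpecialLinearGroup (Fin 3) F |
          (M : Matrix (Fin 3) (Fin 3) F) 2 0 = 0 ∧ (M : Matrix (Fin 3) (Fin 3) F) 2 1 = 0 ∧ (M : Matrix (Fin 3) (Fin 3) F) 2 2 = 1})) := by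
  classical
  haveI : Fact (Nat.Prime 2) := ⟨Nat.prime_two⟩
  obtain ⟨hspec, hex⟩ := OddChar.CritA6.spec_and_exists hcrit.1
  rcases hspec.structure_theorem (fun k hk => hex k (by
    rcases hk with rfl | rfl | rfl <;> simp)) with hA6 | ⟨N, hN, hel, ⟨e⟩⟩
  · exact Or.inl hA6
  refine Or.inr ⟨GaloisField 2 2, inferInstance, Fintype.ofFinite _, ?_⟩
  letI : Fintype (GaloisField 2 2) := Fintype.ofFinite _
  have hF : Fintype.card (GaloisField 2 2) = 4 := by
    rw [← Nat.card_eq_fintype_card, GaloisField.card 2 2 two_ne_zero]; norm_num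
  refine ⟨hF, ?_⟩
  change Nonempty (G ≃* ↥(SmallOrder.affSL (GaloisField 2 2)))
  -- the group itself
  set φ : G →* OddChar.CritA6.A5 := e.toMonoidHom.comp (QuotientGroup.mk' N) with hφ
  have hker : φ.ker = N := by
    ext x
    rw [MonoidHom.mem_ker, hφ, MonoidHom.comp_apply, MulEquiv.coe_toMonoidHom, e.map_eq_one_iff,
      QuotientGroup.mk'_apply, QuotientGroup.eq_one_iff]
  have h : OddChar.CritA6.Ext φ :=
    ⟨e.surjective.comp (QuotientGroup.mk'_surjective N), hker ▸ hel, hspec⟩
  obtain ⟨g4, hg4⟩ := hex 4 (by simp)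
  have hsp := h.spanned_of_minimal (h.ker_nontrivial hg4) (by
    intro H hH
    by_contra hne
    refine hcrit.2 H ⊥ (Or.inl hne) ?_
    let f : ↥H →* ↥H ⧸ (⊥ : Subgroup ↥H) := QuotientGroup.mk' ⊥
    have hf : Function.Injective f := (MonoidHom.ker_eq_bot_iff f).mp (QuotientGroup.ker_mk' ⊥)
    apply Set.Subset.antisymm
    · rintro _ ⟨q, rfl⟩
      obtain ⟨x, rfl⟩ := QuotientGroup.mk'_surjective (⊥ : Subgroup ↥H) q
      rw [orderOf_injective f hf, ← Subgroup.orderOf_coe, ← hcrit.1]
      exact ⟨_, rfl⟩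
    · intro k hk
      obtain ⟨x, hx, hxk⟩ := hH k hk
      exact ⟨f ⟨x, hx⟩, by rw [orderOf_injective f hf, ← Subgroup.orderOf_coe]; exact hxk⟩)
  -- the model
  obtain ⟨hspec', hex'⟩ := OddChar.CritA6.spec_and_exists (SmallOrder.range_orderOf_affSL hF)
  rcases hspec'.structure_theorem (fun k hk => hex' k (by
    rcases hk with rfl | rfl | rfl <;> simp)) with hA | ⟨N', hN', hel', ⟨e'⟩⟩
  · exfalso
    obtain ⟨e6⟩ := hA
    haveI := alternatingGroup.isSimpleGroup (α := Fin 6) (by simp)
    haveI : IsSimpleGroup (SmallOrder.affSL (GaloisField 2 2)) :=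
      e6.isSimpleGroup_congr.mpr inferInstance
    set T : Subgroup (SmallOrder.affSL (GaloisField 2 2)) :=
      Subgroup.closure (Set.range fun p : GaloisField 2 2 × GaloisField 2 2 => OddChar.CritA6.trans p.1 p.2) with hT
    haveI : T.Normal := by
      refine ⟨fun x hx g => ?_⟩
      have hle : T ≤ T.comap (MulAut.conj g).toMonoidHom := (Subgroup.closure_le _).mpr (by
        rintro _ ⟨⟨a, b⟩, rfl⟩
        obtain ⟨a', b', hab⟩ := OddChar.CritA6.trans_conj g a b
        exact Subgroup.subset_closure ⟨(a', b'), hab.symm⟩)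
      exact hle hx
    have hTc : ∀ a ∈ T, ∀ b ∈ T, a * b = b * a := by
      intro a ha b hb
      refine Subgroup.closure_induction₂ (p := fun x y _ _ => x * y = y * x) ?_ ?_ ?_ ?_ ?_ ?_ ?_ ha hb
      · rintro _ _ ⟨p, rfl⟩ ⟨q, rfl⟩; exact OddChar.CritA6.trans_comm _ _ _ _
      · intro x _; simp
      · intro x _; simp
      · intro x y z _ _ _ h1 h2; exact (Commute.mul_left h1 h2).eq
      · intro x y z _ _ _ h1 h2; exact (Commute.mul_right h1 h2).eq
      · intro x y _ _ h1; exact (Commute.inv_left h1).eq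
      · intro x y _ _ h1; exact (Commute.inv_right h1).eq
    have htop : T = ⊤ := (Subgroup.Normal.eq_bot_or_eq_top inferInstance).resolve_left fun hb =>
      OddChar.CritA6.trans_zero_ne_one (by
        have : OddChar.CritA6.trans (1 : GaloisField 2 2) 0 ∈ T :=
          Subgroup.subset_closure ⟨(1, 0), rfl⟩
        rw [hb, Subgroup.mem_bot] at this
        exact this)
    have hcomm : ∀ a b : alternatingGroup (Fin 6), a * b = b * a := fun a b => by
      simpa using congrArg e6 (hTc (e6.symm a) (htop ▸ Subgroup.mem_top _) (e6.symm b)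
        (htop ▸ Subgroup.mem_top _))
    exact absurd (hcomm ⟨Equiv.swap 0 1 * Equiv.swap 1 2, Equiv.Perm.mem_alternatingGroup.mpr (by decide)⟩
      ⟨Equiv.swap 0 1 * Equiv.swap 2 3, Equiv.Perm.mem_alternatingGroup.mpr (by decide)⟩) (by decide +kernel)
  set φ' : SmallOrder.affSL (GaloisField 2 2) →* OddChar.CritA6.A5 :=
    e'.toMonoidHom.comp (QuotientGroup.mk' N') with hφ'
  have hker' : φ'.ker = N' := by
    ext x
    rw [MonoidHom.mem_ker, hφ', MonoidHom.comp_apply, MulEquiv.coe_toMonoidHom, e'.map_eq_one_iff,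
      QuotientGroup.mk'_apply, QuotientGroup.eq_one_iff]
  have h' : OddChar.CritA6.Ext φ' :=
    ⟨e'.surjective.comp (QuotientGroup.mk'_surjective N'), hker' ▸ hel', hspec'⟩
  obtain ⟨g4', hg4'⟩ := hex' 4 (by simp)
  exact h.exists_iso h' hsp
    (h'.spanned_of_card (h'.ker_nontrivial hg4') (OddChar.CritA6.card_ker_le hF h'))

end Cfsg.Agent.S3600
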