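import Cfsg.Statements.S3634
import Cfsg.Agent.PermGroups.PrimeGraphFacts

set_option autoImplicit false
open Cfsg

namespace Cfsg.Agent.S3634

/-- Let G be a finite group with normal subgroups K ≤ M, and let p, q, r be distinct primes with p dividing the order of K, q dividing the order of M/K and r dividing the order of G/M. Then p, q, r are not pairwise non-adjacent in the prime graph of G: G has an element of order pq, pr or qr. -/
theorem result {G : Type*} [Group G] [Finite G] (K M : Subgroup G) [K.Normal] [M.Normal] (hKM : K ≤ M)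
    (p q r : ℕ) (hp : p.Prime) (hq : q.Prime) (hr : r.Prime) (hpq : p ≠ q) (hpr : p ≠ r) (hqr : q ≠ r)
    (hpK : p ∣ Nat.card ↥K) (hqM : q ∣ Nat.card ↥M / Nat.card ↥K) (hrG : r ∣ Nat.card G / Nat.card ↥M) :
    (∃ x : G, orderOf x = p * q) ∨ (∃ x : G, orderOf x = p * r) ∨ (∃ x : G, orderOf x = q * r) := by
  by_contra hno
  rw [not_or, not_or] at hno
  obtain ⟨hnpq, hnpr, hnqr⟩ := hno
  haveI : Fact p.Prime := ⟨hp⟩
  haveI : Fact q.Prime := ⟨hq⟩
  haveI : Fact r.Prime := ⟨hr⟩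
  obtain ⟨P⟩ : Nonempty (Sylow p K) := inferInstance
  let N : Subgroup G := Subgroup.normalizer ((P.1.map K.subtype : Subgroup G) : Set G)
  have hNK : N ⊔ K = ⊤ := Sylow.normalizer_sup_eq_top P
  -- `q` divides `|M ∩ N|`
  have hqMN : q ∣ Nat.card (M ⊓ N : Subgroup G) := by
    have h1 : Nat.card M / Nat.card K = K.relIndex M := by
      rw [← Subgroup.relIndex_bot_left (H := M),
        ← Subgroup.relIndex_mul_relIndex ⊥ K M bot_le hKM, Subgroup.relIndex_bot_left,
        Nat.mul_div_cancel_left _ Nat.card_pos]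
    rw [h1] at hqM
    have h2 : (M ⊓ N) ⊔ K = M := by
      refine le_antisymm (sup_le inf_le_left hKM) fun x hx => ?_
      have hx2 : x ∈ ((N ⊔ K : Subgroup G) : Set G) := by rw [hNK]; exact Subgroup.mem_top x
      rw [Subgroup.mul_normal] at hx2
      obtain ⟨n, hn, k, hk', rfl⟩ := hx2
      exact Subgroup.mul_mem_sup ⟨(M.mul_mem_cancel_right (hKM hk')).1 hx, hn⟩ hk'
    rw [← h2, Subgroup.relIndex_sup_right] at hqM
    exact hqM.trans (Subgroup.relIndex_dvd_card _ _)
  -- `r` divides `|N : M ∩ N|`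
  haveI hMN' : (M.subgroupOf N).Normal := inferInstance
  obtain ⟨Q⟩ : Nonempty (Sylow q (M.subgroupOf N)) := inferInstance
  let N₁ : Subgroup N := Subgroup.normalizer ((Q.1.map (M.subgroupOf N).subtype : Subgroup N) : Set N)
  have hrN : r ∣ (M.subgroupOf N).index := by
    have h1 : Nat.card G / Nat.card M = M.index := by
      rw [← M.index_mul_card, Nat.mul_div_cancel _ Nat.card_pos]
    rw [h1] at hrG
    have h2 : N ⊔ M = ⊤ := eq_top_iff.2 (hNK ▸ sup_le_sup_left hKM N)
    show r ∣ M.relIndex N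
    rwa [← Subgroup.relIndex_sup_right, h2, Subgroup.relIndex_top_right]
  have hrN₁ : r ∣ Nat.card N₁ := by
    have h2 : N₁ ⊔ M.subgroupOf N = ⊤ := Sylow.normalizer_sup_eq_top Q
    rw [← Subgroup.relIndex_top_right, ← h2, Subgroup.relIndex_sup_right] at hrN
    exact hrN.trans (Subgroup.relIndex_dvd_card _ _)
  obtain ⟨⟨y, hy⟩, hyo⟩ := exists_prime_orderOf_dvd_card' r hrN₁
  rw [Subgroup.orderOf_mk] at hyo
  let Q' : Subgroup N := Q.1.map (M.subgroupOf N).subtype
  have hQne : Q' ≠ ⊥ := by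
    rw [Ne, Subgroup.map_eq_bot_iff_of_injective _ (M.subgroupOf N).subtype_injective]
    refine Sylow.ne_bot_of_dvd_card Q ?_
    rwa [Nat.card_congr (Subgroup.subgroupOfEquivOfLe (inf_le_right : M ⊓ N ≤ N)).toEquiv.symm,
      Subgroup.inf_subgroupOf_right] at hqMN
  have hQp : IsPGroup q Q' := Q.2.map _
  have hyM : ∀ m ∈ Q', y * m * y⁻¹ ∈ Q' := fun m hm => (Subgroup.mem_normalizer_iff.1 hy m).1 hm
  -- the elements `m * y` have order `r`
  have hyt : ∀ m ∈ Q', orderOf (m * y) = r := by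
    intro m hm
    have hpow : ∀ i : ℕ, (m * y) ^ i * (y ^ i)⁻¹ ∈ Q' := by
      intro i
      induction i with
      | zero => simp
      | succ i ih =>
        rw [show (m * y) ^ (i + 1) * (y ^ (i + 1))⁻¹ = m * (y * ((m * y) ^ i * (y ^ i)⁻¹) * y⁻¹) by
          rw [pow_succ', pow_succ']; group]
        exact Q'.mul_mem hm (hyM _ ih)
    have hr1 : (m * y) ^ r ∈ Q' := by
      have := hpow r
      rwa [← hyo, pow_orderOf_eq_one, inv_one, mul_one, hyo] at this
    obtain ⟨j, hj⟩ := hQp ⟨_, hr1⟩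
    have hmy : (m * y) ^ (r * q ^ j) = 1 := by
      rw [pow_mul]; exact congrArg Subtype.val hj
    have hrd : r ∣ orderOf (m * y) := by
      by_contra hnd
      obtain ⟨i, hi, hio⟩ : ∃ i ≤ j, orderOf (m * y) = q ^ i := (Nat.dvd_prime_pow hq).1
        (Nat.Coprime.dvd_of_dvd_mul_left ((hr.coprime_iff_not_dvd.2 hnd).symm)
          (orderOf_dvd_of_pow_eq_one hmy))
      have h1 := hpow (q ^ i)
      rw [← hio, pow_orderOf_eq_one, one_mul, hio] at h1
      have h2 : y ^ q ^ i ∈ Q' := inv_mem_iff.1 h1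
      obtain ⟨j', hj'⟩ := hQp ⟨_, h2⟩
      have h3 : y ^ (q ^ i * q ^ j') = 1 := by rw [pow_mul]; exact congrArg Subtype.val hj'
      rw [← pow_add] at h3
      have h4 := orderOf_dvd_of_pow_eq_one h3
      rw [hyo] at h4
      exact hqr ((Nat.prime_dvd_prime_iff_eq hr hq).1 (hr.dvd_of_dvd_pow h4)).symm
    obtain ⟨c, hc⟩ := hrd
    have hcq : c ∣ q ^ j := Nat.dvd_of_mul_dvd_mul_left hr.pos
      (hc ▸ orderOf_dvd_of_pow_eq_one hmy)
    obtain ⟨i, -, rfl⟩ := (Nat.dvd_prime_pow hq).1 hcq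
    rcases i with _ | i
    · rw [hc, pow_zero, mul_one]
    · refine absurd ?_ hnqr
      obtain ⟨x, hx⟩ := Cfsg.Agent.PermGroups.exists_orderOf_of_dvd
        (show q * r ∣ orderOf (m * y) by rw [hc, pow_succ]; exact ⟨q ^ i, by ring⟩) (orderOf_pos _).ne'
      exact ⟨(x : G), by rw [Subgroup.orderOf_coe, hx]⟩
  -- the centre of `P`, inside `N`
  let P' : Subgroup N := (P.1.map K.subtype).subgroupOf N
  haveI hP'n : P'.Normal := Subgroup.normal_in_normalizer
  let V : Subgroup N := (Subgroup.center P').map P'.subtype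
  haveI hVn : V.Normal := inferInstance
  have hPp : IsPGroup p P' :=
    (P.2.map K.subtype).of_equiv (Subgroup.subgroupOfEquivOfLe Subgroup.le_normalizer).symm
  have hP'nt : Nontrivial P' := by
    rw [Finite.one_lt_card_iff_nontrivial.symm,
      Nat.card_congr (Subgroup.subgroupOfEquivOfLe Subgroup.le_normalizer).toEquiv,
      Subgroup.card_subtype]
    exact (Subgroup.one_lt_card_iff_ne_bot _).2 (Sylow.ne_bot_of_dvd_card P hpK)
  have hVp : IsPGroup p V := (hPp.to_subgroup _).map _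
  have hVne : V ≠ ⊥ := by
    rw [Ne, Subgroup.map_eq_bot_iff_of_injective _ P'.subtype_injective]
    exact (Subgroup.nontrivial_iff_ne_bot _).1 hPp.center_nontrivial
  have hVc : IsMulCommutative V := by
    refine ⟨⟨?_⟩⟩
    rintro ⟨_, a, ha, rfl⟩ ⟨_, b, hb, rfl⟩
    exact Subtype.ext (congrArg Subtype.val (Subgroup.mem_center_iff.1 ha b).symm :)
  have hfix : ∀ v ∈ V, ∀ z : N, z ≠ 1 → ∀ s : ℕ, s.Prime → p ≠ s → s ∣ orderOf z →
      (¬ ∃ x : G, orderOf x = p * s) → z * v = v * z → v = 1 := by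
    intro v hv z _ s hs hps hsd hns hcomm
    by_contra hv1
    obtain ⟨j, hj⟩ := hVp ⟨v, hv⟩
    have hj' : v ^ p ^ j = 1 := congrArg Subtype.val hj
    have hpd : p ∣ orderOf v := by
      obtain ⟨i, -, hi⟩ := (Nat.dvd_prime_pow hp).1 (orderOf_dvd_of_pow_eq_one hj')
      rcases i with _ | i
      · exact absurd (orderOf_eq_one_iff.1 (by simpa using hi)) hv1
      · exact hi ▸ dvd_pow_self p (by omega)
    obtain ⟨x, hx⟩ := Cfsg.Agent.PermGroups.exists_orderOf_mul_of_commute hp hs hps hpd hsd hcomm.symm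
    exact hns ⟨(x : G), by rw [Subgroup.orderOf_coe, hx]⟩
  refine hVne (Cfsg.Agent.OddLocal.eq_bot_of_fpf hVc hyM hr hyt hQne
    (IsPGroup.coprime_card_of_ne q p hpq.symm _ _ hQp hVp) (fun v hv m hm hm1 e => ?_)
    fun v hv m hm e => ?_)
  · refine hfix v hv m hm1 q hq hpq ?_ hnpq e
    obtain ⟨j, hj⟩ := hQp ⟨m, hm⟩
    have hj' : m ^ q ^ j = 1 := congrArg Subtype.val hj
    obtain ⟨i, -, hi⟩ := (Nat.dvd_prime_pow hq).1 (orderOf_dvd_of_pow_eq_one hj')
    rcases i with _ | i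
    · exact absurd (orderOf_eq_one_iff.1 (by simpa using hi)) hm1
    · exact hi ▸ dvd_pow_self q (by omega)
  · refine hfix v hv (m * y) ?_ r hr hpr (hyt m hm).symm.dvd hnpr e
    intro h1
    have := hyt m hm
    rw [h1, orderOf_one] at this
    exact hr.one_lt.ne this

end Cfsg.Agent.S3634
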