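import Cfsg.Statements.S3680
import Cfsg.Agent.PermGroups.PrimitiveSocle
import Cfsg.Agent.Core.MinimalNormal
import Cfsg.Agent.S0721

set_option autoImplicit false
open Cfsg

namespace Cfsg.Agent.S3680

/-- The socle of a finite primitive permutation group. Let a finite group G act faithfully and primitively on a set Ω, and let N be the subgroup generated by the minimal normal subgroups of G. Then either N is an elementary abelian p-group for some prime p and acts regularly on Ω (transitively with trivial point stabilizers), or N is isomorphic to a direct product of m ≥ 1 copies of a non-abelian simple group. -/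
theorem result {G Ω : Type*} [Group G] [Finite G] [MulAction G Ω] [FaithfulSMul G Ω] [Finite Ω]
    (hprim : MulAction.IsPreprimitive G Ω) (N : Subgroup G)
    (hN : N = sSup {V : Subgroup G | V.Normal ∧ V ≠ ⊥ ∧ ∀ M : Subgroup G, M.Normal → M ≤ V → M = ⊥ ∨ M = V}) :
    (∃ p : ℕ, p.Prime ∧ IsMulCommutative N ∧ (∀ x : N, x ^ p = 1) ∧
      MulAction.IsPretransitive N Ω ∧ ∀ ω : Ω, MulAction.stabilizer N ω = ⊥) ∨
    (∃ (T : Type) (_ : Group T) (m : ℕ), 1 ≤ m ∧ IsSimpleGroup T ∧ ¬ IsMulCommutative T ∧ Nonempty (N ≃* (Fin m → T))) := by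
  have := hprim.toIsPretransitive
  let P : Subgroup G → Prop := fun V => V.Normal ∧ V ≠ ⊥ ∧ ∀ M : Subgroup G, M.Normal → M ≤ V → M = ⊥ ∨ M = V
  have htr : ∀ V : Subgroup G, P V → MulAction.IsPretransitive V Ω := by
    intro V hV
    haveI := hV.1
    refine MulAction.IsQuasiPreprimitive.isPretransitive_of_normal fun e => hV.2.1 ?_
    exact (Subgroup.eq_bot_iff_forall V).2 fun v hv => eq_of_smul_eq_smul (α := Ω) fun p => by
      rw [one_smul]; exact Set.eq_univ_iff_forall.1 e p ⟨v, hv⟩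
  by_cases hG : Subsingleton G
  · have hΩ : Subsingleton Ω := ⟨fun a b => by
      obtain ⟨g, rfl⟩ := MulAction.exists_smul_eq G a b
      rw [Subsingleton.elim g 1, one_smul]⟩
    exact Or.inl ⟨2, Nat.prime_two, ⟨⟨fun a b => Subsingleton.elim _ _⟩⟩,
      fun x => Subsingleton.elim _ _, ⟨fun a b => ⟨1, Subsingleton.elim _ _⟩⟩,
      fun ω => Subsingleton.elim _ _⟩
  rw [not_subsingleton_iff_nontrivial] at hG
  obtain ⟨M, hM⟩ := Cfsg.Agent.Core.exists_isMinNormal (G := G)
  have hMP : P M := hM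
  have hne : Nonempty Ω := by
    by_contra h
    rw [not_nonempty_iff] at h
    obtain ⟨x, hx⟩ := exists_ne (1 : G)
    exact hx (eq_of_smul_eq_smul (α := Ω) fun p => isEmptyElim p)
  haveI := hMP.1
  obtain ⟨T, hT1, m, hT, hm, ⟨eM⟩⟩ := Cfsg.Agent.S0721.result M hMP.2.1 hMP.2.2
  have hcomm : ∀ L : Subgroup G, P L → L ≠ M → ∀ x ∈ M, ∀ y ∈ L, x * y = y * x := fun L hL hne =>
    haveI := hL.1
    Cfsg.Agent.PermGroups.commute_of_minimal hMP.2.1 hMP.2.2 hL.2.2 (Ne.symm hne)
  by_cases hab : IsMulCommutative M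
  · have hMc : ∀ x ∈ M, ∀ y ∈ M, x * y = y * x := fun x hx y hy =>
      congrArg Subtype.val (hab.1.1 ⟨x, hx⟩ ⟨y, hy⟩)
    have huniq : ∀ L : Subgroup G, P L → L = M := fun L hL => by
      by_contra h
      exact (hMP.2.2 L hL.1 (Cfsg.Agent.PermGroups.le_of_centralizes (htr M hMP) (htr M hMP) hMc
        (hcomm L hL h))).elim hL.2.1 h
    have hNM : N = M := hN.trans (le_antisymm (sSup_le fun L hL => (huniq L hL).le) (le_sSup hMP))
    obtain ⟨-, p, hp, hpow, -⟩ := hM.elementaryAbelian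
      (Group.isSolvable_of_comm fun a b : M => hab.1.1 a b)
    subst hNM
    exact Or.inl ⟨p, hp, hab, fun x => Subtype.ext (hpow x x.2), htr _ hMP,
      fun ω => Cfsg.Agent.PermGroups.stabilizer_eq_bot_of_centralizes' (htr _ hMP) hMc ω⟩
  have hTab : ¬ IsMulCommutative T := fun h => hab ⟨⟨fun a b => eM.injective (by
    rw [map_mul, map_mul]
    exact funext fun i => h.1.1 _ _)⟩⟩
  by_cases hex : ∃ L, P L ∧ L ≠ M
  · obtain ⟨L, hL, hLM⟩ := hex
    have hc := hcomm L hL hLM
    have huniq : ∀ K : Subgroup G, P K → K = M ∨ K = L := fun K hK => by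
      by_contra h
      rw [not_or] at h
      exact (hL.2.2 K hK.1 (Cfsg.Agent.PermGroups.le_of_centralizes (htr M hMP) (htr L hL) hc
        (hcomm K hK h.1))).elim hK.2.1 h.2
    have hNM : N = M ⊔ L := hN.trans (le_antisymm
      (sSup_le fun K hK => (huniq K hK).elim (fun e => e ▸ le_sup_left) (fun e => e ▸ le_sup_right))
      (sup_le (le_sSup hMP) (le_sSup hL)))
    have hdisj : M ⊓ L = ⊥ := by
      haveI := hL.1
      rcases hMP.2.2 (M ⊓ L) inferInstance inf_le_left with h | h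
      · exact h
      · exact ((hL.2.2 M hMP.1 (inf_eq_left.1 h)).elim hMP.2.1 (Ne.symm hLM)).elim
    obtain ⟨e1⟩ := Cfsg.Agent.PermGroups.nonempty_sup_mulEquiv_prod hc hdisj
    obtain ⟨e2⟩ := Cfsg.Agent.PermGroups.nonempty_mulEquiv_of_centralizes (htr M hMP) (htr L hL) hc
    obtain ⟨e3⟩ := Cfsg.Agent.PermGroups.nonempty_prod_pi_mulEquiv T m m
    subst hNM
    exact Or.inr ⟨T, hT1, m + m, by omega, hT, hTab,
      ⟨e1.trans ((MulEquiv.prodCongr eM (e2.symm.trans eM)).trans e3)⟩⟩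
  · have hNM : N = M := hN.trans (le_antisymm
      (sSup_le fun L hL => le_of_eq (by_contra fun h => hex ⟨L, hL, h⟩)) (le_sSup hMP))
    subst hNM
    exact Or.inr ⟨T, hT1, m, hm, hT, hTab, ⟨eM⟩⟩

end Cfsg.Agent.S3680
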