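import Cfsg.Statements.S3685
import Cfsg.Agent.PermGroups.CubicSuborbit.Main

set_option autoImplicit false
open Cfsg

namespace Cfsg.Agent.S3685

/-- Let a finite group G act faithfully and primitively on a set Ω, and suppose the stabilizer of a point a has an orbit of length 3. Then the stabilizer of a is isomorphic to one of: the cyclic group of order 3, the symmetric group of degree 3, the dihedral group of order 12, the symmetric group of degree 4, or the direct product of the symmetric group of degree 4 with a group of order 2. -/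
theorem result {G Ω : Type*} [Group G] [Finite G] [MulAction G Ω] [FaithfulSMul G Ω] [Finite Ω]
    (hprim : MulAction.IsPreprimitive G Ω) (a b : Ω) (h3 : Nat.card (MulAction.orbit (MulAction.stabilizer G a) b) = 3) :
    Nonempty (MulAction.stabilizer G a ≃* Multiplicative (ZMod 3)) ∨ Nonempty (MulAction.stabilizer G a ≃* Equiv.Perm (Fin 3)) ∨
      Nonempty (MulAction.stabilizer G a ≃* DihedralGroup 6) ∨ Nonempty (MulAction.stabilizer G a ≃* Equiv.Perm (Fin 4)) ∨
      Nonempty (MulAction.stabilizer G a ≃* Equiv.Perm (Fin 4) × Multiplicative (ZMod 2)) := by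
  rcases PermGroups.CubicSuborbit.dichotomy hprim h3 with h | ⟨k, t, hD⟩
  · haveI : Fact (Nat.Prime 3) := ⟨Nat.prime_three⟩
    exact Or.inl ⟨mulEquivOfPrimeCardEq (p := 3) h (by rw [Nat.card_eq_fintype_card]; rfl)⟩
  obtain ⟨x, hF, ⟨e⟩⟩ := hD.full
  have h1 := hF.one_le
  have h4 := hD.k_le
  interval_cases k
  · obtain ⟨e'⟩ := hF.iso_one
    exact Or.inr (Or.inl ⟨e.trans e'⟩)
  · obtain ⟨e'⟩ := hF.iso_two
    exact Or.inr (Or.inr (Or.inl ⟨e.trans e'⟩))
  · obtain ⟨l, f, -, -, -, hk⟩ := hF.sylow_action (Or.inl rfl)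
    have hker : f.ker = ⊥ := (hk.resolve_right fun h => absurd h.1 (by norm_num)).2
    obtain ⟨e'⟩ := PermGroups.CubicSuborbit.nonempty_mulEquiv_of_ker f hker
      (by rw [hF.card, Nat.card_perm, Nat.card_fin]; rfl)
    exact Or.inr (Or.inr (Or.inr (Or.inl ⟨e.trans e'⟩)))
  · obtain ⟨e'⟩ := PermGroups.CubicSuborbit.four_iso hF
    exact Or.inr (Or.inr (Or.inr (Or.inr ⟨e.trans e'⟩)))

end Cfsg.Agent.S3685
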