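import Cfsg.Statements.S3687
import Cfsg.Agent.PermGroups.AltSuborbit.Main
import Cfsg.Agent.PermGroups.SuborbitKernels

set_option autoImplicit false
open Cfsg

namespace Cfsg.Agent.S3687

/-- Let a finite group G act faithfully and primitively on a set Ω, let a and b be points such that the orbit Δ of b under the stabilizer H of a has d ≥ 6 elements, and suppose that the permutation group induced by H on Δ contains the alternating group of Δ (the image of H in the symmetric group of Δ has index at most 2) while H does not act faithfully on Δ. Then either H induces exactly the alternating group of Δ and H is isomorphic to the direct product of the alternating groups of degrees d and d - 1; or H induces the full symmetric group of Δ and H is isomorphic to one of: the direct product of the symmetric groups of degrees d and d - 1, the direct product of the symmetric group of degree d with the alternating group of degree d - 1, or the subgroup of the direct product of the symmetric groups of degrees d and d - 1 consisting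 of the pairs of permutations with equal signs. -/
theorem result {G Ω : Type*} [Group G] [Finite G] [MulAction G Ω] [FaithfulSMul G Ω] [Finite Ω]
    (hprim : MulAction.IsPreprimitive G Ω) (a b : Ω) (d : ℕ) (hd : Nat.card (MulAction.orbit (MulAction.stabilizer G a) b) = d) (h6 : 6 ≤ d)
    (halt : (MulAction.toPermHom (MulAction.stabilizer G a) (MulAction.orbit (MulAction.stabilizer G a) b)).range.index ≤ 2)
    (hunf : ¬ Function.Injective (MulAction.toPermHom (MulAction.stabilizer G a) (MulAction.orbit (MulAction.stabilizer G a) b))) :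
    ((MulAction.toPermHom (MulAction.stabilizer G a) (MulAction.orbit (MulAction.stabilizer G a) b)).range.index = 2 ∧
      Nonempty (MulAction.stabilizer G a ≃* alternatingGroup (Fin d) × alternatingGroup (Fin (d - 1)))) ∨
    ((MulAction.toPermHom (MulAction.stabilizer G a) (MulAction.orbit (MulAction.stabilizer G a) b)).range = ⊤ ∧
      (Nonempty (MulAction.stabilizer G a ≃* Equiv.Perm (Fin d) × Equiv.Perm (Fin (d - 1))) ∨
       Nonempty (MulAction.stabilizer G a ≃* Equiv.Perm (Fin d) × alternatingGroup (Fin (d - 1))) ∨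
       Nonempty (MulAction.stabilizer G a ≃* ((Equiv.Perm.sign.comp (MonoidHom.fst (Equiv.Perm (Fin d)) (Equiv.Perm (Fin (d - 1))))) *
         (Equiv.Perm.sign.comp (MonoidHom.snd (Equiv.Perm (Fin d)) (Equiv.Perm (Fin (d - 1)))))).ker))) := by
  obtain ⟨n, rfl⟩ : ∃ n, d = n + 1 := ⟨d - 1, by omega⟩
  rw [Nat.add_sub_cancel]
  have h5 : 5 ≤ n := by omega
  classical
  set M := MulAction.stabilizer G a with hM
  set N := MulAction.stabilizer G b with hN
  have hne : M ≠ N := Cfsg.Agent.PermGroups.SuborbitKernels.stabilizer_ne hd (by omega)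
  have hcard : Nat.card N = Nat.card M := Cfsg.Agent.PermGroups.SuborbitKernels.card_eq hprim
  obtain ⟨hcoM, hcoreM⟩ := Cfsg.Agent.PermGroups.SuborbitKernels.maximal hprim hd (by omega) a
  obtain ⟨hcoN, hcoreN⟩ := Cfsg.Agent.PermGroups.SuborbitKernels.maximal hprim hd (by omega) b
  -- the paired suborbit has the same length
  have hd' : Nat.card (MulAction.orbit N a) = n + 1 := by
    have e1 := Cfsg.Agent.PermGroups.SuborbitKernels.relIndex_left hd
    have e2 := Cfsg.Agent.PermGroups.SuborbitKernels.relIndex_left (G := G) (a := b) (b := a) rfl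
    rw [inf_comm, ← hM, ← hN] at e2
    have key : ∀ L : Subgroup G, M ⊓ N ≤ L → Nat.card ↥(M ⊓ N) * (M ⊓ N).relIndex L = Nat.card L := fun L hL => by
      rw [← Nat.card_congr (Subgroup.subgroupOfEquivOfLe hL).toEquiv, Subgroup.relIndex, Subgroup.card_mul_index]
    have k1 := key M inf_le_left
    rw [← hM, ← hN] at e1
    rw [e1] at k1
    have k2 := key N inf_le_right
    rw [e2, hcard] at k2
    exact Nat.eq_of_mul_eq_mul_left Nat.card_pos (k2.trans k1.symm)
  let mkF : ∀ (S : Subgroup G) (c : Ω), Nat.card (MulAction.orbit S c) = n + 1 →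
      {φ : S →* Equiv.Perm (Fin (n + 1)) // (∀ s, φ s 0 = 0 ↔ (s : G) ∈ MulAction.stabilizer G c) ∧
        ∃ u : Equiv.Perm (MulAction.orbit S c) ≃* Equiv.Perm (Fin (n + 1)),
          φ = u.toMonoidHom.comp (MulAction.toPermHom S (MulAction.orbit S c))} := fun S c hc =>
    let ε0 : MulAction.orbit S c ≃ Fin (n + 1) :=
      Finite.equivFinOfCardEq hc
    let ε := ε0.trans (Equiv.swap (ε0 ⟨c, MulAction.mem_orbit_self c⟩) 0)
    ⟨ε.permCongrHom.toMonoidHom.comp (MulAction.toPermHom S (MulAction.orbit S c)), fun s => by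
      have hε : ε ⟨c, MulAction.mem_orbit_self c⟩ = 0 := Equiv.swap_apply_left _ _
      show ε (s • ε.symm 0) = 0 ↔ (s : G) • c = c
      rw [← hε, Equiv.symm_apply_apply, ε.injective.eq_iff, Subtype.ext_iff]
      rfl, _, rfl⟩
  obtain ⟨f, hf, u, hu⟩ := mkF M b hd
  obtain ⟨h, hh, -⟩ := mkF N a hd'
  set D := M ⊓ N with hD0
  have hD : D = M ⊓ N := rfl
  have hD' : D = N ⊓ M := inf_comm M N
  have hidx : f.range.index = (MulAction.toPermHom M (MulAction.orbit M b)).range.index := by
    rw [hu, MonoidHom.range_comp]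
    exact Subgroup.index_map_equiv _ u
  have hA : alternatingGroup (Fin (n + 1)) ≤ f.range :=
    Equiv.Perm.alternatingGroup_le_of_index_le_two (hidx ▸ halt)
  have hker : f.ker ≠ ⊥ := fun hb => hunf (by
    rw [← MonoidHom.ker_eq_bot_iff, eq_bot_iff, ← hb]
    intro x hx
    rw [MonoidHom.mem_ker] at hx ⊢
    rw [hu, MonoidHom.comp_apply, hx, map_one])
  have hA2 := Cfsg.Agent.PermGroups.AltSuborbit.rst_alt hD hf hA
  -- the suborbit has trivial Fitting subgroup
  set P := (N.subgroupOf M).map (MulAction.toPermHom M (MulAction.orbit M b)) with hP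
  have hFit : Cfsg.fittingSubgroup P = ⊥ := by
    have hfix : ∀ x : P, u (x : Equiv.Perm (MulAction.orbit M b)) 0 = 0 := by
      rintro ⟨_, m, hm, rfl⟩
      show u (MulAction.toPermHom M _ m) 0 = 0
      have h0 := (hf m).2 hm
      rwa [hu] at h0
    set θ := Cfsg.Agent.PermGroups.AltSuborbit.restr (u.toMonoidHom.comp P.subtype) hfix with hθ
    have hθA : alternatingGroup (Fin n) ≤ θ.range := by
      intro τ hτ
      obtain ⟨x, hx⟩ := hA2 hτ
      refine ⟨⟨_, Subgroup.mem_map_of_mem _ (show (⟨x, x.2.1⟩ : M) ∈ N.subgroupOf M from x.2.2)⟩, ?_⟩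
      apply Cfsg.Agent.PermGroups.AltSuborbit.lift_injective
      rw [hθ]
      refine (Cfsg.Agent.PermGroups.AltSuborbit.lift_restr _ hfix _).trans ?_
      rw [← hx, Cfsg.Agent.PermGroups.AltSuborbit.lift_rst, hu]
      rfl
    have hFn := Cfsg.Agent.Core.isNilpotent_fittingSubgroup P
    rcases Cfsg.Agent.PermGroups.AltSuborbit.map_cases h5 θ hθA (Cfsg.fittingSubgroup P) with hb | hb
    · rw [Subgroup.map_eq_bot_iff] at hb
      refine eq_bot_iff.2 (hb.trans fun x hx => ?_)
      have h1 := (Cfsg.Agent.PermGroups.AltSuborbit.restr_eq_one _ hfix x).1 hx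
      exact Subgroup.mem_bot.2 (Subtype.ext (u.injective (h1.trans (map_one u).symm)))
    · exfalso
      have hAn : Group.IsNilpotent (alternatingGroup (Fin n)) :=
        Cfsg.Agent.Core.isNilpotent_of_le hb (Cfsg.Agent.Core.isNilpotent_map hFn θ)
      haveI := hAn
      haveI : Group.IsSolvable (alternatingGroup (Fin n)) := inferInstance
      haveI := alternatingGroup.isSimpleGroup (α := Fin n) (by simpa using h5)
      have h5' : 5 ≤ Nat.card (Fin n) := by simpa using h5
      haveI : Nontrivial (alternatingGroup (Fin n)) :=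
        (Subgroup.nontrivial_iff_ne_bot _).2 (Cfsg.Agent.PermGroups.AltSuborbit.alt_ne_bot h5)
      exact (Group.IsSolvable.commutator_lt_top_of_nontrivial (alternatingGroup (Fin n))).ne
        (commutator_alternatingGroup_eq_top h5')
  have hFD := Cfsg.Agent.PermGroups.SuborbitKernels.fitting_inf_eq_bot hprim hd (by omega) hFit
  have hnil : ∀ X : Subgroup D, X.Normal → Group.IsNilpotent X → X = ⊥ := fun X hX hXn =>
    eq_bot_iff.2 (hFD ▸ Cfsg.Agent.Core.le_fittingSubgroup hX hXn)
  obtain ⟨g, hg⟩ := MulAction.exists_smul_eq G a b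
  have hconj : N = M.map (MulAut.conj g).toMonoidHom := by
    rw [hN, ← hg, MulAction.stabilizer_smul_eq_stabilizer_map_conj]
  let e : N ≃* M :=
    (MulEquiv.subgroupCongr hconj).trans (M.equivMapOfInjective _ (MulAut.conj g).injective).symm
  -- one second core is trivial
  have h2 : Cfsg.Agent.PermGroups.AltSuborbit.SecondCoreTrivial f h ∨
      Cfsg.Agent.PermGroups.AltSuborbit.SecondCoreTrivial h f := by
    have hle_core : ∀ (S Y X : Subgroup G), X ≤ Y → X ≤ S → S ≤ Subgroup.normalizer (X : Set G) →
        X ≤ Cfsg.Agent.PermGroups.SuborbitKernels.core S Y := by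
      intro S Y X hXY hXS hn
      rw [← Subgroup.map_subgroupOf_eq_of_le hXS]
      haveI := Subgroup.normal_subgroupOf_of_le_normalizer hn
      exact Subgroup.map_mono (Subgroup.normal_le_normalCore.2 (Subgroup.comap_mono hXY))
    have hkA : f.ker.map M.subtype ≤ Cfsg.Agent.PermGroups.SuborbitKernels.core M (M ⊓ N) :=
      hle_core M _ _ (by rw [← Cfsg.Agent.PermGroups.AltSuborbit.rst_ker_map hD hf]; exact Subgroup.map_subtype_le _)
        (Subgroup.map_subtype_le _) Cfsg.Agent.PermGroups.AltSuborbit.le_normalizer_kerMap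
    have hkB : h.ker.map N.subtype ≤ Cfsg.Agent.PermGroups.SuborbitKernels.core N (M ⊓ N) :=
      hle_core N _ _ (by rw [← Cfsg.Agent.PermGroups.AltSuborbit.rst_ker_map hD' hh]; exact Subgroup.map_subtype_le _)
        (Subgroup.map_subtype_le _) Cfsg.Agent.PermGroups.AltSuborbit.le_normalizer_kerMap
    by_contra hcon
    rw [not_or] at hcon
    have hA2ne : Cfsg.Agent.PermGroups.SuborbitKernels.core M (Cfsg.Agent.PermGroups.SuborbitKernels.core M (M ⊓ N) ⊓
        Cfsg.Agent.PermGroups.SuborbitKernels.core N (M ⊓ N)) ≠ ⊥ := fun hb => hcon.1 fun X hX hn =>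
      eq_bot_iff.2 (hb ▸ hle_core M _ X (le_inf ((hX.trans inf_le_left).trans hkA) ((hX.trans inf_le_right).trans hkB))
        ((hX.trans inf_le_left).trans (Subgroup.map_subtype_le _)) hn)
    have hB2ne : Cfsg.Agent.PermGroups.SuborbitKernels.core N (Cfsg.Agent.PermGroups.SuborbitKernels.core M (M ⊓ N) ⊓
        Cfsg.Agent.PermGroups.SuborbitKernels.core N (M ⊓ N)) ≠ ⊥ := fun hb => hcon.2 fun X hX hn =>
      eq_bot_iff.2 (hb ▸ hle_core N _ X (le_inf ((hX.trans inf_le_right).trans hkA) ((hX.trans inf_le_left).trans hkB))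
        ((hX.trans inf_le_left).trans (Subgroup.map_subtype_le _)) hn)
    obtain ⟨p, hp, hpAB, -⟩ := Cfsg.Agent.S5752.result M N hcoM g hconj hne hcoreM
      (fun i => (Cfsg.Agent.PermGroups.SuborbitKernels.seq M N i).1)
      (fun i => (Cfsg.Agent.PermGroups.SuborbitKernels.seq M N i).2) rfl rfl (fun _ => rfl) (fun _ => rfl) hA2ne hB2ne
    haveI := Fact.mk hp
    set A2 := Cfsg.Agent.PermGroups.SuborbitKernels.core M (Cfsg.Agent.PermGroups.SuborbitKernels.core M (M ⊓ N) ⊓
        Cfsg.Agent.PermGroups.SuborbitKernels.core N (M ⊓ N))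
    have hle : A2 ≤ D := ((Cfsg.Agent.PermGroups.SuborbitKernels.core_le_right M _).trans inf_le_left).trans
      (Cfsg.Agent.PermGroups.SuborbitKernels.core_le_right M _)
    have hp2 : IsPGroup p (A2.subgroupOf D) :=
      (hpAB.to_le (le_sup_left : A2 ≤ _)).of_equiv (Subgroup.subgroupOfEquivOfLe hle).symm
    have := hnil (A2.subgroupOf D) (Subgroup.normal_subgroupOf_of_le_normalizer
      (inf_le_left.trans (Cfsg.Agent.PermGroups.SuborbitKernels.le_normalizer_core M _))) hp2.isNilpotent
    rw [Subgroup.subgroupOf_eq_bot] at this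
    exact hA2ne (disjoint_self.1 (this.mono_right hle))
  rcases Cfsg.Agent.PermGroups.AltSuborbit.main hD hf hh hD' h5 hA e h2 hcoM hcoN hne hcoreM hcoreN hnil hker
    with ⟨h1, h3⟩ | ⟨h1, h3⟩
  · exact Or.inl ⟨hidx.symm.trans h1, h3⟩
  · refine Or.inr ⟨?_, h3.imp_right Or.inr⟩
    rw [← Subgroup.index_eq_one, ← hidx, h1, Subgroup.index_top]

end Cfsg.Agent.S3687
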