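import Cfsg.Statements.S3753
import Cfsg.Agent.Transfer.PrimitivePair
import Cfsg.Agent.Transfer.KInfBelow
import Cfsg.Agent.PLocal.AbelianSylowStable
import Cfsg.Agent.S1978

set_option autoImplicit false
open Cfsg

namespace Cfsg.Agent.S3753

/-- Two distinct subgroups M₁, M₂ of G form a primitive pair when, for {i, j} = {1, 2}, every non-trivial normal subgroup A of M_i contained in M₁ ∩ M₂ satisfies N_{M_j}(A) = M₁ ∩ M₂; the pair has characteristic p when moreover C_{M_i}(O_p(M_i)) ≤ O_p(M_i) for both i and O_p(M₁)O_p(M₂) ≤ M₁ ∩ M₂. If the finite group G has a primitive pair (M₁, M₂) of characteristic p for some prime p, then M₁ or M₂ has non-abelian Sylow 2-subgroups. In particular no group of odd order has a primitive pair of characteristic p. -/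
theorem result {G : Type*} [Group G] [Finite G] {p : ℕ} [Fact p.Prime] (M₁ M₂ : Subgroup G) (hne : M₁ ≠ M₂) (hP : ∀ A : Subgroup G, A ≠ ⊥ → A ≤ M₁ ⊓ M₂ → (M₁ ≤ Subgroup.normalizer (A : Set G) → M₂ ⊓ Subgroup.normalizer (A : Set G) = M₁ ⊓ M₂) ∧ (M₂ ≤ Subgroup.normalizer (A : Set G) → M₁ ⊓ Subgroup.normalizer (A : Set G) = M₁ ⊓ M₂)) (hc₁ : Subgroup.centralizer (Cfsg.pCore p ↥M₁ : Set ↥M₁) ≤ Cfsg.pCore p ↥M₁) (hc₂ : Subgroup.centralizer (Cfsg.pCore p ↥M₂ : Set ↥M₂) ≤ Cfsg.pCore p ↥M₂) (hO : (Cfsg.pCore p ↥M₁).map M₁.subtype ⊔ (Cfsg.pCore p ↥M₂).map M₂.subtype ≤ M₁ ⊓ M₂) : (∃ S : Sylow 2 ↥M₁, ¬ IsMulCommutative (S : Subgroup ↥M₁)) ∨ (∃ S : Sylow 2 ↥M₂, ¬ IsMulCommutative (S : Subgroup ↥M₂)) := by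
  by_contra hcon
  push Not at hcon
  have hMprim : ∀ X : Subgroup G, X ≠ ⊥ → M₁ ≤ Subgroup.normalizer (X : Set G) → X ≤ M₁ ⊓ M₂ →
      M₂ ⊓ Subgroup.normalizer (X : Set G) = M₁ ⊓ M₂ := fun X hX h hle => (hP X hX hle).1 h
  have hNprim : ∀ X : Subgroup G, X ≠ ⊥ → M₂ ≤ Subgroup.normalizer (X : Set G) → X ≤ M₂ ⊓ M₁ →
      M₁ ⊓ Subgroup.normalizer (X : Set G) = M₂ ⊓ M₁ := fun X hX h hle =>
    ((hP X hX (hle.trans (inf_comm M₂ M₁).le)).2 h).trans (inf_comm M₁ M₂)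
  set Q1 := (Cfsg.pCore p ↥M₁).map M₁.subtype with hQ1
  set Q2 := (Cfsg.pCore p ↥M₂).map M₂.subtype with hQ2
  set L := M₁ ⊓ M₂ with hL
  have hQ1L : Q1 ≤ L := le_sup_left.trans hO
  have hQ2L : Q2 ≤ L := le_sup_right.trans hO
  have hQ1p : IsPGroup p ↥Q1 := (Core.isPGroup_pCore p ↥M₁).map _
  have hQ2p : IsPGroup p ↥Q2 := (Core.isPGroup_pCore p ↥M₂).map _
  have htriv : ∀ M : Subgroup G, Subgroup.centralizer (Cfsg.pCore p ↥M : Set ↥M) ≤ Cfsg.pCore p ↥M →
      (Cfsg.pCore p ↥M).map M.subtype = ⊥ → M = ⊥ := by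
    intro M hc h
    have h0 : Cfsg.pCore p ↥M = ⊥ :=
      (Subgroup.map_eq_bot_iff_of_injective _ M.subtype_injective).mp h
    rw [h0] at hc
    refine (Subgroup.eq_bot_iff_forall _).mpr fun m hm => congrArg Subtype.val (Subgroup.mem_bot.mp
      (hc (show (⟨m, hm⟩ : ↥M) ∈ _ from Subgroup.mem_centralizer_iff.mpr fun x hx => by
        rw [SetLike.mem_coe, Subgroup.mem_bot] at hx
        rw [hx, one_mul, mul_one])))
  by_cases hp : p = 2
  · subst hp
    have key : ∀ M : Subgroup G, (∀ S : Sylow 2 ↥M, IsMulCommutative (S : Subgroup ↥M)) →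
        Subgroup.centralizer (Cfsg.pCore 2 ↥M : Set ↥M) ≤ Cfsg.pCore 2 ↥M →
        ∀ X : Subgroup G, IsPGroup 2 ↥X → X ≤ M → X ≤ (Cfsg.pCore 2 ↥M).map M.subtype := by
      intro M hab hc X hX hXM
      obtain ⟨S, hS⟩ := (hX.of_equiv (Subgroup.subgroupOfEquivOfLe hXM).symm).exists_le_sylow
      intro x hx
      refine ⟨⟨x, hXM hx⟩, hc (Subgroup.mem_centralizer_iff.mpr fun q hq => ?_), rfl⟩
      exact congrArg Subtype.val ((hab S).is_comm.comm (⟨q, Core.pCore_le_sylow S hq⟩ : (S : Subgroup ↥M))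
        ⟨⟨x, hXM hx⟩, hS hx⟩)
    have e : Q1 = Q2 := le_antisymm (key M₂ hcon.2 hc₂ Q1 hQ1p (hQ1L.trans inf_le_right))
      (key M₁ hcon.1 hc₁ Q2 hQ2p (hQ2L.trans inf_le_left))
    by_cases h0 : Q1 = ⊥
    · exact hne ((htriv M₁ hc₁ h0).trans (htriv M₂ hc₂ (e ▸ h0 : Q2 = ⊥)).symm)
    refine hne (Transfer.PrimPair.eq_of_normal_both hMprim hNprim h0 ?_ ?_ hQ1L)
    · exact Subgroup.le_normalizer.trans (Components.normalizer_le_normalizer_map_char _)
    · rw [e]; exact Subgroup.le_normalizer.trans (Components.normalizer_le_normalizer_map_char _)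
  obtain ⟨T⟩ : Nonempty (Sylow p ↥L) := inferInstance
  set T0 := (T : Subgroup ↥L).map L.subtype with hT0
  have hT0L : T0 ≤ L := Subgroup.map_subtype_le _
  have hT0p : IsPGroup p ↥T0 := T.isPGroup'.map _
  have hbig : ∀ Q : Subgroup G, IsPGroup p ↥Q → Q ≤ L →
      L ≤ Subgroup.normalizer (Q : Set G) → Q ≤ T0 := by
    intro Q hQ hQL hn q hq
    haveI : (Q.subgroupOf L).Normal := (Subgroup.normal_subgroupOf_iff_le_normalizer hQL).mpr hn
    exact ⟨⟨q, hQL hq⟩, Core.pCore_le_sylow T (Core.le_pCore inferInstance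
      (hQ.of_equiv (Subgroup.subgroupOfEquivOfLe hQL).symm) hq), rfl⟩
  set K := (Cfsg.kInfLower ↥T0).map T0.subtype with hK
  have key : ∀ M : Subgroup G, (∀ S : Sylow 2 ↥M, IsMulCommutative (S : Subgroup ↥M)) →
      Subgroup.centralizer (Cfsg.pCore p ↥M : Set ↥M) ≤ Cfsg.pCore p ↥M → L ≤ M →
      (Cfsg.pCore p ↥M).map M.subtype ≤ L → M ≤ Subgroup.normalizer (K : Set G) := by
    intro M hab hc hLM hQL
    have hTM : T0 ≤ M := hT0L.trans hLM
    have hOT : Cfsg.pCore p ↥M ≤ T0.subgroupOf M := Subgroup.map_le_iff_le_comap.mp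
      (hbig _ ((Core.isPGroup_pCore p ↥M).map _) hQL
        (hLM.trans (Subgroup.le_normalizer.trans (Components.normalizer_le_normalizer_map_char _))))
    have hnorm : (Cfsg.inducedFunctor Cfsg.kInfLower (T0.subgroupOf M)).Normal := by
      by_contra hn
      obtain ⟨C, hC, -⟩ := FusionZJ.exists_critData (G := ↥M) (p := p)
      obtain ⟨g, -, -, -, -, hq⟩ := Transfer.KInfBelow.exists_bad_above hC _ hOT (Or.inl hn)
      obtain ⟨U, V, hUV, hUC, hq1, hq2⟩ := hq hc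
      obtain ⟨N, hN, hns⟩ := FusionZJ.not_stable_of_chief hUV
        ((Core.isPGroup_pCore p ↥M).to_le (hUC.trans hC.le)) hq1 hq2
      haveI := hN
      exact hns (PLocal.isNormalizerPStable_of_abelian_sylow_two hp
        (PLocal.sylow_abelian_quotient_all hab N))
    have e : (Cfsg.inducedFunctor Cfsg.kInfLower (T0.subgroupOf M)).map M.subtype = K := by
      rw [hK, ← FusionZJ.kInfLower_equiv (Subgroup.subgroupOfEquivOfLe hTM), Cfsg.inducedFunctor,
        Subgroup.map_map, Subgroup.map_map]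
      rfl
    rw [← e]
    intro m hm
    refine Subgroup.mem_normalizer_fintype ?_
    rintro _ ⟨k, hk, rfl⟩
    exact ⟨⟨m, hm⟩ * k * (⟨m, hm⟩ : ↥M)⁻¹, hnorm.conj_mem k hk _, rfl⟩
  by_cases h0 : K = ⊥
  · have hT : T0 = ⊥ := by
      have h1 : Cfsg.kInfLower ↥T0 = ⊥ :=
        (Subgroup.map_eq_bot_iff_of_injective _ T0.subtype_injective).mp h0
      have h2 := (S1978.result hT0p).1
      rw [h1] at h2
      refine (Subgroup.eq_bot_iff_forall _).mpr fun m hm => congrArg Subtype.val (Subgroup.mem_bot.mp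
        (h2 (show (⟨m, hm⟩ : ↥T0) ∈ _ from Subgroup.mem_centralizer_iff.mpr fun x hx => by
          rw [SetLike.mem_coe, Subgroup.mem_bot] at hx
          rw [hx, one_mul, mul_one])))
    have hb : ∀ M : Subgroup G, L ≤ M → (Cfsg.pCore p ↥M).map M.subtype ≤ L →
        (Cfsg.pCore p ↥M).map M.subtype = ⊥ := fun M hLM hQL => le_bot_iff.mp ((hbig _
      ((Core.isPGroup_pCore p ↥M).map _) hQL
      (hLM.trans (Subgroup.le_normalizer.trans (Components.normalizer_le_normalizer_map_char _)))).trans hT.le)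
    exact hne ((htriv M₁ hc₁ (hb M₁ inf_le_left hQ1L)).trans (htriv M₂ hc₂ (hb M₂ inf_le_right hQ2L)).symm)
  exact hne (Transfer.PrimPair.eq_of_normal_both hMprim hNprim h0 (key M₁ hcon.1 hc₁ inf_le_left hQ1L)
    (key M₂ hcon.2 hc₂ inf_le_right hQ2L) ((Subgroup.map_subtype_le _).trans hT0L))

end Cfsg.Agent.S3753
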