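import Cfsg.Statements.S3806
import Cfsg.Agent.Fusion.MaxClassPower

set_option autoImplicit false
open Cfsg
open scoped commutatorElement

namespace Cfsg.Agent.S3806

/-- Let p be a prime and S a finite p-group of order pⁿ (n ≥ 2) of maximal nilpotency class n − 1 whose sectional p-rank is exactly k (every section has p-rank at most k, and some section has p-rank k). If p ≥ k + 2 then the order of S is at most p^(2k). -/
theorem result {S : Type*} [Group S] [Finite S] (p : ℕ) [Fact p.Prime] (hS : IsPGroup p S) [Group.IsNilpotent S]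
    (n : ℕ) (hn : 2 ≤ n) (hcard : Nat.card S = p ^ n) (hmax : Group.nilpotencyClass S = n - 1)
    (k : ℕ) (hk : 1 ≤ k) (hsr : Cfsg.SectionalPRankLE p k S ∧ ¬ Cfsg.SectionalPRankLE p (k - 1) S)
    (hpk : k + 2 ≤ p) : Nat.card S ≤ p ^ (2 * k) := by
  have hp : p.Prime := Fact.out
  rw [hcard]
  refine Nat.pow_le_pow_right hp.pos ?_
  by_contra hlt
  have hM : Cfsg.Agent.Fusion.MaxPow.Mx p n S := ⟨hcard, by omega, hmax⟩
  have key : ∀ (H N : Subgroup S), N.Normal → N ≤ H → (∀ x ∈ H, ∀ y ∈ H, ⁅x, y⁆ ∈ N) →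
      (∀ x ∈ H, x ^ p ∈ N) → p ^ (k + 1) * Nat.card N ≤ Nat.card H → False := by
    intro H N hN hNH hcomm hpow hc
    haveI := hN
    have h1 := hsr.1 H (N.subgroupOf H) ⊤ ⟨⟨fun a b => ?_⟩⟩ (fun a _ => ?_)
    · rw [Subgroup.card_top, ← Subgroup.index_eq_card] at h1
      have h2 := (N.subgroupOf H).card_mul_index
      rw [Nat.card_congr (Subgroup.subgroupOfEquivOfLe hNH).toEquiv] at h2
      have h3 : p ^ (k + 1) * Nat.card N ≤ p ^ k * Nat.card N := by
        refine hc.trans (h2.symm.le.trans ?_)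
        rw [mul_comm]
        exact Nat.mul_le_mul_right _ h1
      have h4 := (Nat.pow_le_pow_iff_right hp.one_lt).1 (Nat.le_of_mul_le_mul_right h3 Nat.card_pos)
      omega
    · obtain ⟨a, ha⟩ := a
      obtain ⟨b, hb⟩ := b
      refine Subtype.ext ?_
      show a * b = b * a
      obtain ⟨x, rfl⟩ := QuotientGroup.mk'_surjective _ a
      obtain ⟨y, rfl⟩ := QuotientGroup.mk'_surjective _ b
      rw [← commutatorElement_eq_one_iff_mul_comm, ← map_commutatorElement, QuotientGroup.mk'_apply,
        QuotientGroup.eq_one_iff, Subgroup.mem_subgroupOf]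
      exact hcomm x x.2 y y.2
    · obtain ⟨x, rfl⟩ := QuotientGroup.mk'_surjective _ a
      rw [← map_pow, QuotientGroup.mk'_apply, QuotientGroup.eq_one_iff, Subgroup.mem_subgroupOf]
      exact hpow x x.2
  rcases Nat.eq_or_lt_of_le hk with hk1 | hk2
  · subst hk1
    refine key ⊤ (Subgroup.lowerCentralSeries ⊤ 1) inferInstance le_top ?_ (fun x _ => hM.pow_mem_one x) ?_
    · intro x hx y hy
      rw [Subgroup.lowerCentralSeries_succ, Subgroup.lowerCentralSeries_zero]
      exact Subgroup.commutator_mem_commutator hx hy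
    · rw [Subgroup.card_top, hcard, hM.card_lcs le_rfl (by omega), ← pow_add]
      exact Nat.pow_le_pow_right hp.pos (by omega)
  · refine key (Subgroup.lowerCentralSeries ⊤ (k - 1)) (Subgroup.lowerCentralSeries ⊤ (2 * k)) inferInstance
      (Cfsg.Agent.Fusion.MaxPow.lcs_mono (by omega))
      (fun x hx y hy => ?_) (fun x hx => ?_) ?_
    · have h5 := hM.comm_self (j := k - 1) (by omega) (Subgroup.commutator_mem_commutator hx hy)
      rwa [show 2 * (k - 1) + 2 = 2 * k by omega] at h5
    · exact Cfsg.Agent.Fusion.MaxPow.lcs_mono (by omega) (hM.pow_lvl (k := k - 1) (by omega) hx)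
    · rw [hM.card_lcs (by omega) (by omega), hM.card_lcs (by omega) (by omega), ← pow_add]
      exact Nat.pow_le_pow_right hp.pos (by omega)

end Cfsg.Agent.S3806
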