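import Cfsg.Statements.S3808
import Cfsg.Agent.FGS3.Extraspecial
import Cfsg.Agent.Transfer.Small
import Mathlib.GroupTheory.IndexNormal

set_option autoImplicit false
open Cfsg

namespace Cfsg.Agent.S3808

/-- Let S be a finite p-group with an extraspecial subgroup Q of index p. Then either Z(S) = Z(Q), or S = Q·Z(S) and Z(S) has order p². -/
theorem result {S : Type*} [Group S] [Finite S] (p : ℕ) [Fact p.Prime] (hS : IsPGroup p S) (Q : Subgroup S) (hQ : Cfsg.IsExtraspecial p ↥Q) (hQi : Q.index = p) :
    Subgroup.center S = (Subgroup.center ↥Q).map Q.subtype ∨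
      (Q ⊔ Subgroup.center S = ⊤ ∧ Nat.card (Subgroup.center S) = p ^ 2) := by
  haveI hQn : Q.Normal := Subgroup.normal_of_index_eq_minFac_card (by
    obtain ⟨k, hk⟩ := IsPGroup.iff_card.mp hS
    have hk1 : k ≠ 0 := by
      rintro rfl
      have := Q.index_dvd_card
      rw [hk, hQi, pow_zero, Nat.dvd_one] at this
      exact (Fact.out : p.Prime).ne_one this
    rw [hk, hQi, (Fact.out : p.Prime).pow_minFac hk1])
  set Z := (Subgroup.center ↥Q).map Q.subtype with hZ
  have hcardZ : Nat.card Z = p := by
    rw [hZ, Subgroup.card_map_of_injective Q.subtype_injective]; exact hQ.2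
  haveI : Z.Normal := inferInstance
  have hZc : Z ≤ Subgroup.center S := Cfsg.Agent.Transfer.le_center_of_card_eq_prime hS Z hcardZ
  have hinf : Q ⊓ Subgroup.center S = Z := by
    refine le_antisymm (fun x hx => ⟨⟨x, hx.1⟩, ?_, rfl⟩)
      (le_inf (Subgroup.map_subtype_le _) hZc)
    exact Subgroup.mem_center_iff.mpr fun y => Subtype.ext (Subgroup.mem_center_iff.mp hx.2 y)
  by_cases hle : Subgroup.center S ≤ Q
  · left
    rw [← hinf, inf_eq_right.mpr hle]
  · right
    have htop : Q ⊔ Subgroup.center S = ⊤ := by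
      rcases (Nat.dvd_prime (Fact.out : p.Prime)).mp
        (hQi ▸ Subgroup.index_dvd_of_le (le_sup_left : Q ≤ Q ⊔ Subgroup.center S)) with h | h
      · exact Subgroup.index_eq_one.mp h
      · exfalso
        apply hle
        have heq : Q = Q ⊔ Subgroup.center S := Subgroup.eq_of_le_of_card_ge le_sup_left (by
          refine le_of_eq (Nat.eq_of_mul_eq_mul_right (Fact.out : p.Prime).pos ?_)
          conv_lhs => rw [← h, Subgroup.card_mul_index]
          rw [← hQi, Subgroup.card_mul_index])
        exact le_sup_right.trans heq.ge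
    refine ⟨htop, ?_⟩
    have h1 := Subgroup.relIndex_sup_left (K := Q) (H := Subgroup.center S)
    rw [htop, Subgroup.relIndex_top_right, hQi] at h1
    have h2 := Subgroup.card_mul_index ((Q ⊓ Subgroup.center S).subgroupOf (Subgroup.center S))
    rw [Nat.card_congr (Subgroup.subgroupOfEquivOfLe inf_le_right).toEquiv] at h2
    change Nat.card ↥(Q ⊓ Subgroup.center S) * (Q ⊓ Subgroup.center S).relIndex (Subgroup.center S) = _
      at h2
    rw [Subgroup.inf_relIndex_right, ← h1, hinf, hcardZ] at h2
    rw [← h2, sq]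

end Cfsg.Agent.S3808
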