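import Cfsg.Statements.S3809
import Cfsg.Agent.FGS3.Extraspecial
import Cfsg.Agent.Transfer.Small
import Mathlib.GroupTheory.IndexNormal

set_option autoImplicit false
open Cfsg

namespace Cfsg.Agent.S3809

/-- Let S be a finite p-group with an extraspecial subgroup of index p. Then S has order p^(2+2n) for some n ≥ 1, derived length at most 3, and exponent dividing p³. -/
theorem result {S : Type*} [Group S] [Finite S] (p : ℕ) [Fact p.Prime] (hS : IsPGroup p S) (Q : Subgroup S) (hQ : Cfsg.IsExtraspecial p ↥Q) (hQi : Q.index = p) :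
    (∃ n : ℕ, 1 ≤ n ∧ Nat.card S = p ^ (2 + 2 * n)) ∧ derivedSeries S 3 = ⊥ ∧ ∀ x : S, x ^ (p ^ 3) = 1 := by
  haveI hQn : Q.Normal := Subgroup.normal_of_index_eq_minFac_card (by
    obtain ⟨k, hk⟩ := IsPGroup.iff_card.mp hS
    have hk1 : k ≠ 0 := by
      rintro rfl
      have := Q.index_dvd_card
      rw [hk, hQi, pow_zero, Nat.dvd_one] at this
      exact (Fact.out : p.Prime).ne_one this
    rw [hk, hQi, (Fact.out : p.Prime).pow_minFac hk1])
  obtain ⟨n, hn1, hn⟩ := Cfsg.Agent.FGS3.IsExtraspecial_card hQ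
  refine ⟨⟨n, hn1, ?_⟩, ?_, ?_⟩
  · rw [← Q.card_mul_index, hn, hQi, ← pow_succ]
    congr 1
    omega
  · haveI : IsCyclic (S ⧸ Q) := isCyclic_of_prime_card (p := p) (by rw [← Subgroup.index_eq_card, hQi])
    have hcom : commutator S ≤ Q := by
      refine (Subgroup.Normal.quotient_commutative_iff_commutator_le).mp ?_
      exact ⟨⟨fun a b => by
        obtain ⟨g, hg⟩ := IsCyclic.exists_generator (α := S ⧸ Q)
        obtain ⟨i, rfl⟩ := hg a
        obtain ⟨j, rfl⟩ := hg b
        exact (Commute.zpow_zpow (Commute.refl g) i j).eq⟩⟩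
    have h1 : derivedSeries S 1 ≤ Q := by
      simpa [derivedSeries_succ, commutator_def] using hcom
    have h2 : derivedSeries S 2 ≤ (Subgroup.center ↥Q).map Q.subtype := by
      rw [derivedSeries_succ]
      refine (Subgroup.commutator_mono h1 h1).trans (le_of_eq ?_)
      rw [← Cfsg.Agent.FGS3.IsExtraspecial_commutator hQ, commutator_def, Subgroup.map_commutator,
        ← MonoidHom.range_eq_map, Subgroup.range_subtype]
    rw [eq_bot_iff, derivedSeries_succ]
    refine (Subgroup.commutator_mono h2 h2).trans ?_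
    rw [← Subgroup.map_commutator, le_bot_iff, Subgroup.map_eq_bot_iff_of_injective _ Q.subtype_injective,
      Subgroup.commutator_eq_bot_iff_le_centralizer]
    exact Subgroup.center_le_centralizer _
  · intro x
    have hx : x ^ p ∈ Q := hQi ▸ Q.pow_index_mem x
    have := congrArg Subtype.val (Cfsg.Agent.FGS3.IsExtraspecial_pow_sq hQ ⟨x ^ p, hx⟩)
    rw [show p ^ 3 = p * (p * p) by ring, pow_mul]
    simpa using this

end Cfsg.Agent.S3809
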