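import Cfsg.Statements.S3810
import Cfsg.Agent.FGS3.Extraspecial
import Cfsg.Agent.OddLocal.NilBasics

set_option autoImplicit false
open Cfsg

namespace Cfsg.Agent.S3810

/-- Let S be a finite p-group with an extraspecial subgroup of index p. Then S has an abelian subgroup of index p if and only if S has order p⁴. -/
theorem result {S : Type*} [Group S] [Finite S] (p : ℕ) [Fact p.Prime] (hS : IsPGroup p S) (Q : Subgroup S) (hQ : Cfsg.IsExtraspecial p ↥Q) (hQi : Q.index = p) :
    (∃ A : Subgroup S, IsMulCommutative ↥A ∧ A.index = p) ↔ Nat.card S = p ^ 4 := by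
  classical
  have hp : p.Prime := Fact.out
  have hcard : Nat.card S = p * Nat.card Q := by rw [← Q.index_mul_card, hQi]
  obtain ⟨n, hn1, hn⟩ := Cfsg.Agent.FGS3.IsExtraspecial_card (p := p) hQ
  constructor
  · rintro ⟨A, hA, hAi⟩
    set B := A.subgroupOf Q with hB
    have hBc : ∀ a ∈ B, ∀ b ∈ B, a * b = b * a := fun a ha b hb => Subtype.ext
      (congrArg Subtype.val (mul_comm' (⟨_, ha⟩ : A) ⟨_, hb⟩) : (a : S) * b = b * a)
    have hBi : B.index ≤ p := by
      haveI : A.IsFiniteRelIndex ⊤ := ⟨Subgroup.index_ne_zero_of_finite⟩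
      rw [← hAi, ← Subgroup.relIndex_top_right A]
      exact Subgroup.relIndex_le_of_le_right le_top Subgroup.index_ne_zero_of_finite
    have hBne : B ≠ ⊤ := fun e => Cfsg.Agent.FGS3.IsExtraspecial_not_comm hQ
      ⟨⟨fun a b => hBc a (e ▸ Subgroup.mem_top a) b (e ▸ Subgroup.mem_top b)⟩⟩
    obtain ⟨x, hxB⟩ : ∃ x, x ∉ B := by
      by_contra hcon
      exact hBne (eq_top_iff.mpr fun x _ => Classical.not_not.mp fun h => hcon ⟨x, h⟩)
    set C := Subgroup.centralizer ({x} : Set Q) with hC
    have hCi : C.index ≤ p := by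
      by_cases hx : x ∈ Subgroup.center Q
      · have : C = ⊤ := eq_top_iff.mpr fun y _ => by
          rw [hC, Subgroup.mem_centralizer_singleton_iff]
          exact (Subgroup.mem_center_iff.mp hx y).symm ▸ rfl
        rw [this, Subgroup.index_top]; exact hp.pos
      · exact (Cfsg.Agent.FGS3.IsExtraspecial_index_centralizer hQ hx).le
    have hle : B ⊓ C ≤ Subgroup.center Q := by
      rintro c ⟨hcB, hcC⟩
      have hgen : B ⊔ Subgroup.zpowers x = ⊤ := by
        have h1 := Subgroup.relIndex_mul_index (le_sup_left : B ≤ B ⊔ Subgroup.zpowers x)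
        have h2 : 1 < B.relIndex (B ⊔ Subgroup.zpowers x) := by
          have h0 : B.relIndex (B ⊔ Subgroup.zpowers x) ≠ 0 := Subgroup.index_ne_zero_of_finite
          have h3 : B.relIndex (B ⊔ Subgroup.zpowers x) ≠ 1 := fun e =>
            hxB (Subgroup.relIndex_eq_one.mp e (Subgroup.mem_sup_right (Subgroup.mem_zpowers x)))
          omega
        obtain ⟨j, hj⟩ := (hS.to_subgroup Q).index (B ⊔ Subgroup.zpowers x)
        rcases j with _ | j
        · exact Subgroup.index_eq_one.mp hj
        · exfalso
          rw [hj] at h1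
          have : B.index < 2 * p := by have := hp.pos; omega
          have h4 : p ≤ p ^ (j + 1) := Nat.le_self_pow (Nat.succ_ne_zero j) p
          nlinarith
      have hle : B ⊔ Subgroup.zpowers x ≤ Subgroup.centralizer ({c} : Set Q) := by
        refine sup_le (fun b hb => ?_) (Subgroup.zpowers_le.mpr ?_) <;>
          rw [Subgroup.mem_centralizer_singleton_iff]
        · exact hBc _ hb c hcB
        · exact (Subgroup.mem_centralizer_singleton_iff.mp hcC).symm
      rw [Subgroup.mem_center_iff]
      intro y
      exact Subgroup.mem_centralizer_singleton_iff.mp (hle (hgen ▸ Subgroup.mem_top y))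
    have hBC : (B ⊓ C).index ≤ p * p := Subgroup.index_inf_le.trans (Nat.mul_le_mul hBi hCi)
    have hQle : Nat.card Q ≤ p * (p * p) := by
      rw [← (B ⊓ C).card_mul_index]
      refine Nat.mul_le_mul ?_ hBC
      exact (Nat.card_mono (Set.toFinite _) hle).trans hQ.2.le
    rw [hn, show p * (p * p) = p ^ 3 by ring] at hQle
    have : 2 * n + 1 ≤ 3 := (Nat.pow_le_pow_iff_right hp.one_lt).mp hQle
    rw [hcard, hn, show n = 1 by omega]; ring
  · intro h4
    haveI := hS.isNilpotent
    haveI hQn : Q.Normal := Subgroup.normal_of_index_eq_minFac_card (by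
      rw [h4, hQi, hp.pow_minFac (by norm_num)])
    set Z := (Subgroup.center Q).map Q.subtype with hZ
    have hZc : Nat.card Z = p := by
      rw [hZ, Subgroup.card_map_of_injective Q.subtype_injective, hQ.2]
    haveI hZn : Z.Normal := inferInstance
    have hZcen : Z ≤ Subgroup.center S := by
      have hne : Z ≠ ⊥ := fun e => by rw [e, Subgroup.card_bot] at hZc; exact hp.ne_one hZc.symm
      obtain ⟨z, hzZ, hz1, hzc⟩ := Cfsg.Agent.OddLocal.exists_ne_one_mem_center_of_normal Z hne
      haveI : Fact (Nat.card Z).Prime := ⟨hZc.symm ▸ hp⟩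
      rcases Subgroup.eq_bot_or_eq_top_of_prime_card ((Subgroup.zpowers z).subgroupOf Z) with h | h
      · exfalso
        have : (⟨z, hzZ⟩ : Z) ∈ (Subgroup.zpowers z).subgroupOf Z := Subgroup.mem_zpowers z
        rw [h, Subgroup.mem_bot] at this
        exact hz1 (congrArg Subtype.val this)
      · exact (Subgroup.subgroupOf_eq_top.mp h).trans (Subgroup.zpowers_le.mpr hzc)
    haveI : (Q.map (QuotientGroup.mk' Z)).Normal := hQn.map _ (QuotientGroup.mk'_surjective Z)
    have hne : Q.map (QuotientGroup.mk' Z) ≠ ⊥ := fun e => by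
      rw [Subgroup.map_eq_bot_iff, QuotientGroup.ker_mk'] at e
      have := Subgroup.card_le_of_le e
      rw [hZc, hn, show n = 1 by
        rw [h4, hn] at hcard
        have : p ^ 4 = p ^ (2 * n + 2) := by rw [hcard]; ring
        have := Nat.pow_right_injective hp.two_le this
        omega] at this
      exact absurd this (not_le.mpr (by
        calc p = p ^ 1 := (pow_one p).symm
          _ < p ^ (2 * 1 + 1) := Nat.pow_lt_pow_right hp.one_lt (by norm_num)))
    obtain ⟨q, hq, hq1, hqc⟩ := Cfsg.Agent.OddLocal.exists_ne_one_mem_center_of_normal _ hne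
    obtain ⟨x, hxQ, rfl⟩ := hq
    have hxZ : x ∉ Z := fun h => hq1 ((QuotientGroup.eq_one_iff x).mpr h)
    have hxc : ∀ g : S, g * x * g⁻¹ * x⁻¹ ∈ Z := fun g => by
      rw [← QuotientGroup.eq_one_iff]
      simp only [QuotientGroup.mk_mul, QuotientGroup.mk_inv]
      have h := Subgroup.mem_center_iff.mp hqc (QuotientGroup.mk g)
      rw [QuotientGroup.mk'_apply] at h
      rw [h]
      simp
    set C := Subgroup.centralizer ({x} : Set S) with hC
    have hCi : C.index ≤ p := by
      rw [← hZc, Subgroup.index_eq_card]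
      refine Nat.card_le_card_of_injective (fun q => (⟨q.out * x * q.out⁻¹ * x⁻¹, hxc _⟩ : Z)) ?_
      intro q q' he
      have he' : q.out * x * q.out⁻¹ = q'.out * x * q'.out⁻¹ := mul_right_cancel (congrArg Subtype.val he)
      rw [← q.out_eq, ← q'.out_eq]
      refine QuotientGroup.eq.mpr (Subgroup.mem_centralizer_singleton_iff.mpr ?_)
      calc q.out⁻¹ * q'.out * x = q.out⁻¹ * (q'.out * x * q'.out⁻¹) * q'.out := by group
        _ = x * (q.out⁻¹ * q'.out) := by rw [← he']; group
    have hxnc : x ∉ Subgroup.center S := fun h => hxZ ⟨⟨x, hxQ⟩,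
      Subgroup.mem_center_iff.mpr fun y => Subtype.ext (Subgroup.mem_center_iff.mp h y), rfl⟩
    obtain ⟨j, hj⟩ := hS.index C
    have hCp : C.index = p := by
      rcases j with _ | _ | j
      · exfalso
        apply hxnc
        rw [Subgroup.mem_center_iff]
        intro y
        exact Subgroup.mem_centralizer_singleton_iff.mp
          (Subgroup.index_eq_one.mp hj ▸ Subgroup.mem_top y : y ∈ C)
      · simpa using hj
      · exfalso
        have h2 : p ^ 2 ≤ p ^ (j + 2) := Nat.pow_le_pow_right hp.pos (by omega)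
        have := hp.two_le
        nlinarith
    have hCc : Nat.card C = p ^ 3 := by
      have := C.index_mul_card
      rw [hCp, h4, show p ^ 4 = p * p ^ 3 by ring] at this
      exact Nat.eq_of_mul_eq_mul_left hp.pos this
    refine ⟨C, ?_, hCp⟩
    -- the centre of `C` contains `Z` and `x`
    have hxC : x ∈ C := Subgroup.mem_centralizer_singleton_iff.mpr rfl
    set W := Subgroup.center C with hW
    have hxW : (⟨x, hxC⟩ : C) ∈ W := Subgroup.mem_center_iff.mpr fun y =>
      Subtype.ext (Subgroup.mem_centralizer_singleton_iff.mp y.2)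
    have hZC : Z ≤ C := fun z hz => Subgroup.mem_centralizer_singleton_iff.mpr
      (Subgroup.mem_center_iff.mp (hZcen hz) x).symm
    have hlt : Z.subgroupOf C < W := by
      refine lt_of_le_of_ne (fun z hz => Subgroup.mem_center_iff.mpr fun y =>
        Subtype.ext (Subgroup.mem_center_iff.mp (hZcen hz) y)) fun e => hxZ ?_
      rw [← e] at hxW
      exact hxW
    have hcop : p < Nat.card W := by
      rw [← hZc, ← Nat.card_congr (Subgroup.subgroupOfEquivOfLe hZC).toEquiv]
      exact lt_of_not_ge fun h => hlt.ne (Subgroup.eq_of_le_of_card_ge hlt.le h)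
    obtain ⟨i, hi⟩ := IsPGroup.iff_card.mp ((hS.to_subgroup C).to_subgroup W)
    obtain ⟨k, hk⟩ := (hS.to_subgroup C).index W
    have hik : i + k = 3 := by
      have := W.card_mul_index
      rw [hi, hk, hCc, ← pow_add] at this
      exact Nat.pow_right_injective hp.two_le this
    have hi2 : 2 ≤ i := by
      by_contra h
      have : p ^ i ≤ p ^ 1 := Nat.pow_le_pow_right hp.pos (by omega)
      rw [← hi, pow_one] at this; omega
    haveI : IsCyclic (C ⧸ W) := by
      have hck : Nat.card (C ⧸ W) = p ^ k := by rw [← Subgroup.index_eq_card, hk]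
      rcases Nat.eq_zero_or_pos k with h | h
      · rw [h, pow_zero] at hck
        haveI := (Nat.card_eq_one_iff_unique.mp hck).1
        exact ⟨⟨1, fun x => ⟨0, Subsingleton.elim _ _⟩⟩⟩
      · rw [show k = 1 by omega, pow_one] at hck
        exact isCyclic_of_prime_card hck
    exact (QuotientGroup.mk' W).isMulCommutative_of_isCyclic_of_ker_le_center (QuotientGroup.ker_mk' W).le

end Cfsg.Agent.S3810
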