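import Cfsg.Statements.S3811
import Cfsg.Agent.Transfer.SoftSubgroup

set_option autoImplicit false
open Cfsg

namespace Cfsg.Agent.S3811

/-- Let P be a finite p-group and E an abelian subgroup of P that contains its centralizer, has index p in its normalizer, and has index at least p² in P. Then the subgroups of P containing E are totally ordered by inclusion, each proper one has index p in its normalizer (so they form the normalizer tower of E, with all steps of index p), and the i-th member of the tower above E has nilpotency class i + 1 whenever it is a proper subgroup of P. -/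
theorem result {P : Type*} [Group P] [Finite P] (p : ℕ) [Fact p.Prime] (hP : IsPGroup p P)
    (E : Subgroup P) (hEab : IsMulCommutative ↥E) (hC : Subgroup.centralizer (E : Set P) ≤ E)
    (hN : (E.subgroupOf (Subgroup.normalizer (E : Set P))).index = p) (hidx : p ^ 2 ≤ E.index) :
    (∀ K L : Subgroup P, E ≤ K → E ≤ L → K ≤ L ∨ L ≤ K) ∧
      (∀ K : Subgroup P, E ≤ K → K ≠ ⊤ → (K.subgroupOf (Subgroup.normalizer (K : Set P))).index = p) ∧
      ∀ (i : ℕ) (K : Subgroup P) [Group.IsNilpotent ↥K], E ≤ K → K ≠ ⊤ → K.index * p ^ i = E.index →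
        Group.nilpotencyClass ↥K = i + 1 := by
  classical
  have hab : ∀ a ∈ E, ∀ b ∈ E, a * b = b * a := fun a ha b hb =>
    congrArg Subtype.val (mul_comm' (⟨a, ha⟩ : E) ⟨b, hb⟩)
  have hA : ∀ i, Cfsg.Agent.Transfer.Soft.tower E i ≠ ⊤ →
      (Cfsg.Agent.Transfer.Soft.tower E i).relIndex (Cfsg.Agent.Transfer.Soft.tower E (i + 1)) = p :=
    fun i hi => Cfsg.Agent.Transfer.Soft.relIndex_tower E hab hP hC hN i hi
  have hex : ∃ n, Cfsg.Agent.Transfer.Soft.tower E n = ⊤ := by
    by_contra hcon
    push Not at hcon
    have hgrow : ∀ i, i < Nat.card (Cfsg.Agent.Transfer.Soft.tower E i) := by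
      intro i
      induction i with
      | zero => exact Nat.card_pos
      | succ i ih =>
        have hlt := Cfsg.Agent.Transfer.Soft.tower_lt_succ (hA i (hcon i))
        have : Nat.card (Cfsg.Agent.Transfer.Soft.tower E i) <
            Nat.card (Cfsg.Agent.Transfer.Soft.tower E (i + 1)) :=
          lt_of_not_ge fun h => hlt.ne (Subgroup.eq_of_le_of_card_ge hlt.le h)
        omega
    exact absurd (hgrow (Nat.card P)) (not_lt.mpr (Subgroup.card_le_card_group _))
  set n := Nat.find hex with hn
  have hAn : ∀ j < n, (Cfsg.Agent.Transfer.Soft.tower E j).relIndex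
      (Cfsg.Agent.Transfer.Soft.tower E (j + 1)) = p := fun j hj => hA j (Nat.find_min hex hj)
  have hclass : ∀ K : Subgroup P, E ≤ K → ∃ j ≤ n, K = Cfsg.Agent.Transfer.Soft.tower E j := fun K hK =>
    Cfsg.Agent.Transfer.Soft.classify hP hAn hK (by rw [Nat.find_spec hex]; exact le_top)
  refine ⟨fun K L hK hL => ?_, fun K hK hne => ?_, fun i K _ hK hne hidx' => ?_⟩
  · obtain ⟨a, -, rfl⟩ := hclass K hK
    obtain ⟨b, -, rfl⟩ := hclass L hL
    exact (le_total a b).imp (Cfsg.Agent.Transfer.Soft.tower_mono E) (Cfsg.Agent.Transfer.Soft.tower_mono E)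
  · obtain ⟨a, -, rfl⟩ := hclass K hK
    exact hA a hne
  · obtain ⟨a, ha, rfl⟩ := hclass K hK
    have hE := Cfsg.Agent.Transfer.Soft.index_mul_pow (fun j hj => hAn j (lt_of_lt_of_le hj ha))
    rw [← hE] at hidx'
    have hai : i = a := Nat.pow_right_injective (Fact.out : p.Prime).two_le
      (Nat.eq_of_mul_eq_mul_left (Nat.pos_of_ne_zero Subgroup.index_ne_zero_of_finite) hidx')
    subst hai
    rcases i with _ | k
    · haveI : Nontrivial (Cfsg.Agent.Transfer.Soft.tower E 0) := by
        refine (Subgroup.nontrivial_iff_ne_bot _).mpr fun e => hne ?_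
        have e' : E = ⊥ := e
        have : E = ⊤ := top_le_iff.mp (le_trans (fun x _ => by
          rw [Subgroup.mem_centralizer_iff, e']
          intro y hy
          rw [SetLike.mem_coe, Subgroup.mem_bot] at hy
          simp [hy]) hC)
        exact this
      refine le_antisymm (Subgroup.upperCentralSeries_eq_top_iff_nilpotencyClass_le.mp ?_) ?_
      · rw [Subgroup.upperCentralSeries_one, eq_top_iff]
        exact fun x _ => Subgroup.mem_center_iff.mpr fun y => Subtype.ext (hab _ y.2 _ x.2)
      · rw [Nat.succ_le_iff, Nat.pos_iff_ne_zero]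
        intro h0
        have h0' := Subgroup.upperCentralSeries_nilpotencyClass
          (G := Cfsg.Agent.Transfer.Soft.tower E 0)
        rw [h0, Subgroup.upperCentralSeries_zero] at h0'
        exact bot_ne_top h0'
    · obtain ⟨-, h1, h2⟩ := Cfsg.Agent.Transfer.Soft.step E hab hP hC
        (fun j hj => hAn j (lt_of_lt_of_le hj ha)) hne
      have key : ∀ j, Cfsg.Agent.Transfer.Soft.zs (Cfsg.Agent.Transfer.Soft.tower E (k + 1)) j =
          Cfsg.Agent.Transfer.Soft.tower E (k + 1) ↔
          Subgroup.upperCentralSeries (Cfsg.Agent.Transfer.Soft.tower E (k + 1)) j = ⊤ := by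
        intro j
        constructor
        · intro h
          apply Subgroup.map_injective (Subgroup.subtype_injective _)
          rw [← MonoidHom.range_eq_map, Subgroup.range_subtype]
          exact h
        · intro h
          rw [Cfsg.Agent.Transfer.Soft.zs, h, ← MonoidHom.range_eq_map, Subgroup.range_subtype]
      refine le_antisymm (Subgroup.upperCentralSeries_eq_top_iff_nilpotencyClass_le.mp ((key _).mp h1)) ?_
      by_contra hlt
      exact h2 ((key _).mpr (Subgroup.upperCentralSeries_eq_top_iff_nilpotencyClass_le.mpr (by omega)))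

end Cfsg.Agent.S3811
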