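import Cfsg.Statements.S3824
import Cfsg.Agent.FGS2.PRegularClasses
import Cfsg.Agent.FGS2.BurnsideClass

set_option autoImplicit false
open Cfsg

namespace Cfsg.Agent.S3824

/-- Every finite group having an abelian subgroup whose index is a power of 2 is solvable. -/
theorem result {G : Type*} [Group G] [Finite G]
    (A : Subgroup G) (hA : IsMulCommutative A) (hidx : ∃ k : ℕ, A.index = 2 ^ k) : Group.IsSolvable G := by
  refine Cfsg.Agent.FGS2.isSolvable_of_inherit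
    (fun S _ => ∃ H : Subgroup S, IsMulCommutative H ∧ ∃ k : ℕ, H.index = 2 ^ k)
    (fun S _ _ N hN hS => ?_) (fun S _ _ N _ hS => ?_) (fun S _ _ _ hS => ?_) _ G ⟨A, hA, hidx⟩ le_rfl
  · obtain ⟨H, hc, k, hk⟩ := hS
    refine ⟨H.subgroupOf N, ⟨⟨fun a b => Subtype.ext (Subtype.ext ?_)⟩⟩, ?_⟩
    · show ((a : N) : S) * (b : N) = (b : N) * (a : N)
      exact congrArg Subtype.val (hc.is_comm.comm ⟨((a : N) : S), a.2⟩ ⟨((b : N) : S), b.2⟩)
    · haveI := hN
      obtain ⟨i, -, hi⟩ := (Nat.dvd_prime_pow Nat.prime_two).1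
        (hk ▸ Cfsg.Agent.FGS2.relIndex_dvd_index_left_of_normal H N)
      exact ⟨i, hi⟩
  · obtain ⟨H, hc, k, hk⟩ := hS
    refine ⟨H.map (QuotientGroup.mk' N), ⟨⟨?_⟩⟩, ?_⟩
    · rintro ⟨_, a, ha, rfl⟩ ⟨_, b, hb, rfl⟩
      exact Subtype.ext (congrArg (fun z : H => ((z : S) : S ⧸ N)) (hc.is_comm.comm ⟨a, ha⟩ ⟨b, hb⟩))
    · obtain ⟨i, -, hi⟩ := (Nat.dvd_prime_pow Nat.prime_two).1
        (hk ▸ H.index_map_dvd (QuotientGroup.mk'_surjective N))
      exact ⟨i, hi⟩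
  · obtain ⟨H, hc, k, hk⟩ := hS
    haveI : Fact (Nat.Prime 2) := ⟨Nat.prime_two⟩
    by_cases hb : H = ⊥
    · have := (IsPGroup.of_card (p := 2) (G := S) (by rw [← Subgroup.index_bot, ← hb, hk])).isNilpotent
      infer_instance
    obtain ⟨x, hx, hx1⟩ := (Subgroup.bot_or_exists_ne_one H).resolve_left hb
    have hle : H ≤ Subgroup.centralizer ({x} : Set S) := fun y hy =>
      Subgroup.mem_centralizer_singleton_iff.2 (congrArg Subtype.val (hc.is_comm.comm ⟨y, hy⟩ ⟨x, hx⟩))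
    obtain ⟨i, -, hi⟩ := (Nat.dvd_prime_pow Nat.prime_two).1 (hk ▸ Subgroup.index_dvd_of_le hle)
    haveI := Fact.mk (Cfsg.Agent.FGS2.burnside_class S 2 i Nat.prime_two x hx1 hi)
    haveI : IsCyclic S := isCyclic_of_prime_card rfl
    infer_instance

end Cfsg.Agent.S3824
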