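import Cfsg.Statements.S3868
import Cfsg.Agent.TwoGroups.IrredCyclic
import Cfsg.Agent.Core.MinimalNormal
import Cfsg.Agent.Core.Cores
import Cfsg.Agent.Transfer.Basic
import Cfsg.Agent.Core.CoprimeAction
import Cfsg.Agent.Core.Frattini

set_option autoImplicit false
open Cfsg

namespace Cfsg.Agent.S3868

/-- Structure of the non-simple minimal non-p-closed groups. Call a finite group p-closed when its Sylow p-subgroups are normal, and minimal non-p-closed when it is not p-closed but every proper subgroup and every proper quotient is. If such a group G is not simple, then there is a prime q ≠ p such that G has order p · q^e, where e is the multiplicative order of q modulo p, and G has a normal subgroup A of order q^e that is elementary abelian and is a minimal normal subgroup of G (so G is the semidirect product of A by a group of order p acting irreducibly). -/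
theorem result {G : Type*} [Group G] [Finite G] {p : ℕ} [Fact p.Prime]
    (hnc : ¬ Cfsg.IsPClosed p G) (hsub : ∀ H : Subgroup G, H ≠ ⊤ → Cfsg.IsPClosed p ↥H)
    (hquo : ∀ (N : Subgroup G) [N.Normal], N ≠ ⊥ → Cfsg.IsPClosed p (G ⧸ N)) (hns : ¬ IsSimpleGroup G) :
    ∃ q : ℕ, q.Prime ∧ q ≠ p ∧ Nat.card G = p * q ^ orderOf (q : ZMod p) ∧
      ∃ A : Subgroup G, A.Normal ∧ Nat.card ↥A = q ^ orderOf (q : ZMod p) ∧ Cfsg.IsElementaryAbelian q A ∧
        ∀ B : Subgroup G, B.Normal → B ≤ A → B = ⊥ ∨ B = A := by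
  classical
  haveI : Nontrivial G := by
    by_contra hcon
    rw [not_nontrivial_iff_subsingleton] at hcon
    exact hnc fun P => ⟨fun n hn g => by rwa [Subsingleton.elim (g * n * g⁻¹) n]⟩
  have hp := (Fact.out : p.Prime)
  have hOp : ∀ N : Subgroup G, N.Normal → IsPGroup p N → N = ⊥ := by
    intro N hN hNp
    by_contra hne
    apply hnc
    intro P
    have h1 := hquo N hne (P.mapSurjective (QuotientGroup.mk'_surjective N))
    have h2 : N ≤ (P : Subgroup G) := (Core.le_pCore hN hNp).trans (Core.pCore_le_sylow P)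
    have h3 := h1.comap (QuotientGroup.mk' N)
    rw [Sylow.coe_mapSurjective, Subgroup.comap_map_eq, QuotientGroup.ker_mk', sup_of_le_left h2] at h3
    exact h3
  -- proper normal subgroups have order prime to `p`
  have hp' : ∀ N : Subgroup G, N.Normal → N ≠ ⊤ → ¬ p ∣ Nat.card N := by
    intro N hN hNt hd
    obtain ⟨S⟩ : Nonempty (Sylow p N) := Sylow.nonempty
    haveI := hN
    haveI := hsub N hNt S
    haveI : (S : Subgroup N).Characteristic := Sylow.characteristic_of_normal S inferInstance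
    have h1 := hOp _ (Core.normal_map_subtype_of_characteristic (S : Subgroup N)) (S.2.map N.subtype)
    rw [Subgroup.map_eq_bot_iff_of_injective _ N.subtype_injective] at h1
    exact (S.ne_bot_of_dvd_card hd) h1
  obtain ⟨M, hMn, hM0, hMt⟩ : ∃ M : Subgroup G, M.Normal ∧ M ≠ ⊥ ∧ M ≠ ⊤ := by
    by_contra hcon
    push Not at hcon
    exact hns ⟨fun N hN => (em (N = ⊥)).imp_right (hcon N hN)⟩
  obtain ⟨A, hAmin, hAM⟩ := Core.exists_isMinNormal_le hMn hM0
  haveI := hAmin.1
  have hAt : A ≠ ⊤ := fun e => hMt (top_le_iff.mp (e ▸ hAM))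
  have hAp : ¬ p ∣ Nat.card A := hp' A hAmin.1 hAt
  obtain ⟨P⟩ : Nonempty (Sylow p G) := Sylow.nonempty
  have hP1 : (P : Subgroup G) ≠ ⊥ := fun e => hnc fun Q => by
    have h1 : (Q : Subgroup G) = ⊥ := by
      rw [← Subgroup.card_eq_one, Q.card_eq_multiplicity, ← P.card_eq_multiplicity, e, Subgroup.card_bot]
    rw [h1]; infer_instance
  have htop : (P : Subgroup G) ⊔ A = ⊤ := by
    by_contra hne
    have h1 := hquo A hAmin.2.1 (P.mapSurjective (QuotientGroup.mk'_surjective A))
    have h3 := h1.comap (QuotientGroup.mk' A)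
    rw [Sylow.coe_mapSurjective, Subgroup.comap_map_eq, QuotientGroup.ker_mk'] at h3
    refine hp' _ h3 hne ?_
    exact ((P.2.card_eq_or_dvd).resolve_left (fun e => hP1 (Subgroup.card_eq_one.mp e))).trans
      (Subgroup.card_dvd_of_le le_sup_left)
  have hinf : (P : Subgroup G) ⊓ A = ⊥ := by
    rw [← Subgroup.card_eq_one]
    obtain ⟨k, hk⟩ := IsPGroup.iff_card.mp P.2
    exact Nat.eq_one_of_dvd_coprimes (Nat.Coprime.pow_right k ((hp.coprime_iff_not_dvd.mpr hAp).symm))
      (Subgroup.card_dvd_of_le inf_le_right) (hk ▸ Subgroup.card_dvd_of_le inf_le_left)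
  -- some Sylow subgroup of `A` together with `P` generates `G`
  obtain ⟨q, hq, Q, hQA, hQq, hPQ, hQtop⟩ : ∃ q : ℕ, q.Prime ∧ ∃ Q : Subgroup G, Q ≤ A ∧ IsPGroup q Q ∧
      (P : Subgroup G) ≤ Subgroup.normalizer (Q : Set G) ∧ (P : Subgroup G) ⊔ Q = ⊤ := by
    by_contra hcon
    push Not at hcon
    have hall : ∀ q : ℕ, q.Prime → q ∣ Nat.card A → ∃ Q : Subgroup G, Q ≤ A ∧ ¬ q ∣ Q.relIndex A ∧
        (P : Subgroup G) ≤ Subgroup.centralizer (Q : Set G) := by
      intro q hq hqA
      haveI := Fact.mk hq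
      have hqp : q ≠ p := fun e => hAp (e ▸ hqA)
      obtain ⟨k, hk⟩ := IsPGroup.iff_card.mp P.2
      obtain ⟨Q, hQA, hQq, hQi, hPQ⟩ := Core.exists_invariant_sylow (N := A) (A := (P : Subgroup G))
        (Subgroup.normalizer_eq_top A ▸ le_top)
        (Or.inl (by haveI := IsPGroup.isNilpotent (p := p) (G := ↥(P : Subgroup G)) P.2; infer_instance))
        (hk ▸ Nat.Coprime.pow_left k (hp.coprime_iff_not_dvd.mpr hAp)) q
      refine ⟨Q, hQA, hQi, ?_⟩
      have hH := hsub _ (hcon q hq Q hQA hQq hPQ) (P.subtype (le_sup_left : (P : Subgroup G) ≤ (P : Subgroup G) ⊔ Q))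
      have hQP : Q ≤ Subgroup.normalizer ((P : Subgroup G) : Set G) := fun y hy => by
        have h1 := (Subgroup.normal_subgroupOf_iff_le_normalizer (le_sup_left : (P : Subgroup G) ≤ (P : Subgroup G) ⊔ Q)).mp hH
        exact h1 (Subgroup.mem_sup_right hy)
      intro x hx
      rw [Subgroup.mem_centralizer_iff]
      intro y hy
      have h1 : y * x * y⁻¹ * x⁻¹ ∈ (P : Subgroup G) ⊓ A := by
        refine ⟨mul_mem ((Subgroup.mem_normalizer_iff.mp (hQP hy) x).mp hx) ((P : Subgroup G).inv_mem hx), ?_⟩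
        have h2 := hAmin.1.conj_mem _ (inv_mem (hQA hy)) x
        have := mul_mem (hQA hy) h2
        simpa [mul_assoc] using this
      rw [hinf, Subgroup.mem_bot, mul_inv_eq_one, mul_inv_eq_iff_eq_mul] at h1
      exact h1
    have hC : A ≤ Subgroup.centralizer ((P : Subgroup G) : Set G) := by
      have hle : A ⊓ Subgroup.centralizer ((P : Subgroup G) : Set G) = A := by
        refine Subgroup.eq_of_le_of_card_ge inf_le_left ?_
        set K := A ⊓ Subgroup.centralizer ((P : Subgroup G) : Set G)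
        have hK : K.relIndex A = 1 := by
          by_contra hne
          obtain ⟨q, hq, hqd⟩ := Nat.exists_prime_and_dvd hne
          obtain ⟨Q, hQA, hQi, hQC⟩ := hall q hq (hqd.trans (Subgroup.relIndex_dvd_card _ _))
          refine hQi (hqd.trans (Subgroup.relIndex_dvd_of_le_left A (le_inf hQA ?_)))
          exact Subgroup.le_centralizer_iff.mp hQC
        exact Subgroup.card_le_of_le (Subgroup.relIndex_eq_one.mp hK)
      exact inf_eq_left.mp hle
    refine hnc fun R => ?_
    have hPn : (P : Subgroup G).Normal := by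
      rw [← Subgroup.normalizer_eq_top_iff, eq_top_iff, ← htop]
      exact sup_le Subgroup.le_normalizer (hC.trans (Subgroup.centralizer_le_normalizer _))
    obtain ⟨g, rfl⟩ := MulAction.exists_smul_eq G P R
    rw [Sylow.smul_eq_of_normal]
    exact hPn
  haveI := Fact.mk hq
  have hQA' : Q = A := by
    refine le_antisymm hQA fun a ha => ?_
    have h1 : a ∈ Q ⊔ (P : Subgroup G) := by rw [sup_comm, hQtop]; trivial
    haveI : Q.Normal := Subgroup.normalizer_eq_top_iff.mp (top_le_iff.mp
      (hQtop ▸ sup_le hPQ Subgroup.le_normalizer))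
    obtain ⟨y, hy, z, hz, e⟩ := Subgroup.mem_sup_of_normal_left.mp h1
    have hz' : z ∈ (P : Subgroup G) ⊓ A := ⟨hz, by
      have := mul_mem (inv_mem (hQA hy)) ha
      rwa [← e, inv_mul_cancel_left] at this⟩
    rw [hinf, Subgroup.mem_bot] at hz'
    rw [← e, hz', mul_one]
    exact hy
  subst hQA'
  have hsolv : Group.IsSolvable Q := by
    haveI := IsPGroup.isNilpotent (p := q) (G := ↥Q) hQq
    infer_instance
  obtain ⟨hcomm, q', hq', hexp, hQq'⟩ := hAmin.elementaryAbelian hsolv
  have hqq : q = q' := by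
    obtain ⟨k, hk⟩ := IsPGroup.iff_card.mp hQq
    haveI := Fact.mk hq'
    obtain ⟨k', hk'⟩ := IsPGroup.iff_card.mp hQq'
    have hk0 : k' ≠ 0 := fun e => hAmin.2.1 (Subgroup.card_eq_one.mp (by rw [hk', e, pow_zero]))
    exact ((Nat.prime_dvd_prime_iff_eq hq' hq).mp (hq'.dvd_of_dvd_pow (n := k) (by rw [← hk, hk']; exact dvd_pow_self q' hk0))).symm
  subst hqq
  have hqp : q ≠ p := fun e => hAp (by
    obtain ⟨k, hk⟩ := IsPGroup.iff_card.mp hQq
    have hk0 : k ≠ 0 := fun e => hAmin.2.1 (Subgroup.card_eq_one.mp (by rw [hk, e, pow_zero]))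
    rw [hk, e]; exact dvd_pow_self p hk0)
  -- `P` has order `p`
  have hPc : Nat.card (P : Subgroup G) = p := by
    obtain ⟨k, hk⟩ := IsPGroup.iff_card.mp P.2
    have hk0 : k ≠ 0 := fun e => hP1 (Subgroup.card_eq_one.mp (by rw [hk, e, pow_zero]))
    by_contra hne
    obtain ⟨P₁, hP₁⟩ := Sylow.exists_subgroup_card_pow_prime (G := ↥(P : Subgroup G)) p (n := k - 1)
      (hk ▸ pow_dvd_pow p (Nat.sub_le k 1))
    haveI : P₁.Normal := by
      haveI := IsPGroup.isNilpotent (p := p) (G := ↥(P : Subgroup G)) P.2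
      refine Subgroup.normal_of_index_eq_minFac_card ?_
      have h1 := P₁.card_mul_index
      rw [hP₁, hk] at h1
      rw [hk, Nat.Prime.pow_minFac hp hk0]
      refine Nat.eq_of_mul_eq_mul_left (pow_pos hp.pos (k - 1)) (h1.trans ?_)
      rw [← pow_succ, Nat.sub_add_cancel (Nat.one_le_iff_ne_zero.mpr hk0)]
    set P' := P₁.map (P : Subgroup G).subtype
    have hP'c : Nat.card P' = p ^ (k - 1) := by rw [Core.card_map_subtype, hP₁]
    have hlt : P' ⊔ Q ≠ ⊤ := by
      intro e
      have h1 : (P : Subgroup G) = P' := le_antisymm (fun x hx => by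
        have h2 : x ∈ P' ⊔ Q := by rw [e]; trivial
        obtain ⟨y, hy, z, hz, rfl⟩ := Subgroup.mem_sup_of_normal_right.mp h2
        have hz' : z ∈ (P : Subgroup G) ⊓ Q := ⟨by
          have := mul_mem (inv_mem (Subgroup.map_subtype_le _ hy)) hx
          rwa [inv_mul_cancel_left] at this, hz⟩
        rw [hinf, Subgroup.mem_bot] at hz'
        rwa [hz', mul_one]) (Subgroup.map_subtype_le _)
      have h2 := hk
      rw [h1, hP'c] at h2
      have := Nat.pow_right_injective hp.two_le h2
      omega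
    obtain ⟨S, hS⟩ := ((IsPGroup.of_card hP'c).comap_subtype (K := P' ⊔ Q)).exists_le_sylow
    have hSn := hsub _ hlt S
    have hcen : ∀ x ∈ P', ∀ a ∈ Q, Commute x a := by
      intro x hx a ha
      have h1 : (S : Subgroup ↥(P' ⊔ Q)) ⊓ Q.subgroupOf (P' ⊔ Q) = ⊥ := by
        rw [← Subgroup.card_eq_one]
        obtain ⟨j, hj⟩ := IsPGroup.iff_card.mp S.2
        exact Nat.eq_one_of_dvd_coprimes (Nat.Coprime.pow_right j ((hp.coprime_iff_not_dvd.mpr hAp).symm))
          ((Subgroup.card_dvd_of_le inf_le_right).trans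
            (dvd_of_eq (Nat.card_congr (Subgroup.subgroupOfEquivOfLe le_sup_right).toEquiv)))
          (hj ▸ Subgroup.card_dvd_of_le inf_le_left)
      exact congrArg Subtype.val (Subgroup.commute_of_normal_of_disjoint _ _ hSn inferInstance
        (disjoint_iff.mpr h1) ⟨x, Subgroup.mem_sup_left hx⟩ ⟨a, Subgroup.mem_sup_right ha⟩ (hS hx) ha).eq
    have hP'n : P'.Normal := by
      rw [← Subgroup.normalizer_eq_top_iff, eq_top_iff, ← htop]
      refine sup_le (fun x hx => ?_) (fun a ha => ?_)
      · exact (Subgroup.normal_subgroupOf_iff_le_normalizer (Subgroup.map_subtype_le _)).mp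
          (by rw [show P'.subgroupOf (P : Subgroup G) = P₁ from
            Subgroup.comap_map_eq_self_of_injective (P : Subgroup G).subtype_injective _]; infer_instance) hx
      · exact (Subgroup.centralizer_le_normalizer _) (Subgroup.mem_centralizer_iff.mpr fun x hx => hcen x hx a ha)
    have h1 := hOp P' hP'n (IsPGroup.of_card hP'c)
    rw [h1, Subgroup.card_bot] at hP'c
    have hk1 : k = 1 := by
      have := (Nat.pow_eq_one.mp hP'c.symm).resolve_left hp.ne_one
      omega
    exact hne (by rw [hk, hk1, pow_one])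
  obtain ⟨x, hx⟩ := exists_prime_orderOf_dvd_card' (G := (P : Subgroup G)) p (dvd_of_eq hPc.symm)
  have hxP : Subgroup.zpowers (x : G) = (P : Subgroup G) := Subgroup.eq_of_le_of_card_ge
    (Subgroup.zpowers_le.mpr x.2) (by rw [Nat.card_zpowers, Subgroup.orderOf_coe, hx, hPc])
  have hcardQ : Nat.card ↥Q = q ^ orderOf (q : ZMod p) := by
    have hQel : Cfsg.IsElementaryAbelian q Q := ⟨hcomm, hexp⟩
    have hirr : ∀ B ≤ Q, (∀ b ∈ B, (x : G) * b * (x : G)⁻¹ ∈ B) → B = ⊥ ∨ B = Q := by
      intro B hB hxB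
      refine hAmin.2.2 B ?_ hB
      rw [← Subgroup.normalizer_eq_top_iff, eq_top_iff, ← htop, ← hxP]
      refine sup_le (Subgroup.zpowers_le.mpr (Transfer.mem_normalizer_iff_map_conj.mpr
        (Subgroup.eq_of_le_of_card_ge (by rintro _ ⟨b, hb, rfl⟩; exact hxB b hb)
          (Transfer.card_map_conj _ B).ge))) (fun a ha => (Subgroup.centralizer_le_normalizer _)
          (Subgroup.mem_centralizer_iff.mpr fun b hb => congrArg Subtype.val
            (hcomm.is_comm.comm ⟨b, hB hb⟩ ⟨a, ha⟩)))
    refine TwoGroups.card_eq_pow_orderOf hqp hQel (Subgroup.normalizer_eq_top Q ▸ Subgroup.mem_top _)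
      (((Subgroup.orderOf_coe x).trans hx) ▸ pow_orderOf_eq_one (x : G) :) ?_ hirr
    by_contra hcon
    push Not at hcon
    refine hnc fun R => ?_
    have hPn : (P : Subgroup G).Normal := by
      rw [← Subgroup.normalizer_eq_top_iff, eq_top_iff, ← htop]
      refine sup_le Subgroup.le_normalizer fun a ha => (Subgroup.centralizer_le_normalizer _)
        (Subgroup.mem_centralizer_iff.mpr fun y hy => ?_)
      rw [← hxP] at hy
      obtain ⟨i, rfl⟩ := hy
      exact ((show Commute (x : G) a from mul_inv_eq_iff_eq_mul.mp (hcon a ha)).zpow_left i).eq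
    obtain ⟨g, rfl⟩ := MulAction.exists_smul_eq G P R
    rw [Sylow.smul_eq_of_normal]
    exact hPn
  refine ⟨q, hq, hqp, ?_, Q, hAmin.1, hcardQ, ⟨hcomm, hexp⟩, hAmin.2.2⟩
  rw [← hcardQ, ← hPc, mul_comm]
  exact ((Core.isComplement'_of_inf_eq_bot_of_sup_eq_top (N := Q) (H := (P : Subgroup G))
    (by rw [inf_comm, hinf]) (by rw [sup_comm, htop])).card_mul_card).symm

end Cfsg.Agent.S3868
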