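import Cfsg.Statements.S3869
import Cfsg.Agent.TwoGroups.IrredCyclic
import Cfsg.Agent.Core.MinimalNormal
import Cfsg.Agent.Core.Cores
import Cfsg.Agent.Core.CoprimeAction
import Cfsg.Agent.Transfer.Basic

set_option autoImplicit false
open Cfsg

namespace Cfsg.Agent.S3869

/-- Let p and q be distinct primes and G a finite non-abelian group with a normal elementary abelian q-subgroup A that is a minimal normal subgroup of G and has index p. Then A has order q^e with e the multiplicative order of q modulo p, and G is minimal non-p-closed: its Sylow p-subgroups are not normal, while in every proper subgroup and in every proper quotient of G the Sylow p-subgroups are normal. -/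
theorem result {G : Type*} [Group G] [Finite G] {p q : ℕ} [Fact p.Prime] (hq : q.Prime) (hpq : q ≠ p)
    (hna : ¬ IsMulCommutative G) (A : Subgroup G) [A.Normal] (hA : Cfsg.IsElementaryAbelian q A) (hidx : A.index = p)
    (hmin : ∀ B : Subgroup G, B.Normal → B ≤ A → B = ⊥ ∨ B = A) :
    Nat.card ↥A = q ^ orderOf (q : ZMod p) ∧ ¬ Cfsg.IsPClosed p G ∧ (∀ H : Subgroup G, H ≠ ⊤ → Cfsg.IsPClosed p ↥H) ∧
      ∀ (N : Subgroup G) [N.Normal], N ≠ ⊥ → Cfsg.IsPClosed p (G ⧸ N) := by
  classical
  haveI := Fact.mk hq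
  have hp := (Fact.out : p.Prime)
  obtain ⟨g, hg⟩ : ∃ g, g ∉ A := by
    by_contra hcon
    push Not at hcon
    rw [(Subgroup.eq_top_iff' A).mpr hcon, Subgroup.index_top] at hidx
    exact hp.ne_one hidx.symm
  -- `A` is complemented by a subgroup of order `p`
  have hAq : IsPGroup q A := fun a => ⟨1, Subtype.ext (by simpa using hA.2 a a.2)⟩
  obtain ⟨n, hn⟩ := IsPGroup.iff_card.mp hAq
  have hcard : Nat.card G = q ^ n * p := by rw [← hn, ← hidx, A.card_mul_index]
  have hcopA : (Nat.card ↥A).Coprime p := hn ▸ ((Nat.coprime_primes hq hp).mpr hpq).pow_left n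
  obtain ⟨x, hx⟩ : ∃ x : G, orderOf x = p :=
    exists_prime_orderOf_dvd_card' p (hcard ▸ dvd_mul_left p _)
  have hxA : x ∉ A := fun h => by
    have h1 := orderOf_dvd_natCard (⟨x, h⟩ : ↥A)
    rw [Subgroup.orderOf_mk, hx] at h1
    exact hp.ne_one (Nat.eq_one_of_dvd_coprimes hcopA h1 dvd_rfl)
  have htop : A ⊔ Subgroup.zpowers x = ⊤ := by
    by_contra hne
    have hle : A ≤ A ⊔ Subgroup.zpowers x := le_sup_left
    have h1 := Subgroup.relIndex_mul_index hle
    rw [hidx] at h1
    rcases (Nat.dvd_prime hp).mp (Dvd.intro_left _ h1) with h2 | h2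
    · exact hne (Subgroup.index_eq_one.mp h2)
    · rw [h2, mul_eq_right₀ hp.ne_zero, Subgroup.relIndex_eq_one] at h1
      exact hxA (h1 (Subgroup.mem_sup_right (Subgroup.mem_zpowers x)))
  have hgen : ∀ y : G, ∃ a ∈ A, ∃ b ∈ Subgroup.zpowers x, a * b = y := fun y =>
    Subgroup.mem_sup_of_normal_left.mp (htop ▸ Subgroup.mem_top y)
  -- commutative pieces
  have habel : ∀ B : Subgroup G, B ≤ A → (∀ b ∈ B, x * b * x⁻¹ ∈ B) → B.Normal := by
    intro B hB hxB
    have hxn : x ∈ Subgroup.normalizer (B : Set G) := Transfer.mem_normalizer_iff_map_conj.mpr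
      (Subgroup.eq_of_le_of_card_ge (by rintro _ ⟨b, hb, rfl⟩; exact hxB b hb)
        (Transfer.card_map_conj x B).ge)
    rw [← Subgroup.normalizer_eq_top_iff, eq_top_iff, ← htop]
    refine sup_le (fun a ha => Subgroup.mem_normalizer_iff.mpr fun b => ?_) (Subgroup.zpowers_le.mpr hxn)
    have hc : ∀ b ∈ B, a * b * a⁻¹ = b := fun b hb => by
      rw [show a * b = b * a from congrArg Subtype.val (hA.1.is_comm.comm ⟨a, ha⟩ ⟨b, hB hb⟩), mul_inv_cancel_right]
    refine ⟨fun hb => by rw [hc b hb]; exact hb, fun hb => ?_⟩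
    have hb' := hB hb
    have hbA : b ∈ A := by
      have := mul_mem (mul_mem (inv_mem ha) hb') ha
      simpa [mul_assoc] using this
    have h1 : a * b * a⁻¹ = b := by
      rw [show a * b = b * a from congrArg Subtype.val (hA.1.is_comm.comm ⟨a, ha⟩ ⟨b, hbA⟩), mul_inv_cancel_right]
    rwa [h1] at hb
  have hnt : ∃ a ∈ A, x * a * x⁻¹ ≠ a := by
    by_contra hcon
    push Not at hcon
    refine hna ⟨⟨fun u v => ?_⟩⟩
    obtain ⟨a, ha, b, hb, rfl⟩ := hgen u
    obtain ⟨a', ha', b', hb', rfl⟩ := hgen v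
    obtain ⟨i, rfl⟩ := hb
    obtain ⟨j, rfl⟩ := hb'
    have c1 : ∀ a ∈ A, Commute x a := fun a ha => mul_inv_eq_iff_eq_mul.mp (hcon a ha)
    have c2 : Commute a a' := congrArg Subtype.val (hA.1.is_comm.comm ⟨a, ha⟩ ⟨a', ha'⟩)
    exact ((c2.mul_right ((c1 a ha).zpow_left j).symm).mul_left
      (((c1 a' ha').zpow_left i).mul_right (Commute.zpow_zpow_self x i j))).eq
  have hcardA : Nat.card ↥A = q ^ orderOf (q : ZMod p) :=
    TwoGroups.card_eq_pow_orderOf hpq hA (Subgroup.normalizer_eq_top A ▸ Subgroup.mem_top x)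
      (hx ▸ pow_orderOf_eq_one x) hnt (fun B hB hxB => hmin B (habel B hB hxB) hB)
  have hpcl : ∀ (X : Type _) [Group X] [Finite X], IsPGroup p X ∨ (Nat.card X).Coprime p → Cfsg.IsPClosed p X := by
    intro X _ _ h P
    rcases h with h | h
    · rw [show (P : Subgroup X) = ⊤ from (P.3 (h.to_subgroup ⊤) le_top).symm]
      infer_instance
    · obtain ⟨k, hk⟩ := IsPGroup.iff_card.mp P.2
      have h1 : Nat.card (P : Subgroup X) ∣ Nat.card X := Subgroup.card_subgroup_dvd_card _
      have h2 : Nat.card (P : Subgroup X) = 1 :=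
        Nat.eq_one_of_dvd_coprimes (Nat.Coprime.pow_right k h) h1 (hk ▸ dvd_rfl)
      rw [Subgroup.card_eq_one.mp h2]
      infer_instance
  refine ⟨hcardA, fun hcl => ?_, fun H hH => ?_, fun N _ hN => ?_⟩
  · obtain ⟨P, hP⟩ := ((IsPGroup.of_card (n := 1) (by rw [Nat.card_zpowers, hx, pow_one]) :
      IsPGroup p (Subgroup.zpowers x))).exists_le_sylow
    haveI := hcl P
    obtain ⟨a, ha, hne⟩ := hnt
    have hbot : (P : Subgroup G) ⊓ A = ⊥ := by
      rw [← Subgroup.card_eq_one]
      obtain ⟨k, hk⟩ := IsPGroup.iff_card.mp P.2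
      exact Nat.eq_one_of_dvd_coprimes (Nat.Coprime.pow_right k hcopA)
        (Subgroup.card_dvd_of_le inf_le_right) (hk ▸ Subgroup.card_dvd_of_le inf_le_left)
    exact hne (mul_inv_eq_iff_eq_mul.mpr (Subgroup.commute_of_normal_of_disjoint _ A inferInstance inferInstance
      (disjoint_iff.mpr hbot) x a (hP (Subgroup.mem_zpowers x)) ha))
  · by_cases hHA : H ≤ A
    · exact hpcl _ (Or.inr (hcopA.coprime_dvd_left (Subgroup.card_dvd_of_le hHA)))
    obtain ⟨y, hyH, hyA⟩ := SetLike.not_le_iff_exists.mp hHA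
    obtain ⟨a, ha, b, hb, rfl⟩ := hgen y
    obtain ⟨i, rfl⟩ := hb
    have hn1 : (A ⊓ H).Normal := by
      rw [← Subgroup.normalizer_eq_top_iff, eq_top_iff]
      have hAn : A ≤ Subgroup.normalizer ((A ⊓ H : Subgroup G) : Set G) := fun a ha => by
        refine Subgroup.mem_normalizer_iff.mpr fun b => ?_
        have hc : ∀ b ∈ A, a * b * a⁻¹ = b := fun b hb => by
          rw [show a * b = b * a from congrArg Subtype.val (hA.1.is_comm.comm ⟨a, ha⟩ ⟨b, hb⟩), mul_inv_cancel_right]
        refine ⟨fun hb => by rw [hc b hb.1]; exact hb, fun hb => ?_⟩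
        have hbA : b ∈ A := by
          have := mul_mem (mul_mem (inv_mem ha) hb.1) ha
          simpa [mul_assoc] using this
        rwa [hc b hbA] at hb
      have hle : A ⊔ Subgroup.zpowers (a * x ^ i) ≤ Subgroup.normalizer ((A ⊓ H : Subgroup G) : Set G) :=
        sup_le hAn (Subgroup.zpowers_le.mpr (Transfer.mem_normalizer_iff_map_conj.mpr (by
          rw [Subgroup.map_inf _ _ _ (MulAut.conj _).injective,
            Transfer.mem_normalizer_iff_map_conj.mp (Subgroup.normalizer_eq_top A ▸ Subgroup.mem_top _),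
            Transfer.mem_normalizer_iff_map_conj.mp (Subgroup.le_normalizer hyH)])))
      refine le_trans (le_of_eq ?_) hle
      by_contra hne
      have h1 := Subgroup.relIndex_mul_index (le_sup_left : A ≤ A ⊔ Subgroup.zpowers (a * x ^ i))
      rw [hidx] at h1
      rcases (Nat.dvd_prime hp).mp (Dvd.intro_left _ h1) with h2 | h2
      · exact hne (Subgroup.index_eq_one.mp h2).symm
      · rw [h2, mul_eq_right₀ hp.ne_zero, Subgroup.relIndex_eq_one] at h1
        exact hyA (h1 (Subgroup.mem_sup_right (Subgroup.mem_zpowers _)))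
    rcases hmin _ hn1 inf_le_left with e | e
    · refine hpcl _ (Or.inl (IsPGroup.of_card (n := 1) ?_))
      rw [pow_one]
      have h1 : Nat.card H = A.relIndex H := by
        rw [← Subgroup.inf_relIndex_right, e, Subgroup.relIndex_bot_left]
      have h2 : A.relIndex H ∣ p := hidx ▸ Subgroup.relIndex_dvd_index_of_normal _ _
      rcases (Nat.dvd_prime hp).mp (h1 ▸ h2) with h3 | h3
      · exact absurd (Subgroup.card_eq_one.mp h3) (fun h4 => hHA (h4 ▸ bot_le))
      · exact h3
    · refine absurd ?_ hH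
      rw [inf_eq_left] at e
      rw [eq_top_iff]
      intro z _
      have h1 := Subgroup.relIndex_mul_index e
      rw [hidx] at h1
      rcases (Nat.dvd_prime hp).mp (Dvd.intro_left _ h1) with h2 | h2
      · rw [Subgroup.index_eq_one.mp h2]; trivial
      · rw [h2, mul_eq_right₀ hp.ne_zero, Subgroup.relIndex_eq_one] at h1
        exact absurd h1 hHA
  · rcases hmin (N ⊓ A) inferInstance inf_le_right with e | e
    · exfalso
      obtain ⟨a, ha, hne⟩ := hnt
      have hNA : ¬ N ≤ A := fun h => hN (by rwa [inf_eq_left.mpr h] at e)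
      obtain ⟨y, hyN, hyA⟩ := SetLike.not_le_iff_exists.mp hNA
      obtain ⟨b, hb, c, hc, rfl⟩ := hgen y
      obtain ⟨i, rfl⟩ := hc
      have h1 : ∀ a ∈ A, Commute (b * x ^ i) a := fun a ha =>
        Subgroup.commute_of_normal_of_disjoint N A inferInstance inferInstance (disjoint_iff.mpr e) _ a hyN ha
      have h2 : ∀ a ∈ A, Commute (x ^ i) a := fun a ha => by
        have hb' : Commute b a := congrArg Subtype.val (hA.1.is_comm.comm ⟨b, hb⟩ ⟨a, ha⟩)
        have := hb'.inv_left.mul_left (h1 a ha)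
        rwa [inv_mul_cancel_left] at this
      have hxi : x ∈ Subgroup.zpowers (x ^ i) := by
        by_cases h : (p : ℤ) ∣ i
        · exfalso
          refine hyA (mul_mem hb ?_)
          show x ^ i ∈ A
          rw [orderOf_dvd_iff_zpow_eq_one.mp (hx.symm ▸ h)]
          exact one_mem A
        · obtain ⟨u, v, huv⟩ := (Nat.prime_iff_prime_int.mp hp).coprime_iff_not_dvd.mpr h
          refine ⟨v, ?_⟩
          show (x ^ i) ^ v = x
          rw [← zpow_mul, show i * v = 1 + (p : ℤ) * (-u) by linarith, zpow_add, zpow_mul, zpow_one, ← hx,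
            zpow_natCast, pow_orderOf_eq_one, one_zpow, mul_one]
      obtain ⟨j, hj⟩ := hxi
      have h3 : Commute ((x ^ i) ^ j) a := (h2 a ha).zpow_left j
      rw [show (x ^ i) ^ j = x from hj] at h3
      exact hne (mul_inv_eq_iff_eq_mul.mpr h3.eq)
    · refine hpcl _ (Or.inl ?_)
      have h1 : N.index ∣ p := hidx ▸ Subgroup.index_dvd_of_le (inf_eq_right.mp e)
      rw [Subgroup.index_eq_card] at h1
      rcases (Nat.dvd_prime hp).mp h1 with h3 | h3
      · exact IsPGroup.of_card (n := 0) (by rw [h3, pow_zero])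
      · exact IsPGroup.of_card (n := 1) (by rw [h3, pow_one])

end Cfsg.Agent.S3869
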