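import Cfsg.Statements.S3870
import Mathlib

set_option autoImplicit false
open Cfsg

namespace Cfsg.Agent.S3870

/-- Let G be a finite simple group whose Sylow p-subgroups are not normal but such that every proper subgroup of G has a normal Sylow p-subgroup. Then any two distinct Sylow p-subgroups of G intersect trivially, and for every Sylow p-subgroup P the normalizer of every non-identity subgroup of P lies in the normalizer of P. -/
theorem result {G : Type*} [Group G] [Finite G] [IsSimpleGroup G] {p : ℕ} [Fact p.Prime]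
    (hnc : ¬ Cfsg.IsPClosed p G) (hsub : ∀ H : Subgroup G, H ≠ ⊤ → Cfsg.IsPClosed p ↥H) :
    (∀ P Q : Sylow p G, P ≠ Q → (P : Subgroup G) ⊓ (Q : Subgroup G) = ⊥) ∧
      ∀ (P : Sylow p G) (R : Subgroup G), R ≤ P → R ≠ ⊥ →
        Subgroup.normalizer (R : Set G) ≤ Subgroup.normalizer ((P : Subgroup G) : Set G) := by
  classical
  have grow : ∀ (P : Sylow p G) (R : Subgroup G), R ≤ P → R ≠ (P : Subgroup G) →
      ∃ x ∈ (P : Subgroup G), x ∈ Subgroup.normalizer (R : Set G) ∧ x ∉ R := by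
    intro P R hRP hne
    haveI := IsPGroup.isNilpotent (p := p) (G := ↥(P : Subgroup G)) P.2
    have hlt : R.subgroupOf (P : Subgroup G) < ⊤ := by
      refine lt_top_iff_ne_top.mpr fun e => hne (le_antisymm hRP (fun x hx => ?_))
      exact (e.ge (Subgroup.mem_top (⟨x, hx⟩ : ↥(P : Subgroup G))) :)
    obtain ⟨x, hx, hxR⟩ := SetLike.exists_of_lt (normalizerCondition_of_isNilpotent _ hlt)
    refine ⟨x, x.2, ?_, hxR⟩
    refine Subgroup.mem_normalizer_iff.mpr fun r => ?_
    constructor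
    · intro hr
      exact (Subgroup.mem_normalizer_iff.mp hx (⟨r, hRP hr⟩ : ↥(P : Subgroup G))).mp hr
    · intro hr
      have hrP : r ∈ (P : Subgroup G) := by
        have := mul_mem (mul_mem (inv_mem x.2) (hRP hr)) x.2
        simpa [mul_assoc] using this
      exact (Subgroup.mem_normalizer_iff.mp hx (⟨r, hrP⟩ : ↥(P : Subgroup G))).mpr hr
  have ti : ∀ P Q : Sylow p G, P ≠ Q → (P : Subgroup G) ⊓ (Q : Subgroup G) = ⊥ := by
    by_contra hcon
    push Not at hcon
    obtain ⟨P₀, Q₀, hne₀, h₀⟩ := hcon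
    haveI : Nonempty {pq : Sylow p G × Sylow p G // pq.1 ≠ pq.2} := ⟨⟨(P₀, Q₀), hne₀⟩⟩
    obtain ⟨⟨⟨P, Q⟩, hPQ : P ≠ Q⟩, hmax⟩ := Finite.exists_max
      (fun pq : {pq : Sylow p G × Sylow p G // pq.1 ≠ pq.2} =>
        Nat.card ↥((pq.1.1 : Subgroup G) ⊓ (pq.1.2 : Subgroup G) : Subgroup G))
    set R : Subgroup G := (P : Subgroup G) ⊓ (Q : Subgroup G) with hR
    have hR0 : R ≠ ⊥ := fun e => h₀ (Subgroup.card_eq_one.mp (by
      have h1 := hmax ⟨(P₀, Q₀), hne₀⟩
      simp only [← hR, e, Subgroup.card_bot] at h1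
      exact le_antisymm h1 Nat.card_pos))
    have hRP : R ≠ (P : Subgroup G) := fun e => hPQ (Sylow.ext (P.3 Q.2 (inf_eq_left.mp e)).symm)
    have hRQ : R ≠ (Q : Subgroup G) := fun e => hPQ (Sylow.ext (Q.3 P.2 (inf_eq_right.mp e)))
    have hNtop : Subgroup.normalizer (R : Set G) ≠ ⊤ := by
      rw [Ne, Subgroup.normalizer_eq_top_iff]
      intro hn
      rcases hn.eq_bot_or_eq_top with e | e
      · exact hR0 e
      · exact hRP (le_antisymm inf_le_left (e ▸ le_top))
    obtain ⟨S⟩ : Nonempty (Sylow p ↥(Subgroup.normalizer (R : Set G))) := Sylow.nonempty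
    have hSn := hsub _ hNtop S
    obtain ⟨S', hS'⟩ := (S.2.map (Subgroup.normalizer (R : Set G)).subtype).exists_le_sylow
    have side : ∀ X : Sylow p G, R ≤ X → R ≠ (X : Subgroup G) → X = S' := by
      intro X hRX hne
      obtain ⟨x, hxX, hxN, hxR⟩ := grow X R hRX hne
      set Y := (X : Subgroup G).subgroupOf (Subgroup.normalizer (R : Set G))
      obtain ⟨S₁, hS₁⟩ := (X.2.comap_subtype (K := Subgroup.normalizer (R : Set G))).exists_le_sylow
      haveI : (S : Subgroup ↥(Subgroup.normalizer (R : Set G))).Normal := hSn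
      have hYS : Y ≤ S := by
        rw [show S = S₁ from @Subsingleton.elim _ (@Unique.instSubsingleton _ (Sylow.unique_of_normal S hSn)) _ _]
        exact hS₁
      have hle : R ⊔ Subgroup.zpowers x ≤ (X : Subgroup G) ⊓ (S' : Subgroup G) :=
        le_trans (sup_le (le_inf hRX Subgroup.le_normalizer) (Subgroup.zpowers_le.mpr ⟨hxX, hxN⟩))
          (le_inf inf_le_left fun y hy => hS' ⟨⟨y, hy.2⟩, hYS hy.1, rfl⟩)
      by_contra hXS
      have h1 := hmax ⟨(X, S'), hXS⟩
      have h2 : R = (X : Subgroup G) ⊓ (S' : Subgroup G) :=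
        Subgroup.eq_of_le_of_card_ge (le_sup_left.trans hle) h1
      exact hxR (h2.symm ▸ hle (Subgroup.mem_sup_right (Subgroup.mem_zpowers x)))
    exact hPQ ((side P inf_le_left hRP).trans (side Q inf_le_right hRQ).symm)
  refine ⟨ti, fun P R hRP hR g hg => ?_⟩
  have hfix : g • P = P := by
    by_contra hne
    refine hR (le_bot_iff.mp ((le_inf (fun r hr => ?_) hRP).trans (ti _ _ hne).le))
    rw [Sylow.coe_subgroup_smul, Subgroup.mem_pointwise_smul_iff_inv_smul_mem]
    simpa [MulAut.smul_def] using hRP ((Subgroup.mem_normalizer_iff''.mp hg r).mp hr)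
  exact Sylow.smul_eq_iff_mem_normalizer.mp hfix

end Cfsg.Agent.S3870
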