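import Cfsg.Statements.S3872
import Cfsg.Agent.TwoGroups.ExpClosed
import Cfsg.Agent.FGS3.PolySeq
import Cfsg.Agent.FGS3.Regular
import Cfsg.Agent.OddLocal.UniqueSubgroup

set_option autoImplicit false
open Cfsg
open scoped commutatorElement

namespace Cfsg.Agent.S3872

open Subgroup Cfsg.Agent.TwoGroups
open scoped commutatorElement

theorem exists_coatom_of_mem {G : Type*} [Group G] [Finite G] {a : G} (h : zpowers a ≠ ⊤) :
    ∃ M : Subgroup G, IsCoatom M ∧ a ∈ M := by
  obtain ⟨M, hM, hle⟩ := (eq_top_or_exists_le_coatom (zpowers a)).resolve_left h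
  exact ⟨M, hM, hle (mem_zpowers a)⟩


/-- Say that a finite group is p-exponent closed when its elements of order dividing p form a subgroup. Let G be a finite p-group that is not p-exponent closed, but all of whose proper subgroups and proper quotients are. Then G is generated by two elements, has nilpotency class at least p, has exponent p², has cyclic center, and has order at least p^(p+1). -/
theorem result {G : Type*} [Group G] [Finite G] {p : ℕ} [Fact p.Prime] (hG : IsPGroup p G)
    (hnc : ¬ (∃ H : Subgroup G, (H : Set G) = {g : G | g ^ p = 1})) (hsub : ∀ K : Subgroup G, K ≠ ⊤ → (∃ H : Subgroup ↥K, (H : Set ↥K) = {g : ↥K | g ^ p = 1}))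
    (hquo : ∀ (N : Subgroup G) [N.Normal], N ≠ ⊥ → (∃ H : Subgroup (G ⧸ N), (H : Set (G ⧸ N)) = {g : (G ⧸ N) | g ^ p = 1})) :
    (∃ x y : G, Subgroup.closure ({x, y} : Set G) = ⊤) ∧ (⊤ : Subgroup G).lowerCentralSeries (p - 1) ≠ ⊥ ∧
      Monoid.exponent G = p ^ 2 ∧ IsCyclic ↥(Subgroup.center G) ∧ p ^ (p + 1) ≤ Nat.card G := by
  classical
  have hp := (Fact.out : p.Prime)
  haveI := hG.isNilpotent
  have hmul : ¬ ∀ a b : G, a ^ p = 1 → b ^ p = 1 → (a * b) ^ p = 1 := fun h => hnc (ExpClosed.of_mul h)
  push Not at hmul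
  obtain ⟨a, b, ha, hb, hab⟩ := hmul
  haveI : Nontrivial G := ⟨⟨_, _, hab ∘ fun e : (a * b) ^ p = 1 => e⟩⟩
  have hgen : closure ({a, b} : Set G) = ⊤ := by
    by_contra hne
    exact hab (exp_mul_of_proper hsub hne (subset_closure (by simp)) (subset_closure (by simp)) ha hb)
  -- `a` lies in a maximal, hence normal, subgroup
  have hza : zpowers a ≠ ⊤ := by
    intro e
    apply hab
    obtain ⟨i, hi⟩ := mem_zpowers_iff.1 (e ▸ mem_top (a * b) : a * b ∈ zpowers a)
    rw [← hi, ← zpow_natCast (a ^ i), ← zpow_mul, mul_comm i, zpow_mul, zpow_natCast, ha, one_zpow]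
  obtain ⟨M, hM, haM⟩ := exists_coatom_of_mem hza
  haveI hMn : M.Normal := Group.normalizerCondition_of_isNilpotent.normal_of_coatom _ hM
  have hcomm : ⁅a, b⁆ ^ p = 1 := by
    rw [commutatorElement_def, show a * b * a⁻¹ * b⁻¹ = a * (b * a⁻¹ * b⁻¹) by group]
    refine exp_mul_of_proper hsub hM.1 haM (hMn.conj_mem _ (M.inv_mem haM) b) ha ?_
    rw [conj_pow, inv_pow, ha, inv_one, mul_one, mul_inv_cancel]
  have hGne : commutator G ≠ ⊤ := fun e => by
    have := Group.IsSolvable.commutator_lt_top_of_nontrivial (G := G)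
    exact this.ne e
  have hGexp : ∀ x ∈ commutator G, x ^ p = 1 := by
    obtain ⟨H, hH⟩ := hsub (commutator G) hGne
    let H' := H.map (commutator G).subtype
    have hHchar : ∀ x, x ∈ H' ↔ x ∈ commutator G ∧ x ^ p = 1 := fun x => by
      constructor
      · rintro ⟨y, hy, rfl⟩
        have hy' : y ^ p = 1 := by
          have : y ∈ (H : Set ↥(commutator G)) := hy
          rwa [hH] at this
        exact ⟨y.2, by simpa using congrArg Subtype.val hy'⟩
      · rintro ⟨hx, hx'⟩
        refine ⟨⟨x, hx⟩, ?_, rfl⟩
        show (⟨x, hx⟩ : ↥(commutator G)) ∈ (H : Set ↥(commutator G))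
        rw [hH]; exact Subtype.ext hx'
    haveI : H'.Normal := ⟨fun x hx g => by
      rw [hHchar] at hx ⊢
      exact ⟨(inferInstance : (commutator G).Normal).conj_mem x hx.1 g,
        by rw [conj_pow, hx.2, mul_one, mul_inv_cancel]⟩⟩
    intro x hx
    have : x ∈ H' := by
      refine (Cfsg.Agent.FGS3.Regular.commutator_le_normalClosure hgen).trans
        (normalClosure_le_normal ?_) hx
      rw [Set.singleton_subset_iff, SetLike.mem_coe, hHchar]
      exact ⟨commutator_mem_commutator (mem_top a) (mem_top b), hcomm⟩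
    exact ((hHchar x).1 this).2
  have hclass : (⊤ : Subgroup G).lowerCentralSeries (p - 1) ≠ ⊥ := by
    intro hcl
    have h := Cfsg.Agent.FGS3.PolySeq.mul_pow_prime_mem hp hcl (L := ⊥)
      (fun x hx => by rw [mem_bot]; exact hGexp x hx) a b
    rw [ha, hb, mem_bot, inv_one, one_mul, one_mul] at h
    exact hab h
  have hinf := inf_ne_bot_of_normal hnc hsub hquo
  refine ⟨⟨a, b, hgen⟩, hclass, ?_, ?_, ?_⟩
  · -- exponent
    obtain ⟨Z, hZ, hZc⟩ : ∃ Z : Subgroup G, Z ≤ center G ∧ Nat.card Z = p := by
      haveI := hG.center_nontrivial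
      obtain ⟨z, hz⟩ := exists_prime_orderOf_dvd_card' (G := center G) p (by
        obtain ⟨k, hk⟩ := IsPGroup.iff_card.1 (hG.to_subgroup (center G))
        rw [hk]
        refine dvd_pow_self p ?_
        rintro rfl
        exact Finite.one_lt_card.ne' (by rw [hk, pow_zero]))
      exact ⟨zpowers (z : G), zpowers_le.2 z.2, by rw [Nat.card_zpowers, orderOf_coe, hz]⟩
    haveI : Z.Normal := ⟨fun x hx g => by
      rw [(mem_center_iff.1 (hZ hx) g), mul_inv_cancel_right]; exact hx⟩
    have hdvd : Monoid.exponent G ∣ p ^ 2 := Monoid.exponent_dvd_of_forall_pow_eq_one fun g => by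
      have h1 : g ^ p ∈ Z := pow_mem_normal hnc hsub hquo Z
        (fun e => hp.ne_one (by rw [← hZc, e, card_bot])) g
      have h2 := pow_card_eq_one' (x := (⟨g ^ p, h1⟩ : Z))
      rw [hZc] at h2
      have h3 : (g ^ p) ^ p = 1 := congrArg Subtype.val h2
      rw [pow_two, pow_mul]; exact h3
    obtain ⟨i, hi, he⟩ := (Nat.dvd_prime_pow hp).1 hdvd
    rcases (show i = 2 ∨ i ≤ 1 by omega) with rfl | h1
    · exact he
    · exfalso
      exact hab (Monoid.exponent_dvd_iff_forall_pow_eq_one.1
        (he ▸ (pow_dvd_pow p h1).trans (pow_one p).dvd) _)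
  · -- cyclic centre
    have hu : Cfsg.Agent.OddLocal.UniqueOrderP p (center G) := by
      refine Cfsg.Agent.OddLocal.UniqueOrderP.of_card fun H K hH hK => ?_
      have key : ∀ H : Subgroup (center G), (H.map (center G).subtype).Normal := fun H => ⟨fun x hx g => by
        rw [(mem_center_iff.1 ((map_subtype_le H) hx) g), mul_inv_cancel_right]; exact hx⟩
      haveI := key H
      haveI := key K
      have hne : H ⊓ K ≠ ⊥ := fun e => hinf (H.map (center G).subtype) (K.map (center G).subtype)
        (fun e => hp.ne_one (by rw [← hH, ← card_map_of_injective (center G).subtype_injective, e, card_bot]))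
        (fun e => hp.ne_one (by rw [← hK, ← card_map_of_injective (center G).subtype_injective, e, card_bot]))
        (by rw [← map_inf _ _ _ (center G).subtype_injective, e, Subgroup.map_bot])
      have hd : Nat.card (H ⊓ K : Subgroup (center G)) = p := ((Nat.dvd_prime hp).1
        (hH ▸ card_dvd_of_le inf_le_left)).resolve_left fun e => hne (eq_bot_of_card_eq _ e)
      exact (eq_of_le_of_card_ge inf_le_left (by rw [hd, hH])).symm.trans
        (eq_of_le_of_card_ge inf_le_right (by rw [hd, hK]))
    exact Cfsg.Agent.OddLocal.isCyclic_of_uniqueOrderP _ (hG.to_subgroup _) hu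
      (Or.inr fun x y => mul_comm' x y) le_rfl
  · -- order
    set L := fun i => (⊤ : Subgroup G).lowerCentralSeries i with hL
    have hne : ∀ i ≤ p - 1, L i ≠ ⊥ := fun i hi e => hclass (le_bot_iff.1
      ((Subgroup.lowerCentralSeries_antitone _ hi).trans e.le))
    have hstrict : ∀ i, L i ≠ ⊥ → L (i + 1) ≠ L i := fun i hi e => hi (by
      obtain ⟨n, hn⟩ := Subgroup.nilpotent_iff_lowerCentralSeries.1 (inferInstance : Group.IsNilpotent G)
      have hconst : ∀ j, L (i + j) = L i := fun j => by
        induction j with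
        | zero => rfl
        | succ j ih =>
          show ⁅L (i + j), ⊤⁆ = L i
          rw [ih]; exact e
      rw [← hconst n]
      exact le_bot_iff.1 ((Subgroup.lowerCentralSeries_antitone _ (Nat.le_add_left n i)).trans hn.le))
    have hstep : ∀ i, L i ≠ ⊥ → p * Nat.card (L (i + 1)) ≤ Nat.card (L i) := by
      intro i hi
      have hle : L (i + 1) ≤ L i := Subgroup.lowerCentralSeries_antitone _ (Nat.le_succ i)
      obtain ⟨s, hs⟩ := IsPGroup.iff_card.1 (hG.to_subgroup (L i))
      obtain ⟨t, ht⟩ := IsPGroup.iff_card.1 (hG.to_subgroup (L (i + 1)))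
      have hts : t < s := by
        by_contra hge
        push Not at hge
        exact hstrict i hi (eq_of_le_of_card_ge hle (by rw [hs, ht]; exact Nat.pow_le_pow_right hp.pos hge))
      rw [hs, ht, ← pow_succ']
      exact Nat.pow_le_pow_right hp.pos hts
    have hdown : ∀ j ≤ p - 2, p ^ (j + 1) ≤ Nat.card (L (p - 1 - j)) := by
      intro j
      induction j with
      | zero =>
        intro _
        obtain ⟨s, hs⟩ := IsPGroup.iff_card.1 (hG.to_subgroup (L (p - 1)))
        rw [Nat.sub_zero, hs]
        refine Nat.pow_le_pow_right hp.pos (Nat.one_le_iff_ne_zero.2 ?_)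
        rintro rfl
        exact hne _ le_rfl (eq_bot_of_card_eq _ (by rw [hs, pow_zero]))
      | succ j ih =>
        intro hj
        refine le_trans ?_ (hstep (p - 1 - (j + 1)) (hne _ (Nat.sub_le _ _)))
        rw [show p - 1 - (j + 1) + 1 = p - 1 - j by omega, pow_succ']
        exact Nat.mul_le_mul_left p (ih (by omega))
    have h1 := hdown (p - 2) le_rfl
    have hp2 := hp.two_le
    rw [show p - 2 + 1 = p - 1 by omega, show p - 1 - (p - 2) = 1 by omega] at h1
    have hL1 : L 1 = commutator G := top_lowerCentralSeries_one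
    rw [hL1] at h1
    -- `G/G'` is not cyclic
    have hidx : p ^ 2 ≤ (commutator G).index := by
      obtain ⟨s, hs⟩ := IsPGroup.iff_card.1 (hG.to_quotient (commutator G))
      have hi : (commutator G).index = p ^ s := hs
      rw [hi]
      refine Nat.pow_le_pow_right hp.pos ?_
      by_contra hlt
      push Not at hlt
      have hcyc : IsCyclic (G ⧸ commutator G) := by
        rcases (show s = 0 ∨ s = 1 by omega) with rfl | rfl
        · exact absurd (index_eq_one.1 (by simpa using hi)) hGne
        · exact isCyclic_of_prime_card (p := p) (by simpa using hs)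
      obtain ⟨g, hg⟩ := hcyc.exists_generator
      obtain ⟨g, rfl⟩ := QuotientGroup.mk'_surjective _ g
      apply hstrict 1 (hne 1 (by omega))
      refine le_antisymm (Subgroup.lowerCentralSeries_antitone _ (Nat.le_succ 1)) ?_
      rw [hL1, _root_.commutator_def, Subgroup.commutator_le]
      intro x _ y _
      set C := L (1 + 1) with hC
      haveI : C.Normal := by rw [hC]; infer_instance
      let π := QuotientGroup.mk' C
      have hcent : ∀ u ∈ commutator G, ∀ v : G, Commute (π u) (π v) := by
        intro u hu v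
        rw [← commutatorElement_eq_one_iff_commute, ← map_commutatorElement]
        refine (QuotientGroup.eq_one_iff _).2 ?_
        exact commutator_mem_commutator (show u ∈ L 1 from hL1.ge hu) (mem_top v)
      have hdec : ∀ x : G, ∃ (i : ℤ) (u : G), u ∈ commutator G ∧ x = g ^ i * u := fun x => by
        obtain ⟨i, hi⟩ := mem_zpowers_iff.1 (hg (QuotientGroup.mk' _ x))
        refine ⟨i, (g ^ i)⁻¹ * x, (QuotientGroup.eq_one_iff _).1 ?_, (mul_inv_cancel_left _ _).symm⟩
        change QuotientGroup.mk' (commutator G) ((g ^ i)⁻¹ * x) = 1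
        rw [map_mul, map_inv, map_zpow, hi, inv_mul_cancel]
      obtain ⟨i, u, hu, rfl⟩ := hdec x
      obtain ⟨j, v, hv, rfl⟩ := hdec y
      refine (QuotientGroup.eq_one_iff _).1 ?_
      change π _ = 1
      rw [map_commutatorElement, commutatorElement_eq_one_iff_commute, map_mul, map_mul, map_zpow, map_zpow]
      exact ((Commute.zpow_zpow_self (π g) i j).mul_right ((hcent v hv g).symm.zpow_left i)).mul_left
        (((hcent u hu g).zpow_right j).mul_right (hcent u hu v))
    calc p ^ (p + 1) = p ^ 2 * p ^ (p - 1) := by rw [← pow_add]; congr 1; omega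
      _ ≤ (commutator G).index * Nat.card (commutator G) := Nat.mul_le_mul hidx h1
      _ = Nat.card G := index_mul_card _

end Cfsg.Agent.S3872
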