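import Cfsg.Statements.S3873
import Cfsg.Agent.TwoGroups.ExpClosed
import Cfsg.Agent.TwoGroups.IrredCyclic
import Cfsg.Agent.Core.CoprimeAction

set_option autoImplicit false
open Cfsg

namespace Cfsg.Agent.S3873

open Subgroup Cfsg.Agent.TwoGroups
open scoped Pointwise


/-- Say that a finite group is p-exponent closed when its elements of order dividing p form a subgroup. Let G be a finite group that is not p-exponent closed, but all of whose proper subgroups and proper quotients are, and suppose G is neither simple nor a p-group. Then there is a prime q ≠ p such that G has order p · q^e, where e is the multiplicative order of q modulo p, and G has a normal elementary abelian subgroup of order q^e that is a minimal normal subgroup of G. -/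
theorem result {G : Type*} [Group G] [Finite G] {p : ℕ} [Fact p.Prime]
    (hnc : ¬ (∃ H : Subgroup G, (H : Set G) = {g : G | g ^ p = 1})) (hsub : ∀ K : Subgroup G, K ≠ ⊤ → (∃ H : Subgroup ↥K, (H : Set ↥K) = {g : ↥K | g ^ p = 1}))
    (hquo : ∀ (N : Subgroup G) [N.Normal], N ≠ ⊥ → (∃ H : Subgroup (G ⧸ N), (H : Set (G ⧸ N)) = {g : (G ⧸ N) | g ^ p = 1}))
    (hns : ¬ IsSimpleGroup G) (hnp : ¬ IsPGroup p G) :
    ∃ q : ℕ, q.Prime ∧ q ≠ p ∧ Nat.card G = p * q ^ orderOf (q : ZMod p) ∧
      ∃ A : Subgroup G, A.Normal ∧ Nat.card ↥A = q ^ orderOf (q : ZMod p) ∧ Cfsg.IsElementaryAbelian q A ∧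
        ∀ B : Subgroup G, B.Normal → B ≤ A → B = ⊥ ∨ B = A := by
  classical
  have hp := (Fact.out : p.Prime)
  have hmul : ¬ ∀ a b : G, a ^ p = 1 → b ^ p = 1 → (a * b) ^ p = 1 := fun h => hnc (ExpClosed.of_mul h)
  push Not at hmul
  obtain ⟨a, b, ha, hb, hab⟩ := hmul
  haveI : Nontrivial G := ⟨⟨_, _, hab ∘ fun e : (a * b) ^ p = 1 => e⟩⟩
  obtain ⟨N, hN⟩ := Cfsg.Agent.Core.exists_isMinNormal (G := G)
  haveI := hN.1
  have hNtop : N ≠ ⊤ := fun e => hns ⟨fun H hH =>
    (hN.2.2 H hH (e ▸ le_top)).imp_right fun h => h.trans e⟩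
  have hquot := pow_mem_normal hnc hsub hquo N hN.2.1
  have hpq : IsPGroup p (G ⧸ N) := fun g => ⟨1, by
    obtain ⟨g, rfl⟩ := QuotientGroup.mk'_surjective N g
    rw [pow_one, ← map_pow]
    exact (QuotientGroup.eq_one_iff _).2 (hquot g)⟩
  have hpN : ¬ p ∣ Nat.card N := by
    intro hd
    obtain ⟨H, hH⟩ := hsub N hNtop
    let H' := H.map N.subtype
    have hHiff : ∀ x, x ∈ H' ↔ x ∈ N ∧ x ^ p = 1 := fun x => by
      constructor
      · rintro ⟨y, hy, rfl⟩
        have hy' : y ^ p = 1 := by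
          have : y ∈ (H : Set ↥N) := hy
          rwa [hH] at this
        exact ⟨y.2, by simpa using congrArg Subtype.val hy'⟩
      · rintro ⟨hx, hx'⟩
        refine ⟨⟨x, hx⟩, ?_, rfl⟩
        show (⟨x, hx⟩ : ↥N) ∈ (H : Set ↥N)
        rw [hH]; exact Subtype.ext hx'
    have hH'n : H'.Normal := ⟨fun x hx g => by
      rw [hHiff] at hx ⊢
      exact ⟨hN.1.conj_mem x hx.1 g, by rw [conj_pow, hx.2, mul_one, mul_inv_cancel]⟩⟩
    obtain ⟨x, hx⟩ := exists_prime_orderOf_dvd_card' (G := N) p hd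
    rcases hN.2.2 H' hH'n (map_subtype_le _) with e | e
    · have h1 : (x : G) ∈ H' := (hHiff _).2 ⟨x.2, by rw [← hx, ← orderOf_coe]; exact pow_orderOf_eq_one _⟩
      rw [e, mem_bot] at h1
      rw [show x = 1 from Subtype.ext h1, orderOf_one] at hx
      exact hp.ne_one hx.symm
    · have hNp : IsPGroup p N := fun y => ⟨1, Subtype.ext (by
        simpa using ((hHiff _).1 (e.ge y.2)).2)⟩
      refine hnp fun g => ?_
      obtain ⟨i, hi⟩ := hNp ⟨g ^ p, hquot g⟩
      exact ⟨i + 1, by rw [pow_succ', pow_mul]; exact congrArg Subtype.val hi⟩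
  let P : Sylow p G := default
  have hdisj : Disjoint N (P : Subgroup G) := by
    refine disjoint_of_coprime_natCard ?_
    obtain ⟨i, hi⟩ := IsPGroup.iff_card.1 P.isPGroup'
    rw [hi]
    exact (hp.coprime_iff_not_dvd.2 hpN).symm.pow_right _
  have hPexp : ∀ x ∈ (P : Subgroup G), x ^ p = 1 := fun x hx =>
    Subgroup.disjoint_def.1 hdisj (hquot x) (pow_mem hx p)
  have hcompl : IsComplement' N (P : Subgroup G) := by
    refine isComplement'_of_card_mul_and_disjoint ?_ hdisj
    obtain ⟨i, hi⟩ := IsPGroup.iff_card.1 hpq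
    rw [P.card_eq_multiplicity, ← N.card_mul_index, show N.index = p ^ i from hi,
      Nat.factorization_mul Nat.card_pos.ne' (pow_pos hp.pos i).ne', Finsupp.add_apply,
      Nat.factorization_eq_zero_of_not_dvd hpN, zero_add, hp.factorization_pow, Finsupp.single_eq_same]
  have hone : ∀ n ∈ N, n ^ p = 1 → n = 1 := by
    intro n hn hnp
    refine orderOf_eq_one_iff.1 (Nat.eq_one_of_dvd_coprimes (hp.coprime_iff_not_dvd.2 hpN)
      (orderOf_dvd_of_pow_eq_one hnp) ?_)
    rw [← Subgroup.orderOf_mk n hn]; exact _root_.orderOf_dvd_natCard _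
  have hcent : ∀ M : Subgroup G, M ≤ N → ∀ x : G, x ^ p = 1 → M ⊔ zpowers x ≠ ⊤ → ∀ n ∈ M, Commute x n := by
    intro M hMN x hx hK n hn
    have h1 : (n * x⁻¹ * n⁻¹) ^ p = 1 := by rw [conj_pow, inv_pow, hx, inv_one, mul_one, mul_inv_cancel]
    have h2 : n * x⁻¹ * n⁻¹ ∈ M ⊔ zpowers x := mul_mem (mul_mem (mem_sup_left hn)
      (mem_sup_right (inv_mem (mem_zpowers x)))) (inv_mem (mem_sup_left hn))
    have h3 := exp_mul_of_proper hsub hK (mem_sup_right (mem_zpowers x)) h2 hx h1
    have h4 : x * (n * x⁻¹ * n⁻¹) ∈ N := by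
      rw [show x * (n * x⁻¹ * n⁻¹) = (x * n * x⁻¹) * n⁻¹ by group]
      exact N.mul_mem (hN.1.conj_mem n (hMN hn) x) (N.inv_mem (hMN hn))
    have h5 := hone _ h4 h3
    show x * n = n * x
    calc x * n = x * (n * x⁻¹ * n⁻¹) * (n * x) := by group
      _ = n * x := by rw [h5, one_mul]
  have hnotall : ¬ ∀ x ∈ (P : Subgroup G), ∀ n ∈ N, Commute x n := by
    intro hall
    have hPn : (P : Subgroup G).Normal := by
      refine normalizer_eq_top_iff.1 (eq_top_iff.2 ?_)
      rw [← hcompl.sup_eq_top, sup_le_iff]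
      refine ⟨fun n hn => mem_normalizer_iff.2 fun y => ?_, le_normalizer⟩
      constructor
      · intro hy
        rw [← (hall y hy n hn).eq, mul_inv_cancel_right]; exact hy
      · intro hy
        have := (hall _ hy n hn).eq
        rw [inv_mul_cancel_right] at this
        have hy' : y = n * y * n⁻¹ := mul_left_cancel this
        rw [hy']; exact hy
    haveI : Subsingleton (Sylow p G) := (Sylow.unique_of_normal P hPn).instSubsingleton
    refine hnc ⟨(P : Subgroup G), Set.ext fun g => ⟨fun hg => hPexp g hg, fun hg => ?_⟩⟩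
    obtain ⟨Q, hQ⟩ := (IsPGroup.of_card (p := p) (n := (orderOf g).factorization p) (G := zpowers g) (by
      rw [Nat.card_zpowers]
      rcases (Nat.dvd_prime hp).1 (orderOf_dvd_of_pow_eq_one (show g ^ p = 1 from hg)) with e | e <;>
        simp [e, hp.factorization_self])).exists_le_sylow
    rw [Subsingleton.elim Q P] at hQ
    exact hQ (mem_zpowers g)
  obtain ⟨x, hxP, hxtop⟩ : ∃ x ∈ (P : Subgroup G), N ⊔ zpowers x = ⊤ := by
    by_contra hcon
    push Not at hcon
    exact hnotall fun x hx => hcent N le_rfl x (hPexp x hx) (hcon x hx)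
  have hx : x ^ p = 1 := hPexp x hxP
  have hPeq : (P : Subgroup G) = zpowers x := by
    refine le_antisymm (fun y hy => ?_) (zpowers_le.2 hxP)
    obtain ⟨n, hn, u, hu, rfl⟩ : y ∈ (N : Set G) * (zpowers x : Set G) := by
      rw [← normal_mul, hxtop]; trivial
    have : n ∈ N ⊓ (P : Subgroup G) := ⟨hn, by
      have := (P : Subgroup G).mul_mem hy ((P : Subgroup G).inv_mem (zpowers_le.2 hxP hu))
      rwa [mul_inv_cancel_right] at this⟩
    rw [hdisj.eq_bot, mem_bot] at this
    simpa [this] using hu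
  have hxne : x ≠ 1 := by
    rintro rfl
    rw [zpowers_one_eq_bot, sup_bot_eq] at hxtop
    exact hNtop hxtop
  have hxord : orderOf x = p := orderOf_eq_prime hx hxne
  have hnorm : zpowers x ≤ normalizer (N : Set G) := by rw [normalizer_eq_top N]; exact le_top
  have hcop : (Nat.card (zpowers x)).Coprime (Nat.card N) := by
    rw [Nat.card_zpowers, hxord]; exact hp.coprime_iff_not_dvd.2 hpN
  obtain ⟨q, hq, Q, hQN, hQp, hQx, hQtop⟩ : ∃ q, q.Prime ∧ ∃ Q : Subgroup G, Q ≤ N ∧ IsPGroup q Q ∧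
      zpowers x ≤ normalizer (Q : Set G) ∧ Q ⊔ zpowers x = ⊤ := by
    by_contra hcon
    push Not at hcon
    apply hnotall
    have hidx : ((centralizer ({x} : Set G)) ⊓ N).relIndex N = 1 := by
      by_contra hne
      obtain ⟨q, hq, hqd⟩ := Nat.exists_prime_and_dvd hne
      haveI := Fact.mk hq
      obtain ⟨Q, hQN, hQp, hQi, hQx⟩ := Cfsg.Agent.Core.exists_invariant_sylow hnorm
        (Or.inl inferInstance) hcop q
      refine hQi (hqd.trans (relIndex_dvd_of_le_left _ fun n hn => ⟨?_, hQN hn⟩))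
      change n ∈ centralizer ({x} : Set G)
      rw [mem_centralizer_singleton_iff]
      exact (hcent Q hQN x hx (hcon q hq Q hQN hQp hQx) n hn).symm.eq
    have hN' : N ≤ centralizer ({x} : Set G) := (relIndex_eq_one.1 hidx).trans inf_le_left
    intro y hy n hn
    rw [hPeq] at hy
    obtain ⟨i, rfl⟩ := mem_zpowers_iff.1 hy
    exact Commute.zpow_left (mem_centralizer_singleton_iff.1 (hN' hn) : Commute n x).symm i
  have hQeq : Q = N := by
    refine le_antisymm hQN fun n hn => ?_
    obtain ⟨u, hu, w, hw, rfl⟩ : n ∈ (Q : Set G) * (zpowers x : Set G) := by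
      rw [← coe_mul_of_right_le_normalizer_left _ _ hQx, hQtop]; trivial
    have : w ∈ N ⊓ (P : Subgroup G) := ⟨by
      have := N.mul_mem (N.inv_mem (hQN hu)) hn
      simpa using this, zpowers_le.2 hxP hw⟩
    rw [hdisj.eq_bot, mem_bot] at this
    simpa [this] using hu
  subst hQeq
  haveI := Fact.mk hq
  haveI := hQp.isNilpotent
  obtain ⟨hab', r, hr, hr', hrp⟩ := hN.elementaryAbelian inferInstance
  haveI := Fact.mk hr
  haveI := hab'
  have hrne : r ≠ p := by
    rintro rfl
    obtain ⟨i, hi⟩ := IsPGroup.iff_card.1 hrp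
    rcases i with _ | i
    · exact hN.2.1 (eq_bot_of_card_eq _ (by rw [hi, pow_zero]))
    · exact hpN (hi ▸ dvd_pow_self r (Nat.succ_ne_zero i))
  have hirr : ∀ B ≤ Q, (∀ y ∈ B, x * y * x⁻¹ ∈ B) → B = ⊥ ∨ B = Q := by
    intro B hB hBx
    refine hN.2.2 B (normalizer_eq_top_iff.1 (eq_top_iff.2 ?_)) hB
    rw [← hxtop, sup_le_iff, zpowers_le]
    refine ⟨fun n hn => mem_normalizer_iff.2 fun y => ?_, ?_⟩
    · constructor
      · intro hy
        rw [show n * y = y * n from congrArg Subtype.val (mul_comm' (⟨n, hn⟩ : Q) ⟨y, hB hy⟩),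
          mul_inv_cancel_right]
        exact hy
      · intro hy
        have hyQ : y ∈ Q := by
          have := hN.1.conj_mem _ (hB hy) n⁻¹
          rwa [show n⁻¹ * (n * y * n⁻¹) * n⁻¹⁻¹ = y by group] at this
        rwa [show n * y = y * n from congrArg Subtype.val (mul_comm' (⟨n, hn⟩ : Q) ⟨y, hyQ⟩),
          mul_inv_cancel_right] at hy
    · have hpow : ∀ i : ℕ, ∀ y ∈ B, x ^ i * y * (x ^ i)⁻¹ ∈ B := fun i => by
        induction i with
        | zero => intro y hy; simpa using hy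
        | succ i ih =>
          intro y hy
          rw [show x ^ (i + 1) * y * (x ^ (i + 1))⁻¹ = x * (x ^ i * y * (x ^ i)⁻¹) * x⁻¹ by
            rw [pow_succ']; group]
          exact hBx _ (ih y hy)
      refine mem_normalizer_iff.2 fun y => ⟨hBx y, fun hy => ?_⟩
      have h1 := hpow (p - 1) _ hy
      rwa [show x ^ (p - 1) = x⁻¹ from eq_inv_of_mul_eq_one_left (by
        rw [← pow_succ, Nat.sub_add_cancel hp.one_le, hx]),
        show x⁻¹ * (x * y * x⁻¹) * x⁻¹⁻¹ = y by group] at h1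
  have hnt : ∃ n ∈ Q, x * n * x⁻¹ ≠ n := by
    by_contra hcon
    push Not at hcon
    apply hnotall
    intro y hy n hn
    rw [hPeq] at hy
    obtain ⟨i, rfl⟩ := mem_zpowers_iff.1 hy
    exact Commute.zpow_left (mul_inv_eq_iff_eq_mul.1 (hcon n hn) : Commute x n) i
  have hcard := Cfsg.Agent.TwoGroups.card_eq_pow_orderOf hrne (A := Q) ⟨hab', hr'⟩
    (by rw [normalizer_eq_top Q]; trivial) hx hnt hirr
  refine ⟨r, hr, hrne, ?_, Q, hN.1, hcard, ⟨hab', hr'⟩, hN.2.2⟩
  rw [← hcompl.card_mul, hPeq, Nat.card_zpowers, hxord, hcard, mul_comm]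

end Cfsg.Agent.S3873
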