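import Cfsg.Statements.S3888
import Cfsg.Agent.TwoGroups.RankTwoClassify

set_option autoImplicit false
open Cfsg

namespace Cfsg.Agent.S3888

open Cfsg.Agent.TwoGroups


/-- The classification of the p-groups of rank at most two for odd p. Let p be an odd prime and G a group of order p^n with no elementary abelian subgroup of order p³. Then one of the following holds: G is metacyclic; n ≥ 3 and G is generated by elements x, y, z with x^p = y^p = z^(p^(n−2)) = 1, z commuting with x and y, and x⁻¹yx = y z^(p^(n−3)); n ≥ 4 and G is generated by elements x, y, z with x^p = y^p = z^(p^(n−2)) = 1, yz = zy, x⁻¹yx = y z^(s p^(n−3)) and x⁻¹zx = yz, where s = 1 or s is a quadratic non-residue modulo p; or p = 3 and G has maximal class (nilpotency class n − 1). -/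
theorem result {G : Type*} [Group G] [Finite G] {p : ℕ} [Fact p.Prime] (hp : p ≠ 2) (n : ℕ) (hG : Nat.card G = p ^ n)
    (hrk : Cfsg.PRankLE p 2 G) :
    Cfsg.IsMetacyclic G ∨
    (3 ≤ n ∧ ∃ x y z : G, Subgroup.closure ({x, y, z} : Set G) = ⊤ ∧ x ^ p = 1 ∧ y ^ p = 1 ∧ z ^ p ^ (n - 2) = 1 ∧
        x * z = z * x ∧ y * z = z * y ∧ x⁻¹ * y * x = y * z ^ p ^ (n - 3)) ∨
    (4 ≤ n ∧ ∃ (s : ℕ) (x y z : G), (s = 1 ∨ ¬ IsSquare (s : ZMod p)) ∧ Subgroup.closure ({x, y, z} : Set G) = ⊤ ∧
        x ^ p = 1 ∧ y ^ p = 1 ∧ z ^ p ^ (n - 2) = 1 ∧ y * z = z * y ∧ x⁻¹ * y * x = y * z ^ (s * p ^ (n - 3)) ∧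
        x⁻¹ * z * x = y * z) ∨
    (p = 3 ∧ 2 ≤ n ∧ (⊤ : Subgroup G).lowerCentralSeries (n - 2) ≠ ⊥) := by
  classical
  have hP : IsPGroup p G := IsPGroup.of_card hG
  haveI := hP.isNilpotent
  by_cases hcyc : IsCyclic G
  · exact Or.inl (OddLocal.RankTwo.isMetacyclic_of_isCyclic hcyc)
  obtain ⟨E, hEn, hE, hEc⟩ := Transfer.PNormal.exists_normal_ea_sq hp hP hcyc
  haveI := hEn
  set C := Subgroup.centralizer (E : Set G) with hC
  have hEp : ∀ e ∈ E, e ^ p = 1 := hE.2
  have hEC : E ≤ C := fun e he => Subgroup.mem_centralizer_iff.2 fun w hw =>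
    congrArg Subtype.val (hE.1.is_comm.comm ⟨w, hw⟩ ⟨e, he⟩)
  have hcen : ∀ e ∈ E, ∀ c ∈ C, Commute e c := fun e he c hc => Subgroup.mem_centralizer_iff.1 hc e he
  have hom : ∀ c ∈ C, c ^ p = 1 → c ∈ E := by
    intro c hc hcp
    by_contra hne
    set A := Subgroup.closure (insert c (E : Set G)) with hA
    have hgen : ∀ a ∈ insert c (E : Set G), ∀ b ∈ insert c (E : Set G), a * b = b * a := by
      rintro a (rfl | ha) b (rfl | hb)
      · rfl
      · exact (hcen b hb _ hc).symm
      · exact hcen a ha _ hc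
      · exact congrArg Subtype.val (hE.1.is_comm.comm ⟨a, ha⟩ ⟨b, hb⟩)
    have hAc : IsMulCommutative A := Subgroup.isMulCommutative_closure hgen
    have hAp : ∀ a ∈ A, a ^ p = 1 := by
      intro a ha
      induction ha using Subgroup.closure_induction with
      | mem a ha => rcases ha with rfl | ha; exacts [hcp, hEp a ha]
      | one => exact one_pow _
      | mul a b ha' hb' iha ihb =>
        have hab : Commute a b := congrArg Subtype.val (hAc.is_comm.comm ⟨a, ha'⟩ ⟨b, hb'⟩)
        rw [hab.mul_pow, iha, ihb, one_mul]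
      | inv a _ iha => rw [inv_pow, iha, inv_one]
    have hlt : E < A := lt_of_le_of_ne (fun e he => Subgroup.subset_closure (Set.mem_insert_of_mem _ he))
      fun h => hne (h.ge (Subgroup.subset_closure (Set.mem_insert _ _)))
    have h1 := FGS3.Regular.card_lt_card hlt
    have h2 := hrk A hAc hAp
    omega
  have hidx := Components.index_centralizer_normal_ea hP hEn hE hEc
  by_cases htop : C = ⊤
  · have hPC : OddRankTwo.OmegaCentral p G := fun x hx => Subgroup.mem_center_iff.2 fun y =>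
      (hcen x (hom x (htop ▸ Subgroup.mem_top x) hx) y (htop ▸ Subgroup.mem_top y)).symm
    have hle : Nat.card (OddRankTwo.omega hPC) ≤ p ^ 2 :=
      hEc ▸ Subgroup.card_le_of_le (fun x hx => hom x (htop ▸ Subgroup.mem_top x) hx)
    exact Or.inl (OddLocal.RankTwo.metacyclic_of_index_powers hp hP (OddRankTwo.powers_index hp hP hPC hle).2)
  have hCi : C.index = p := by
    refine ((Nat.dvd_prime (Fact.out : p.Prime)).1 ?_).resolve_left fun h => htop (Subgroup.index_eq_one.1 h)
    obtain ⟨i, hi⟩ := hP.index C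
    rw [hi] at hidx ⊢
    exact (pow_dvd_pow p ((Nat.pow_le_pow_iff_right (Fact.out : p.Prime).one_lt (m := 1)).1
      (hidx.trans_eq (pow_one p).symm))).trans (pow_one p).dvd
  let S : RankTwoClassify.Setup p G := ⟨E, C, hEn, inferInstance, hCi, hEC, hEc, hEp, hcen,
    fun g hg => Subgroup.mem_centralizer_iff.2 fun e he => hg e he, hom⟩
  by_cases hex : ∃ x, x ∉ C ∧ x ^ p = 1
  swap
  · push Not at hex
    by_cases hp3 : p = 3
    · rcases RankTwoClassify.three_case S hG hp3 hex with h | h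
      · exact Or.inl h
      · exact Or.inr (Or.inr (Or.inr ⟨hp3, h⟩))
    have h3 : 3 < p := by have := (Fact.out : p.Prime).two_le; omega
    have hcl : Subgroup.closure {x : G | x ^ p = 1} ≤ E := (Subgroup.closure_le _).2 fun x (hx : x ^ p = 1) =>
      hom x (by by_contra h; exact hex x h hx) hx
    exact Or.inl (OddLocal.RankTwo.metacyclic_of_index_powers hp hP
      (OddLocal.RankTwo.index_powers_le _ h3 hP (hEc ▸ Subgroup.card_le_of_le hcl) le_rfl))
  obtain ⟨x, hx, hxp⟩ := hex
  set hPC := RankTwoClassify.omegaCentral_C S with hPCdef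
  haveI := OddRankTwo.omega_normal hPC
  have hmem : ∀ c : S.C, c ∈ OddRankTwo.omega hPC ↔ (c : G) ∈ E := fun c => by
    rw [hPCdef, RankTwoClassify.omega_eq S, Subgroup.mem_subgroupOf]
  rcases OddRankTwo.cyclic_or_powers hp (hP.to_subgroup S.C) hPC (RankTwoClassify.card_omega S).le with hq | hall
  swap
  · refine Or.inr (Or.inr (Or.inr (RankTwoClassify.powers_case S hp hG hx hxp fun e he => ?_)))
    obtain ⟨u, hu⟩ := hall ⟨e, hEC he⟩ (Subtype.ext (by simpa using hEp e he))
    exact ⟨u, u.2, by simpa using congrArg Subtype.val hu⟩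
  obtain ⟨q, hqgen⟩ := hq.exists_generator
  obtain ⟨z, rfl⟩ := QuotientGroup.mk_surjective q
  obtain ⟨i, hi⟩ := IsPGroup.iff_card.1 ((hP.to_subgroup S.C).to_quotient (OddRankTwo.omega hPC))
  have hn : n = i + 3 := by
    have h1 := Subgroup.card_mul_index S.C
    rw [Subgroup.card_eq_card_quotient_mul_card_subgroup (OddRankTwo.omega hPC), RankTwoClassify.card_omega S, hi,
      S.index_C, ← pow_add, ← pow_succ, hG] at h1
    have := Nat.pow_right_injective (Fact.out : p.Prime).two_le h1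
    omega
  subst hn
  have hord : orderOf (z : S.C ⧸ OddRankTwo.omega hPC) = p ^ i := by
    rw [orderOf_eq_card_of_forall_mem_zpowers hqgen, hi]
  have hz1 : ((z : S.C) : G) ^ p ^ i ∈ E := by
    rw [← Subgroup.coe_pow, ← hmem, ← QuotientGroup.eq_one_iff, QuotientGroup.mk_pow, ← hord]
    exact pow_orderOf_eq_one _
  have hgen : ∀ c ∈ C, ∃ j : ℤ, ((z : G) ^ j)⁻¹ * c ∈ E := by
    intro c hc
    obtain ⟨j, hj⟩ := Subgroup.mem_zpowers_iff.1 (hqgen ((⟨c, hc⟩ : S.C) : S.C ⧸ OddRankTwo.omega hPC))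
    refine ⟨j, ?_⟩
    have : ((z ^ j)⁻¹ * (⟨c, hc⟩ : S.C)) ∈ OddRankTwo.omega hPC := by
      rw [← QuotientGroup.eq, QuotientGroup.mk_zpow]; exact hj
    simpa using (hmem _).1 this
  by_cases hi0 : i = 0
  · subst hi0
    have hz : (z : G) ∈ E := by simpa using hz1
    have := RankTwoClassify.cyclic_case S hp hG hx hxp (z₀ := 1) (one_mem _)
      (fun c hc => ⟨0, by
        obtain ⟨j, hj⟩ := hgen c hc
        simpa using (mul_mem (zpow_mem hz j) hj : (z : G) ^ j * (((z : G) ^ j)⁻¹ * c) ∈ E)⟩)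
      (by rw [one_pow]; exact one_mem _) (fun h => absurd h (by omega)) le_rfl (fun _ => rfl)
    exact Or.inr (this.imp id fun h => Or.inl h)
  have := RankTwoClassify.cyclic_case S hp hG hx hxp (z₀ := (z : G)) z.2 hgen
    (by simpa using hz1) (fun _ h => by
      have h' : z ^ p ^ (i + 3 - 4) ∈ OddRankTwo.omega hPC := (hmem _).2 (by simpa using h)
      rw [← QuotientGroup.eq_one_iff, QuotientGroup.mk_pow, ← orderOf_dvd_iff_pow_eq_one, hord,
        Nat.pow_dvd_pow_iff_le_right (Fact.out : p.Prime).one_lt] at h'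
      omega) (by omega) (fun h => absurd h (by omega))
  exact Or.inr (this.imp id fun h => Or.inl h)

end Cfsg.Agent.S3888
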