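import Cfsg.Statements.S3889
import Mathlib

set_option autoImplicit false
open Cfsg

namespace Cfsg.Agent.S3889

/-- A finite abelian group that is the union of a family of proper subgroups any two of which intersect trivially is elementary abelian: its exponent is a prime. -/
theorem result {G : Type*} [CommGroup G] [Finite G] (𝓑 : Set (Subgroup G)) (hprop : ∀ B ∈ 𝓑, B ≠ ⊤)
    (hcov : ∀ g : G, ∃ B ∈ 𝓑, g ∈ B) (hdisj : ∀ B ∈ 𝓑, ∀ C ∈ 𝓑, B ≠ C → B ⊓ C = ⊥) :
    (Monoid.exponent G).Prime := by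
  classical
  obtain ⟨B₁, hB₁, -⟩ := hcov 1
  have hG : Nontrivial G := by
    by_contra h
    rw [not_nontrivial_iff_subsingleton] at h
    exact hprop B₁ hB₁ (eq_top_iff.mpr fun g _ => by rw [Subsingleton.elim g 1]; exact one_mem _)
  obtain ⟨a, ha1⟩ := exists_ne (1 : G)
  obtain ⟨p, hp, hpa⟩ := Nat.exists_prime_and_dvd (fun h => ha1 (orderOf_eq_one_iff.mp h))
  haveI := Fact.mk hp
  -- elements in different members have the same order
  have key : ∀ u v : G, ∀ Bu ∈ 𝓑, ∀ Bv ∈ 𝓑, u ∈ Bu → v ∈ Bv → Bu ≠ Bv → u ≠ 1 →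
      orderOf u = p → v ≠ 1 → v ^ p = 1 := by
    intro u v Bu hBu Bv hBv hu hv hne hu1 huo hv1
    obtain ⟨Bw, hBw, hw⟩ := hcov (u * v)
    have hu' : u ∉ Bv := fun h => hu1 (by
      have : u ∈ Bu ⊓ Bv := ⟨hu, h⟩
      rwa [hdisj Bu hBu Bv hBv hne, Subgroup.mem_bot] at this)
    have hwne : Bw ≠ Bv := by
      rintro rfl
      exact hu' ((mul_mem_cancel_right hv).mp hw)
    have : v ^ p ∈ Bw ⊓ Bv := by
      refine ⟨?_, pow_mem hv p⟩
      have h2 := pow_mem hw p
      rwa [mul_pow, ← huo, pow_orderOf_eq_one, one_mul, huo] at h2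
    rwa [hdisj Bw hBw Bv hBv hwne, Subgroup.mem_bot] at this
  obtain ⟨u, huo⟩ := exists_prime_orderOf_dvd_card' p (hpa.trans (orderOf_dvd_natCard a))
  have hu1 : u ≠ 1 := by rintro rfl; rw [orderOf_one] at huo; exact hp.ne_one huo.symm
  obtain ⟨Bu, hBu, hu⟩ := hcov u
  have hall : ∀ g : G, g ^ p = 1 := by
    intro g
    rcases eq_or_ne g 1 with rfl | hg1
    · exact one_pow p
    obtain ⟨Bg, hBg, hg⟩ := hcov g
    rcases ne_or_eq Bu Bg with h | rfl
    · exact key u g Bu hBu Bg hBg hu hg h hu1 huo hg1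
    · obtain ⟨c, hc⟩ : ∃ c, c ∉ Bu := by
        by_contra h; push Not at h; exact hprop Bu hBu (eq_top_iff.mpr fun c _ => h c)
      obtain ⟨Bc, hBc, hcBc⟩ := hcov c
      have hne : Bu ≠ Bc := by rintro rfl; exact hc hcBc
      have hc1 : c ≠ 1 := fun e => hc (e ▸ one_mem _)
      have hcp := key u c Bu hBu Bc hBc hu hcBc hne hu1 huo hc1
      exact key c g Bc hBc Bu hBu hcBc hg hne.symm hc1 (orderOf_eq_prime hcp hc1) hg1
  have hexp : Monoid.exponent G = p := by
    rcases (Nat.dvd_prime hp).mp (Monoid.exponent_dvd_of_forall_pow_eq_one hall) with h | h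
    · have := Monoid.order_dvd_exponent u
      rw [huo, h] at this
      exact absurd (Nat.dvd_one.mp this) hp.ne_one
    · exact h
  rw [hexp]; exact hp

end Cfsg.Agent.S3889
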