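import Cfsg.Statements.S3892
import Cfsg.Agent.TwoGroups.CycleCover

set_option autoImplicit false
open Cfsg

namespace Cfsg.Agent.S3892

open Equiv in
theorem cycle_data {n L : ℕ} (hL : 2 ≤ L) (hn : L ≤ n) :
    ∃ σ : Perm (Fin n), σ.IsCycle ∧ σ.support.card = L ∧ Perm.sign σ = (-1) ^ (L - 1) := by
  haveI : NeZero n := ⟨by omega⟩
  have h0 : (⟨L - 1, by omega⟩ : Fin n) ≠ 0 := fun h => by
    have := congrArg Fin.val h
    simp at this
    omega
  refine ⟨Fin.cycleRange ⟨L - 1, by omega⟩, Fin.isCycle_cycleRange h0, ?_, Fin.sign_cycleRange _⟩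
  rw [← Equiv.Perm.sum_cycleType, Fin.cycleType_cycleRange h0, Multiset.sum_singleton]
  show L - 1 + 1 = L
  omega

open Equiv in
theorem three_mem_alternating {n : ℕ} {τ : Perm (Fin n)} (h : τ.IsThreeCycle) :
    τ ∈ (alternatingGroup (Fin n)).subtype.range :=
  ⟨⟨τ, h.mem_alternatingGroup⟩, rfl⟩


/-- A cover of a group is a finite set of proper subgroups whose union is the whole group; it is minimal when no cover has fewer members, and nilpotent when all its members are nilpotent. The alternating groups of degree at least 5 and the symmetric groups of degree at least 4 have no nilpotent minimal cover. -/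
theorem result (n : ℕ) :
    (5 ≤ n → ¬ ∃ 𝓐 : Finset (Subgroup ↥(alternatingGroup (Fin n))), ((∀ A ∈ 𝓐, A ≠ ⊤) ∧ (∀ g : ↥(alternatingGroup (Fin n)), ∃ A ∈ 𝓐, g ∈ A)) ∧ (∀ 𝓑 : Finset (Subgroup ↥(alternatingGroup (Fin n))), (∀ A ∈ 𝓑, A ≠ ⊤) ∧ (∀ g : ↥(alternatingGroup (Fin n)), ∃ A ∈ 𝓑, g ∈ A) → 𝓐.card ≤ 𝓑.card) ∧ (∀ A ∈ 𝓐, Group.IsNilpotent ↥A)) ∧
    (4 ≤ n → ¬ ∃ 𝓐 : Finset (Subgroup (Equiv.Perm (Fin n))), ((∀ A ∈ 𝓐, A ≠ ⊤) ∧ (∀ g : (Equiv.Perm (Fin n)), ∃ A ∈ 𝓐, g ∈ A)) ∧ (∀ 𝓑 : Finset (Subgroup (Equiv.Perm (Fin n))), (∀ A ∈ 𝓑, A ≠ ⊤) ∧ (∀ g : (Equiv.Perm (Fin n)), ∃ A ∈ 𝓑, g ∈ A) → 𝓐.card ≤ 𝓑.card) ∧ (∀ A ∈ 𝓐, Group.IsNilpotent ↥A)) := by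
  classical
  refine ⟨fun hn => ?_, fun hn => ?_⟩
  · have hev : ∀ g : alternatingGroup (Fin n), Equiv.Perm.sign ((alternatingGroup (Fin n)).subtype g) = 1 :=
      fun g => g.2
    by_cases h5 : n = 5
    · subst h5
      let x : alternatingGroup (Fin 5) := ⟨Equiv.swap 0 1 * Equiv.swap 0 2, by rw [Equiv.Perm.mem_alternatingGroup]; decide⟩
      let y : alternatingGroup (Fin 5) := ⟨Equiv.swap 0 1 * Equiv.swap 0 3, by rw [Equiv.Perm.mem_alternatingGroup]; decide⟩
      have hx : ((alternatingGroup (Fin 5)).subtype x).IsThreeCycle :=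
        Equiv.Perm.isThreeCycle_swap_mul_swap_same (by decide) (by decide) (by decide)
      have hy : ((alternatingGroup (Fin 5)).subtype y).IsThreeCycle :=
        Equiv.Perm.isThreeCycle_swap_mul_swap_same (by decide) (by decide) (by decide)
      refine TwoGroups.CycleCover.no_cover_three (alternatingGroup (Fin 5)).subtype Subtype.val_injective
        (MulAction.stabilizer (alternatingGroup (Fin 5)) (4 : Fin 5)) ?_ hx hy ?_ ?_ ?_ (Or.inr ⟨le_rfl, hev⟩)
      · intro htop
        let t : alternatingGroup (Fin 5) := ⟨Equiv.swap 4 1 * Equiv.swap 4 2, by rw [Equiv.Perm.mem_alternatingGroup]; decide⟩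
        have := MulAction.mem_stabilizer_iff.1 (htop.ge (Subgroup.mem_top t))
        exact absurd this (by decide)
      · exact MulAction.mem_stabilizer_iff.2 (by decide)
      · exact MulAction.mem_stabilizer_iff.2 (by decide)
      · rintro ⟨k, hk⟩
        have ho : orderOf x = 3 := by
          rw [← orderOf_injective (alternatingGroup (Fin 5)).subtype Subtype.val_injective, hx.orderOf]
        have hk' : x ^ (k % 3) = y := by
          have := (zpow_mod_orderOf x k).trans hk
          rwa [ho] at this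
        rcases (show k % 3 = 0 ∨ k % 3 = 1 ∨ k % 3 = 2 by omega) with h | h | h <;> rw [h] at hk' <;>
          exact absurd hk' (by decide)
    by_cases hpar : Even n
    · obtain ⟨σ, hσ, hc, hs⟩ := cycle_data (n := n) (L := n - 1) (by omega) (by omega)
      have hsA : σ ∈ alternatingGroup (Fin n) := by
        rw [Equiv.Perm.mem_alternatingGroup, hs]
        exact Even.neg_one_pow (by obtain ⟨m, rfl⟩ := hpar; exact ⟨m - 1, by omega⟩)
      exact TwoGroups.CycleCover.no_cover_long (alternatingGroup (Fin n)).subtype Subtype.val_injective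
        (fun τ h => three_mem_alternating h) (σ := ⟨σ, hsA⟩) hσ
        (by show 4 ≤ σ.support.card; omega) (by show σ.support.card < n; omega)
        (Or.inl (by show n ≤ σ.support.card + 1; omega))
    · obtain ⟨σ, hσ, hc, hs⟩ := cycle_data (n := n) (L := n - 2) (by omega) (by omega)
      obtain ⟨m, rfl⟩ := Nat.not_even_iff_odd.1 hpar
      have hsA : σ ∈ alternatingGroup (Fin (2 * m + 1)) := by
        rw [Equiv.Perm.mem_alternatingGroup, hs]
        exact Even.neg_one_pow ⟨m - 1, by omega⟩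
      exact TwoGroups.CycleCover.no_cover_long (alternatingGroup (Fin _)).subtype Subtype.val_injective
        (fun τ h => three_mem_alternating h) (σ := ⟨σ, hsA⟩) hσ
        (by show 4 ≤ σ.support.card; omega) (by show σ.support.card < 2 * m + 1; omega)
        (Or.inr ⟨by show 2 * m + 1 ≤ σ.support.card + 2; omega, hev⟩)
  · by_cases h4 : n = 4
    · subst h4
      let x : Equiv.Perm (Fin 4) := Equiv.swap 0 1 * Equiv.swap 0 2
      let y : Equiv.Perm (Fin 4) := Equiv.swap 0 1 * Equiv.swap 0 3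
      have hx : x.IsThreeCycle := Equiv.Perm.isThreeCycle_swap_mul_swap_same (by decide) (by decide) (by decide)
      have hy : y.IsThreeCycle := Equiv.Perm.isThreeCycle_swap_mul_swap_same (by decide) (by decide) (by decide)
      refine TwoGroups.CycleCover.no_cover_three (MonoidHom.id (Equiv.Perm (Fin 4))) Function.injective_id
        (alternatingGroup (Fin 4)) ?_ hx hy hx.mem_alternatingGroup hy.mem_alternatingGroup ?_ (Or.inl le_rfl)
      · intro htop
        have := Equiv.Perm.mem_alternatingGroup.1 (htop.ge (Subgroup.mem_top (Equiv.swap (0 : Fin 4) 1)))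
        exact absurd this (by decide)
      · rintro ⟨k, hk⟩
        have hk' : x ^ (k % 3) = y := by
          have := (zpow_mod_orderOf x k).trans hk
          rwa [hx.orderOf] at this
        rcases (show k % 3 = 0 ∨ k % 3 = 1 ∨ k % 3 = 2 by omega) with h | h | h <;> rw [h] at hk' <;>
          exact absurd hk' (by decide)
    obtain ⟨σ, hσ, hc, -⟩ := cycle_data (n := n) (L := n - 1) (by omega) (by omega)
    exact TwoGroups.CycleCover.no_cover_long (MonoidHom.id (Equiv.Perm (Fin n))) Function.injective_id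
      (fun τ _ => ⟨τ, rfl⟩) (σ := σ) hσ (by show 4 ≤ σ.support.card; omega) (by show σ.support.card < n; omega)
      (Or.inl (by show n ≤ σ.support.card + 1; omega))

end Cfsg.Agent.S3892
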