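import Cfsg.Statements.S3893
import Cfsg.Agent.LeadWork.SzCover

set_option autoImplicit false
open Cfsg

namespace Cfsg.Agent.S3893

/-- A cover of a group is a finite set of proper subgroups whose union is the whole group; it is minimal when no cover has fewer members, and nilpotent when all its members are nilpotent. The Suzuki groups Sz(q), q = 2^(2m+1) with m ≥ 1, have no nilpotent minimal cover. -/
theorem result {F : Type*} [Field F] [Fintype F] (m : ℕ) (hm : 1 ≤ m) (hF : Fintype.card F = 2 ^ (2 * m + 1)) :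
    ¬ ∃ 𝓐 : Finset (Subgroup ↥(Cfsg.Lie.Sz F (2 ^ (m + 1)))), ((∀ A ∈ 𝓐, A ≠ ⊤) ∧ (∀ g : ↥(Cfsg.Lie.Sz F (2 ^ (m + 1))), ∃ A ∈ 𝓐, g ∈ A)) ∧ (∀ 𝓑 : Finset (Subgroup ↥(Cfsg.Lie.Sz F (2 ^ (m + 1)))), (∀ A ∈ 𝓑, A ≠ ⊤) ∧ (∀ g : ↥(Cfsg.Lie.Sz F (2 ^ (m + 1))), ∃ A ∈ 𝓑, g ∈ A) → 𝓐.card ≤ 𝓑.card) ∧ (∀ A ∈ 𝓐, Group.IsNilpotent ↥A) := by
  rintro ⟨𝓐, ⟨-, hcov⟩, hmin, hnil⟩
  have h : Agent.Suzuki.Ctx F m := ⟨hm, by rw [Nat.card_eq_fintype_card, hF]⟩
  haveI := Agent.Suzuki.finite_sz h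
  classical
  obtain ⟨e⟩ : Nonempty (Cfsg.Sz F m ≃* ↥(Cfsg.Lie.Sz F (2 ^ (m + 1)))) :=
    ⟨((Cfsg.Sz F m).equivMapOfInjective Matrix.SpecialLinearGroup.toGL
      Matrix.SpecialLinearGroup.toGL_injective).trans
        (MulEquiv.subgroupCongr (Agent.Suzuki.map_toGL h))⟩
  obtain ⟨𝓑, hB1, hB2, hB3⟩ := Agent.LeadWork.SzCover.no_minimal h
    (𝓐.image (fun A => A.comap e.toMonoidHom))
    (fun g => by
      obtain ⟨A, hA, hg⟩ := hcov (e g)
      exact ⟨_, Finset.mem_image_of_mem _ hA, hg⟩)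
    (fun A hA => by
      obtain ⟨B, hB, rfl⟩ := Finset.mem_image.mp hA
      haveI := hnil B hB
      rw [Subgroup.comap_equiv_eq_map_symm']
      exact Group.nilpotent_of_mulEquiv (e.symm.subgroupMap B))
  have h1 := hmin (𝓑.image (fun B => B.map e.toMonoidHom)) ⟨fun A hA => by
      obtain ⟨B, hB, rfl⟩ := Finset.mem_image.mp hA
      intro htop
      refine hB1 B hB (eq_top_iff.mpr fun x _ => ?_)
      have hx : e x ∈ B.map e.toMonoidHom := htop ▸ Subgroup.mem_top _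
      obtain ⟨y, hy, hye⟩ := hx
      rwa [← e.injective hye], fun g => by
      obtain ⟨B, hB, hg⟩ := hB2 (e.symm g)
      exact ⟨_, Finset.mem_image_of_mem _ hB, ⟨e.symm g, hg, by simp⟩⟩⟩
  have h2 : (𝓐.image (fun A => A.comap e.toMonoidHom)).card ≤ 𝓐.card := Finset.card_image_le
  have h3 : (𝓑.image (fun B => B.map e.toMonoidHom)).card ≤ 𝓑.card := Finset.card_image_le
  omega

end Cfsg.Agent.S3893
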