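import Cfsg.Statements.S3900
import Cfsg.Agent.CommVal.Main
-- import your own Cfsg.Agent.* helpers here

set_option autoImplicit false
open Cfsg

namespace Cfsg.Agent.S3900

/-- A criterion of Baumslag–Wiegold type for a term of the lower central series. Let G be a finite group and k ≥ 0; call an element a left-normed commutator value of length k + 1 when it has the form [[…[x₀, x₁], …], x_k] with k + 1 entries (for k = 0, any element), where [a, b] = aba⁻¹b⁻¹. Then the (k+1)-st term γ_{k+1}(G) of the lower central series (γ₁(G) = G) is nilpotent if and only if for every two such values x, y of coprime orders, either every prime dividing o(x)·o(y) divides o(xy), or o(x)·o(y) ≤ o(xy). -/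
theorem result {G : Type*} [Group G] [Finite G] (k : ℕ) :
    Group.IsNilpotent ↥((⊤ : Subgroup G).lowerCentralSeries k) ↔
      ∀ x y : G, (∃ f : Fin (k + 1) → G, x = ((List.ofFn f).tail).foldl (fun a b => a * b * a⁻¹ * b⁻¹) (f 0)) → (∃ f : Fin (k + 1) → G, y = ((List.ofFn f).tail).foldl (fun a b => a * b * a⁻¹ * b⁻¹) (f 0)) → (orderOf x).Coprime (orderOf y) →
        (∀ r : ℕ, r.Prime → r ∣ orderOf x * orderOf y → r ∣ orderOf (x * y)) ∨ orderOf x * orderOf y ≤ orderOf (x * y) := by
  constructor
  · intro hnil x y hx hy hco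
    obtain ⟨hx, hy⟩ :=
      And.intro (CommVal.val_subset_lowerCentralSeries k ((CommVal.mem_val_iff k x).mpr hx))
        (CommVal.val_subset_lowerCentralSeries k ((CommVal.mem_val_iff k y).mpr hy))
    have hc : Commute x y := congrArg Subtype.val
      (OddLocal.commute_of_coprime_orderOf (x := (⟨x, hx⟩ : ((⊤ : Subgroup G).lowerCentralSeries k :)))
        (y := ⟨y, hy⟩) (by simpa using hco)).eq
    exact Or.inr (hc.orderOf_mul_eq_mul_orderOf_of_coprime hco).ge
  · intro h
    refine CommVal.isNilpotent_lowerCentralSeries k fun x hx y hy hco hdvd => ?_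
    by_contra hx1
    have hox : orderOf x ≠ 1 := fun e => hx1 (orderOf_eq_one_iff.mp e)
    rcases h x y ((CommVal.mem_val_iff k x).mp hx) ((CommVal.mem_val_iff k y).mp hy) hco with h1 | h1
    · obtain ⟨r, hr, hrx⟩ := Nat.exists_prime_and_dvd hox
      exact hr.not_dvd_one (hco ▸ Nat.dvd_gcd hrx ((h1 r hr (hrx.mul_right _)).trans hdvd))
    · have h2 := h1.trans (Nat.le_of_dvd (orderOf_pos y) hdvd)
      have h3 : orderOf x ≤ 1 :=
        Nat.le_of_mul_le_mul_right (by rwa [one_mul]) (orderOf_pos y)
      have h4 := orderOf_pos x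
      omega

end Cfsg.Agent.S3900
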