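import Cfsg.Statements.S3919
import Cfsg.Agent.S0112
import Cfsg.Agent.S0063
import Cfsg.Agent.OddLocal.UniqueSubgroup
import Cfsg.Agent.Transfer.MaxClassTwo
import Cfsg.Agent.Screen.CyclicIndexTwo
import Cfsg.Agent.Components.Signalizer
import Cfsg.Agent.Screen.SylowAux
import Mathlib.Tactic.LinearCombination
import Mathlib.Tactic.IntervalCases
-- import your own Cfsg.Agent.* helpers here

set_option autoImplicit false
open Cfsg

namespace Cfsg.Agent.S3919


theorem quaternion_centralizer {m : ℕ} [NeZero m] {g : QuaternionGroup m}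
    (hg : g * QuaternionGroup.xa 0 = QuaternionGroup.xa 0 * g) :
    g ∈ Subgroup.zpowers (QuaternionGroup.xa (0 : ZMod (2 * m))) := by
  set x : QuaternionGroup m := QuaternionGroup.xa 0
  have hx : x ∈ Subgroup.zpowers x := Subgroup.mem_zpowers x
  have hz : QuaternionGroup.a (m : ZMod (2 * m)) ∈ Subgroup.zpowers x := by
    have := mul_mem hx hx
    simpa [x] using this
  have hsol : ∀ j : ZMod (2 * m), j + j = 0 → j = 0 ∨ j = (m : ZMod (2 * m)) := by
    intro j hj
    have h2 : ((j.val + j.val : ℕ) : ZMod (2 * m)) = 0 := by push_cast; simpa using hj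
    rw [ZMod.natCast_eq_zero_iff] at h2
    have hlt := ZMod.val_lt j
    rcases h2 with ⟨c, hc⟩
    rcases c with _ | _ | c
    · left; rw [← ZMod.natCast_zmod_val j, show j.val = 0 by omega]; simp
    · right; rw [← ZMod.natCast_zmod_val j, show j.val = m by omega]
    · exfalso
      have : 2 * m * (c + 1 + 1) = 2 * m * c + 2 * m + 2 * m := by ring
      omega
  rcases g with j | j
  · simp only [x, QuaternionGroup.a_mul_xa, QuaternionGroup.xa_mul_a, QuaternionGroup.xa.injEq] at hg
    rcases hsol j (by linear_combination -hg) with rfl | rfl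
    · exact one_mem _
    · exact hz
  · simp only [x, QuaternionGroup.xa_mul_xa, QuaternionGroup.a.injEq] at hg
    rcases hsol j (by linear_combination -hg) with rfl | rfl
    · exact hx
    · have := mul_mem hz hx
      simp only [x, QuaternionGroup.a_mul_xa] at this
      rwa [show (0 : ZMod (2 * m)) - (m : ZMod (2 * m)) = (m : ZMod (2 * m)) from ?_] at this
      have h0 : ((2 * m : ℕ) : ZMod (2 * m)) = 0 := ZMod.natCast_self _
      push_cast at h0
      linear_combination -h0

theorem exists_small {G : Type*} [Group G] [Finite G] (hna : ¬ IsMulCommutative G) {n : ℕ}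
    (hG : Nat.card G = 2 ^ n) (h : ∀ H : Subgroup G, ¬ IsCyclic ↥H → Subgroup.centralizer (H : Set G) ≤ H) :
    ∃ A : Subgroup G, Nat.card A = 2 ^ 2 ∧ Subgroup.centralizer (A : Set G) = A := by
  haveI : Fact (Nat.Prime 2) := ⟨Nat.prime_two⟩
  have hP : IsPGroup 2 G := IsPGroup.of_card hG
  by_cases hu : OddLocal.UniqueOrderP 2 G
  · rcases OddLocal.isCyclic_or_quaternion hP hu with hc | ⟨-, k, ⟨e⟩⟩
    · exact absurd ⟨⟨fun a b => (IsCyclic.commGroup (α := G)).mul_comm a b⟩⟩ hna
    haveI : NeZero (2 ^ k) := ⟨pow_ne_zero _ two_ne_zero⟩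
    set x := e.symm (QuaternionGroup.xa 0) with hx
    refine ⟨Subgroup.zpowers x, ?_, le_antisymm (fun g hg => ?_) ?_⟩
    · rw [Nat.card_zpowers, hx, MulEquiv.orderOf_eq, QuaternionGroup.orderOf_xa]; rfl
    · have hg' := Subgroup.mem_centralizer_iff.1 hg x (Subgroup.mem_zpowers x)
      have := congrArg e hg'
      rw [map_mul, map_mul, hx, MulEquiv.apply_symm_apply] at this
      obtain ⟨j, hj⟩ := quaternion_centralizer this.symm
      refine ⟨j, e.injective ?_⟩
      show e (x ^ j) = e g
      rw [map_zpow, hx, MulEquiv.apply_symm_apply]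
      exact hj
    · exact Subgroup.le_centralizer_iff_isMulCommutative.2 inferInstance
  · obtain ⟨u, w, hu2, hw2, hu1, hwu⟩ : ∃ u w : G, u ^ 2 = 1 ∧ w ^ 2 = 1 ∧ u ≠ 1 ∧ w ∉ Subgroup.zpowers u := by
      simp only [OddLocal.UniqueOrderP] at hu
      push Not at hu
      obtain ⟨u, w, hu2, hw2, hu1, hwu⟩ := hu
      exact ⟨u, w, hu2, hw2, hu1, hwu⟩
    -- a central involution together with another one gives a four group
    haveI : Nontrivial G := ⟨⟨u, 1, hu1⟩⟩
    obtain ⟨z, -, hz, hzc⟩ := Transfer.MaxClass.exists_central_involution hP ⊤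
      ((Subgroup.nontrivial_iff_ne_bot _).1 inferInstance)
    obtain ⟨v, hv2, hv1, hvz⟩ : ∃ v : G, v ^ 2 = 1 ∧ v ≠ 1 ∧ v ∉ Subgroup.zpowers z := by
      by_contra hno
      push Not at hno
      have hu' := hno u hu2 hu1
      have hw' := hno w hw2 (fun h => hwu (h ▸ one_mem _))
      have heq : Subgroup.zpowers u = Subgroup.zpowers z :=
        Subgroup.eq_of_le_of_card_ge (Subgroup.zpowers_le.2 hu') (by
          rw [Nat.card_zpowers, Nat.card_zpowers, hz, orderOf_eq_prime hu2 hu1])
      exact hwu (heq ▸ hw')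
    have hz2 : z ^ 2 = 1 := hz ▸ pow_orderOf_eq_one z
    have hA : Cfsg.IsElementaryAbelian 2 (Subgroup.zpowers z ⊔ Subgroup.zpowers v) := by
      refine PLocal.isEA_sup (PLocal.isEA_zpowers hz2) (PLocal.isEA_zpowers hv2) fun a ha => ?_
      refine Subgroup.center_le_centralizer _ (Subgroup.zpowers_le.2 hzc ha)
    set A := Subgroup.zpowers z ⊔ Subgroup.zpowers v with hAdef
    have hcard : Nat.card A = 2 ^ 2 := by
      rw [hAdef, Components.ea_card_sup_zpowers hA le_sup_left
        (Subgroup.mem_sup_right (Subgroup.mem_zpowers v)) hvz, Nat.card_zpowers, hz]; rfl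
    refine ⟨A, hcard, le_antisymm (h A fun hc => ?_) (Subgroup.le_centralizer_iff_isMulCommutative.2 hA.1)⟩
    obtain ⟨g, hg⟩ := hc.exists_ofOrder_eq_natCard
    have h1 : orderOf g ∣ 2 := orderOf_dvd_of_pow_eq_one (Subtype.ext (hA.2 g g.2))
    rw [hg, hcard] at h1
    exact absurd (Nat.le_of_dvd two_pos h1) (by norm_num)

/-- Say that a group has self-centralizing non-cyclic subgroups when every non-cyclic subgroup H satisfies C_G(H) ≤ H. A finite non-abelian 2-group G of order 2^n has self-centralizing non-cyclic subgroups if and only if G has nilpotency class n − 1 (that is, G is dihedral, semidihedral or generalized quaternion). -/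
theorem result {G : Type*} [Group G] [Finite G] (hna : ¬ IsMulCommutative G) (n : ℕ) (hG : Nat.card G = 2 ^ n) :
    (∀ H : Subgroup G, ¬ IsCyclic ↥H → Subgroup.centralizer (H : Set G) ≤ H) ↔ (⊤ : Subgroup G).lowerCentralSeries (n - 2) ≠ ⊥ := by
  classical
  haveI : Fact (Nat.Prime 2) := ⟨Nat.prime_two⟩
  have hP : IsPGroup 2 G := IsPGroup.of_card hG
  haveI := hP.isNilpotent
  have hn3 : 3 ≤ n := by
    by_contra hlt
    apply hna
    interval_cases n
    · haveI := (Nat.card_eq_one_iff_unique.1 (by simpa using hG)).1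
      exact ⟨⟨fun a b => Subsingleton.elim _ _⟩⟩
    · haveI : IsCyclic G := isCyclic_of_prime_card (p := 2) (by simpa using hG)
      exact ⟨⟨fun a b => (IsCyclic.commGroup (α := G)).mul_comm a b⟩⟩
    · exact ⟨⟨fun a b => (IsPGroup.commutative_of_card_eq_prime_sq hG) a b⟩⟩
  constructor
  · intro h hL
    obtain ⟨A, hA4, hAC⟩ := exists_small hna hG h
    have hcl := S0112.result n hG A hA4 hAC
    have := Subgroup.lowerCentralSeries_eq_bot_iff_nilpotencyClass_le.1 hL
    omega
  · intro hL H hH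
    have hcl : Group.nilpotencyClass G = n - 1 := by
      refine le_antisymm (S0063.result 2 n hG (by omega)) ?_
      by_contra hlt
      exact hL (Subgroup.lowerCentralSeries_eq_bot_iff_nilpotencyClass_le.2 (by omega))
    have h4 : (commutator G).index = 4 :=
      (Transfer.MaxClass.index_of_class n G (by omega) hG hcl).resolve_left (by omega)
    have hgt : 4 < Nat.card G := by
      rw [hG]; exact lt_of_lt_of_le (by norm_num : 4 < 2 ^ 3) (Nat.pow_le_pow_right two_pos hn3)
    obtain ⟨k, a, b, hcard, ha, hb, hcase⟩ := Screen.CyclicIndexTwo.cases_of_index_le_four hP h4.le hgt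
    set A := Subgroup.zpowers a with hAdef
    have hAi : A.index = 2 := by
      have := A.card_mul_index
      rw [hAdef, Nat.card_zpowers, ha, hcard, pow_succ 2 (k + 2)] at this
      exact Nat.eq_of_mul_eq_mul_left (by positivity) this
    have hmul : ∀ x y : G, x * y ∈ A ↔ (x ∈ A ↔ y ∈ A) := fun x y => Subgroup.mul_mem_iff_of_index_two hAi
    set z := a ^ 2 ^ (k + 1) with hzdef
    have hconj : ∃ u : ℤ, b * a * b⁻¹ = a ^ u ∧
        ∀ j : ℤ, (2 ^ (k + 2) : ℤ) ∣ j * (u - 1) → (2 ^ (k + 1) : ℤ) ∣ j := by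
      rcases hcase with ⟨-, hc⟩ | ⟨-, hc⟩ | ⟨hk, -, hc⟩
      · refine ⟨-1, by rw [hc, zpow_neg_one], fun j hj => ?_⟩
        rw [show j * (-1 - 1) = 2 * (-j) by ring, pow_succ' (2 : ℤ) (k + 1)] at hj
        exact dvd_neg.1 (Int.dvd_of_mul_dvd_mul_left two_ne_zero hj)
      · refine ⟨-1, by rw [hc, zpow_neg_one], fun j hj => ?_⟩
        rw [show j * (-1 - 1) = 2 * (-j) by ring, pow_succ' (2 : ℤ) (k + 1)] at hj
        exact dvd_neg.1 (Int.dvd_of_mul_dvd_mul_left two_ne_zero hj)
      · refine ⟨((2 ^ (k + 1) - 1 : ℕ) : ℤ), by rw [hc, zpow_natCast], fun j hj => ?_⟩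
        obtain ⟨l, rfl⟩ : ∃ l, k = l + 1 := ⟨k - 1, by omega⟩
        rw [Nat.cast_sub (Nat.one_le_two_pow)] at hj
        push_cast at hj
        rw [show j * ((2 : ℤ) ^ (l + 1 + 1) - 1 - 1) = 2 * (j * (2 ^ (l + 1) - 1)) by ring,
          pow_succ' (2 : ℤ) (l + 1 + 1)] at hj
        have hco : IsCoprime ((2 : ℤ) ^ (l + 1 + 1)) (2 ^ (l + 1) - 1) :=
          IsCoprime.pow_left ⟨2 ^ l, -1, by ring⟩
        exact hco.dvd_of_dvd_mul_right (Int.dvd_of_mul_dvd_mul_left two_ne_zero hj)
    obtain ⟨u, hu, hdiv⟩ := hconj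
    -- elements of A commuting with an element outside A
    have hcom : ∀ x ∈ A, ∀ y, y ∉ A → x * y = y * x → x = 1 ∨ x = z := by
      intro x hx y hy hxy
      obtain ⟨w, hw, rfl⟩ : ∃ w ∈ A, y = w * b := ⟨y * b⁻¹, (hmul _ _).2 (by simp [A.inv_mem_iff, hy, hb]), by group⟩
      have hxw : x * w = w * x := congrArg Subtype.val (mul_comm' (⟨x, hx⟩ : A) ⟨w, hw⟩)
      have hxb : b * x * b⁻¹ = x := by
        calc b * x * b⁻¹ = w⁻¹ * (w * b * x) * b⁻¹ := by group
          _ = w⁻¹ * (x * w * b) * b⁻¹ := by rw [← hxy, mul_assoc x w b]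
          _ = w⁻¹ * (w * x * b) * b⁻¹ := by rw [hxw]
          _ = x := by group
      obtain ⟨j, rfl⟩ := Subgroup.mem_zpowers_iff.1 hx
      rw [← conj_zpow, hu, ← zpow_mul] at hxb
      have h0 : a ^ (j * (u - 1)) = 1 := by
        rw [mul_sub, mul_one, zpow_sub, mul_comm j u, hxb, mul_inv_cancel]
      have h1 : (2 ^ (k + 2) : ℤ) ∣ j * (u - 1) := by
        have := orderOf_dvd_iff_zpow_eq_one.2 h0
        rwa [ha, Nat.cast_pow] at this
      obtain ⟨c, rfl⟩ := hdiv j h1
      have hz2 : z * z = 1 := by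
        rw [hzdef, ← pow_add, show 2 ^ (k + 1) + 2 ^ (k + 1) = 2 ^ (k + 2) by rw [pow_succ 2 (k+1)]; omega, ← ha,
          pow_orderOf_eq_one]
      have he : a ^ ((2 : ℤ) ^ (k + 1) * c) = z ^ c := by
        rw [zpow_mul, hzdef, ← zpow_natCast a (2 ^ (k + 1)), Nat.cast_pow]; rfl
      rw [he]
      rcases Int.even_or_odd c with ⟨e, rfl⟩ | ⟨e, rfl⟩
      · left; rw [← two_mul, zpow_mul, zpow_two, hz2, one_zpow]
      · right; rw [zpow_add, zpow_mul, zpow_two, hz2, one_zpow, one_mul, zpow_one]
    obtain ⟨x, hxH, hxA⟩ : ∃ x ∈ H, x ∉ A := by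
      by_contra hle
      push Not at hle
      exact hH (isCyclic_of_injective (Subgroup.inclusion hle) (Subgroup.inclusion_injective hle))
    have hzH : z ∈ H := by
      by_contra hzH
      apply hH
      have hx2 : x * x = 1 := by
        rcases hcom (x * x) (Subgroup.mul_self_mem_of_index_two hAi x) x hxA (mul_assoc x x x) with h | h
        · exact h
        · exact absurd (h ▸ H.mul_mem hxH hxH) hzH
      refine isCyclic_of_card_dvd_prime (p := 2) ?_
      have hle : H ≤ Subgroup.zpowers x := by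
        intro y hy
        have hmem : ∀ v ∈ H, v ∈ A → v = 1 := by
          intro v hv hvA
          by_contra hv1
          -- the involution of a nontrivial cyclic subgroup of A
          obtain ⟨e, he⟩ := IsPGroup.iff_orderOf.1 hP v
          rcases e with _ | e
          · exact hv1 (orderOf_eq_one_iff.1 he)
          refine hzH ?_
          rw [hzdef]
          rw [← Screen.eq_of_orderOf_eq_two_of_isCyclic (C := A)
            ((Subgroup.isCyclic_iff_exists_zpowers_eq_top A).2 ⟨a, rfl⟩) (A.pow_mem hvA (2 ^ e))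
            (A.pow_mem (Subgroup.mem_zpowers a) (2 ^ (k + 1))) ?_ ?_]
          · exact H.pow_mem hv _
          · rw [orderOf_pow' _ (by positivity), he, Nat.gcd_eq_right (pow_dvd_pow 2 (Nat.le_succ e)), pow_succ,
              Nat.mul_div_cancel_left _ (by positivity)]
          · rw [orderOf_pow' _ (by positivity), ha, Nat.gcd_eq_right (pow_dvd_pow 2 (Nat.le_succ _)),
              pow_succ 2 (k + 1), Nat.mul_div_cancel_left _ (by positivity)]
        by_cases hyA : y ∈ A
        · rw [hmem y hy hyA]; exact one_mem _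
        · have := hmem (x * y) (H.mul_mem hxH hy) ((hmul _ _).2 (by simp [hxA, hyA]))
          rw [eq_inv_of_mul_eq_one_right this]
          exact inv_mem (Subgroup.mem_zpowers x)
      refine (Subgroup.card_dvd_of_le hle).trans ?_
      rw [Nat.card_zpowers]
      exact orderOf_dvd_of_pow_eq_one (by rw [pow_two, hx2])
    intro y hy
    have hxy := Subgroup.mem_centralizer_iff.1 hy x hxH
    by_cases hyA : y ∈ A
    · rcases hcom y hyA x hxA hxy.symm with rfl | rfl
      · exact one_mem _
      · exact hzH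
    · have h1 : x * y * x = x * (x * y) := by rw [mul_assoc, ← hxy]
      have h2 : y = x⁻¹ * (x * y) := by group
      rw [h2]
      refine H.mul_mem (H.inv_mem hxH) ?_
      rcases hcom (x * y) ((hmul _ _).2 (by simp [hxA, hyA])) x hxA h1 with h | h <;> rw [h]
      · exact one_mem _
      · exact hzH

end Cfsg.Agent.S3919
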