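import Cfsg.Statements.S3992
import Cfsg.Agent.OddLocal.FPF
import Cfsg.Agent.OddLocal.PrimePowerOrders
import Cfsg.Agent.Core.MinimalNormal
import Mathlib.GroupTheory.Sylow
import Mathlib.GroupTheory.SpecificGroups.Cyclic
-- import your own Cfsg.Agent.* helpers here

set_option autoImplicit false
open Cfsg

namespace Cfsg.Agent.S3992

open Cfsg.Agent

variable {G : Type*} [Group G] [Finite G]

theorem exists_prime_ne (B : Subgroup G) {r : ℕ} [Fact r.Prime] (hB : ¬ IsPGroup r B) :
    ∃ s : ℕ, s.Prime ∧ s ≠ r ∧ ∃ y ∈ B, orderOf y = s := by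
  by_contra hcon
  refine hB (IsPGroup.of_card (n := (Nat.card B).primeFactorsList.length)
    (Nat.eq_prime_pow_of_unique_prime_dvd Nat.card_pos.ne' fun {d} hd hdd => ?_))
  by_contra hne
  haveI := Fact.mk hd
  obtain ⟨y, hy⟩ := exists_prime_orderOf_dvd_card' (G := B) d hdd
  exact hcon ⟨d, hd, hne, y, y.2, by rw [Subgroup.orderOf_coe, hy]⟩

theorem no_commuting (happ : OddLocal.AllPrimePowerOrders G) {A B : Subgroup G}
    (hc : ∀ a ∈ A, ∀ b ∈ B, Commute a b) (hA : A ≠ ⊥) (hB : ¬ Group.IsSolvable B) : False := by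
  obtain ⟨r, hr, hrd⟩ := Nat.exists_prime_and_dvd (mt (Subgroup.card_eq_one (H := A)).mp hA)
  haveI := Fact.mk hr
  obtain ⟨x, hx⟩ := exists_prime_orderOf_dvd_card' (G := A) r hrd
  obtain ⟨s, hs, hsr, y, hy, hys⟩ := exists_prime_ne B (r := r) fun hp => hB (by
    haveI := hp.isNilpotent; infer_instance)
  refine OddLocal.not_commute_of_primes happ (a := (x : G)) (b := y) hr ?_ ?_ ?_ (hc x x.2 y hy)
  · rw [Subgroup.orderOf_coe, hx]
  · intro e; rw [e, orderOf_one] at hys; exact hs.ne_one hys.symm
  · rw [Subgroup.orderOf_coe, hx, hys]; exact (Nat.coprime_primes hr hs).mpr hsr.symm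

theorem isPGroup_radical (happ : OddLocal.AllPrimePowerOrders G) (hns : ¬ Group.IsSolvable G)
    (R : Subgroup G) [R.Normal] (hRs : Group.IsSolvable ↥R) :
    ∃ p : ℕ, p.Prime ∧ IsPGroup p ↥R := by
  by_cases hR : R = ⊥
  · subst hR; exact ⟨2, Nat.prime_two, IsPGroup.of_bot⟩
  obtain ⟨A, hA, hAR⟩ := Core.exists_isMinNormal_le ‹R.Normal› hR
  obtain ⟨-, p, hp, -, hAp⟩ := hA.elementaryAbelian
    (Group.isSolvable_of_isSolvable_injective (Subgroup.inclusion_injective hAR))
  haveI := hA.1
  refine ⟨p, hp, ?_⟩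
  haveI := Fact.mk hp
  by_contra hnp
  obtain ⟨q, hq, hqp, y, hy, hyq⟩ := exists_prime_ne R hnp
  haveI := Fact.mk hq
  obtain ⟨Q⟩ : Nonempty (Sylow q R) := inferInstance
  set Qm : Subgroup G := (Q : Subgroup R).map R.subtype with hQm
  have hQp : IsPGroup q Qm := Q.2.map _
  have hQne : Qm ≠ ⊥ := by
    rw [hQm, Ne, Subgroup.map_eq_bot_iff_of_injective _ R.subtype_injective]
    refine Q.ne_bot_of_dvd_card ?_
    rw [← hyq, ← Subgroup.orderOf_mk y hy]
    exact orderOf_dvd_natCard _
  have hfrat : Subgroup.normalizer (Qm : Set G) ⊔ R = ⊤ := Sylow.normalizer_sup_eq_top Q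
  obtain ⟨n₀, hn₀⟩ := IsPGroup.iff_card.mp hAp
  obtain ⟨m₀, hm₀⟩ := IsPGroup.iff_card.mp hQp
  have hfpf : OddLocal.FPF A Qm := by
    intro x hx hx1 k hk hc
    by_contra hk1
    obtain ⟨r, hr, hrd⟩ := Nat.exists_prime_and_dvd (mt orderOf_eq_one_iff.mp hx1)
    refine OddLocal.not_commute_of_primes happ hr hrd hk1 ?_ hc
    have h1 : orderOf x ∣ q ^ m₀ := by
      rw [← hm₀, ← Subgroup.orderOf_mk x hx]; exact orderOf_dvd_natCard _
    have h2 : orderOf k ∣ p ^ n₀ := by
      rw [← hn₀, ← Subgroup.orderOf_mk k hk]; exact orderOf_dvd_natCard _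
    exact Nat.Coprime.coprime_dvd_left h1 (Nat.Coprime.coprime_dvd_right h2
      (((Nat.coprime_primes hq hp).mpr hqp).pow _ _))
  have hu := hfpf.uniqueOrderP hA.2.1 (le_top.trans_eq (Subgroup.normalizer_eq_top (H := A)).symm) Qm le_rfl hQp
  obtain ⟨a, ha⟩ := exists_prime_orderOf_dvd_card' (G := Qm) q (by
    rw [hm₀]
    refine dvd_pow_self q ?_
    rintro rfl
    rw [pow_zero, Subgroup.card_eq_one] at hm₀
    exact hQne hm₀)
  have ha1 : a ≠ 1 := fun e => hq.ne_one (by rw [← ha, e, orderOf_one])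
  set Z : Subgroup G := Subgroup.zpowers (a : G) with hZ
  have hNle : Subgroup.normalizer (Qm : Set G) ≤ Subgroup.normalizer (Z : Set G) := by
    intro g hg
    have key : ∀ g ∈ Subgroup.normalizer (Qm : Set G), g * (a : G) * g⁻¹ ∈ Z := by
      intro g hg
      have hmem : g * (a : G) * g⁻¹ ∈ Qm := (Subgroup.mem_normalizer_iff.mp hg _).mp a.2
      have h1 := hu a ⟨_, hmem⟩ (by rw [← ha, pow_orderOf_eq_one])
        (Subtype.ext (by
          have h0 : (a : G) ^ q = 1 := by rw [← ha, ← Subgroup.orderOf_coe, pow_orderOf_eq_one]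
          simp [conj_pow, h0])) ha1
      obtain ⟨i, hi⟩ := Subgroup.mem_zpowers_iff.mp h1
      exact Subgroup.mem_zpowers_iff.mpr ⟨i, by simpa using congrArg Subtype.val hi⟩
    rw [Subgroup.mem_normalizer_iff]
    have hfwd : ∀ g ∈ Subgroup.normalizer (Qm : Set G), ∀ z ∈ Z, g * z * g⁻¹ ∈ Z := by
      intro g hg z hz
      obtain ⟨i, rfl⟩ := Subgroup.mem_zpowers_iff.mp hz
      rw [← conj_zpow]
      exact Z.zpow_mem (key g hg) i
    intro z
    refine ⟨hfwd g hg z, fun hz => ?_⟩
    have h2 := hfwd g⁻¹ ((Subgroup.normalizer (Qm : Set G)).inv_mem hg) _ hz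
    simpa [mul_assoc] using h2
  have hcent : IsPGroup q (Subgroup.centralizer (Z : Set G)) := by
    rintro ⟨g, hg⟩
    have hga : Commute (a : G) g := Subgroup.mem_centralizer_iff.mp hg a (Subgroup.mem_zpowers _)
    by_cases hg1 : g = 1
    · exact ⟨0, by simp [hg1]⟩
    refine ⟨(orderOf g).primeFactorsList.length, Subtype.ext ?_⟩
    have : orderOf g = q ^ (orderOf g).primeFactorsList.length :=
      Nat.eq_prime_pow_of_unique_prime_dvd (orderOf_pos g).ne' fun {d} hd hdd => by
        by_contra hne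
        have ha' : orderOf (a : G) = q := by rw [Subgroup.orderOf_coe, ha]
        obtain ⟨m, hm⟩ := hdd
        have hgd : orderOf (g ^ m) = d := by
          rw [orderOf_pow' g (by rintro rfl; rw [mul_zero] at hm; exact (orderOf_pos g).ne' hm),
            hm, Nat.gcd_eq_right (dvd_mul_left _ _), Nat.mul_div_cancel _ (by
              rcases Nat.eq_zero_or_pos m with h0 | h0
              · rw [h0, mul_zero] at hm; exact absurd hm (orderOf_pos g).ne'
              · exact h0)]
        refine OddLocal.not_commute_of_primes happ (a := (a : G)) (b := g ^ m) hq (ha'.symm ▸ dvd_rfl)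
          ?_ ?_ (hga.pow_right m)
        · intro e; rw [e, orderOf_one] at hgd; exact hd.ne_one hgd.symm
        · rw [ha', hgd]; exact (Nat.coprime_primes hq hd).mpr (Ne.symm hne)
    push_cast
    rw [← this, pow_orderOf_eq_one]
  have hNsol : Group.IsSolvable (Subgroup.normalizer (Z : Set G)) := by
    haveI : Group.IsSolvable (MulAut Z) := Group.isSolvable_of_isSolvable_injective
      (f := (IsCyclic.mulAutMulEquiv Z).toMonoidHom) (IsCyclic.mulAutMulEquiv Z).injective
    haveI := hcent.isNilpotent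
    refine Group.isSolvable_of_ker_le_range
      (Subgroup.inclusion (Subgroup.centralizer_le_normalizer (Z : Set G)))
      (Subgroup.normalizerMonoidHom Z) ?_
    intro x hx
    rw [Subgroup.normalizerMonoidHom_ker] at hx
    exact ⟨⟨x, hx⟩, Subtype.ext rfl⟩
  have hquot : Group.IsSolvable (G ⧸ R) := by
    refine Group.isSolvable_of_surjective (G := Subgroup.normalizer (Z : Set G))
      (f := (QuotientGroup.mk' R).comp (Subgroup.subtype _)) ?_
    intro x
    obtain ⟨g, rfl⟩ := QuotientGroup.mk'_surjective R x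
    have hg : g ∈ Subgroup.normalizer (Qm : Set G) ⊔ R := hfrat ▸ Subgroup.mem_top g
    rw [Subgroup.mem_sup_of_normal_right] at hg
    obtain ⟨u, hu', r, hr, rfl⟩ := hg
    exact ⟨⟨u, hNle hu'⟩, by simp [(QuotientGroup.eq_one_iff r).mpr hr]⟩
  refine hns (Group.isSolvable_of_ker_le_range R.subtype (QuotientGroup.mk' R) ?_)
  rw [QuotientGroup.ker_mk', Subgroup.range_subtype]

theorem exists_socle (happ : OddLocal.AllPrimePowerOrders G) (hns : ¬ Group.IsSolvable G)
    (R : Subgroup G) [R.Normal] (hRs : Group.IsSolvable ↥R)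
    (hRmax : ∀ N : Subgroup G, N.Normal → Group.IsSolvable ↥N → N ≤ R) :
    ∃ M : Subgroup (G ⧸ R), M.Normal ∧ IsSimpleGroup ↥M ∧ ¬ IsMulCommutative ↥M ∧
        ∀ N : Subgroup (G ⧸ R), N.Normal → N ≠ ⊥ → M ≤ N := by
  have happQ : OddLocal.AllPrimePowerOrders (G ⧸ R) := by
    intro g a b ha hb hag hbg
    obtain ⟨g, rfl⟩ := QuotientGroup.mk'_surjective R g
    exact happ g a b ha hb (hag.trans (orderOf_map_dvd _ _)) (hbg.trans (orderOf_map_dvd _ _))
  have hrad : ∀ N : Subgroup (G ⧸ R), N.Normal → Group.IsSolvable N → N = ⊥ := by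
    intro N hN hNs
    set C := N.comap (QuotientGroup.mk' R) with hC
    have hRC : R ≤ C := fun r hr => by
      rw [hC, Subgroup.mem_comap, QuotientGroup.mk'_apply, (QuotientGroup.eq_one_iff r).mpr hr]
      exact N.one_mem
    have hCs : Group.IsSolvable C := by
      refine Group.isSolvable_of_ker_le_range (Subgroup.inclusion hRC)
        (((QuotientGroup.mk' R).comp C.subtype).codRestrict N fun x => x.2) ?_
      intro x hx
      exact ⟨⟨x, (QuotientGroup.eq_one_iff _).mp (congrArg Subtype.val hx)⟩, rfl⟩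
    rw [Subgroup.eq_bot_iff_forall]
    intro x hx
    obtain ⟨g, rfl⟩ := QuotientGroup.mk'_surjective R x
    exact (QuotientGroup.eq_one_iff g).mpr (hRmax C (hN.comap _) hCs hx)
  haveI : Nontrivial (G ⧸ R) := by
    by_contra h
    rw [not_nontrivial_iff_subsingleton] at h
    refine hns (Group.isSolvable_of_ker_le_range R.subtype (QuotientGroup.mk' R) ?_)
    rw [QuotientGroup.ker_mk', Subgroup.range_subtype]
  obtain ⟨M, hM⟩ := Core.exists_isMinNormal (G := G ⧸ R)
  haveI := hM.1
  have hMns : ¬ Group.IsSolvable M := fun h => hM.2.1 (hrad M hM.1 h)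
  haveI : Nontrivial M := (Subgroup.nontrivial_iff_ne_bot M).mpr hM.2.1
  refine ⟨M, hM.1, ⟨fun T hT => ?_⟩, fun h => hMns (Group.isSolvable_of_comm h.1.1), fun N hN hN1 => ?_⟩
  · by_contra hcon
    push_neg at hcon
    obtain ⟨T1, hT1, hT1T⟩ := Core.exists_isMinNormal_le hT hcon.1
    have hT1top : T1 ≠ ⊤ := fun e => hcon.2 (top_le_iff.mp (e ▸ hT1T))
    have hT1ns : ¬ Group.IsSolvable T1 := by
      intro hs
      obtain ⟨-, p, hp, -, hT1p⟩ := hT1.elementaryAbelian hs
      haveI := Fact.mk hp
      have hle : T1 ≤ pCore p M := Core.le_pCore hT1.1 hT1p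
      rcases hM.2.2 ((pCore p M).map M.subtype) inferInstance (Subgroup.map_subtype_le _) with h | h
      · rw [Subgroup.map_eq_bot_iff_of_injective _ M.subtype_injective] at h
        exact hT1.2.1 (le_bot_iff.mp (h ▸ hle))
      · have hp' : IsPGroup p M := h ▸ (Core.isPGroup_pCore p M).map _
        exact hMns (by haveI := hp'.isNilpotent; infer_instance)
    obtain ⟨g, hg⟩ : ∃ g : G ⧸ R, T1.map ((MulAut.conjNormal g : MulAut M) : M →* M) ≠ T1 := by
      by_contra hall
      push_neg at hall
      have hn : (T1.map M.subtype).Normal := ⟨fun x hx g => by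
        obtain ⟨t, ht, rfl⟩ := hx
        refine ⟨MulAut.conjNormal g t, ?_, MulAut.conjNormal_apply g t⟩
        show MulAut.conjNormal g t ∈ T1
        rw [← hall g]
        exact ⟨t, ht, rfl⟩⟩
      rcases hM.2.2 _ hn (Subgroup.map_subtype_le _) with h | h
      · rw [Subgroup.map_eq_bot_iff_of_injective _ M.subtype_injective] at h
        exact hT1.2.1 h
      · apply hT1top
        apply Subgroup.map_injective M.subtype_injective
        rw [h, ← MonoidHom.range_eq_map, Subgroup.range_subtype]
    set T2 : Subgroup M := T1.map ((MulAut.conjNormal g : MulAut M) : M →* M) with hT2d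
    haveI := hT1.1
    haveI hT2n : T2.Normal := hT1.1.map _ (MulAut.conjNormal g : MulAut M).surjective
    have hdis : T1 ⊓ T2 = ⊥ := by
      rcases hT1.inf_eq_bot_or_le hT2n with h | h
      · exact h
      · exfalso
        apply hg
        symm
        refine Subgroup.eq_of_le_of_card_ge h (le_of_eq ?_)
        exact Nat.card_congr ((Subgroup.equivMapOfInjective _ _
          (MulAut.conjNormal g : MulAut M).injective).toEquiv).symm
    refine no_commuting happQ (A := T2.map M.subtype) (B := T1.map M.subtype) ?_ ?_ ?_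
    · rintro _ ⟨a, ha, rfl⟩ _ ⟨b, hb, rfl⟩
      exact (Subgroup.commute_of_normal_of_disjoint T2 T1 inferInstance inferInstance
        (disjoint_iff.mpr (by rwa [inf_comm])) a b ha hb).map M.subtype
    · rw [Ne, Subgroup.map_eq_bot_iff_of_injective _ M.subtype_injective, hT2d]
      exact fun e => hT1.2.1 ((Subgroup.map_eq_bot_iff_of_injective _
        (MulAut.conjNormal g : MulAut M).injective).mp e)
    · intro hs
      exact hT1ns (Group.isSolvable_of_isSolvable_injective
        (f := (Subgroup.equivMapOfInjective T1 M.subtype M.subtype_injective).toMonoidHom)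
        (MulEquiv.injective _))
  · rcases hM.inf_eq_bot_or_le hN with h | h
    · exfalso
      haveI := hN
      refine no_commuting happQ (A := N) (B := M) ?_ hN1 hMns
      intro a ha b hb
      exact Subgroup.commute_of_normal_of_disjoint N M inferInstance inferInstance
        (disjoint_iff.mpr (by rwa [inf_comm])) a b ha hb
    · exact h
/-- Let G be a finite non-solvable group in which every element has prime-power order, and let R be its largest solvable normal subgroup. Then R is a p-group for some prime p; G/R has a non-abelian simple normal subgroup contained in every nontrivial normal subgroup of G/R (its unique minimal normal subgroup); and the order of every solvable subgroup of G has at most two prime divisors. -/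
theorem result {G : Type*} [Group G] [Finite G] (hns : ¬ Group.IsSolvable G) (hpp : ∀ g : G, g ≠ 1 → IsPrimePow (orderOf g))
    (R : Subgroup G) [R.Normal] (hRs : Group.IsSolvable ↥R) (hRmax : ∀ N : Subgroup G, N.Normal → Group.IsSolvable ↥N → N ≤ R) :
    (∃ p : ℕ, p.Prime ∧ IsPGroup p ↥R) ∧
      (∃ M : Subgroup (G ⧸ R), M.Normal ∧ IsSimpleGroup ↥M ∧ ¬ IsMulCommutative ↥M ∧
        ∀ N : Subgroup (G ⧸ R), N.Normal → N ≠ ⊥ → M ≤ N) ∧
      ∀ H : Subgroup G, Group.IsSolvable ↥H → (Nat.card ↥H).primeFactors.card ≤ 2 := by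
  classical
  have happ : OddLocal.AllPrimePowerOrders G := OddLocal.AllPrimePowerOrders.of_isPrimePow fun g => by
    by_cases h : g = 1
    · exact Or.inr h
    · exact Or.inl (hpp g h)
  refine ⟨?_, ?_, ?_⟩
  · exact isPGroup_radical happ hns R hRs
  · exact exists_socle happ hns R hRs hRmax
  · intro H hH
    refine OddLocal.two_primes_of_allPrimePowerOrders (Nat.card H) (G := H) ?_ le_rfl
    intro g a b ha hb hag hbg
    exact happ (g : G) a b ha hb (by rwa [Subgroup.orderOf_coe]) (by rwa [Subgroup.orderOf_coe])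

end Cfsg.Agent.S3992
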