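import Cfsg.Statements.S4016
import Cfsg.Agent.FGS2.CyclicSylowCA
import Cfsg.Agent.Transfer.Complement

set_option autoImplicit false
open Cfsg

namespace Cfsg.Agent.S4016

universe u

open Cfsg.Agent Cfsg.Agent.FGS2.CyclicSylow

variable {p : ℕ} [hp : Fact p.Prime]

/-- Elements of order prime to `p` and `p`-elements of a subgroup. -/
theorem alt_of_or {G : Type*} [Group G] [Finite G] {H : Subgroup G}
    (h : Cfsg.HasNormalPComplement p H ∨ ∃ Q : Sylow p H, (Q : Subgroup H).Normal) : Alt p H := by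
  rcases h with h | ⟨Q, hQn⟩
  · refine Or.inl ⟨(pResidual p H).map H.subtype, Subgroup.map_subtype_le _, ?_, ?_, ?_, ?_⟩
    · intro g hg
      rw [Subgroup.mem_normalizer_iff]
      intro a
      constructor
      · rintro ⟨b, hb, rfl⟩
        exact ⟨⟨g, hg⟩ * b * ⟨g, hg⟩⁻¹, (Transfer.pResidual_normal (p := p)).conj_mem b hb _, rfl⟩
      · rintro ⟨b, hb, he⟩
        refine ⟨⟨g, hg⟩⁻¹ * b * ⟨g, hg⟩, (Transfer.pResidual_normal (p := p)).conj_mem' b hb _, ?_⟩
        simp only [Subgroup.coe_subtype, Subgroup.coe_mul, Subgroup.coe_inv] at he ⊢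
        rw [he]; group
    · rw [Subgroup.card_map_of_injective H.subtype_injective]
      exact hp.out.coprime_iff_not_dvd.1
        (Transfer.hasNormalPComplement_iff_coprime_pResidual.1 h).symm
    · intro y hy hpy
      refine ⟨⟨y, hy⟩, (Transfer.mem_pResidual_iff h).2 ?_, rfl⟩
      rw [← Subgroup.orderOf_coe]
      exact (hp.out.coprime_iff_not_dvd.2 hpy).symm
    · obtain ⟨k, hk⟩ := IsPGroup.iff_card.1 (Transfer.isPGroup_quotient_pResidual (p := p) (G := H))
      refine ⟨k, ?_⟩
      rw [Subgroup.card_map_of_injective H.subtype_injective, ← hk, ← Subgroup.index_eq_card,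
        Subgroup.card_mul_index]
  · refine Or.inr ⟨(Q : Subgroup H).map H.subtype, Subgroup.map_subtype_le _, Q.isPGroup'.map _, ?_, ?_⟩
    · intro g hg
      rw [Subgroup.mem_normalizer_iff]
      intro a
      constructor
      · rintro ⟨b, hb, rfl⟩
        exact ⟨⟨g, hg⟩ * b * ⟨g, hg⟩⁻¹, hQn.conj_mem b hb _, rfl⟩
      · rintro ⟨b, hb, he⟩
        refine ⟨⟨g, hg⟩⁻¹ * b * ⟨g, hg⟩, hQn.conj_mem' b hb _, ?_⟩
        simp only [Subgroup.coe_subtype, Subgroup.coe_mul, Subgroup.coe_inv] at he ⊢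
        rw [he]; group
    · rintro y hy ⟨k, hk⟩
      refine ⟨⟨y, hy⟩, ?_, rfl⟩
      have hY : IsPGroup p (Subgroup.zpowers (⟨y, hy⟩ : H)) := by
        apply IsPGroup.of_card (n := k)
        rw [Nat.card_zpowers, ← Subgroup.orderOf_coe, hk]
      exact (le_sup_right.trans (Q.is_maximal' (Q.isPGroup'.to_sup_of_normal_left hY) le_sup_left).le)
        (Subgroup.mem_zpowers _)

theorem isCyclic_sylow {G : Type*} [Group G] [Finite G] (P : Sylow p G) (hcyc : IsCyclic P)
    {H : Subgroup G} (Q : Sylow p H) : IsCyclic Q := by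
  obtain ⟨g, hg⟩ := exists_conj_mem (P := P) ((Q.isPGroup').map H.subtype)
  let f : Q →* P :=
    { toFun := fun q => ⟨g * ((q : H) : G) * g⁻¹, hg _ ⟨(q : H), q.2, rfl⟩⟩
      map_one' := Subtype.ext (by simp)
      map_mul' := fun a b => Subtype.ext (by
        show g * (((a * b : Q) : H) : G) * g⁻¹ = g * ((a : H) : G) * g⁻¹ * (g * ((b : H) : G) * g⁻¹)
        simp only [Subgroup.coe_mul]; group) }
  exact isCyclic_of_injective f fun a b e =>
    Subtype.ext (Subtype.ext (mul_left_cancel (mul_right_cancel (congrArg Subtype.val e))))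

theorem main : ∀ (n : ℕ) {G : Type u} [Group G] [Finite G] (P : Sylow p G), Nat.card G = n →
    IsCyclic P → (∀ H : Subgroup G, ¬ p ∣ Nat.card H → IsMulCommutative H) →
    Cfsg.HasNormalPComplement p G ∨ (P : Subgroup G).Normal := by
  intro n
  induction n using Nat.strong_induction_on with
  | _ n ih =>
  intro G _ _ P hn hcyc hab
  subst hn
  have halt : ∀ H : Subgroup G, H ≠ ⊤ → Alt p H := by
    intro H hH
    obtain ⟨Q⟩ : Nonempty (Sylow p H) := inferInstance
    refine alt_of_or ((ih _ ?_ Q rfl (isCyclic_sylow P hcyc Q) fun K hK => ?_).imp_right fun h => ⟨Q, h⟩)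
    · exact lt_of_le_of_ne (Nat.le_of_dvd Nat.card_pos H.card_subgroup_dvd_card)
        fun e => hH (Subgroup.eq_top_of_card_eq H e)
    · have := hab (K.map H.subtype) (by rwa [Subgroup.card_map_of_injective H.subtype_injective])
      refine ⟨⟨fun a b => Subtype.ext (Subtype.ext ?_)⟩⟩
      have h := congrArg Subtype.val (this.is_comm.comm
        ⟨_, Subgroup.mem_map_of_mem H.subtype a.2⟩ ⟨_, Subgroup.mem_map_of_mem H.subtype b.2⟩)
      simpa using h
  -- conjugates of elements of `P` inside its normaliser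
  have hnorm : ∀ M : Subgroup G, M.Normal → (P : Subgroup G) ≤ M →
      M ≤ Subgroup.normalizer ((P : Subgroup G) : Set G) → (P : Subgroup G).Normal := by
    intro M hM hPM hMN
    refine ⟨fun a ha g => mem_P_of_normalizer (hMN (hM.conj_mem a (hPM ha) g)) ?_⟩
    obtain ⟨k, hk⟩ := isPEl_mem_P P ha
    exact ⟨k, by rw [orderOf_conj, hk]⟩
  by_cases hB : Subgroup.normalizer ((P : Subgroup G) : Set G) ≤ Subgroup.centralizer ((P : Subgroup G) : Set G)
  · exact Or.inl (Transfer.hasNormalPComplement_of_isComplement' P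
      (MonoidHom.ker_transferSylow_isComplement' P hB))
  obtain ⟨l, hlN, hlp, y0, hy0, hly0⟩ : ∃ l ∈ Subgroup.normalizer ((P : Subgroup G) : Set G), ¬ p ∣ orderOf l ∧
      ∃ y ∈ (P : Subgroup G), l * y * l⁻¹ ≠ y := by
    obtain ⟨a, haN, haC⟩ := SetLike.not_le_iff_exists.1 hB
    obtain ⟨i, j, hij, hi, hj⟩ := split (p := p) a
    refine ⟨a ^ j, pow_mem haN j, hj, ?_⟩
    by_contra hcon
    push Not at hcon
    apply haC
    rw [Subgroup.mem_centralizer_iff]
    intro y hy
    have h1 : a ^ i ∈ (P : Subgroup G) := mem_P_of_normalizer (pow_mem haN i) hi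
    have h2 : y * a ^ i = a ^ i * y :=
      congrArg Subtype.val (hcyc.commGroup.mul_comm (⟨y, hy⟩ : P) ⟨_, h1⟩)
    have h3 := mul_inv_eq_iff_eq_mul.1 (hcon y hy)
    rw [← hij, ← mul_assoc, h2, mul_assoc, ← h3, mul_assoc]
  have hsplit : (∀ y ∈ (P : Subgroup G), l * y * l⁻¹ = y → y = 1) ∧
      ∀ y ∈ (P : Subgroup G), ∃ e ∈ (P : Subgroup G), y = l * e * l⁻¹ * e⁻¹ :=
    (coprime_dichotomy P.isPGroup' hcyc hlp hlN).resolve_left fun h => hly0 (h y0 hy0)
  -- a normal subgroup of order prime to `p`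
  by_cases hi : ∃ M : Subgroup G, M.Normal ∧ M ≠ ⊥ ∧ ¬ p ∣ Nat.card M
  · obtain ⟨M, hM, hM1, hMp⟩ := hi
    have hlM : ∀ a ∈ M, l * a * l⁻¹ = a := by
      intro a ha
      have hc := hab _ (not_dvd_sup hlp hMp (by rw [Subgroup.normalizer_eq_top]; trivial))
      refine mul_inv_eq_iff_eq_mul.2 ?_
      exact congrArg Subtype.val (hc.is_comm.comm
        ⟨l, Subgroup.mem_sup_left (Subgroup.mem_zpowers l)⟩ ⟨a, Subgroup.mem_sup_right ha⟩)
    have hPM : ∀ y ∈ (P : Subgroup G), ∀ m ∈ M, y * m * y⁻¹ = m := by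
      intro y hy m hm
      obtain ⟨e, -, rfl⟩ := hsplit.2 y hy
      exact comm_of_commutator hlM hm
    have hsurj : Function.Surjective (QuotientGroup.mk' M) := QuotientGroup.mk'_surjective M
    have hlt : Nat.card (G ⧸ M) < Nat.card G := by
      rw [← Subgroup.index_eq_card]
      have h2 := M.card_mul_index
      have h3 : 1 < Nat.card M := (Subgroup.one_lt_card_iff_ne_bot M).2 hM1
      have h4 : 0 < M.index := Nat.pos_of_ne_zero Subgroup.index_ne_zero_of_finite
      calc M.index = 1 * M.index := (one_mul _).symm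
        _ < Nat.card M * M.index := Nat.mul_lt_mul_of_pos_right h3 h4
        _ = _ := h2
    have hc2 : IsCyclic (P.mapSurjective hsurj) := by
      have : IsCyclic ((P : Subgroup G).map (QuotientGroup.mk' M)) :=
        isCyclic_of_surjective ((QuotientGroup.mk' M).subgroupMap (P : Subgroup G))
          (MonoidHom.subgroupMap_surjective _ _)
      exact this
    have hab2 : ∀ H : Subgroup (G ⧸ M), ¬ p ∣ Nat.card H → IsMulCommutative H := by
      intro H hH
      have hK : ¬ p ∣ Nat.card (H.comap (QuotientGroup.mk' M)) := by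
        intro hd
        obtain ⟨a, ha⟩ := exists_prime_orderOf_dvd_card' p hd
        rw [← Subgroup.orderOf_coe] at ha
        rcases (Nat.dvd_prime hp.out).1 (ha ▸ orderOf_map_dvd (QuotientGroup.mk' M) (a : G)) with h1 | h1
        · have haM : (a : G) ∈ M := (QuotientGroup.eq_one_iff _).1 (orderOf_eq_one_iff.1 h1)
          exact hMp (ha ▸ Subgroup.orderOf_dvd_natCard _ haM)
        · exact hH (h1 ▸ Subgroup.orderOf_dvd_natCard _ (Subgroup.mem_comap.1 a.2))
      have := hab _ hK
      refine ⟨⟨fun a b => ?_⟩⟩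
      obtain ⟨a', ha'⟩ := hsurj a
      obtain ⟨b', hb'⟩ := hsurj b
      have e := congrArg Subtype.val (this.is_comm.comm
        ⟨a', show QuotientGroup.mk' M a' ∈ H from ha' ▸ a.2⟩ ⟨b', show QuotientGroup.mk' M b' ∈ H from hb' ▸ b.2⟩)
      refine Subtype.ext ?_
      have e' := congrArg (QuotientGroup.mk' M) e
      simp only [Subgroup.coe_mul, map_mul] at e' ⊢
      rw [← ha', ← hb']
      exact e'
    rcases ih _ hlt (P.mapSurjective hsurj) rfl hc2 hab2 with h | h
    · exact Or.inl (Transfer.hasNormalPComplement_of_quotient (hp.out.coprime_iff_not_dvd.2 hMp).symm h)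
    · refine Or.inr (hnorm (((P : Subgroup G).map (QuotientGroup.mk' M)).comap (QuotientGroup.mk' M)) ?_
        (Subgroup.le_comap_map _ _) ?_)
      · rw [Sylow.coe_mapSurjective] at h
        exact h.comap _
      · rw [Subgroup.comap_map_eq, QuotientGroup.ker_mk']
        refine sup_le Subgroup.le_normalizer fun m hm => Subgroup.mem_normalizer_iff.2 fun y => ?_
        constructor
        · intro hy
          rwa [show m * y * m⁻¹ = y from mul_inv_eq_iff_eq_mul.2 (mul_inv_eq_iff_eq_mul.1 (hPM y hy m hm)).symm]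
        · intro hy
          have h2 := mul_inv_eq_iff_eq_mul.1 (hPM _ hy m hm)
          have h3 : m * (m * y * m⁻¹) = m * y := by rw [← h2]; group
          rwa [← mul_left_cancel h3]
  -- a normal `p`-subgroup
  by_cases hii : ∃ Q : Subgroup G, Q.Normal ∧ Q ≠ ⊥ ∧ IsPGroup p Q
  · obtain ⟨Q, hQ, hQ1, hQp⟩ := hii
    have hQP : Q ≤ (P : Subgroup G) := fun a ha => mem_P_of_normalizer
      (by
        rw [Subgroup.mem_normalizer_iff]
        have : Q ≤ (P : Subgroup G) :=
          le_sup_right.trans (P.is_maximal' (P.isPGroup'.to_sup_of_normal_right hQp) le_sup_left).le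
        exact fun y => Subgroup.mem_normalizer_iff.1 (Subgroup.le_normalizer (this ha)) y)
      (IsPEl.mk' hQp ha)
    have hC : (Subgroup.centralizer (Q : Set G)).Normal := inferInstance
    have hPC : (P : Subgroup G) ≤ Subgroup.centralizer (Q : Set G) := fun a ha => by
      rw [Subgroup.mem_centralizer_iff]
      exact fun q hq => congrArg Subtype.val (hcyc.commGroup.mul_comm (⟨q, hQP hq⟩ : P) ⟨a, ha⟩)
    have hne : Subgroup.centralizer (Q : Set G) ≠ ⊤ := by
      intro e
      refine hQ1 (Q.eq_bot_iff_forall.2 fun q hq => hsplit.1 q (hQP hq) ?_)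
      have h1 : l ∈ Subgroup.centralizer (Q : Set G) := e ▸ Subgroup.mem_top l
      rw [← Subgroup.mem_centralizer_iff.1 h1 q hq, mul_inv_cancel_right]
    rcases halt _ hne with ⟨K, hKC, -, hKp, hKmem, k, hk⟩ | ⟨Q', hQ'C, hQ'p, hCN, hQ'mem⟩
    · have hKn : K.Normal := ⟨fun a ha g => hKmem _ (hC.conj_mem a (hKC ha) g) (by
        rw [orderOf_conj]; exact fun hd => hKp (hd.trans (Subgroup.orderOf_dvd_natCard _ ha)))⟩
      have hK1 : K = ⊥ := by
        by_contra h
        exact hi ⟨K, hKn, h, hKp⟩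
      rw [hK1, Subgroup.card_bot, one_mul] at hk
      exact Or.inr (hnorm _ hC hPC
        (((P.is_maximal' (IsPGroup.of_card hk) hPC).le).trans Subgroup.le_normalizer))
    · have e := P.is_maximal' hQ'p fun a ha => hQ'mem a (hPC ha) (isPEl_mem_P P ha)
      exact Or.inr (hnorm _ hC hPC (e ▸ hCN))
  -- otherwise `G` is simple
  by_cases hPT : (P : Subgroup G) = ⊤
  · exact Or.inr (by rw [hPT]; infer_instance)
  have hnt : Nontrivial G := ⟨⟨_, _, hly0⟩⟩
  have hsimple : IsSimpleGroup G := ⟨fun M hM => by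
    by_contra hcon
    push Not at hcon
    rcases halt M hcon.2 with ⟨K, hKM, -, hKp, hKmem, k, hk⟩ | ⟨Q, hQM, hQp, -, hQmem⟩
    · have hKn : K.Normal := ⟨fun a ha g => hKmem _ (hM.conj_mem a (hKM ha) g) (by
        rw [orderOf_conj]; exact fun hd => hKp (hd.trans (Subgroup.orderOf_dvd_natCard _ ha)))⟩
      have hK1 : K = ⊥ := by
        by_contra h
        exact hi ⟨K, hKn, h, hKp⟩
      rw [hK1, Subgroup.card_bot, one_mul] at hk
      exact hii ⟨M, hM, hcon.1, IsPGroup.of_card hk⟩
    · have hQn : Q.Normal := ⟨fun a ha g => hQmem _ (hM.conj_mem a (hQM ha) g) (by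
        obtain ⟨k, hk⟩ := IsPEl.mk' hQp ha
        exact ⟨k, by rw [orderOf_conj, hk]⟩)⟩
      refine hi ⟨M, hM, hcon.1, fun hd => hii ⟨Q, hQn, ?_, hQp⟩⟩
      intro h
      exact not_dvd_card_of_forall (fun a ha hap => Subgroup.mem_bot.1 (h ▸ hQmem a ha hap)) hd⟩
  have hdvd : p ∣ Nat.card G := by
    by_contra h
    refine hly0 ?_
    have : y0 = 1 := (isPEl_mem_P P hy0).eq_one fun hd => h (hd.trans (orderOf_dvd_natCard y0))
    rw [this]; group
  exact (false_of_setting (P := P)
    ⟨hsimple, hcyc, hdvd, hPT, hab, ⟨l, hlN, hlp, y0, hy0, hly0⟩, halt⟩).elim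


/-- Let G be a finite group and p a prime such that a Sylow p-subgroup P of G is cyclic and every subgroup of G of order prime to p is abelian. Then G has a normal p-complement or P is normal in G. -/
theorem result {G : Type*} [Group G] [Finite G] {p : ℕ}
    [Fact p.Prime] (P : Sylow p G) (hcyc : IsCyclic P)
    (hab : ∀ H : Subgroup G, ¬ p ∣ Nat.card H → IsMulCommutative H) :
    Cfsg.HasNormalPComplement p G ∨ (P : Subgroup G).Normal := by
  exact main _ P rfl hcyc hab

end Cfsg.Agent.S4016
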