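import Cfsg.Statements.S4025
import Cfsg.Agent.PLocal.CGroupAffine
-- import your own Cfsg.Agent.* helpers here

set_option autoImplicit false
open Cfsg

namespace Cfsg.Agent.S4025

/-- Let p be a prime and G a finite group in which any two p-subgroups of the same order are conjugate, and suppose a Sylow p-subgroup P of G is elementary abelian of order pⁿ with n ≥ 3. Let N be the normalizer of P and K the largest normal subgroup of N of order prime to p, and assume N/K is solvable. Then either n = 3 and N/K embeds in the one-dimensional semi-affine group over the field with p³ elements (and for p = 2 it is isomorphic to the affine or the semi-affine group over the field with 8 elements), or n = 5, p = 2 and N/K is isomorphic to the one-dimensional semi-affine group over the field with 32 elements. -/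
theorem result {G : Type*} [Group G] [Finite G]
    {p : ℕ} [Fact p.Prime] (hC : ∀ H K : Subgroup G, IsPGroup p H → IsPGroup p K → Nat.card H = Nat.card K →
      ∃ g : G, K = H.map (MulAut.conj g).toMonoidHom) (P : Sylow p G) (n : ℕ) (hn : 3 ≤ n)
    (hel : Cfsg.IsElementaryAbelian p (P : Subgroup G)) (hcard : Nat.card P = p ^ n)
    (N : Subgroup G) (hN : N = Subgroup.normalizer ((P : Subgroup G) : Set G))
    (hsolv : Group.IsSolvable (↥N ⧸ Cfsg.pPrimeCore p ↥N)) :
    (n = 3 ∧ (∃ f : ↥N ⧸ Cfsg.pPrimeCore p ↥N →* ↥(Cfsg.semiaffineGroup (GaloisField p 3)), Function.Injective f) ∧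
      (p = 2 → Nonempty (↥N ⧸ Cfsg.pPrimeCore p ↥N ≃* Cfsg.semiaffineGroup (GaloisField 2 3)) ∨
               Nonempty (↥N ⧸ Cfsg.pPrimeCore p ↥N ≃* Cfsg.affineGroup (GaloisField 2 3)))) ∨
    (n = 5 ∧ p = 2 ∧ Nonempty (↥N ⧸ Cfsg.pPrimeCore p ↥N ≃* Cfsg.semiaffineGroup (GaloisField 2 5))) := by
  classical
  subst hN
  haveI : (Cfsg.pPrimeCore p ↥(Subgroup.normalizer ((P : Subgroup G) : Set G))).Normal := inferInstance
  set N := Subgroup.normalizer ((P : Subgroup G) : Set G) with hN
  set O := Cfsg.pPrimeCore p ↥N with hO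
  have hPN : (P : Subgroup G) ≤ N := Subgroup.le_normalizer
  set P₁ := (P : Subgroup G).subgroupOf N with hP₁
  haveI hP₁n : P₁.Normal := Subgroup.normal_in_normalizer
  have hp : p.Prime := Fact.out
  have hcardP₁ : Nat.card P₁ = p ^ n := by
    rw [hP₁, Nat.card_congr (Subgroup.subgroupOfEquivOfLe hPN).toEquiv]; exact hcard
  have hidx : ¬ p ∣ P₁.index := by
    intro hd
    exact P.not_dvd_index (hd.trans (Subgroup.relIndex_dvd_index_of_le hPN))
  have hP₁c : ∀ a ∈ P₁, ∀ b ∈ P₁, a * b = b * a := fun a ha b hb =>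
    Subtype.ext (congrArg Subtype.val (hel.1.is_comm.comm ⟨(a : G), ha⟩ ⟨(b : G), hb⟩) :)
  have hOcop : (Nat.card O).Coprime p := Agent.Core.card_pPrimeCore_coprime p _
  have hdis : P₁ ⊓ O = ⊥ := Subgroup.inf_eq_bot_of_coprime
    (hcardP₁ ▸ (hOcop.symm.pow_left n))
  set π : ↥N →* ↥N ⧸ O := QuotientGroup.mk' O with hπ
  have hπinj : ∀ a ∈ P₁, π a = 1 → a = 1 := fun a ha h =>
    Subgroup.mem_bot.1 (hdis ▸ ⟨ha, (QuotientGroup.eq_one_iff a).1 h⟩)
  set A := P₁.map π with hA
  haveI hAn : A.Normal := hP₁n.map π (QuotientGroup.mk'_surjective O)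
  have hAc : IsMulCommutative A := ⟨⟨by
    rintro ⟨_, a, ha, rfl⟩ ⟨_, b, hb, rfl⟩
    exact Subtype.ext (by
      show π a * π b = π b * π a
      rw [← map_mul, ← map_mul, hP₁c a ha b hb])⟩⟩
  have hAe : ∀ a ∈ A, a ^ p = 1 := by
    rintro _ ⟨a, ha, rfl⟩
    have h1 : a ^ p = 1 := Subtype.ext (hel.2 _ ha)
    rw [← map_pow, h1, map_one]
  have hinjOn : Function.Injective (π.comp P₁.subtype) := (injective_iff_map_eq_one _).2
    fun a h => Subtype.ext (hπinj a a.2 h)
  have hcardA : Nat.card A = p ^ n := by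
    rw [hA, ← hcardP₁, Nat.card_congr (MonoidHom.ofInjective hinjOn).toEquiv]
    congr 1
    rw [MonoidHom.range_comp, Subgroup.range_subtype]
  have hAcop : (Nat.card A).Coprime A.index := by
    rw [hcardA]
    refine (hp.coprime_iff_not_dvd.2 fun hd => hidx (hd.trans ?_)).pow_left n
    exact Subgroup.index_map_dvd _ (QuotientGroup.mk'_surjective O)
  have hself : Subgroup.centralizer (A : Set (↥N ⧸ O)) ≤ A := by
    intro u hu
    obtain ⟨a, rfl⟩ := QuotientGroup.mk'_surjective O u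
    set C := Subgroup.centralizer (P₁ : Set ↥N) with hC'
    have haC : a ∈ C := by
      refine Subgroup.mem_centralizer_iff.2 fun b hb => ?_
      have h := Subgroup.mem_centralizer_iff.1 hu (π b) ⟨b, hb, rfl⟩
      have hm : b * a * (a * b)⁻¹ ∈ P₁ := by
        have := mul_mem hb (hP₁n.conj_mem _ (inv_mem hb) a)
        simpa [mul_assoc] using this
      have h1 := hπinj _ hm (by
        rw [map_mul, map_inv, map_mul, map_mul]
        exact mul_inv_eq_one.2 h)
      exact mul_inv_eq_one.1 h1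
    haveI hCn : C.Normal := inferInstance
    have hPC : P₁ ≤ C := fun x hx => Subgroup.mem_centralizer_iff.2 fun b hb => hP₁c b hb x hx
    haveI : (P₁.subgroupOf C).Normal := inferInstance
    have hcop : (Nat.card (P₁.subgroupOf C)).Coprime (P₁.subgroupOf C).index := by
      rw [Nat.card_congr (Subgroup.subgroupOfEquivOfLe hPC).toEquiv, hcardP₁]
      exact (hp.coprime_iff_not_dvd.2 fun hd =>
        hidx (hd.trans (Subgroup.relIndex_dvd_index_of_le hPC))).pow_left n
    obtain ⟨D, hD⟩ := Subgroup.exists_right_complement'_of_coprime hcop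
    have hDcard : Nat.card D = (P₁.subgroupOf C).index := hD.symm.index_eq_card.symm
    have hDp : ¬ p ∣ Nat.card D := by
      rw [hDcard]
      exact fun hd => hidx (hd.trans (Subgroup.relIndex_dvd_index_of_le hPC))
    have hdec : ∀ c : C, ∃ v : C, ∃ d ∈ D, (v : ↥N) ∈ P₁ ∧ c = v * d := fun c => by
      obtain ⟨⟨v, d⟩, h⟩ := hD.surjective c
      exact ⟨v, d, d.2, v.2, h.symm⟩
    set D' := D.map C.subtype with hD'
    have hD'n : D'.Normal := by
      refine ⟨?_⟩
      rintro _ ⟨d, hd, rfl⟩ g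
      obtain ⟨v, d', hd', hv, heq⟩ := hdec ⟨g * (d : ↥N) * g⁻¹, hCn.conj_mem _ d.2 g⟩
      set m := Nat.card D with hm
      have hdm : ∀ e ∈ D, e ^ m = 1 := fun e he => by
        have := congrArg Subtype.val (pow_card_eq_one' (x := (⟨e, he⟩ : D)))
        exact this
      have hcom : Commute (v : ↥N) (d' : ↥N) :=
        Subgroup.mem_centralizer_iff.1 d'.2 v hv
      have h2 : (g * (d : ↥N) * g⁻¹) ^ m = 1 := by
        rw [conj_pow, ← Subgroup.coe_pow, hdm d hd, OneMemClass.coe_one, mul_one, mul_inv_cancel]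
      have h3 : (v : ↥N) ^ m = 1 := by
        have h4 : g * (d : ↥N) * g⁻¹ = (v : ↥N) * d' := congrArg Subtype.val heq
        rw [h4, hcom.mul_pow, ← SubmonoidClass.coe_pow d', hdm d' hd', OneMemClass.coe_one, mul_one] at h2
        exact h2
      have h5 : (v : ↥N) ^ p = 1 := Subtype.ext (hel.2 _ hv)
      have h6 : (v : ↥N) = 1 := by
        have h7 := pow_gcd_eq_one.2 ⟨h3, h5⟩
        rwa [Nat.Coprime.gcd_eq_one ((hp.coprime_iff_not_dvd.2 hDp).symm), pow_one] at h7
      refine ⟨d', hd', ?_⟩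
      show (d' : ↥N) = g * (d : ↥N) * g⁻¹
      rw [show g * (d : ↥N) * g⁻¹ = (v : ↥N) * d' from congrArg Subtype.val heq, h6, one_mul]
    have hD'O : D' ≤ O := Agent.Core.le_pPrimeCore hD'n (by
      rw [hD', Subgroup.card_map_of_injective C.subtype_injective]
      exact (hp.coprime_iff_not_dvd.2 hDp).symm)
    obtain ⟨v, d, hd, hv, heq⟩ := hdec ⟨a, haC⟩
    refine ⟨(v : ↥N), hv, ?_⟩
    show π (v : ↥N) = π a
    rw [show a = (v : ↥N) * d from congrArg Subtype.val heq, map_mul,
      show π (d : ↥N) = 1 from (QuotientGroup.eq_one_iff _).2 (hD'O ⟨d, hd, rfl⟩), mul_one]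
  have htr : ∀ B B' : Subgroup (↥N ⧸ O), B ≤ A → B' ≤ A → Nat.card B = Nat.card B' →
      ∃ q : ↥N ⧸ O, B' = B.map (MulAut.conj q).toMonoidHom := by
    intro B B' hB hB' hBB
    let low : Subgroup (↥N ⧸ O) → Subgroup G := fun X => (P₁ ⊓ X.comap π).map N.subtype
    have hlowP : ∀ X, low X ≤ (P : Subgroup G) := by
      rintro X _ ⟨x, hx, rfl⟩
      exact hx.1
    have hlowc : ∀ X, X ≤ A → Nat.card (low X) = Nat.card X := by
      intro X hX
      rw [Subgroup.card_map_of_injective N.subtype_injective]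
      refine Nat.card_congr (Equiv.ofBijective
        (fun x : ↥(P₁ ⊓ X.comap π) => (⟨π x, x.2.2⟩ : X)) ⟨?_, ?_⟩)
      · intro x y hxy
        have h := @hinjOn ⟨(x : ↥N), x.2.1⟩ ⟨(y : ↥N), y.2.1⟩ (congrArg Subtype.val hxy)
        exact Subtype.ext (congrArg Subtype.val h :)
      · rintro ⟨_, hx⟩
        obtain ⟨a, ha, rfl⟩ := hX hx
        exact ⟨⟨a, ha, hx⟩, rfl⟩
    obtain ⟨g, hg⟩ := hC (low B) (low B') (P.isPGroup'.to_le (hlowP B))
      (P.isPGroup'.to_le (hlowP B')) (by rw [hlowc B hB, hlowc B' hB', hBB])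
    -- Burnside: the conjugation can be made inside the normalizer
    obtain ⟨g', hg'N, hg'⟩ : ∃ g' ∈ N, low B' = (low B).map (MulAut.conj g').toMonoidHom := by
      set Z := Subgroup.centralizer ((low B' : Subgroup G) : Set G) with hZ
      have h1 : (P : Subgroup G) ≤ Z := fun x hx => Subgroup.mem_centralizer_iff.2 fun y hy =>
        congrArg Subtype.val (hel.1.is_comm.comm ⟨y, hlowP B' hy⟩ ⟨x, hx⟩)
      have h2 : ((g • P : Sylow p G) : Subgroup G) ≤ Z := by
        intro x hx
        rw [Sylow.coe_subgroup_smul, Subgroup.mem_pointwise_smul_iff_inv_smul_mem] at hx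
        refine Subgroup.mem_centralizer_iff.2 fun y hy => ?_
        rw [hg] at hy
        obtain ⟨b, hb, rfl⟩ := hy
        have hc := congrArg Subtype.val (hel.1.is_comm.comm ⟨b, hlowP B hb⟩ ⟨_, hx⟩)
        simp only [Subgroup.coe_mul, MulAut.smul_def, ← map_inv, MulAut.conj_apply, inv_inv] at hc
        show (g * b * g⁻¹) * x = x * (g * b * g⁻¹)
        calc (g * b * g⁻¹) * x = g * (b * (g⁻¹ * x * g)) * g⁻¹ := by group
          _ = g * ((g⁻¹ * x * g) * b) * g⁻¹ := by rw [hc]
          _ = x * (g * b * g⁻¹) := by group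
      obtain ⟨c, hc⟩ := MulAction.exists_smul_eq ↥Z ((g • P : Sylow p G).subtype h2) (P.subtype h1)
      rw [Sylow.smul_subtype] at hc
      have hc' : (c : G) • (g • P) = P := Sylow.subtype_injective hc
      refine ⟨(c : G) * g, ?_, ?_⟩
      · exact Sylow.smul_eq_iff_mem_normalizer.1 (by rw [mul_smul]; exact hc')
      · have hfix : ∀ y ∈ low B', (c : G) * y * (c : G)⁻¹ = y := fun y hy => by
          rw [← Subgroup.mem_centralizer_iff.1 c.2 y hy, mul_inv_cancel_right]
        ext y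
        constructor
        · intro hy
          have hy2 := hy
          rw [hg] at hy2
          obtain ⟨b, hb, rfl⟩ := hy2
          refine ⟨b, hb, ?_⟩
          show (c : G) * g * b * ((c : G) * g)⁻¹ = g * b * g⁻¹
          have h' := hfix (g * b * g⁻¹) hy
          rw [← h']
          group
        · rintro ⟨b, hb, rfl⟩
          have hy : g * b * g⁻¹ ∈ low B' := hg ▸ ⟨b, hb, rfl⟩
          show (c : G) * g * b * ((c : G) * g)⁻¹ ∈ low B'
          have : (c : G) * g * b * ((c : G) * g)⁻¹ = (c : G) * (g * b * g⁻¹) * (c : G)⁻¹ := by group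
          rw [this, hfix _ hy]; exact hy
    refine ⟨π ⟨g', hg'N⟩, (Subgroup.eq_of_le_of_card_ge ?_ ?_).symm⟩
    · rintro _ ⟨x, hx, rfl⟩
      obtain ⟨a, ha, rfl⟩ := hB hx
      have hmem : g' * (a : G) * g'⁻¹ ∈ low B' := hg' ▸ ⟨(a : G), ⟨a, ⟨ha, hx⟩, rfl⟩, rfl⟩
      obtain ⟨b, hb, hb'⟩ := hmem
      show π ⟨g', hg'N⟩ * π a * (π ⟨g', hg'N⟩)⁻¹ ∈ B'
      have hb2 : π b ∈ B' := hb.2
      rwa [show b = ⟨g', hg'N⟩ * a * ⟨g', hg'N⟩⁻¹ from Subtype.ext hb', map_mul, map_mul,
        map_inv] at hb2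
    · rw [Subgroup.card_map_of_injective (MulAut.conj (π ⟨g', hg'N⟩)).injective, hBB]
  exact Agent.PLocal.CGroupAffine.main A hAc hAe hn hcardA hAcop hself hsolv htr

end Cfsg.Agent.S4025
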