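import Cfsg.Statements.S4364
import Cfsg.Agent.FGS4.Kazarin
import Cfsg.Agent.Core.MinimalNormal

set_option autoImplicit false
open Cfsg

namespace Cfsg.Agent.S4364

open Subgroup

universe u

/-- An element with `p`-power class lies in the solvable radical. -/
theorem mem_radical {G : Type u} [Group G] [Finite G] (p : ℕ) (hp : p.Prime) (x : G)
    (hx : ∃ a : ℕ, (Subgroup.centralizer ({x} : Set G)).index = p ^ a) :
    x ∈ Components.solvableRadical G := by
  set R := Components.solvableRadical G with hR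
  haveI : Group.IsSolvable R := Components.solvableRadical_isSolvable
  have hbot : Components.solvableRadical (G ⧸ R) = ⊥ := by
    set S := Components.solvableRadical (G ⧸ R) with hS
    haveI : Group.IsSolvable S := Components.solvableRadical_isSolvable
    haveI : Group.IsSolvable (S.comap (QuotientGroup.mk' R)) := by
      refine Group.isSolvable_of_ker_le_range (Subgroup.inclusion (H := R) ?_)
        ((QuotientGroup.mk' R).subgroupComap S) ?_
      · intro z hz
        rw [mem_comap, QuotientGroup.mk'_apply, (QuotientGroup.eq_one_iff (N := R) z).mpr hz]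
        exact one_mem _
      · rintro ⟨z, hz⟩ hker
        exact ⟨⟨z, (QuotientGroup.eq_one_iff (N := R) z).mp (congrArg Subtype.val hker)⟩, rfl⟩
    have := Components.le_solvableRadical (G := G) (N := S.comap (QuotientGroup.mk' R)) inferInstance
      inferInstance
    rw [eq_bot_iff]
    intro s hs
    obtain ⟨z, rfl⟩ := QuotientGroup.mk'_surjective R s
    rw [Subgroup.mem_bot]
    exact (QuotientGroup.eq_one_iff z).mpr (this hs)
  refine (QuotientGroup.eq_one_iff x).mp (FGS4.Kazarin.eq_one_of_radical hbot p hp (x : G ⧸ R) ?_)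
  obtain ⟨a, ha⟩ := hx
  have hle : (Subgroup.centralizer ({x} : Set G)).map (QuotientGroup.mk' R) ≤
      Subgroup.centralizer ({(x : G ⧸ R)} : Set (G ⧸ R)) := by
    rintro _ ⟨z, hz, rfl⟩
    rw [Subgroup.mem_centralizer_singleton_iff]
    change ((z * x : G) : G ⧸ R) = ((x * z : G) : G ⧸ R)
    rw [Subgroup.mem_centralizer_singleton_iff.mp hz]
  obtain ⟨b, -, hb⟩ := (Nat.dvd_prime_pow hp).mp (ha ▸ (index_dvd_of_le hle).trans
    (Subgroup.index_map_dvd _ (QuotientGroup.mk'_surjective R)))
  exact ⟨b, hb⟩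

/-- If moreover `O_p(G) = 1`, then `x` is central in the Fitting subgroup. -/
theorem mem_fitting {G : Type u} [Group G] [Finite G] (p : ℕ) [hp : Fact p.Prime]
    (hO : Cfsg.pCore p G = ⊥) (x : G)
    (hx : ∃ a : ℕ, (Subgroup.centralizer ({x} : Set G)).index = p ^ a) :
    x ∈ Subgroup.centralizer (Cfsg.fittingSubgroup G : Set G) ∧ x ∈ Cfsg.fittingSubgroup G := by
  obtain ⟨a, ha⟩ := hx
  have hcent : Cfsg.fittingSubgroup G ≤ Subgroup.centralizer ({x} : Set G) := by
    rw [Core.fittingSubgroup_eq_iSup]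
    refine iSup_le fun q => ?_
    haveI := Fact.mk q.2
    by_cases hqp : (q : ℕ) = p
    · rw [hqp, hO]; exact bot_le
    obtain ⟨S⟩ := (inferInstance : Nonempty (Sylow q (Subgroup.centralizer ({x} : Set G))))
    have hi : ¬ (q : ℕ) ∣ ((S : Subgroup (Subgroup.centralizer ({x} : Set G))).map
        (Subgroup.centralizer ({x} : Set G)).subtype).index := by
      rw [index_map_subtype]
      exact q.2.not_dvd_mul S.not_dvd_index (ha ▸ fun h =>
        hqp ((Nat.prime_dvd_prime_iff_eq q.2 hp.out).mp (q.2.dvd_of_dvd_pow h)))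
    let S' := (S.2.map (Subgroup.centralizer ({x} : Set G)).subtype).toSylow hi
    haveI : (Cfsg.pCore (q : ℕ) G).Normal := inferInstance
    refine le_trans ?_ (map_subtype_le (S : Subgroup (Subgroup.centralizer ({x} : Set G))))
    exact le_sup_left.trans (S'.is_maximal'
      ((Core.isPGroup_pCore (q : ℕ) G).to_sup_of_normal_left S'.2) le_sup_right).le
  have hxC : x ∈ Subgroup.centralizer (Cfsg.fittingSubgroup G : Set G) := by
    rw [Subgroup.mem_centralizer_iff]
    exact fun z hz => Subgroup.mem_centralizer_singleton_iff.mp (hcent hz)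
  refine ⟨hxC, ?_⟩
  haveI : Group.IsSolvable (Components.solvableRadical G) := Components.solvableRadical_isSolvable
  haveI : Group.IsSolvable (Components.solvableRadical G ⊓
      Subgroup.centralizer (Cfsg.fittingSubgroup G : Set G) : Subgroup G) :=
    Group.isSolvable_of_isSolvable_injective (Subgroup.inclusion_injective inf_le_left)
  exact Core.le_fittingSubgroup_of_le_centralizer inferInstance inferInstance inf_le_right
    ⟨mem_radical p hp.out x ⟨a, ha⟩, hxC⟩

theorem commutator_conj_mem {G : Type u} [Group G] [Finite G] (p : ℕ) [hp : Fact p.Prime] (x : G)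
    (hx : ∃ a : ℕ, (Subgroup.centralizer ({x} : Set G)).index = p ^ a) (g h : G) :
    (g * x * g⁻¹) * (h * x * h⁻¹) * (g * x * g⁻¹)⁻¹ * (h * x * h⁻¹)⁻¹ ∈ Cfsg.pCore p G := by
  set O := Cfsg.pCore p G with hO
  obtain ⟨a, ha⟩ := hx
  have hbot : Cfsg.pCore p (G ⧸ O) = ⊥ := by
    set S := Cfsg.pCore p (G ⧸ O) with hS
    have hp' : IsPGroup p (S.comap (QuotientGroup.mk' O)) :=
      (Core.isPGroup_pCore p (G ⧸ O)).comap_of_ker_isPGroup _
        (by rw [QuotientGroup.ker_mk']; exact Core.isPGroup_pCore p G)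
    have := Core.le_pCore (inferInstance : (S.comap (QuotientGroup.mk' O)).Normal) hp'
    rw [eq_bot_iff]
    intro s hs
    obtain ⟨z, rfl⟩ := QuotientGroup.mk'_surjective O s
    rw [Subgroup.mem_bot]
    exact (QuotientGroup.eq_one_iff z).mpr (this hs)
  have hle : (Subgroup.centralizer ({x} : Set G)).map (QuotientGroup.mk' O) ≤
      Subgroup.centralizer ({(x : G ⧸ O)} : Set (G ⧸ O)) := by
    rintro _ ⟨z, hz, rfl⟩
    rw [Subgroup.mem_centralizer_singleton_iff]
    change ((z * x : G) : G ⧸ O) = ((x * z : G) : G ⧸ O)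
    rw [Subgroup.mem_centralizer_singleton_iff.mp hz]
  obtain ⟨b, -, hb⟩ := (Nat.dvd_prime_pow hp.out).mp (ha ▸ (index_dvd_of_le hle).trans
    (Subgroup.index_map_dvd _ (QuotientGroup.mk'_surjective O)))
  obtain ⟨h1, h2⟩ := mem_fitting p hbot (x : G ⧸ O) ⟨b, hb⟩
  have hF : (Cfsg.fittingSubgroup (G ⧸ O)).Normal := inferInstance
  have hC : (Subgroup.centralizer (Cfsg.fittingSubgroup (G ⧸ O) : Set (G ⧸ O))).Normal := inferInstance
  have e := Subgroup.mem_centralizer_iff.mp (hC.conj_mem _ h1 (g : G ⧸ O)) _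
    (hF.conj_mem _ h2 (h : G ⧸ O))
  rw [← QuotientGroup.eq_one_iff]
  simp only [QuotientGroup.mk_mul, QuotientGroup.mk_inv]
  rw [mul_inv_eq_one, mul_inv_eq_iff_eq_mul]
  exact e.symm


/-- Let G be a finite group, p a prime and x an element whose conjugacy class has p-power size. Then for any two conjugates y and z of x, the commutator y z y⁻¹ z⁻¹ lies in O_p(G), the largest normal p-subgroup of G. -/
theorem result {G : Type*} [Group G] [Finite G] (p : ℕ) [Fact p.Prime]
    (x : G) (hx : ∃ a : ℕ, (Subgroup.centralizer ({x} : Set G)).index = p ^ a) (g h : G) :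
    (g * x * g⁻¹) * (h * x * h⁻¹) * (g * x * g⁻¹)⁻¹ * (h * x * h⁻¹)⁻¹ ∈ Cfsg.pCore p G := by
  exact commutator_conj_mem p x hx g h

end Cfsg.Agent.S4364
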