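import Cfsg.Statements.S4037
import Cfsg.Agent.S4364
import Cfsg.Agent.Core.Cores

set_option autoImplicit false
open Cfsg

namespace Cfsg.Agent.S4037

/-- If an element x of a finite group G has a conjugacy class of prime-power size, then the normal closure of x in G (the subgroup generated by the conjugacy class of x) is solvable. -/
theorem result {G : Type*} [Group G] [Finite G]
    (x : G) {p : ℕ} (hp : p.Prime) (k : ℕ) (hx : (ConjClasses.mk x).carrier.ncard = p ^ k) :
    Group.IsSolvable ↥(Subgroup.normalClosure ({x} : Set G)) := by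
  haveI := Fact.mk hp
  have hidx : (Subgroup.centralizer ({x} : Set G)).index = p ^ k := by
    rw [← hx]
    have h1 := MulAction.index_stabilizer (ConjAct G) x
    rw [ConjAct.orbit_eq_carrier_conjClasses] at h1
    rw [← h1, Subgroup.centralizer_eq_comap_stabilizer]
    exact Subgroup.index_comap_of_surjective (f := (ConjAct.toConjAct (G := G)).toMonoidHom)
      (MulAction.stabilizer (ConjAct G) x) ConjAct.toConjAct.surjective
  have hcomm := fun g h => S4364.result p x ⟨k, hidx⟩ g h
  set O := Cfsg.pCore p G
  haveI : Group.IsSolvable O := by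
    haveI := (Cfsg.Agent.Core.isPGroup_pCore p G).isNilpotent
    infer_instance
  set N := Subgroup.normalClosure ({x} : Set G)
  let f : N →* G ⧸ O := (QuotientGroup.mk' O).comp N.subtype
  have hC : N ≤ ((Subgroup.centralizer
      ((QuotientGroup.mk' O) '' {y | IsConj x y})).comap (QuotientGroup.mk' O)) := by
    rw [show N = Subgroup.closure (Group.conjugatesOfSet {x}) from rfl, Subgroup.closure_le]
    intro y hy
    rw [Group.conjugatesOfSet, Set.mem_iUnion₂] at hy
    obtain ⟨a, rfl, hy⟩ := hy
    obtain ⟨g, rfl⟩ := isConj_iff.mp hy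
    rw [SetLike.mem_coe, Subgroup.mem_comap, Subgroup.mem_centralizer_iff]
    rintro _ ⟨z, hz, rfl⟩
    obtain ⟨h, rfl⟩ := isConj_iff.mp hz
    have h1 : QuotientGroup.mk' O ((h * a * h⁻¹) * (g * a * g⁻¹) * (h * a * h⁻¹)⁻¹ * (g * a * g⁻¹)⁻¹) = 1 :=
      (QuotientGroup.eq_one_iff _).mpr (hcomm h g)
    simp only [map_mul, map_inv] at h1
    simp only [map_mul, map_inv]
    exact commutatorElement_eq_one_iff_mul_comm.mp h1
  haveI hab : Group.IsSolvable f.range := by
    refine Group.isSolvable_of_comm fun a b => Subtype.ext ?_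
    obtain ⟨_, u, rfl⟩ := a
    obtain ⟨_, v, rfl⟩ := b
    have hle : N ≤ (Subgroup.centralizer ({f u} : Set (G ⧸ O))).comap (QuotientGroup.mk' O) := by
      refine (Subgroup.closure_le _).mpr ?_
      intro y hy
      rw [Group.conjugatesOfSet, Set.mem_iUnion₂] at hy
      obtain ⟨a, rfl, hy⟩ := hy
      rw [SetLike.mem_coe, Subgroup.mem_comap, Subgroup.mem_centralizer_singleton_iff]
      exact Subgroup.mem_centralizer_iff.mp (hC u.2) _ ⟨y, hy, rfl⟩
    exact (Subgroup.mem_centralizer_singleton_iff.mp (hle v.2)).symm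
  haveI : Group.IsSolvable f.ker := by
    have hinj : Function.Injective (fun z : f.ker => (⟨((z : N) : G),
        (QuotientGroup.eq_one_iff _).mp z.2⟩ : O)) := fun a b h =>
      Subtype.ext (Subtype.ext (congrArg (fun w : O => (w : G)) h))
    exact Group.isSolvable_of_isSolvable_injective (f := MonoidHom.mk' _ (fun a b => Subtype.ext rfl)) hinj
  exact Group.isSolvable_of_ker_le_range (G' := f.ker) f.ker.subtype f.rangeRestrict (by
    intro z hz
    rw [MonoidHom.ker_rangeRestrict] at hz
    exact ⟨⟨z, hz⟩, rfl⟩)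

end Cfsg.Agent.S4037
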