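import Cfsg.Statements.S4065
-- import your own Cfsg.Agent.* helpers here

set_option autoImplicit false
open Cfsg

namespace Cfsg.Agent.S4065

open Matrix

theorem commute_of_commute_nonscalar {F : Type*} [Field F] (M A B : Matrix (Fin 2) (Fin 2) F)
    (hM : M 0 1 ≠ 0 ∨ M 1 0 ≠ 0 ∨ M 1 1 - M 0 0 ≠ 0) (hA : M * A = A * M) (hB : M * B = B * M) :
    A * B = B * A := by
  have key : ∀ X : Matrix (Fin 2) (Fin 2) F, M * X = X * M →
      M 0 1 * X 1 0 = X 0 1 * M 1 0 ∧ M 0 1 * (X 1 1 - X 0 0) = X 0 1 * (M 1 1 - M 0 0) ∧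
        M 1 0 * (X 1 1 - X 0 0) = X 1 0 * (M 1 1 - M 0 0) := by
    intro X hX
    have h00 := congrFun (congrFun hX 0) 0
    have h01 := congrFun (congrFun hX 0) 1
    have h10 := congrFun (congrFun hX 1) 0
    simp only [Matrix.mul_apply, Fin.sum_univ_two] at h00 h01 h10
    refine ⟨?_, ?_, ?_⟩ <;> linear_combination (norm := ring_nf) h00 * 0 + h01 * 0 + h10 * 0
    · linear_combination h00
    · linear_combination h01
    · linear_combination -h10
  obtain ⟨a1, a2, a3⟩ := key A hA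
  obtain ⟨b1, b2, b3⟩ := key B hB
  have e : A 0 1 * B 1 0 = B 0 1 * A 1 0 ∧ A 0 1 * (B 1 1 - B 0 0) = B 0 1 * (A 1 1 - A 0 0) ∧
      A 1 0 * (B 1 1 - B 0 0) = B 1 0 * (A 1 1 - A 0 0) := by
    rcases hM with h | h | h
    · refine ⟨mul_left_cancel₀ h ?_, mul_left_cancel₀ h ?_, mul_left_cancel₀ (mul_ne_zero h h) ?_⟩
      · linear_combination A 0 1 * b1 - B 0 1 * a1
      · linear_combination A 0 1 * b2 - B 0 1 * a2
      · linear_combination (M 0 1 * (B 1 1 - B 0 0)) * a1 + A 0 1 * M 1 0 * b2 -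
          (M 0 1 * (A 1 1 - A 0 0)) * b1 - B 0 1 * M 1 0 * a2
    · refine ⟨mul_left_cancel₀ h ?_, mul_left_cancel₀ (mul_ne_zero h h) ?_, mul_left_cancel₀ h ?_⟩
      · linear_combination B 1 0 * a1.symm - A 1 0 * b1.symm
      · linear_combination (-(M 1 0 * (B 1 1 - B 0 0))) * a1 + M 0 1 * A 1 0 * b3 +
          (M 1 0 * (A 1 1 - A 0 0)) * b1 - M 0 1 * B 1 0 * a3
      · linear_combination A 1 0 * b3 - B 1 0 * a3
    · refine ⟨mul_left_cancel₀ (mul_ne_zero h h) ?_, mul_left_cancel₀ h ?_, mul_left_cancel₀ h ?_⟩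
      · linear_combination (-(M 1 1 - M 0 0) * B 1 0) * a2 + M 0 1 * (A 1 1 - A 0 0) * (-1) * b3 +
          ((M 1 1 - M 0 0) * A 1 0) * b2 + M 0 1 * (B 1 1 - B 0 0) * a3
      · linear_combination (A 1 1 - A 0 0) * b2 - (B 1 1 - B 0 0) * a2
      · linear_combination (A 1 1 - A 0 0) * b3 - (B 1 1 - B 0 0) * a3
  obtain ⟨e1, e2, e3⟩ := e
  ext i j
  fin_cases i <;> fin_cases j <;> simp only [Matrix.mul_apply, Fin.sum_univ_two] <;> dsimp
  · linear_combination e1
  · linear_combination e2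
  · linear_combination -e3
  · linear_combination -e1

theorem psl_commute {n : ℕ} (x a b : ProjectiveSpecialLinearGroup (Fin 2) (GaloisField 2 n)) (hx : x ≠ 1)
    (ha : x * a = a * x) (hb : x * b = b * x) : a * b = b * a := by
  have hcen : ∀ A : SpecialLinearGroup (Fin 2) (GaloisField 2 n),
      A ∈ Subgroup.center (SpecialLinearGroup (Fin 2) (GaloisField 2 n)) → A = 1 := by
    intro A hA
    obtain ⟨r, hr, hrA⟩ := Matrix.SpecialLinearGroup.mem_center_iff.mp hA
    have hr1 : r = 1 := by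
      rw [Fintype.card_fin] at hr
      have h0 : (r + 1) ^ 2 = 0 := by
        rw [add_pow_char, hr, one_pow]
        exact CharTwo.add_self_eq_zero 1
      have h1 : r + 1 = 0 := eq_zero_of_pow_eq_zero h0
      exact CharTwo.add_eq_zero.mp h1
    ext i j
    rw [← hrA, hr1]
    simp
  obtain ⟨X, rfl⟩ := QuotientGroup.mk'_surjective _ x
  obtain ⟨A, rfl⟩ := QuotientGroup.mk'_surjective _ a
  obtain ⟨B, rfl⟩ := QuotientGroup.mk'_surjective _ b
  have lift : ∀ U V : SpecialLinearGroup (Fin 2) (GaloisField 2 n),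
      QuotientGroup.mk' (Subgroup.center _) U * QuotientGroup.mk' (Subgroup.center _) V =
        QuotientGroup.mk' (Subgroup.center _) V * QuotientGroup.mk' (Subgroup.center _) U →
      U.1 * V.1 = V.1 * U.1 := by
    intro U V h
    rw [← map_mul, ← map_mul] at h
    have h1 := hcen _ (QuotientGroup.eq.mp h)
    rw [inv_mul_eq_one] at h1
    exact congrArg Subtype.val h1
  have hX : X ∉ Subgroup.center (SpecialLinearGroup (Fin 2) (GaloisField 2 n)) :=
    fun h => hx ((QuotientGroup.eq_one_iff X).mpr h)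
  have hM : X.1 0 1 ≠ 0 ∨ X.1 1 0 ≠ 0 ∨ X.1 1 1 - X.1 0 0 ≠ 0 := by
    by_contra hc
    push Not at hc
    obtain ⟨h1, h2, h3⟩ := hc
    refine hX (Subgroup.mem_center_iff.mpr fun Y => Subtype.ext ?_)
    show Y.1 * X.1 = X.1 * Y.1
    ext i j
    fin_cases i <;> fin_cases j <;> simp only [Matrix.mul_apply, Fin.sum_univ_two] <;> dsimp <;>
      simp only [h1, h2, sub_eq_zero.mp h3] <;> ring
  have h := commute_of_commute_nonscalar X.1 A.1 B.1 hM (lift X A ha) (lift X B hb)
  rw [← map_mul, ← map_mul]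
  exact congrArg _ (Subtype.ext h : A * B = B * A)

/-- Let F be a finite field with 2ⁿ elements, n ≥ 2. In PSL₂(F) the centralizer of every element meets each of its conjugates by elements outside its normalizer trivially. -/
theorem result (n : ℕ) (hn : 2 ≤ n)
    (x : Matrix.ProjectiveSpecialLinearGroup (Fin 2) (GaloisField 2 n)) :
    Cfsg.IsTISubset (Subgroup.centralizer ({x} : Set (Matrix.ProjectiveSpecialLinearGroup (Fin 2) (GaloisField 2 n))) :
      Set (Matrix.ProjectiveSpecialLinearGroup (Fin 2) (GaloisField 2 n))) := by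
  intro g hg y hy hgy
  by_contra hy1
  apply hg
  have hx : x ≠ 1 := by
    intro hx
    apply hg
    subst hx
    rw [Subgroup.mem_normalizer_iff]
    intro h
    simp [Subgroup.mem_centralizer_iff]
  rw [SetLike.mem_coe, Subgroup.mem_centralizer_iff] at hy hgy
  have hy' := hy x rfl
  have hgy' := hgy x rfl
  have hgy1 : g * y * g⁻¹ ≠ 1 := fun h => hy1 (conj_eq_one_iff.mp h)
  rw [Subgroup.mem_normalizer_iff]
  intro h
  simp only [SetLike.mem_coe, Subgroup.mem_centralizer_iff, Set.mem_singleton_iff, forall_eq]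
  constructor
  · intro hh
    have h1 : y * h = h * y := psl_commute x y h hx hy' hh
    have h2 : (g * y * g⁻¹) * (g * h * g⁻¹) = (g * h * g⁻¹) * (g * y * g⁻¹) := by
      rw [show (g * y * g⁻¹) * (g * h * g⁻¹) = g * (y * h) * g⁻¹ by group, h1]; group
    exact psl_commute (g * y * g⁻¹) x (g * h * g⁻¹) hgy1 hgy'.symm h2
  · intro hh
    have h1 : (g * y * g⁻¹) * (g * h * g⁻¹) = (g * h * g⁻¹) * (g * y * g⁻¹) :=
      psl_commute x _ _ hx hgy' hh
    have h2 : y * h = h * y := by
      have := congrArg (fun w => g⁻¹ * w * g) h1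
      simpa [mul_assoc] using this
    exact psl_commute y x h hy1 hy'.symm h2

end Cfsg.Agent.S4065
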