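import Cfsg.Statements.S4068
import Cfsg.Agent.FGS2.PrimeOrdersSixty
import Cfsg.Agent.S0183
import Cfsg.Agent.S0494
import Cfsg.Agent.S3992
import Cfsg.Agent.Core.MinimalNormal
-- import your own Cfsg.Agent.* helpers here

set_option autoImplicit false
open Cfsg

namespace Cfsg.Agent.S4068

open Cfsg.Agent

/-- A finite non-solvable group on which its automorphism group has exactly four orbits is isomorphic to the alternating group of degree 5. -/
theorem result {G : Type*} [Group G] [Finite G] (hns : ¬ Group.IsSolvable G)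
    (h4 : Nat.card (MulAction.orbitRel.Quotient (MulAut G) G) = 4) : Nonempty (G ≃* alternatingGroup (Fin 5)) := by
  -- element orders are constant on orbits, so at most four occur
  let f : MulAction.orbitRel.Quotient (MulAut G) G → ℕ :=
    Quotient.lift orderOf (by
      rintro a b ⟨φ, rfl⟩
      exact MulEquiv.orderOf_eq φ b)
  have hfin : Finite (MulAction.orbitRel.Quotient (MulAut G) G) :=
    Nat.finite_of_card_ne_zero (by omega)
  have : Fintype (MulAction.orbitRel.Quotient (MulAut G) G) := Fintype.ofFinite _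
  obtain ⟨a, b, c, hab, hac, hbc, hsub⟩ : ∃ a b c : ℕ, a ≠ b ∧ a ≠ c ∧ b ≠ c ∧
      ({a, b, c} : Finset ℕ) ⊆ (Nat.card G).primeFactors := by
    have hlt : 2 < (Nat.card G).primeFactors.card := by
      by_contra hle
      exact hns (Core.isSolvable_of_primeFactors_card_le_two (by omega))
    obtain ⟨a, ha, b, hb, c, hc, hab, hac, hbc⟩ := Finset.two_lt_card.1 hlt
    refine ⟨a, b, c, hab, hac, hbc, fun s hs => ?_⟩
    simp only [Finset.mem_insert, Finset.mem_singleton] at hs
    rcases hs with rfl | rfl | rfl <;> assumption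
  have hprime : ∀ s ∈ ({a, b, c} : Finset ℕ), s.Prime ∧ ∃ g : G, orderOf g = s := by
    intro s hs
    obtain ⟨hs1, hs2, -⟩ := Nat.mem_primeFactors.1 (hsub hs)
    have : Fact s.Prime := ⟨hs1⟩
    exact ⟨hs1, exists_prime_orderOf_dvd_card' s hs2⟩
  have himg : ({1, a, b, c} : Finset ℕ) ⊆ Finset.univ.image f := by
    intro s hs
    rw [Finset.mem_image]
    rw [Finset.mem_insert] at hs
    rcases hs with rfl | hs
    · exact ⟨Quotient.mk _ 1, Finset.mem_univ _, orderOf_one⟩
    · obtain ⟨g, hg⟩ := (hprime s hs).2
      exact ⟨Quotient.mk _ g, Finset.mem_univ _, hg⟩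
  have h1ne : 1 ∉ ({a, b, c} : Finset ℕ) := fun h => (hprime 1 h).1.ne_one rfl
  have hcard4 : ({1, a, b, c} : Finset ℕ).card = 4 := by
    rw [Finset.card_insert_of_notMem h1ne, Finset.card_insert_of_notMem (by simp [hab, hac]),
      Finset.card_pair hbc]
  have hu : (Finset.univ : Finset (MulAction.orbitRel.Quotient (MulAut G) G)).card = 4 := by
    rw [Finset.card_univ, ← Nat.card_eq_fintype_card, h4]
  have hle : (Finset.univ.image f).card ≤ 4 := hu ▸ Finset.card_image_le
  have heq : ({1, a, b, c} : Finset ℕ) = Finset.univ.image f :=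
    Finset.eq_of_subset_of_card_le himg (by rw [hcard4]; exact hle)
  have hinj : Function.Injective f := by
    intro u v huv
    exact Finset.injOn_of_card_image_eq (s := Finset.univ) (f := f) (by rw [← heq, hcard4, hu])
      (Finset.mem_coe.2 (Finset.mem_univ u)) (Finset.mem_coe.2 (Finset.mem_univ v)) huv
  have hord' : ∀ g : G, g = 1 ∨ orderOf g ∈ ({a, b, c} : Finset ℕ) := by
    intro g
    have : orderOf g ∈ ({1, a, b, c} : Finset ℕ) :=
      heq ▸ Finset.mem_image.2 ⟨Quotient.mk _ g, Finset.mem_univ _, rfl⟩
    rw [Finset.mem_insert] at this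
    exact this.imp_left orderOf_eq_one_iff.1
  have haut : ∀ x y : G, orderOf x = orderOf y → ∃ φ : MulAut G, φ x = y := by
    intro x y h
    have := Quotient.exact (hinj (show f (Quotient.mk _ y) = f (Quotient.mk _ x) from h.symm))
    exact this
  have hpo : FGS2.PrimeOrdersSixty.PrimeOrders G := fun g hg =>
    (hprime _ ((hord' g).resolve_left hg)).1
  have h2mem : (2 : ℕ) ∈ ({a, b, c} : Finset ℕ) := by
    by_contra h2
    have hodd : Odd (Nat.card G) := by
      rw [← Nat.not_even_iff_odd, even_iff_two_dvd]
      intro hd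
      have : Fact (Nat.Prime 2) := ⟨Nat.prime_two⟩
      obtain ⟨g, hg⟩ := exists_prime_orderOf_dvd_card' (G := G) 2 hd
      rcases hord' g with h | h
      · rw [h, orderOf_one] at hg; omega
      · exact h2 (hg ▸ h)
    refine hns (S0183.result hodd fun x hx => ?_)
    have : Fact (orderOf x).Prime := ⟨hpo x hx⟩
    have hP : IsPGroup (orderOf x) ↥(Subgroup.centralizer ({x} : Set G)) := fun g => ⟨1, by
      rw [pow_one]
      have : Fintype G := Fintype.ofFinite G
      rcases FGS2.PrimeOrdersSixty.orderOf_of_mem_centralizer hpo (hpo x hx) rfl g.2 with h | h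
      · rw [OneMemClass.coe_eq_one] at h
        subst h
        exact one_pow _
      · rw [Subgroup.orderOf_coe] at h
        exact orderOf_dvd_iff_pow_eq_one.1 (dvd_of_eq h)⟩
    exact hP.isNilpotent
  obtain ⟨p, r, hpm, hrm, hp2, hr2, hpr, hall⟩ : ∃ p r, p ∈ ({a, b, c} : Finset ℕ) ∧
      r ∈ ({a, b, c} : Finset ℕ) ∧ p ≠ 2 ∧ r ≠ 2 ∧ p ≠ r ∧
      ∀ s ∈ ({a, b, c} : Finset ℕ), s = 2 ∨ s = p ∨ s = r := by
    simp only [Finset.mem_insert, Finset.mem_singleton] at h2mem ⊢
    rcases h2mem with h | h | h
    · exact ⟨b, c, by tauto, by tauto, by omega, by omega, hbc, by omega⟩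
    · exact ⟨a, c, by tauto, by tauto, by omega, by omega, hac, by omega⟩
    · exact ⟨a, b, by tauto, by tauto, by omega, by omega, hab, by omega⟩
  have hord : ∀ g : G, g = 1 ∨ orderOf g = 2 ∨ orderOf g = p ∨ orderOf g = r := fun g =>
    (hord' g).imp_right (hall _)
  obtain ⟨t, ht⟩ := (hprime 2 h2mem).2
  obtain ⟨x, hx⟩ := (hprime p hpm).2
  obtain ⟨y, hy⟩ := (hprime r hrm).2
  -- no solvable minimal normal subgroup
  have : Nontrivial G := ⟨⟨t, 1, fun h => by rw [h, orderOf_one] at ht; omega⟩⟩
  obtain ⟨M, hM⟩ := Core.exists_isMinNormal (G := G)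
  have hMns : ∀ {N : Subgroup G}, Core.IsMinNormal N → ¬ Group.IsSolvable N := by
    intro N hN hs
    obtain ⟨-, l, hl, -, hlg⟩ := hN.elementaryAbelian hs
    have : Fact l.Prime := ⟨hl⟩
    set V := Cfsg.pCore l G with hV
    have hVp : IsPGroup l V := Core.isPGroup_pCore l G
    have hNV : N ≤ V := Core.le_pCore hN.1 hlg
    obtain ⟨v, hv, hv1⟩ := (Subgroup.bot_or_exists_ne_one V).resolve_left
      (fun h => hN.2.1 (le_bot_iff.1 (h ▸ hNV)))
    have hvl : orderOf v = l := by
      obtain ⟨k, hk⟩ := (IsPGroup.iff_orderOf (p := l)).1 hVp ⟨v, hv⟩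
      rw [Subgroup.orderOf_mk] at hk
      rcases Nat.eq_zero_or_pos k with rfl | hk0
      · exact absurd (orderOf_eq_one_iff.1 hk) hv1
      · exact ((Nat.prime_dvd_prime_iff_eq hl (hpo v hv1)).1 (hk ▸ dvd_pow_self l hk0.ne')).symm
    have hlV : ∀ g : G, orderOf g = l → g ∈ V := by
      intro g hg
      obtain ⟨φ, rfl⟩ := haut v g (hvl.trans hg.symm)
      have hch : V.map φ.toMonoidHom = V :=
        Subgroup.characteristic_iff_map_eq.1 inferInstance φ
      rw [← hch]
      exact ⟨v, hv, rfl⟩
    refine hns ?_
    have hVn : V.Normal := inferInstance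
    have : Group.IsSolvable V := by
      have := hVp.isNilpotent
      infer_instance
    have : Group.IsSolvable (G ⧸ V) := by
      refine Core.isSolvable_of_primeFactors_card_le_two ?_
      obtain ⟨P⟩ : Nonempty (Sylow l G) := inferInstance
      have hPV : (P : Subgroup G) ≤ V := fun g hg => by
        by_cases hg1 : g = 1
        · exact hg1 ▸ one_mem _
        obtain ⟨k, hk⟩ := (IsPGroup.iff_orderOf (p := l)).1 P.2 ⟨g, hg⟩
        rw [Subgroup.orderOf_mk] at hk
        rcases Nat.eq_zero_or_pos k with rfl | hk0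
        · exact absurd (orderOf_eq_one_iff.1 hk) hg1
        · exact hlV g ((Nat.prime_dvd_prime_iff_eq hl (hpo g hg1)).1
            (hk ▸ dvd_pow_self l hk0.ne')).symm
      have hidx : ¬ l ∣ Nat.card (G ⧸ V) := fun h =>
        P.not_dvd_index (h.trans (Subgroup.index_dvd_of_le hPV))
      have hlm : l ∈ ({2, p, r} : Finset ℕ) := by
        rcases hord v with h | h | h | h
        · exact absurd h hv1
        all_goals simp [← hvl, h]
      calc (Nat.card (G ⧸ V)).primeFactors.card ≤ (({2, p, r} : Finset ℕ).erase l).card := by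
            refine Finset.card_le_card fun s hs => Finset.mem_erase.2 ⟨?_, ?_⟩
            · rintro rfl; exact hidx (Nat.mem_primeFactors.1 hs).2.1
            · obtain ⟨hs1, hs2, -⟩ := Nat.mem_primeFactors.1 hs
              have : Fact s.Prime := ⟨hs1⟩
              obtain ⟨g, hg⟩ := exists_prime_orderOf_dvd_card' (G := G) s
                (hs2.trans (Subgroup.card_quotient_dvd_card V))
              rcases hord g with h | h | h | h
              · rw [h, orderOf_one] at hg; exact absurd hg.symm hs1.ne_one
              all_goals simp [← hg, h]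
        _ ≤ 2 := by
            have := Finset.card_le_three (a := 2) (b := p) (c := r)
            rw [Finset.card_erase_of_mem hlm]
            omega
    exact Group.isSolvable_of_ker_le_range V.subtype (QuotientGroup.mk' V) (by simp)
  -- the minimal normal subgroup is invariant under all automorphisms
  have hMinv : ∀ φ : MulAut G, M.map φ.toMonoidHom = M := by
    intro φ
    by_contra hne
    set N := M.map φ.toMonoidHom with hN
    have hNn : N.Normal := hM.1.map _ φ.surjective
    have hMn := hM.1
    have hNmin : Core.IsMinNormal N := by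
      refine ⟨hNn, fun h => hM.2.1 ((Subgroup.map_eq_bot_iff_of_injective _ φ.injective).1 h), ?_⟩
      intro K hK hKN
      have hK' : (K.comap φ.toMonoidHom).Normal := hK.comap _
      have hle' : K.comap φ.toMonoidHom ≤ M := by
        intro g hg
        obtain ⟨m, hm, hme⟩ := hKN hg
        exact φ.injective hme ▸ hm
      rcases hM.2.2 _ hK' hle' with h | h
      · left
        rw [← Subgroup.map_comap_eq_self_of_surjective (f := φ.toMonoidHom) φ.surjective K, h,
          Subgroup.map_bot]
      · right
        rw [← Subgroup.map_comap_eq_self_of_surjective (f := φ.toMonoidHom) φ.surjective K, h]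
    have hint : M ⊓ N = ⊥ := by
      rcases hM.inf_eq_bot_or_le hNn with h | h
      · exact h
      · exact absurd ((hNmin.2.2 M hM.1 h).resolve_left hM.2.1).symm hne
    have : Fintype G := Fintype.ofFinite G
    refine S3992.no_commuting hpo.allPrimePowerOrders (fun m hm n hn => ?_) hNmin.2.1 (hMns hM)
    exact (Subgroup.commute_of_normal_of_disjoint M N hMn hNn (disjoint_iff.2 hint) n m hn hm).symm
  have hMtop : M = ⊤ := by
    rw [eq_top_iff]
    intro g _
    by_cases hg1 : g = 1
    · exact hg1 ▸ M.one_mem
    have hs : (orderOf g).Prime := hpo g hg1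
    have hd : orderOf g ∣ Nat.card M := by
      by_contra hnd
      refine hMns hM (Core.isSolvable_of_primeFactors_card_le_two ?_)
      have hgm : orderOf g ∈ ({2, p, r} : Finset ℕ) := by
        rcases hord g with h | h | h | h
        · exact absurd h hg1
        all_goals simp [h]
      calc (Nat.card M).primeFactors.card ≤ (({2, p, r} : Finset ℕ).erase (orderOf g)).card := by
            refine Finset.card_le_card fun s hs' => Finset.mem_erase.2 ⟨?_, ?_⟩
            · rintro rfl; exact hnd (Nat.mem_primeFactors.1 hs').2.1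
            · obtain ⟨hs1, hs2, -⟩ := Nat.mem_primeFactors.1 hs'
              have : Fact s.Prime := ⟨hs1⟩
              obtain ⟨m, hm⟩ := exists_prime_orderOf_dvd_card' (G := M) s hs2
              rw [← Subgroup.orderOf_coe] at hm
              rcases hord (m : G) with h | h | h | h
              · rw [h, orderOf_one] at hm; exact absurd hm.symm hs1.ne_one
              all_goals simp [← hm, h]
        _ ≤ 2 := by
            have := Finset.card_le_three (a := 2) (b := p) (c := r)
            rw [Finset.card_erase_of_mem hgm]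
            omega
    have : Fact (orderOf g).Prime := ⟨hs⟩
    obtain ⟨m, hm⟩ := exists_prime_orderOf_dvd_card' (G := M) _ hd
    obtain ⟨φ, hφ⟩ := haut (m : G) g (by rw [Subgroup.orderOf_coe, hm])
    rw [← hMinv φ]
    exact ⟨m, m.2, hφ⟩
  have hsimple : IsSimpleGroup G := by
    refine ⟨fun H hH => ?_⟩
    exact hMtop ▸ hM.2.2 H hH (hMtop ▸ le_top)
  have hnc : ¬ IsMulCommutative G := fun h => hns (Group.isSolvable_of_comm h.1.1)
  exact S0494.result (FGS2.PrimeOrdersSixty.card_eq_sixty hnc haut (hprime p hpm).1
    (hprime r hrm).1 hp2 hr2 hpr hord ht hx hy)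

end Cfsg.Agent.S4068
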