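import Cfsg.Statements.S4073
import Cfsg.Agent.OddChar.SelfNormCT
import Cfsg.Agent.S4065
import Cfsg.Agent.Linear.Congr
import Cfsg.Agent.Linear.SL2Facts

set_option autoImplicit false
open Cfsg

namespace Cfsg.Agent.S4073

open Matrix GeomClasses OddChar.SelfNormNA

section SL

variable {F : Type*} [Field F] [Fintype F]

theorem nonscalar (h2 : (2 : F) = 0) {x : SpecialLinearGroup (Fin 2) F} (hx : x ≠ 1) :
    x.1 0 1 ≠ 0 ∨ x.1 1 0 ≠ 0 ∨ x.1 1 1 - x.1 0 0 ≠ 0 := by
  by_contra hc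
  push Not at hc
  obtain ⟨h01, h10, hd⟩ := hc
  apply hx
  have hdet := x.2
  rw [det_fin_two, h01, h10, sub_eq_zero.mp hd] at hdet
  have h1 : x.1 0 0 = 1 := by
    have : (x.1 0 0 - 1) * (x.1 0 0 - 1) = 0 := by linear_combination hdet + (1 - x.1 0 0) * h2
    exact sub_eq_zero.mp (mul_self_eq_zero.mp this)
  have h11 : x.1 1 1 = 1 := (sub_eq_zero.mp hd).trans h1
  ext i j
  fin_cases i <;> fin_cases j <;> simp [h1, h01, h10, h11]

theorem sl_ct (h2 : (2 : F) = 0) : CT.AbCent (SpecialLinearGroup (Fin 2) F) := fun x a b hx ha hb =>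
  Subtype.ext (S4065.commute_of_commute_nonscalar x.1 a.1 b.1 (nonscalar h2 hx)
    (congrArg Subtype.val ha).symm (congrArg Subtype.val hb).symm)

theorem commuting_conj (h2 : (2 : F) = 0) {M X : Matrix (Fin 2) (Fin 2) F} (hM : M 0 0 * M 1 1 - M 0 1 * M 1 0 = 1)
    (hX : X 0 0 * X 1 1 - X 0 1 * X 1 0 = 1) (htr : X 0 0 + X 1 1 = M 0 0 + M 1 1)
    (hns : M 0 1 ≠ 0 ∨ M 1 0 ≠ 0 ∨ M 1 1 - M 0 0 ≠ 0) (hcm : M * X = X * M) :
    (M 0 0 + M 1 1 ≠ 0 ∧ (X = M ∨ X = M.adjugate)) ∨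
      (M 0 0 + M 1 1 = 0 ∧ ∃ β : F, X = 1 + β • (M - 1)) := by
  have h00 := congrFun (congrFun hcm 0) 0
  have h01 := congrFun (congrFun hcm 0) 1
  have h10 := congrFun (congrFun hcm 1) 0
  simp only [Matrix.mul_apply, Fin.sum_univ_two] at h00 h01 h10
  by_cases ht : M 0 0 + M 1 1 = 0
  · refine Or.inr ⟨ht, ?_⟩
    have eM : M 1 1 = M 0 0 := by linear_combination ht - M 0 0 * h2
    have eX : X 1 1 = X 0 0 := by linear_combination htr + ht - X 0 0 * h2
    rw [eM] at hM
    rw [eX] at hX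
    have hns' : M 0 1 ≠ 0 ∨ M 1 0 ≠ 0 := by
      rcases hns with h | h | h
      · exact Or.inl h
      · exact Or.inr h
      · exact absurd (sub_eq_zero.mpr eM) h
    obtain ⟨β, b1, b2⟩ : ∃ β : F, X 0 1 = β * M 0 1 ∧ X 1 0 = β * M 1 0 := by
      rcases hns' with h | h
      · refine ⟨X 0 1 / M 0 1, by field_simp, ?_⟩
        field_simp
        linear_combination h00
      · refine ⟨X 1 0 / M 1 0, ?_, by field_simp⟩
        field_simp
        linear_combination -h00
    refine ⟨β, ?_⟩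
    have b0 : X 0 0 = 1 + β * (M 0 0 - 1) := by
      have : (X 0 0 - 1 - β * (M 0 0 - 1)) * (X 0 0 - 1 - β * (M 0 0 - 1)) = 0 := by
        rw [b1, b2] at hX
        linear_combination hX - β ^ 2 * hM +
          (1 - X 0 0 - (X 0 0 - 1) * β * (M 0 0 - 1) - β ^ 2 * M 0 0 + β ^ 2 * M 0 0 ^ 2) * h2
      linear_combination mul_self_eq_zero.mp this
    ext i j
    fin_cases i <;> fin_cases j
    · simpa using b0
    · simpa using b1
    · simpa using b2
    · simpa [eM, eX] using b0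
  · refine Or.inl ⟨ht, ?_⟩
    have dM : M 1 1 - M 0 0 = M 0 0 + M 1 1 := by linear_combination -M 0 0 * h2
    have dX : X 1 1 - X 0 0 = M 0 0 + M 1 1 := by linear_combination htr - X 0 0 * h2
    have e1 : X 0 1 = M 0 1 := mul_right_cancel₀ ht (by
      linear_combination -h01 + M 0 1 * dX - X 0 1 * dM)
    have e2 : X 1 0 = M 1 0 := mul_right_cancel₀ ht (by
      linear_combination h10 + M 1 0 * dX - X 1 0 * dM)
    rw [e1, e2] at hX
    have h3 : (X 0 0 - M 0 0) * (X 0 0 - M 1 1) = 0 := by linear_combination -hX + hM + X 0 0 * htr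
    rcases mul_eq_zero.mp h3 with h | h
    · refine Or.inl ?_
      have h' := sub_eq_zero.mp h
      have h11 : X 1 1 = M 1 1 := by linear_combination htr - h'
      ext i j
      fin_cases i <;> fin_cases j <;> simp [e1, e2, h', h11]
    · refine Or.inr ?_
      have h' := sub_eq_zero.mp h
      have h11 : X 1 1 = M 0 0 := by linear_combination htr - h'
      ext i j
      fin_cases i <;> fin_cases j <;> simp [adjugate_fin_two, e1, e2, h', h11]
      · linear_combination M 0 1 * h2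
      · linear_combination M 1 0 * h2

theorem sl_index (h2 : (2 : F) = 0) (hpr : (Fintype.card F - 1).Prime)
    (a y g : SpecialLinearGroup (Fin 2) F) (ha : a ≠ 1) (hy : y ∈ CT.Nz a) (hyC : y ∉ CT.Cz a)
    (hg : g ∈ CT.Nz a) : ∃ i : ℕ, g * (y ^ i)⁻¹ ∈ CT.Cz a := by
  classical
  haveI := Fintype.ofFinite (SpecialLinearGroup (Fin 2) F)
  suffices h : ∃ i : ℕ, g * a * g⁻¹ = y ^ i * a * (y ^ i)⁻¹ by
    obtain ⟨i, hi⟩ := h
    refine ⟨i, ?_⟩
    have hm : y ^ i * a * (y ^ i)⁻¹ ∈ CT.Cz a :=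
      (Subgroup.mem_normalizer_iff.mp (pow_mem hy i) a).mp (CT.mem_Cz.mpr rfl)
    rw [← CT.Cz_eq (sl_ct h2) ha hm (fun e => ha (conj_eq_one_iff.mp e)), CT.mem_Cz]
    calc y ^ i * a * (y ^ i)⁻¹ * (g * (y ^ i)⁻¹) = (g * a * g⁻¹) * (g * (y ^ i)⁻¹) := by rw [hi]
      _ = g * (y ^ i)⁻¹ * (y ^ i * a * (y ^ i)⁻¹) := by group
  have key : ∀ z ∈ CT.Nz a,
      (a.1 0 0 + a.1 1 1 ≠ 0 ∧ (z * a * z⁻¹ = a ∨ z * a * z⁻¹ = a⁻¹)) ∨
      (a.1 0 0 + a.1 1 1 = 0 ∧ ∃ β : F, (z * a * z⁻¹).1 = 1 + β • (a.1 - 1)) := by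
    intro z hz
    have hm := CT.mem_Cz.mp ((Subgroup.mem_normalizer_iff.mp hz a).mp (CT.mem_Cz.mpr rfl))
    have hcm : a.1 * (z * a * z⁻¹).1 = (z * a * z⁻¹).1 * a.1 := congrArg Subtype.val hm
    have htr : (z * a * z⁻¹).1.trace = a.1.trace := by
      rw [Matrix.SpecialLinearGroup.coe_mul, Matrix.trace_mul_comm, ← Matrix.SpecialLinearGroup.coe_mul,
        inv_mul_cancel_left]
    rw [trace_fin_two, trace_fin_two] at htr
    have hdX := (z * a * z⁻¹).2
    have hdM := a.2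
    rw [det_fin_two] at hdX hdM
    rcases commuting_conj h2 hdM hdX htr (nonscalar h2 ha) hcm with ⟨h, e | e⟩ | h
    · exact Or.inl ⟨h, Or.inl (Subtype.ext e)⟩
    · exact Or.inl ⟨h, Or.inr (Subtype.ext (by rw [e, Matrix.SpecialLinearGroup.coe_inv]))⟩
    · exact Or.inr h
  by_cases ht : a.1 0 0 + a.1 1 1 = 0
  · have key' : ∀ z ∈ CT.Nz a, ∃ β : F, (z * a * z⁻¹).1 = 1 + β • (a.1 - 1) := fun z hz =>
      ((key z hz).resolve_left fun h => h.1 ht).2
    obtain ⟨β, hβ⟩ := key' g hg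
    obtain ⟨γ, hγ⟩ := key' y hy
    have hne : ∀ (z : SpecialLinearGroup (Fin 2) F) (δ : F), (z * a * z⁻¹).1 = 1 + δ • (a.1 - 1) → δ ≠ 0 := by
      rintro z δ h rfl
      rw [zero_smul, add_zero] at h
      exact ha (conj_eq_one_iff.mp (Subtype.ext h))
    have hγ1 : γ ≠ 1 := by
      rintro rfl
      rw [one_smul, add_sub_cancel] at hγ
      refine hyC (CT.mem_Cz.mpr ?_)
      have : y * a * y⁻¹ = a := Subtype.ext hγ
      exact (mul_inv_eq_iff_eq_mul.mp this).symm
    have hpow : ∀ i : ℕ, (y ^ i * a * (y ^ i)⁻¹).1 = 1 + γ ^ i • (a.1 - 1) := by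
      intro i
      induction i with
      | zero => simp
      | succ i ih =>
        have e : y ^ (i + 1) * a * (y ^ (i + 1))⁻¹ = y * (y ^ i * a * (y ^ i)⁻¹) * y⁻¹ := by
          rw [pow_succ']; group
        have hN : y.1 * (a.1 - 1) * (y⁻¹).1 = γ • (a.1 - 1) := by
          rw [mul_sub, sub_mul, mul_one, ← Matrix.SpecialLinearGroup.coe_mul y, ← Matrix.SpecialLinearGroup.coe_mul,
            ← Matrix.SpecialLinearGroup.coe_mul, hγ, mul_inv_cancel, Matrix.SpecialLinearGroup.coe_one]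
          abel
        rw [e, Matrix.SpecialLinearGroup.coe_mul, Matrix.SpecialLinearGroup.coe_mul, ih, mul_add, add_mul,
          mul_one, Matrix.mul_smul, Matrix.smul_mul, hN, smul_smul, ← pow_succ,
          ← Matrix.SpecialLinearGroup.coe_mul, mul_inv_cancel, Matrix.SpecialLinearGroup.coe_one]
    let u : Fˣ := Units.mk0 γ (hne y γ hγ)
    have hu1 : u ≠ 1 := fun h => hγ1 (congrArg Units.val h)
    have hc : Nat.card Fˣ = Fintype.card F - 1 := by
      rw [Nat.card_eq_fintype_card, Fintype.card_units]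
    haveI : Fact (Fintype.card F - 1).Prime := ⟨hpr⟩
    obtain ⟨i, hi⟩ := (mem_powers_of_prime_card hc hu1 : Units.mk0 β (hne g β hβ) ∈ Submonoid.powers u)
    refine ⟨i, Subtype.ext ?_⟩
    rw [hpow, hβ]
    have : γ ^ i = β := by simpa [u] using congrArg Units.val hi
    rw [this]
  · have key' : ∀ z ∈ CT.Nz a, z * a * z⁻¹ = a ∨ z * a * z⁻¹ = a⁻¹ := fun z hz =>
      ((key z hz).resolve_right fun h => ht h.1).2
    rcases key' g hg with e | e
    · exact ⟨0, by rw [e]; simp⟩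
    · refine ⟨1, ?_⟩
      rcases key' y hy with e' | e'
      · exact absurd (CT.mem_Cz.mpr (mul_inv_eq_iff_eq_mul.mp e').symm) hyC
      · rw [pow_one, e, e']

theorem sl_prime (h2 : (2 : F) = 0) (h4 : 4 ≤ Fintype.card F) (hs : NASelf (SpecialLinearGroup (Fin 2) F)) :
    (Fintype.card F - 1).Prime := by
  classical
  by_contra hp
  obtain ⟨d, hdd, hd2, hdlt⟩ := Nat.exists_dvd_of_not_prime2 (by omega) hp
  obtain ⟨s, hs'⟩ := IsCyclic.exists_ofOrder_eq_natCard (α := Fˣ)
  rw [Nat.card_eq_fintype_card, Fintype.card_units] at hs'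
  obtain ⟨e, he⟩ := hdd
  let T : Fˣ → SpecialLinearGroup (Fin 2) F := fun u => ⟨!![(u : F), 0; 0, ((u⁻¹ : Fˣ) : F)], by
    rw [det_fin_two_of, mul_zero, sub_zero, Units.mul_inv]⟩
  let U : SpecialLinearGroup (Fin 2) F := ⟨!![1, 1; 0, 1], by simp [det_fin_two_of]⟩
  let D : Subgroup (SpecialLinearGroup (Fin 2) F) :=
    { carrier := {g | g.1 1 0 = 0 ∧ (g.1 0 0) ^ d = 1}
      one_mem' := by simp
      mul_mem' := by
        rintro g h ⟨g1, g2⟩ ⟨h1, h2'⟩
        refine ⟨?_, ?_⟩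
        · simp [Matrix.mul_apply, Fin.sum_univ_two, g1, h1]
        · simp [Matrix.mul_apply, Fin.sum_univ_two, h1, mul_pow, g2, h2']
      inv_mem' := by
        rintro g ⟨g1, g2⟩
        have hdet := g.2
        rw [det_fin_two, g1, mul_zero, sub_zero] at hdet
        refine ⟨?_, ?_⟩
        · simp [Matrix.SpecialLinearGroup.coe_inv, adjugate_fin_two, g1]
        · simp only [Matrix.SpecialLinearGroup.coe_inv, adjugate_fin_two, Matrix.of_apply,
            Matrix.cons_val', Matrix.cons_val_zero]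
          have := congrArg (· ^ d) hdet
          simpa [mul_pow, g2] using this }
  have hTD : T (s ^ e) ∈ D := by
    refine ⟨by simp [T], ?_⟩
    show ((s ^ e : Fˣ) : F) ^ d = 1
    rw [← Units.val_pow_eq_pow_val, ← pow_mul, mul_comm, ← he, ← hs', pow_orderOf_eq_one, Units.val_one]
  have hUD : U ∈ D := ⟨by simp [U], by simp [U]⟩
  have hse : (s ^ e : Fˣ) ≠ 1 := by
    intro h
    have := Nat.le_of_dvd (by rcases Nat.eq_zero_or_pos e with rfl | h <;> omega) (orderOf_dvd_of_pow_eq_one h)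
    rw [hs', he] at this
    have : 2 * e ≤ d * e := Nat.mul_le_mul_right e hd2
    rcases Nat.eq_zero_or_pos e with rfl | h <;> omega
  have hna : ¬ IsMulCommutative D := by
    intro h
    apply hse
    have := congrFun (congrFun (congrArg Subtype.val (comm_apply h hTD hUD)) 0) 1
    change ((T (s ^ e)).1 * U.1) 0 1 = (U.1 * (T (s ^ e)).1) 0 1 at this
    simp [T, U, Matrix.mul_apply, Fin.sum_univ_two] at this
    ext
    have h' : ((s : F) ^ e - 1) * ((s : F) ^ e - 1) = 0 := by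
      have h0 : ((s : F) ^ e) * ((s : F) ^ e) = 1 := by
        nth_rewrite 1 [this]
        exact inv_mul_cancel₀ (pow_ne_zero _ s.ne_zero)
      linear_combination h0 + (1 - (s : F) ^ e) * h2
    rw [Units.val_pow_eq_pow_val, Units.val_one]
    exact sub_eq_zero.mp (mul_self_eq_zero.mp h')
  have hfwd : ∀ v : Fˣ, ∀ g ∈ D, T v * g * (T v)⁻¹ ∈ D := by
    intro v g hg
    refine ⟨?_, ?_⟩
    · change ((T v).1 * g.1 * (T v).1.adjugate) 1 0 = 0
      simp [T, Matrix.mul_apply, Matrix.vecMul, dotProduct, Fin.sum_univ_two, adjugate_fin_two, hg.1]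
    · change (((T v).1 * g.1 * (T v).1.adjugate) 0 0) ^ d = 1
      have h0 : ((T v).1 * g.1 * (T v).1.adjugate) 0 0 = g.1 0 0 := by
        simp [T, Matrix.mul_apply, Matrix.vecMul, dotProduct, Fin.sum_univ_two, adjugate_fin_two, mul_comm, mul_assoc]
      rw [h0]; exact hg.2
  have hN : T s ∈ Subgroup.normalizer (D : Set (SpecialLinearGroup (Fin 2) F)) := by
    rw [Subgroup.mem_normalizer_iff]
    intro g
    refine ⟨hfwd s g, fun hg => ?_⟩
    have hTi : T s⁻¹ = (T s)⁻¹ := by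
      refine Subtype.ext ?_
      rw [Matrix.SpecialLinearGroup.coe_inv]
      show !![((s⁻¹ : Fˣ) : F), 0; 0, (((s⁻¹)⁻¹ : Fˣ) : F)] = !![(s : F), 0; 0, ((s⁻¹ : Fˣ) : F)].adjugate
      rw [adjugate_fin_two_of, inv_inv, neg_zero]
    have := hfwd s⁻¹ _ hg
    rw [hTi, inv_inv] at this
    simpa [mul_assoc] using this
  rw [hs D hna] at hN
  have h1 : (s : F) ^ d = 1 := hN.2
  have : orderOf s ∣ d := orderOf_dvd_of_pow_eq_one (Units.ext (by simpa using h1))
  have := Nat.le_of_dvd (by omega) this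
  omega

end SL

theorem naSelf_congr {A B : Type*} [Group A] [Group B] (e : A ≃* B) (h : NASelf B) : NASelf A := by
  intro H hH
  apply Subgroup.map_injective (f := e.toMonoidHom) e.injective
  rw [Subgroup.map_equiv_normalizer_eq]
  refine h _ fun hc => hH ?_
  refine ⟨⟨fun a b => Subtype.ext (e.injective ?_)⟩⟩
  have h1 : e (a : A) * e (b : A) = e (b : A) * e (a : A) := congrArg Subtype.val (hc.is_comm.comm
      ⟨_, Subgroup.mem_map_of_mem e.toMonoidHom a.2⟩ ⟨_, Subgroup.mem_map_of_mem e.toMonoidHom b.2⟩)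
  simpa using h1

/-- `PSL₂ = SL₂` in characteristic two. -/
noncomputable def pslEquivSL {F : Type*} [Field F] [Fintype F] (h2 : (2 : F) = 0) :
    ProjectiveSpecialLinearGroup (Fin 2) F ≃* SpecialLinearGroup (Fin 2) F :=
  (QuotientGroup.quotientMulEquivOfEq (Linear.center_SL2_eq_bot h2)).trans QuotientGroup.quotientBot

/-- Let G be a finite non-abelian simple group. Every non-abelian subgroup of G is self-normalizing if and only if G is isomorphic to PSL₂(2ⁿ) for some n ≥ 2 with 2ⁿ − 1 prime (this includes the alternating group of degree 5 as PSL₂(4)). -/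
theorem result {G : Type*} [Group G] [Finite G] [IsSimpleGroup G]
    (hna : ¬ IsMulCommutative G) :
    (∀ H : Subgroup G, ¬ IsMulCommutative H → Subgroup.normalizer (H : Set G) = H) ↔
    ∃ n : ℕ, 2 ≤ n ∧ (2 ^ n - 1).Prime ∧ Nonempty (G ≃* Matrix.ProjectiveSpecialLinearGroup (Fin 2) (GaloisField 2 n)) := by
  classical
  haveI := Fintype.ofFinite G
  constructor
  · intro hs
    obtain ⟨F, fF, fintF, f, hf, hF, ⟨e⟩⟩ := CT.classify (abCent hs hna) hna
    haveI : CharP F 2 := charP_of_card_eq_prime_pow (f := f) hF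
    have h2 : (2 : F) = 0 := CharTwo.two_eq_zero
    have hpr := sl_prime h2 (by rw [hF]; exact le_trans (by norm_num) (Nat.pow_le_pow_right two_pos hf))
      (naSelf_congr (e.trans (pslEquivSL h2)).symm hs)
    rw [hF] at hpr
    haveI : Fact (Nat.Prime 2) := ⟨Nat.prime_two⟩
    haveI := Fintype.ofFinite (GaloisField 2 f)
    have hc : Fintype.card F = Fintype.card (GaloisField 2 f) := by
      rw [hF, Fintype.card_eq_nat_card, GaloisField.card 2 f (by omega)]
    exact ⟨f, hf, hpr, ⟨e.trans (Linear.pslCongr (FiniteField.ringEquivOfCardEq hc))⟩⟩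
  · rintro ⟨n, hn, hpr, ⟨e⟩⟩
    haveI := Fintype.ofFinite (GaloisField 2 n)
    have hc : Fintype.card (GaloisField 2 n) = 2 ^ n := by
      rw [Fintype.card_eq_nat_card, GaloisField.card 2 n (by omega)]
    have h2 : (2 : GaloisField 2 n) = 0 := CharTwo.two_eq_zero
    refine naSelf_congr (e.trans (pslEquivSL h2)) (naSelf_of_ct (sl_ct h2) (sl_index h2 ?_))
    rw [hc]; exact hpr

end Cfsg.Agent.S4073
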