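import Cfsg.Statements.S4113
-- import your own Cfsg.Agent.* helpers here

set_option autoImplicit false
open Cfsg

namespace Cfsg.Agent.S4113

/-- Let G be a finite group, M ≤ N non-trivial proper normal subgroups, and H a subgroup with HM = G and H ∩ M = 1. Then every element of G outside N acts fixed-point-freely on M (C_G(x) ≤ N for every x ∈ M, x ≠ 1) if and only if H ∩ gHg⁻¹ ≤ H ∩ N for every g outside H, with H proper and non-trivial and H ∩ N proper in H. -/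
theorem result {G : Type*} [Group G] [Finite G] (N M : Subgroup G) [N.Normal] [M.Normal] (hMN : M ≤ N) (hM1 : M ≠ ⊥) (hN2 : N ≠ ⊤)
    (H : Subgroup G) (hHM : H ⊔ M = ⊤) (hHM' : H ⊓ M = ⊥) :
    (∀ x ∈ M, x ≠ 1 → Subgroup.centralizer ({x} : Set G) ≤ N) ↔
      (H ≠ ⊥ ∧ H ≠ ⊤ ∧ H ⊓ N < H ∧ ∀ g : G, g ∉ H → H ⊓ H.map (MulAut.conj g).toMonoidHom ≤ N) := by
  have hdec : ∀ g : G, ∃ m ∈ M, ∃ h ∈ H, m * h = g := fun g =>
    Subgroup.mem_sup_of_normal_left.1 (show g ∈ M ⊔ H by rw [sup_comm, hHM]; trivial)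
  have hdis : ∀ x, x ∈ H → x ∈ M → x = 1 := fun x h1 h2 => by
    have : x ∈ H ⊓ M := ⟨h1, h2⟩
    rw [hHM'] at this; exact this
  constructor
  · intro hfpf
    have hlt : H ⊓ N < H := lt_of_le_of_ne inf_le_left fun h => hN2 (top_le_iff.1 (hHM ▸ sup_le (inf_eq_left.1 h) hMN))
    refine ⟨fun h => hlt.ne (by simp [h]), fun h => hM1 (by rw [h, top_inf_eq] at hHM'; exact hHM'), hlt, ?_⟩
    intro g hg x hx
    obtain ⟨hxH, y, hy, hyx⟩ := hx
    by_contra hxN
    obtain ⟨m, hm, h, hh, rfl⟩ := hdec g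
    have hyx' : m * (h * y * h⁻¹) * m⁻¹ = x := by
      rw [← hyx]; simp [mul_assoc]
    set z := h * y * h⁻¹
    have hzH : z ∈ H := mul_mem (mul_mem hh hy) (inv_mem hh)
    have hzx : z = x := by
      have h1 : x * z⁻¹ ∈ M := by
        rw [← hyx', mul_assoc, mul_assoc, ← mul_assoc z]
        exact M.mul_mem hm ((inferInstance : M.Normal).conj_mem _ (M.inv_mem hm) z)
      exact (mul_inv_eq_one.1 (hdis _ (H.mul_mem hxH (H.inv_mem hzH)) h1)).symm
    rw [hzx] at hyx'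
    have hm1 : m = 1 := by
      by_contra hm1
      exact hxN (hfpf m hm hm1 (Subgroup.mem_centralizer_singleton_iff.2 (mul_inv_eq_iff_eq_mul.1 hyx').symm))
    exact hg (by rw [hm1, one_mul]; exact hh)
  · rintro ⟨-, -, -, hFW⟩ x hxM hx1 g hg
    by_contra hgN
    rw [Subgroup.mem_centralizer_singleton_iff] at hg
    let T := {t : M × H // (t.2 : G) ∉ N}
    let f : T → {g : G // g ∉ N} := fun t => ⟨(t.1.1 : G) * t.1.2 * (t.1.1 : G)⁻¹, fun h => t.2 (by
      simpa [mul_assoc] using (inferInstance : N.Normal).conj_mem _ h (t.1.1 : G)⁻¹)⟩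
    have hinj : Function.Injective f := by
      rintro ⟨⟨m, h⟩, hh⟩ ⟨⟨m', h'⟩, hh'⟩ heq
      have e : (m : G) * h * (m : G)⁻¹ = m' * h' * (m' : G)⁻¹ := congrArg Subtype.val heq
      have hq : ((m' : G)⁻¹ * m) * h * ((m' : G)⁻¹ * m)⁻¹ = h' := by
        calc ((m' : G)⁻¹ * m) * h * ((m' : G)⁻¹ * m)⁻¹ = (m' : G)⁻¹ * ((m : G) * h * (m : G)⁻¹) * m' := by group
          _ = h' := by rw [e]; group
      have hmm : (m' : G)⁻¹ * m = 1 := by
        by_contra hne
        have hnH : (m' : G)⁻¹ * m ∉ H := fun hH => hne (hdis _ hH (M.mul_mem (M.inv_mem m'.2) m.2))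
        exact hh' (hFW _ hnH ⟨h'.2, (h : G), h.2, hq⟩)
      obtain rfl : m' = m := Subtype.ext (inv_mul_eq_one.1 hmm)
      obtain rfl : h = h' := Subtype.ext (by simpa using hq)
      rfl
    have hcard : Nat.card T = Nat.card {g : G // g ∉ N} := by
      refine Nat.card_congr (Equiv.ofBijective (fun t => ⟨(t.1.1 : G) * t.1.2, fun h => t.2 (by
        simpa using N.mul_mem (N.inv_mem (hMN t.1.1.2)) h)⟩) ⟨?_, ?_⟩)
      · rintro ⟨⟨m, h⟩, hh⟩ ⟨⟨m', h'⟩, hh'⟩ heq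
        have e : (m : G) * h = m' * h' := congrArg Subtype.val heq
        have e1 : (m' : G)⁻¹ * m = h' * (h : G)⁻¹ := by
          calc (m' : G)⁻¹ * m = (m' : G)⁻¹ * ((m : G) * h) * (h : G)⁻¹ := by group
            _ = h' * (h : G)⁻¹ := by rw [e]; group
        have h1 := hdis _ (e1 ▸ H.mul_mem h'.2 (H.inv_mem h.2)) (M.mul_mem (M.inv_mem m'.2) m.2)
        obtain rfl : m' = m := Subtype.ext (inv_mul_eq_one.1 h1)
        obtain rfl : h = h' := Subtype.ext (mul_left_cancel e)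
        rfl
      · rintro ⟨z, hz⟩
        obtain ⟨m, hm, h, hh, rfl⟩ := hdec z
        exact ⟨⟨(⟨m, hm⟩, ⟨h, hh⟩), fun hn => hz (N.mul_mem (hMN hm) hn)⟩, rfl⟩
    obtain ⟨⟨⟨⟨m, hm⟩, ⟨h, hh⟩⟩, hhN⟩, hmh⟩ :=
      ((Nat.bijective_iff_injective_and_card f).2 ⟨hinj, hcard⟩).2 ⟨g, hgN⟩
    have hg' : m * h * m⁻¹ = g := congrArg Subtype.val hmh
    set x' := m⁻¹ * x * m
    have hx'H : x' ∉ H := fun hH => hx1 (by
      have h1 := hdis x' hH (M.mul_mem (M.mul_mem (M.inv_mem hm) hxM) hm)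
      calc x = m * x' * m⁻¹ := by simp only [x']; group
        _ = 1 := by rw [h1]; group)
    refine hhN (hFW x' hx'H ⟨hh, h, hh, ?_⟩)
    show x' * h * x'⁻¹ = h
    rw [mul_inv_eq_iff_eq_mul]
    calc x' * h = m⁻¹ * (x * g) * m := by simp only [x', ← hg']; group
      _ = m⁻¹ * (g * x) * m := by rw [hg]
      _ = h * x' := by simp only [x', ← hg']; group

end Cfsg.Agent.S4113
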