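import Cfsg.Statements.S4125
import Cfsg.Agent.FGS3.BaerPrime.Structure

set_option autoImplicit false
open Cfsg

namespace Cfsg.Agent.S4125

/-- Let G be a finite group and q a prime dividing its order such that every element of q-power order has a conjugacy class of prime-power size. Then G is q-solvable of q-length 1: there are normal subgroups K ≤ L of G with K of order prime to q, L/K a q-group and L of index prime to q. Moreover there is a prime p such that every element of q-power order has a class of p-power size (one prime serving for all of them), and for a Sylow q-subgroup Q: if p = q then Q is normal with a normal complement (a direct factor), while if p ≠ q then Q is abelian, the product of Q with the largest normal p-subgroup O_p(G) is normal in G, and G/O_{q'}(G) is solvable, where O_{q'}(G) is the largest normal subgroup of order prime to q. -/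
theorem result {G : Type*} [Group G] [Finite G] (q : ℕ) [Fact q.Prime] (hq : q ∣ Nat.card G)
    (hBaer : ∀ x : G, (∃ k : ℕ, orderOf x = q ^ k) → ∃ (r : ℕ) (a : ℕ), r.Prime ∧ (Subgroup.centralizer ({x} : Set G)).index = r ^ a) (Q : Sylow q G) :
    (∃ K L : Subgroup G, K.Normal ∧ L.Normal ∧ K ≤ L ∧ (Nat.card K).Coprime q ∧ (∃ m : ℕ, K.relIndex L = q ^ m) ∧ L.index.Coprime q) ∧
    ∃ p : ℕ, p.Prime ∧ (∀ x : G, (∃ k : ℕ, orderOf x = q ^ k) → ∃ a : ℕ, (Subgroup.centralizer ({x} : Set G)).index = p ^ a) ∧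
      (p = q → (Q : Subgroup G).Normal ∧ ∃ N : Subgroup G, N.Normal ∧ N.IsComplement' (Q : Subgroup G)) ∧
      (p ≠ q → IsMulCommutative (Q : Subgroup G) ∧ (Cfsg.pCore p G ⊔ (Q : Subgroup G)).Normal ∧
        ∀ _h : (Cfsg.pPrimeCore q G).Normal, Group.IsSolvable (G ⧸ Cfsg.pPrimeCore q G)) := by
  haveI : (⊥ : Subgroup G).Normal := inferInstance
  have hB : Cfsg.Agent.FGS3.BaerPrime.Hyp q G := fun x hx => by
    obtain ⟨r, a, h⟩ := hBaer x hx
    exact ⟨r, a, h⟩
  have part : (Q : Subgroup G).Normal →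
      ∃ K L : Subgroup G, K.Normal ∧ L.Normal ∧ K ≤ L ∧ (Nat.card K).Coprime q ∧
        (∃ m : ℕ, K.relIndex L = q ^ m) ∧ L.index.Coprime q := fun hQn => by
    obtain ⟨m, hm⟩ := IsPGroup.iff_card.1 Q.2
    exact ⟨⊥, Q, inferInstance, hQn, bot_le, by rw [Subgroup.card_bot]; exact Nat.coprime_one_left q,
      ⟨m, by rw [Subgroup.relIndex_bot_left, hm]⟩,
      (((Fact.out : q.Prime).coprime_iff_not_dvd).2 Q.not_dvd_index).symm⟩
  by_cases hab : ∀ x ∈ (Q : Subgroup G), ∀ z ∈ (Q : Subgroup G), x * z = z * x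
  · by_cases hcen : ∀ z ∈ (Q : Subgroup G), z ∈ Subgroup.center G
    · obtain ⟨hQn, hN⟩ := Cfsg.Agent.FGS3.BaerPrime.direct_of_central Q hcen
      refine ⟨part hQn, q, Fact.out, fun x hx => ⟨0, ?_⟩, fun _ => ⟨hQn, hN⟩, fun h => absurd rfl h⟩
      obtain ⟨g, hg⟩ := Cfsg.Agent.FGS3.BaerPrime.exists_conj_mem Q hx
      rw [← Cfsg.Agent.FGS3.BaerPrime.index_centralizer_conj g x, pow_zero, Subgroup.index_eq_one]
      exact eq_top_iff.2 fun u _ => Subgroup.mem_centralizer_singleton_iff.2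
        (Subgroup.mem_center_iff.1 (hcen _ hg) u)
    push Not at hcen
    obtain ⟨z₀, hz₀, hz₀c⟩ := hcen
    obtain ⟨p, hp, hpq, hpp⟩ := Cfsg.Agent.FGS3.BaerPrime.exists_prime Q hB hab hz₀ hz₀c
    haveI := Fact.mk hp
    have hL := Cfsg.Agent.FGS3.BaerPrime.L_eq_sup Q hpp
    have hsup : (Cfsg.pCore p G ⊔ (Q : Subgroup G)).Normal := hL ▸ inferInstance
    refine ⟨⟨Cfsg.pCore p G, Cfsg.pCore p G ⊔ (Q : Subgroup G), inferInstance, hsup, le_sup_left, ?_, ?_, ?_⟩,
      p, hp, hpp, fun e => absurd e hpq, fun _ => ⟨⟨⟨fun x z => Subtype.ext (hab x x.2 z z.2)⟩⟩, hsup,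
        fun h => ?_⟩⟩
    · obtain ⟨k, hk⟩ := IsPGroup.iff_card.1 (Cfsg.Agent.Core.isPGroup_pCore p G)
      rw [hk]
      exact ((Nat.coprime_primes hp (Fact.out : q.Prime)).2 hpq).pow_left k
    · obtain ⟨m, hm⟩ := IsPGroup.iff_card.1
        (Q.2.map (QuotientGroup.mk' (Cfsg.pCore p G)))
      refine ⟨m, ?_⟩
      have h := Subgroup.relIndex_ker (f := QuotientGroup.mk' (Cfsg.pCore p G))
        (K := Cfsg.pCore p G ⊔ (Q : Subgroup G))
      rw [QuotientGroup.ker_mk', Subgroup.map_sup, QuotientGroup.map_mk'_self, bot_sup_eq] at h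
      exact h.trans hm
    · exact Nat.Coprime.coprime_dvd_left (Subgroup.index_dvd_of_le le_sup_right)
        (((Fact.out : q.Prime).coprime_iff_not_dvd).2 Q.not_dvd_index).symm
    · haveI := h
      exact Cfsg.Agent.FGS3.BaerPrime.solvable_quotient hpq Q hab hpp hsup
  · have hQn : (Q : Subgroup G).Normal := by
      by_contra hQn
      exact hab (Cfsg.Agent.FGS3.BaerPrime.comm_of_not_normal Q hB hQn)
    obtain ⟨N, hN, hNQ, hNc⟩ := Cfsg.Agent.FGS3.BaerPrime.direct_of_normal_noncomm Q hB hQn hab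
    haveI := hQn
    refine ⟨part hQn, q, Fact.out, fun x hx => ?_, fun _ => ⟨hQn, N, hN, hNQ⟩, fun h => absurd rfl h⟩
    obtain ⟨g, hg⟩ := Cfsg.Agent.FGS3.BaerPrime.exists_conj_mem Q hx
    rw [← Cfsg.Agent.FGS3.BaerPrime.index_centralizer_conj g x]
    obtain ⟨m, hm⟩ := IsPGroup.iff_card.1 Q.2
    have hle : N ≤ Subgroup.centralizer ({g * x * g⁻¹} : Set G) := fun n hn =>
      Subgroup.mem_centralizer_singleton_iff.2 (hNc n hn _ hg)
    have hdvd := Subgroup.index_dvd_of_le hle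
    rw [hNQ.symm.index_eq_card, hm] at hdvd
    exact ((Nat.dvd_prime_pow (Fact.out : q.Prime)).1 hdvd).imp fun _ h => h.2

end Cfsg.Agent.S4125
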