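import Cfsg.Statements.S4145
import Cfsg.Agent.Transfer.Burnside
import Cfsg.Agent.Core.PiSeparable
-- import your own Cfsg.Agent.* helpers here

set_option autoImplicit false
open Cfsg

namespace Cfsg.Agent.S4145


open Cfsg.Agent.Transfer in
/-- In the normalizer of an abelian Sylow subgroup, p-elements modulo the centralizer are trivial. -/
private theorem mem_centralizer_of_pow {G : Type*} [Group G] [Finite G] {p : ℕ} [Fact p.Prime]
    (P : Sylow p G) (hc : (P : Subgroup G) ≤ Subgroup.centralizer (P : Set G)) {g : G}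
    (hg : g ∈ Subgroup.normalizer (P : Set G)) {k : ℕ}
    (hk : g ^ p ^ k ∈ Subgroup.centralizer (P : Set G)) :
    g ∈ Subgroup.centralizer (P : Set G) := by
  set N := Subgroup.normalizer (P : Set G)
  set C0 := (Subgroup.centralizer (P : Set G)).subgroupOf N
  haveI : C0.Normal := centralizer_subgroupOf_normalizer_normal _
  have h1 : (QuotientGroup.mk' C0 ⟨g, hg⟩) ^ p ^ k = 1 := by
    rw [← map_pow]
    refine (QuotientGroup.eq_one_iff _).2 ?_
    rw [Subgroup.mem_subgroupOf, Subgroup.coe_pow]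
    exact hk
  have h2 : ¬ p ∣ C0.index := by
    intro hd
    apply P.not_dvd_index
    refine hd.trans ((show C0.index ∣ (P : Subgroup G).relIndex N from ?_).trans
      (Subgroup.relIndex_dvd_index_of_le Subgroup.le_normalizer))
    exact Subgroup.relIndex_dvd_of_le_left N hc
  have h3 : orderOf (QuotientGroup.mk' C0 ⟨g, hg⟩) ∣ C0.index := by
    rw [Subgroup.index_eq_card]; exact orderOf_dvd_natCard _
  obtain ⟨i, -, hi⟩ := (Nat.dvd_prime_pow Fact.out).1 (orderOf_dvd_of_pow_eq_one h1)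
  rw [hi] at h3
  rcases Nat.eq_zero_or_pos i with rfl | hi0
  · rw [pow_zero, orderOf_eq_one_iff] at hi
    exact Subgroup.mem_subgroupOf.1 ((QuotientGroup.eq_one_iff _).1 hi)
  · exact absurd ((dvd_pow_self p hi0.ne').trans h3) h2

/-- An automorphism congruent to `1` modulo `p` on a p-element has p-power order there. -/
private theorem pow_conj_eq {G : Type*} [Group G] {p : ℕ} [Fact p.Prime] {g d : G} {e : ℕ}
    (hd : d ^ p ^ e = 1) {r : ℤ} (hr : (p : ℤ) ∣ r - 1) (h : g * d * g⁻¹ = d ^ r) :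
    g ^ p ^ e * d * (g ^ p ^ e)⁻¹ = d := by
  have key : ∀ n : ℕ, g ^ n * d * (g ^ n)⁻¹ = d ^ (r ^ n) := by
    intro n
    induction n with
    | zero => simp
    | succ n ih =>
      calc g ^ (n + 1) * d * (g ^ (n + 1))⁻¹ = g * (g ^ n * d * (g ^ n)⁻¹) * g⁻¹ := by
            rw [pow_succ']; group
        _ = g * d ^ (r ^ n) * g⁻¹ := by rw [ih]
        _ = (g * d * g⁻¹) ^ (r ^ n) := by rw [conj_zpow]
        _ = d ^ (r ^ (n + 1)) := by rw [h, ← zpow_mul, pow_succ']
  rw [key]
  obtain ⟨m, hm⟩ := dvd_sub_pow_of_dvd_sub hr e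
  rw [one_pow] at hm
  have h2 : r ^ p ^ e = (p : ℤ) ^ (e + 1) * m + 1 := by rw [← hm]; ring
  have h3 : d ^ ((p : ℤ) ^ (e + 1)) = 1 := by
    rw [← Nat.cast_pow, zpow_natCast, pow_succ, pow_mul, hd, one_pow]
  rw [h2, zpow_add, zpow_mul, h3, one_zpow, one_mul, zpow_one]

open Cfsg.Agent.Core in
private theorem isPSolvable_of_hasNormalPComplement {G : Type*} [Group G] [Finite G] {p : ℕ}
    [Fact p.Prime] (h : Cfsg.HasNormalPComplement p G) : Cfsg.IsPSolvable p G := by
  obtain ⟨N, hN, hc, k, hk⟩ := Cfsg.Agent.Transfer.hasNormalPComplement_iff_exists.1 h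
  refine isPSolvable_of_normal N ?_ ?_
  · rw [isPSolvable_iff]
    exact isPiSeparable_compl (π := {p}ᶜ) (isPiSeparable_of_isPiNat
      ((isPiNat_compl_singleton_iff_coprime Fact.out).2 hc)) |> fun h => by rwa [compl_compl] at h
  · rw [isPSolvable_iff]
    refine isPiSeparable_of_isPiNat ?_
    rw [← Subgroup.index_eq_card, hk]
    exact isPiNat_prime_pow Fact.out (Set.mem_singleton p) k

/-- Let G be a finite group with a cyclic Sylow p-subgroup and H a normal subgroup such that p divides both the order of H and the index of H. Then H has a normal p-complement and G is p-solvable. -/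
theorem result {G : Type*} [Group G] [Finite G] (p : ℕ) [Fact p.Prime]
    (P : Sylow p G) (hP : IsCyclic (P : Subgroup G)) (H : Subgroup G) [H.Normal] (h1 : p ∣ Nat.card H) (h2 : p ∣ H.index) :
    Cfsg.HasNormalPComplement p H ∧ Cfsg.IsPSolvable p G := by
  classical
  have hpp : p.Prime := Fact.out
  obtain ⟨⟨x, hxP⟩, hx⟩ := hP.exists_generator
  set D : Subgroup G := (P : Subgroup G) ⊓ H with hD
  let PH := Cfsg.Agent.Transfer.sylowOfNormal P H
  have hDne : D ≠ ⊥ := by
    intro e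
    apply PH.ne_bot_of_dvd_card h1
    rw [Cfsg.Agent.Transfer.coe_sylowOfNormal, Subgroup.subgroupOf_eq_bot, disjoint_iff]
    exact e
  have hxH : x ∉ H := by
    intro hxH
    apply P.not_dvd_index
    refine h2.trans (Subgroup.index_dvd_of_le fun y hy => ?_)
    obtain ⟨k, hk⟩ := Subgroup.mem_zpowers_iff.1 (hx ⟨y, hy⟩)
    rw [show y = x ^ k from (congrArg Subtype.val hk).symm]
    exact zpow_mem hxH k
  obtain ⟨e, he⟩ := IsPGroup.iff_orderOf.1 P.2 ⟨x, hxP⟩
  rw [Subgroup.orderOf_mk] at he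
  have hxpow : ∀ y ∈ (P : Subgroup G), ∃ k : ℤ, x ^ k = y := fun y hy => by
    obtain ⟨k, hk⟩ := Subgroup.mem_zpowers_iff.1 (hx ⟨y, hy⟩)
    exact ⟨k, congrArg Subtype.val hk⟩
  have hdvd : ∀ i : ℤ, x ^ i ∈ H → (p : ℤ) ∣ i := by
    intro i hi
    by_contra hnd
    apply hxH
    have hco : IsCoprime i ((p : ℤ) ^ e) :=
      ((Nat.prime_iff_prime_int.1 hpp).coprime_iff_not_dvd.2 hnd).symm.pow_right
    obtain ⟨a, b, hab⟩ := hco
    have : x = (x ^ i) ^ a := by
      calc x = x ^ (a * i + b * (p : ℤ) ^ e) := by rw [hab, zpow_one]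
        _ = (x ^ i) ^ a := by
          rw [zpow_add, mul_comm b, zpow_mul x ((p : ℤ) ^ e),
            show x ^ ((p : ℤ) ^ e) = 1 by
              rw [← Nat.cast_pow, zpow_natCast, ← he, pow_orderOf_eq_one],
            one_zpow, mul_one, mul_comm, zpow_mul]
    rw [this]
    exact zpow_mem hi a
  obtain ⟨d0, hd0, hd01⟩ := (Subgroup.ne_bot_iff_exists_ne_one.1 hDne : ∃ a : D, a ≠ 1) |>
    fun ⟨a, ha⟩ => (⟨(a : G), a.2, fun h => ha (Subtype.ext h)⟩ : ∃ y ∈ D, y ≠ (1 : G))
  have hPcomm : (P : Subgroup G) ≤ Subgroup.centralizer (P : Set G) := fun a ha =>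
    Subgroup.mem_centralizer_iff.2 fun b hb => by
      obtain ⟨i, rfl⟩ := hxpow a ha
      obtain ⟨j, rfl⟩ := hxpow b hb
      exact zpow_mul_comm x j i
  have hpowfix : ∀ {g : G}, ∀ y ∈ (P : Subgroup G), g * x * g⁻¹ = x → g * y * g⁻¹ = y := by
    intro g y hy h
    obtain ⟨i, rfl⟩ := hxpow y hy
    rw [← conj_zpow, h]
  set C := Subgroup.centralizer (D : Set G) with hC
  have hPC : (P : Subgroup G) ≤ C :=
    hPcomm.trans (Subgroup.centralizer_le fun y hy => hy.1)
  have hCp : Cfsg.HasNormalPComplement p C := by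
    refine Cfsg.Agent.Transfer.hasNormalPComplement_of_normalizer_le_centralizer (P.subtype hPC)
      fun g hg => ?_
    have hmem : ∀ y : G, ∀ hy : y ∈ C, (⟨y, hy⟩ : C) ∈ ((P.subtype hPC : Sylow p C) : Subgroup C) ↔
        y ∈ (P : Subgroup G) := fun y hy => by
      rw [Sylow.coe_subtype, Subgroup.mem_subgroupOf]
    have hgN : (g : G) * x * (g : G)⁻¹ ∈ (P : Subgroup G) := by
      have := (Subgroup.mem_normalizer_iff.1 hg ⟨x, hPC hxP⟩).1 ((hmem _ _).2 hxP)
      exact (hmem _ (g * ⟨x, hPC hxP⟩ * g⁻¹).2).1 this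
    obtain ⟨r, hr⟩ := hxpow _ hgN
    have hd0P := hd0.1
    obtain ⟨i, hi⟩ := hxpow d0 hd0P
    have h4 : d0 ^ r = d0 := by
      calc d0 ^ r = (x ^ r) ^ i := by rw [← hi, ← zpow_mul, ← zpow_mul, mul_comm]
        _ = (g : G) * d0 * (g : G)⁻¹ := by rw [hr, conj_zpow, hi]
        _ = d0 := by rw [← Subgroup.mem_centralizer_iff.1 g.2 d0 hd0, mul_inv_cancel_right]
    obtain ⟨e0, he0⟩ := IsPGroup.iff_orderOf.1 P.2 ⟨d0, hd0P⟩
    rw [Subgroup.orderOf_mk] at he0
    have hr1 : (p : ℤ) ∣ r - 1 := by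
      have h5 : (orderOf d0 : ℤ) ∣ r - 1 := orderOf_dvd_iff_zpow_eq_one.2 (by
        rw [zpow_sub, zpow_one, h4, mul_inv_cancel])
      refine Dvd.dvd.trans ?_ h5
      rw [he0]
      refine Int.natCast_dvd_natCast.2 (dvd_pow_self p fun h0 => hd01 ?_)
      rw [← orderOf_eq_one_iff, he0, h0, pow_zero]
    have h6 := pow_conj_eq (e := e) (he ▸ pow_orderOf_eq_one x) hr1 hr.symm
    refine mem_centralizer_of_pow (P.subtype hPC) ?_ hg (k := e)
      (Subgroup.mem_centralizer_iff.2 fun y hy => Subtype.ext ?_)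
    · intro a ha
      refine Subgroup.mem_centralizer_iff.2 fun b hb => Subtype.ext ?_
      exact Subgroup.mem_centralizer_iff.1 (hPcomm ((hmem a a.2).1 ha)) b ((hmem b b.2).1 hb)
    · show (y : G) * ((g ^ p ^ e : C) : G) = ((g ^ p ^ e : C) : G) * y
      rw [Subgroup.coe_pow]
      exact (mul_inv_eq_iff_eq_mul.1 (hpowfix (y : G) ((hmem y y.2).1 hy) h6)).symm
  have hHp : Cfsg.HasNormalPComplement p H := by
    refine Cfsg.Agent.Transfer.hasNormalPComplement_of_normalizer_le_centralizer PH fun g hg => ?_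
    have hmemH : ∀ y : G, ∀ hy : y ∈ H, (⟨y, hy⟩ : H) ∈ (PH : Subgroup H) ↔
        y ∈ (P : Subgroup G) := fun y hy => by
      rw [Cfsg.Agent.Transfer.coe_sylowOfNormal, Subgroup.mem_subgroupOf]
    have hgD : ∀ y : G, y ∈ D ↔ (g : G) * y * (g : G)⁻¹ ∈ D := fun y => by
      constructor
      · rintro ⟨hy1, hy2⟩
        have := (Subgroup.mem_normalizer_iff.1 hg ⟨y, hy2⟩).1 ((hmemH _ _).2 hy1)
        exact ⟨(hmemH _ (g * ⟨y, hy2⟩ * g⁻¹).2).1 this, (g * ⟨y, hy2⟩ * g⁻¹).2⟩
      · rintro ⟨hy1, hy2⟩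
        have hyH : y ∈ H := by
          have := H.mul_mem (H.mul_mem (inv_mem g.2) hy2) g.2
          simpa [mul_assoc] using this
        exact ⟨(hmemH y hyH).1 ((Subgroup.mem_normalizer_iff.1 hg ⟨y, hyH⟩).2
          ((hmemH _ (g * ⟨y, hyH⟩ * g⁻¹).2).2 hy1)), hyH⟩
    have hCg : ∀ c : G, c ∈ C → (g : G) * c * (g : G)⁻¹ ∈ C := by
      intro c hc
      refine Subgroup.mem_centralizer_iff.2 fun y hy => ?_
      have hy' : (g : G)⁻¹ * y * g ∈ D := (hgD _).2 (by simpa [mul_assoc] using hy)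
      have h3 := congrArg (fun t => (g : G) * t * (g : G)⁻¹)
        (Subgroup.mem_centralizer_iff.1 hc _ hy')
      simpa [mul_assoc] using h3
    -- the conjugate of P is a Sylow subgroup of the centralizer
    have hQ : (((g : G) • P : Sylow p G) : Subgroup G) =
        (P : Subgroup G).map (MulAut.conj (g : G)).toMonoidHom := rfl
    have hQC : (((g : G) • P : Sylow p G) : Subgroup G) ≤ C := by
      rw [hQ]
      rintro _ ⟨y, hy, rfl⟩
      exact hCg y (hPC hy)
    obtain ⟨c, hc⟩ : ∃ c : C, c • (P.subtype hPC) = ((g : G) • P).subtype hQC :=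
      MulAction.exists_smul_eq C _ _
    obtain ⟨y, hy, hyx⟩ : ∃ y ∈ (P : Subgroup G), (c : G) * y * (c : G)⁻¹ = g * x * (g : G)⁻¹ := by
      have hmem2 : (⟨g * x * (g : G)⁻¹, hCg x (hPC hxP)⟩ : C) ∈
          ((((g : G) • P).subtype hQC : Sylow p C) : Subgroup C) := by
        rw [Sylow.coe_subtype, Subgroup.mem_subgroupOf]
        rw [hQ]
        exact Subgroup.mem_map.2 ⟨x, hxP, rfl⟩
      rw [← hc] at hmem2
      obtain ⟨y, hy, hy'⟩ := Subgroup.mem_map.1 hmem2
      exact ⟨y, Subgroup.mem_subgroupOf.1 (show y ∈ (P : Subgroup G).subgroupOf C from hy),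
        congrArg Subtype.val hy'⟩
    set y' := y * x⁻¹
    have hy'P : y' ∈ (P : Subgroup G) := mul_mem hy (inv_mem hxP)
    have hy'H : y' ∈ H := by
      let f : C →* G ⧸ H := (QuotientGroup.mk' H).comp C.subtype
      have hfK : ∀ k ∈ Cfsg.pResidual p C, f k ∈ (Subgroup.zpowers (f ⟨x, hPC hxP⟩)) → f k = 1 := by
        intro k hk hkx
        have h5 := (Cfsg.Agent.Transfer.mem_pResidual_iff hCp).1 hk
        have h6 : orderOf (f k) ∣ p ^ e := by
          refine (Subgroup.orderOf_dvd_natCard _ hkx).trans ?_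
          rw [Nat.card_zpowers]
          refine (orderOf_map_dvd f _).trans (dvd_of_eq ?_)
          rw [← he, Subgroup.orderOf_mk]
        exact orderOf_eq_one_iff.1 (Nat.eq_one_of_dvd_coprimes (h5.pow_right e)
          (orderOf_map_dvd f k) h6)
      -- modulo the kernel, c⁻¹ x c x⁻¹ lies in the p-residual
      obtain ⟨u, hu, k, hk, huk⟩ : ∃ u ∈ ((P.subtype hPC : Sylow p C) : Subgroup C),
          ∃ k ∈ Cfsg.pResidual p C, u * k = c := by
        refine Subgroup.mem_sup_of_normal_right.1 ?_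
        rw [Cfsg.Agent.Transfer.sylow_sup_pResidual]
        exact Subgroup.mem_top _
      let xc : C := ⟨x, hPC hxP⟩
      have hux : Commute u xc := by
        rw [Sylow.coe_subtype, Subgroup.mem_subgroupOf] at hu
        exact Subtype.ext (Subgroup.mem_centralizer_iff.1 (hPcomm hxP) _ hu)
      have hK : c⁻¹ * xc * c * xc⁻¹ ∈ Cfsg.pResidual p C := by
        have h9 : c⁻¹ * xc * c * xc⁻¹ = k⁻¹ * (xc * k * xc⁻¹) := by
          rw [← huk]
          calc (u * k)⁻¹ * xc * (u * k) * xc⁻¹ = k⁻¹ * (u⁻¹ * (xc * u)) * k * xc⁻¹ := by group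
            _ = k⁻¹ * xc * k * xc⁻¹ := by rw [← hux.eq, inv_mul_cancel_left]
            _ = _ := by group
        rw [h9]
        exact mul_mem (inv_mem hk) (Cfsg.Agent.Transfer.pResidual_normal.conj_mem k hk xc)
      have hyc : y = (c : G)⁻¹ * (g * x * (g : G)⁻¹) * c := by rw [← hyx]; group
      have hg1 : QuotientGroup.mk' H (g : G) = 1 := (QuotientGroup.eq_one_iff _).2 g.2
      have h7 : f (c⁻¹ * xc * c * xc⁻¹) = QuotientGroup.mk' H y' := by
        simp only [f, y', xc, hyc, MonoidHom.comp_apply, map_mul, map_inv, hg1, one_mul, mul_one,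
          inv_one]
        rfl
      have h8 := hfK _ hK (by
        rw [h7]
        obtain ⟨i, hi⟩ := hxpow y' hy'P
        exact ⟨i, by rw [← hi, map_zpow]; rfl⟩)
      rw [h7] at h8
      exact (QuotientGroup.eq_one_iff y').1 h8
    obtain ⟨i, hi⟩ := hxpow y' hy'P
    have hip := hdvd i (hi.symm ▸ hy'H)
    have hyr : y = x ^ (i + 1) := by
      rw [zpow_add_one, hi]
      simp [y']
    have hgd : ∀ z ∈ D, (g : G) ^ p ^ e * z * ((g : G) ^ p ^ e)⁻¹ = z := by
      rintro z hz
      obtain ⟨t, ht⟩ := hxpow z hz.1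
      refine pow_conj_eq (r := i + 1) ?_ (by simpa using hip) ?_
      · rw [← ht, ← zpow_natCast, ← zpow_mul, mul_comm, zpow_mul, zpow_natCast,
          show x ^ p ^ e = 1 from he ▸ pow_orderOf_eq_one x, one_zpow]
      · have h3 : (g : G) * z * (g : G)⁻¹ = (c : G) * y ^ t * (c : G)⁻¹ := by
          rw [← ht, ← conj_zpow, ← hyx, conj_zpow]
        have h4 : (g : G) * z * (g : G)⁻¹ ∈ D := (hgD z).1 hz
        have h5 : y ^ t = (g : G) * z * (g : G)⁻¹ := by
          have h6 := Subgroup.mem_centralizer_iff.1 c.2 _ h4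
          rw [h3] at h6
          have h7 : (c : G) * y ^ t * (c : G)⁻¹ * c = (c : G) * ((c : G) * y ^ t * (c : G)⁻¹) := h6
          rw [inv_mul_cancel_right] at h7
          have h8 := mul_left_cancel h7
          rw [h3]
          exact h8
        rw [← h5, hyr, ← ht, ← zpow_mul, ← zpow_mul, mul_comm]
    have hcomm : (PH : Subgroup H) ≤ Subgroup.centralizer (PH : Set H) := fun a ha =>
      Subgroup.mem_centralizer_iff.2 fun b hb => Subtype.ext
        (Subgroup.mem_centralizer_iff.1 (hPcomm ((hmemH a a.2).1 ha)) b ((hmemH b b.2).1 hb))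
    refine mem_centralizer_of_pow PH hcomm hg (k := e)
      (Subgroup.mem_centralizer_iff.2 fun b hb => Subtype.ext ?_)
    show (b : G) * ((g ^ p ^ e : H) : G) = ((g ^ p ^ e : H) : G) * b
    rw [Subgroup.coe_pow]
    exact (mul_inv_eq_iff_eq_mul.1 (hgd b ⟨(hmemH b b.2).1 hb, b.2⟩)).symm
  refine ⟨hHp, Cfsg.Agent.Core.isPSolvable_of_normal H (isPSolvable_of_hasNormalPComplement hHp) ?_⟩
  -- the quotient is an image of the normalizer of D
  set N := Subgroup.normalizer (D : Set G) with hN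
  have hNtop : N ⊔ H = ⊤ := by
    have h3 := Sylow.normalizer_sup_eq_top PH
    have h4 : ((PH : Subgroup H).map H.subtype) = D := by
      rw [Cfsg.Agent.Transfer.coe_sylowOfNormal, Subgroup.subgroupOf_map_subtype]
    rwa [h4] at h3
  haveI : (C.subgroupOf N).Normal :=
    Cfsg.Agent.Transfer.centralizer_subgroupOf_normalizer_normal D
  have hNs : Cfsg.IsPSolvable p N := by
    refine Cfsg.Agent.Core.isPSolvable_of_normal (C.subgroupOf N) ?_ ?_
    · exact Cfsg.Agent.Core.isPSolvable_congr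
        (Subgroup.subgroupOfEquivOfLe (Subgroup.centralizer_le_normalizer _)).symm
        (isPSolvable_of_hasNormalPComplement hCp)
    · haveI : IsCyclic D := by
        haveI := hP
        exact isCyclic_of_injective (Subgroup.inclusion (inf_le_left : D ≤ (P : Subgroup G)))
          (Subgroup.inclusion_injective _)
      have hker : (D.normalizerMonoidHom).ker = C.subgroupOf N := Subgroup.normalizerMonoidHom_ker D
      haveI hsol : Group.IsSolvable (N ⧸ C.subgroupOf N) := by
        let E : N ⧸ C.subgroupOf N →* MulAut D :=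
          QuotientGroup.lift _ D.normalizerMonoidHom hker.ge
        refine Group.isSolvable_of_comm fun a b => ?_
        have hE : Function.Injective E := by
          rw [injective_iff_map_eq_one]
          intro a ha
          obtain ⟨a, rfl⟩ := QuotientGroup.mk'_surjective (C.subgroupOf N) a
          refine (QuotientGroup.eq_one_iff a).2 ?_
          rw [← hker]
          exact ha
        apply hE
        rw [map_mul, map_mul]
        apply (IsCyclic.mulAutMulEquiv D).injective
        rw [map_mul, map_mul, mul_comm]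
      exact Cfsg.Agent.Core.isPSolvable_of_isSolvable
  let π : N →* G ⧸ H := (QuotientGroup.mk' H).comp N.subtype
  have hπ : Function.Surjective π := by
    intro q
    obtain ⟨g, rfl⟩ := QuotientGroup.mk'_surjective H q
    obtain ⟨n, hn, h, hh, rfl⟩ := Subgroup.mem_sup_of_normal_right.1
      (show g ∈ N ⊔ H from hNtop ▸ Subgroup.mem_top g)
    refine ⟨⟨n, hn⟩, ?_⟩
    show QuotientGroup.mk' H n = QuotientGroup.mk' H (n * h)
    rw [map_mul, show QuotientGroup.mk' H h = 1 from (QuotientGroup.eq_one_iff h).2 hh, mul_one]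
  exact Cfsg.Agent.Core.isPSolvable_congr (QuotientGroup.quotientKerEquivOfSurjective π hπ)
    (Cfsg.Agent.Core.isPSolvable_quotient hNs π.ker)

end Cfsg.Agent.S4145
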