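import Cfsg.Statements.S4302
import Cfsg.Agent.PLocal.OffenderQuotient
import Cfsg.Agent.PLocal.OffenderSymmetry
import Cfsg.Agent.PLocal.OffenderDirect
import Cfsg.Agent.Linear.SmallIso
import Cfsg.Agent.Core.MinimalNormal
import Cfsg.Agent.Transfer.Basic
import Cfsg.Agent.PLocal.AbelianOffenderSquare

set_option autoImplicit false
set_option linter.style.haveILetI false
open Cfsg

namespace Cfsg.Agent.S4302

open Cfsg.Agent.PLocal
open scoped commutatorElement

universe u

variable {X : Type u} [Group X] [Finite X]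

theorem centralizer_fittingSubgroup_le_two [Group.IsSolvable X]
    (hF : Cfsg.fittingSubgroup X = Cfsg.pCore 2 X) :
    Subgroup.centralizer (Cfsg.pCore 2 X : Set X) ≤ Cfsg.pCore 2 X := by
  rw [← hF]
  exact Cfsg.Agent.Core.centralizer_fittingSubgroup_le

/-- The group induced on `V` by a normal subgroup generated by best offenders. -/
theorem exists_pi_equiv [Group.IsSolvable X] (V : Subgroup X) [V.Normal]
    (hV : Cfsg.IsElementaryAbelian 2 V)
    (hO : Cfsg.pCore 2 (X ⧸ Subgroup.centralizer (V : Set X)) = ⊥) (N : Subgroup X) [N.Normal]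
    (hgen : N = ⨆ A : {A : Subgroup X // A ≤ N ∧ Cfsg.IsBestOffenderOn 2 V A}, (A : Subgroup X))
    (hN : ¬ N ≤ Subgroup.centralizer (V : Set X))
    (C : Subgroup X) (hC : C = Subgroup.centralizer (V : Set X)) [C.Normal] :
    ∃ n : ℕ, 1 ≤ n ∧ Nonempty (↥N ⧸ C.subgroupOf N ≃* (Fin n → Equiv.Perm (Fin 3))) := by
  haveI : Fact (Nat.Prime 2) := ⟨Nat.prime_two⟩
  classical
  set f := ambMap V with hf
  set H := N.map f with hH
  have hHV : H ≤ Subgroup.normalizer (ambV V : Set (Amb V)) :=
    (MonoidHom.range_eq_map f ▸ Subgroup.map_mono le_top : H ≤ f.range).trans (range_le_normalizer V)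
  have hfaith : H ⊓ Subgroup.centralizer (ambV V : Set (Amb V)) = ⊥ :=
    le_bot_iff.mp ((range_inf_centralizer V) ▸ inf_le_inf_right _
      (MonoidHom.range_eq_map f ▸ Subgroup.map_mono le_top))
  have hc : OffCtx 2 (ambV V) H := by
    refine offCtx_of (ambV_EA V hV) hHV hfaith ?_
    set Nb := N.map (QuotientGroup.mk' (Subgroup.centralizer (V : Set X))) with hNb
    haveI : Nb.Normal := Subgroup.Normal.map inferInstance _ (QuotientGroup.mk'_surjective _)
    have e : Nb ≃* H := (Subgroup.equivMapOfInjective Nb SemidirectProduct.inr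
      (SemidirectProduct.inr_injective (φ := conjQuot V))).trans
        (MulEquiv.subgroupCongr (by rw [hNb, Subgroup.map_map]; rfl))
    have hsep : Cfsg.IsPSolvable 2 X := Core.isPSolvable_of_isSolvable
    have hsol : Cfsg.IsPSolvable 2 H :=
      Core.isPSolvable_congr e (Core.isPSolvable_subgroup (Core.isPSolvable_quotient hsep _) _)
    have hcore : Cfsg.pCore 2 H = ⊥ :=
      (Core.pCore_eq_bot_congr e).mp (Core.pCore_eq_bot_of_normal Nb hO)
    have h := Core.centralizer_piCore_le (Core.isPiSeparable_compl (Core.isPiSeparable_of_isPSolvable hsol))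
      (by rw [compl_compl, ← Core.pCore_eq_piCore, hcore])
    rwa [← Core.pPrimeCore_eq_piCore] at h
  have hgenH : H = ⨆ A : {A : Subgroup (Amb V) // A ≤ H ∧ Cfsg.IsBestOffenderOn 2 (ambV V) A},
      (A : Subgroup (Amb V)) := by
    refine le_antisymm ?_ (iSup_le fun A => A.2.1)
    conv_lhs => rw [hH, hgen, Subgroup.map_iSup]
    exact iSup_le fun A => le_iSup
      (fun B : {B : Subgroup (Amb V) // B ≤ H ∧ Cfsg.IsBestOffenderOn 2 (ambV V) B} =>
        (B : Subgroup (Amb V))) ⟨A.1.map f, Subgroup.map_mono A.2.1, offender_map V A.2.2⟩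
  have hH1 : H ≠ ⊥ := fun e => hN ((Subgroup.map_eq_bot_iff _).mp e |>.trans (ambMap_ker V).le)
  haveI : Fintype (OffCtx.Factor 2 (ambV V) H) := Fintype.ofFinite _
  set ι := OffCtx.Factor 2 (ambV V) H
  have hsup := hc.factor_iSup hgenH
  have hind := hc.factor_iSupIndep hgenH
  have hle : ∀ E : ι, (E : Subgroup (Amb V)) ≤ H := fun E =>
    (le_iSup (fun E : ι => (E : Subgroup (Amb V))) E).trans hsup.le
  have hnorm : ∀ E : ι, H ≤ Subgroup.normalizer ((E : Subgroup (Amb V)) : Set (Amb V)) := by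
    intro E
    obtain ⟨A, hA, hTA, eA⟩ := hc.factor_spec E
    rw [eA]
    exact hc.H_normalizes hgenH hA hTA
  have hcomm : Pairwise fun E F : ι => ∀ (x : (E : Subgroup (Amb V))) (y : (F : Subgroup (Amb V))),
      Commute ((E : Subgroup (Amb V)).subtype x) ((F : Subgroup (Amb V)).subtype y) := by
    intro E F hne x y
    have hd : Disjoint (E : Subgroup (Amb V)) (F : Subgroup (Amb V)) := hind.pairwiseDisjoint hne
    have h1 : (x : Amb V) * y * (x : Amb V)⁻¹ * (y : Amb V)⁻¹ ∈ (E : Subgroup (Amb V)) := by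
      rw [show (x : Amb V) * y * (x : Amb V)⁻¹ * (y : Amb V)⁻¹ = x * ((y : Amb V) * (x : Amb V)⁻¹ * (y : Amb V)⁻¹) by group]
      exact Subgroup.mul_mem _ x.2
        ((Subgroup.mem_normalizer_iff.mp (hnorm E (hle F y.2)) _).mp (Subgroup.inv_mem _ x.2))
    have h2 : (x : Amb V) * y * (x : Amb V)⁻¹ * (y : Amb V)⁻¹ ∈ (F : Subgroup (Amb V)) :=
      Subgroup.mul_mem _ ((Subgroup.mem_normalizer_iff.mp (hnorm F (hle E x.2)) _).mp y.2)
        (Subgroup.inv_mem _ y.2)
    have h3 := Subgroup.disjoint_def.mp hd h1 h2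
    show (x : Amb V) * y = y * x
    calc (x : Amb V) * y = ((x : Amb V) * y * (x : Amb V)⁻¹ * (y : Amb V)⁻¹) * (y * x) := by group
      _ = y * x := by rw [h3, one_mul]
  let Ψ := MonoidHom.noncommPiCoprod (fun E : ι => (E : Subgroup (Amb V)).subtype) hcomm
  have hΨrange : Ψ.range = H := by
    rw [MonoidHom.noncommPiCoprod_range]
    simp only [Subgroup.range_subtype]
    exact hsup
  have hΨinj : Function.Injective Ψ :=
    MonoidHom.injective_noncommPiCoprod_of_iSupIndep _ (by simpa only [Subgroup.range_subtype] using hind)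
      fun E => Subgroup.subtype_injective _
  have hS3 : ∀ E : ι, Nonempty ((E : Subgroup (Amb V)) ≃* Equiv.Perm (Fin 3)) := by
    intro E
    obtain ⟨A, hA, hTA, eA⟩ := hc.factor_spec E
    obtain ⟨e1⟩ := (hc.eOff_decomp hA hTA).2.2.2
    obtain ⟨e2⟩ := Cfsg.Agent.Linear.SL2_two_iso (F := ZMod 2) (ZMod.card 2)
    exact ⟨(MulEquiv.subgroupCongr eA).trans (e1.trans e2)⟩
  let e3 := fun E => (hS3 E).some
  haveI : Nonempty ι := by
    by_contra h
    haveI := not_nonempty_iff.mp h
    apply hH1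
    rw [← hsup, iSup_of_empty]
  refine ⟨Fintype.card ι, Fintype.card_pos, ⟨?_⟩⟩
  let g : ↥N →* H := (f.comp N.subtype).codRestrict H fun x => ⟨x, x.2, rfl⟩
  have hgs : Function.Surjective g := by
    rintro ⟨_, x, hx, rfl⟩
    exact ⟨⟨x, hx⟩, rfl⟩
  have hgk : C.subgroupOf N = g.ker := by
    ext x
    show (x : X) ∈ C ↔ g x = 1
    rw [Subtype.ext_iff, hC]
    exact (SetLike.ext_iff.mp (ambMap_ker V) (x : X)).symm
  exact ((QuotientGroup.quotientMulEquivOfEq hgk).trans
    (QuotientGroup.quotientKerEquivOfSurjective g hgs)).trans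
    (((MonoidHom.ofInjective hΨinj).trans (MulEquiv.subgroupCongr hΨrange)).symm.trans
      ((MulEquiv.piCongrRight e3).trans
        { Equiv.arrowCongr (Fintype.equivFin ι) (Equiv.refl (Equiv.Perm (Fin 3))) with
          map_mul' := fun a b => rfl }))

theorem thompson_structure [Group.IsSolvable X] (T : Sylow 2 X)
    (hcon : Subgroup.centralizer (Cfsg.pCore 2 X : Set X) ≤ Cfsg.pCore 2 X)
    (Z : Subgroup X) (hZ : Z = (T : Subgroup X) ⊓ Subgroup.centralizer ((T : Subgroup X) : Set X))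
    (C : Subgroup X) [hCn : C.Normal] (hC : C = (Subgroup.centralizer (Z : Set X)).normalCore)
    (J : Subgroup X) (hJ : J = Cfsg.thompsonSubgroupAOf (T : Subgroup X))
    (N : Subgroup X) (hN : N = Subgroup.normalClosure (J : Set X)) :
    (C ⊔ N ⊔ Subgroup.normalizer (J : Set X) = ⊤) ∧
    (N ≤ C ∨ ∃ n : ℕ, 1 ≤ n ∧ Nonempty (↥N ⧸ C.subgroupOf N ≃* (Fin n → Equiv.Perm (Fin 3)))) := by
  haveI : Fact (Nat.Prime 2) := ⟨Nat.prime_two⟩
  haveI hNn : N.Normal := hN ▸ Subgroup.normalClosure_normal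
  have hJT : J ≤ (T : Subgroup X) := hJ ▸ Subgroup.map_subtype_le _
  have hJN : J ≤ N := hN ▸ Subgroup.subset_normalClosure
  have hmax : ∀ A : Subgroup ↥(T : Subgroup X), A ∈ Cfsg.maxAbelianSubgroups ↥(T : Subgroup X) →
      A.map (T : Subgroup X).subtype ≤ J := fun A hA =>
    hJ ▸ Subgroup.map_mono (le_sSup hA)
  constructor
  · -- the Frattini argument
    set TM : Sylow 2 ↥(C ⊔ N) := Cfsg.Agent.Transfer.sylowOfNormal T (C ⊔ N) with hTMdef
    have hfr := Sylow.normalizer_sup_eq_top TM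
    set Q := ((TM : Subgroup ↥(C ⊔ N))).map (C ⊔ N).subtype with hQdef
    have hQ : Q = (T : Subgroup X) ⊓ (C ⊔ N) := by
      rw [hQdef, hTMdef, Cfsg.Agent.Transfer.coe_sylowOfNormal, Subgroup.subgroupOf_map_subtype]
    rw [eq_top_iff, ← hfr, sup_comm]
    refine sup_le le_sup_left (le_trans ?_ le_sup_right)
    intro g hg
    have key : ∀ g ∈ Subgroup.normalizer (Q : Set X), ∀ j ∈ J, g * j * g⁻¹ ∈ J := by
      intro g hg
      have hle : J ≤ J.comap (MulAut.conj g).toMonoidHom := by
        conv_lhs => rw [hJ, Cfsg.thompsonSubgroupAOf, Cfsg.thompsonSubgroupA]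
        rw [Subgroup.map_le_iff_le_comap]
        refine sSup_le fun A hA => ?_
        intro a ha
        show g * (a : X) * g⁻¹ ∈ J
        have hmem : ∀ b ∈ A, g * (b : X) * g⁻¹ ∈ Q := fun b hb => by
          refine (Subgroup.mem_normalizer_iff.mp hg _).mp ?_
          rw [hQ]
          exact ⟨b.2, Subgroup.mem_sup_right (hJN (hmax A hA ⟨b, hb, rfl⟩))⟩
        set B := ((A.map (T : Subgroup X).subtype).map (MulAut.conj g).toMonoidHom).subgroupOf
          (T : Subgroup X) with hB
        have hBle : (A.map (T : Subgroup X).subtype).map (MulAut.conj g).toMonoidHom ≤ (T : Subgroup X) := by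
          rintro _ ⟨_, ⟨b, hb, rfl⟩, rfl⟩
          exact (hQ.le (hmem b hb)).1
        have hBmax : B ∈ Cfsg.maxAbelianSubgroups ↥(T : Subgroup X) := by
          refine ⟨⟨⟨?_⟩⟩, fun E hE => ?_⟩
          · rintro ⟨x, hx⟩ ⟨y, hy⟩
            obtain ⟨_, ⟨b, hb, rfl⟩, ex⟩ := hx
            obtain ⟨_, ⟨c, hc, rfl⟩, ey⟩ := hy
            have h1 : (b : X) * c = c * b := congrArg (fun t : ↥A => (((t : ↥(T : Subgroup X))) : X))
              (hA.1.is_comm.comm ⟨b, hb⟩ ⟨c, hc⟩)
            refine Subtype.ext (Subtype.ext ?_)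
            show (x : X) * (y : X) = (y : X) * (x : X)
            rw [show (x : X) = g * b * g⁻¹ from ex.symm, show (y : X) = g * c * g⁻¹ from ey.symm]
            rw [show g * b * g⁻¹ * (g * c * g⁻¹) = g * ((b : X) * c) * g⁻¹ by group, h1]; group
          · refine (hA.2 E hE).trans (le_of_eq ?_)
            rw [hB, Cfsg.Agent.Core.card_subgroupOf hBle, Cfsg.Agent.Transfer.card_map_conj,
              Cfsg.Agent.Core.card_map_subtype]
        exact hmax B hBmax ⟨⟨g * (a : X) * g⁻¹, hBle ⟨_, ⟨a, ha, rfl⟩, rfl⟩⟩,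
          ⟨_, ⟨a, ha, rfl⟩, rfl⟩, rfl⟩
      exact fun j hj => hle hj
    refine Subgroup.mem_normalizer_iff.mpr fun j => ⟨key g hg j, fun h => ?_⟩
    have h2 := key g⁻¹ (Subgroup.inv_mem _ hg) _ h
    simpa [mul_assoc] using h2
  -- the module
  by_cases hNC : N ≤ C
  · exact Or.inl hNC
  right
  set O := Cfsg.pCore 2 X with hO
  have hOp : IsPGroup 2 ↥O := Cfsg.Agent.Core.isPGroup_pCore 2 X
  have hOT : O ≤ (T : Subgroup X) := by
    obtain ⟨g, hg⟩ := Cfsg.Agent.Transfer.exists_map_conj_le_sylow T hOp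
    intro o ho
    have h1 : g⁻¹ * o * g ∈ O := (inferInstance : (Cfsg.pCore 2 X).Normal).conj_mem' o ho g
    simpa [mul_assoc] using hg ⟨_, h1, rfl⟩
  have hZO : Z ≤ O ⊓ Subgroup.centralizer (O : Set X) := by
    have h1 : Z ≤ Subgroup.centralizer (O : Set X) :=
      (hZ ▸ inf_le_right : Z ≤ _).trans (Subgroup.centralizer_le (SetLike.coe_subset_coe.mpr hOT))
    exact le_inf (h1.trans hcon) h1
  set W := Subgroup.normalClosure (Z : Set X) with hW
  have hWO : W ≤ O ⊓ Subgroup.centralizer (O : Set X) := Subgroup.normalClosure_le_normal hZO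
  have hWab : ∀ a ∈ W, ∀ b ∈ W, a * b = b * a := fun a ha b hb =>
    Subgroup.mem_centralizer_iff.mp (hWO hb).2 a (hWO ha).1
  have hCW : ∀ c, c ∈ C ↔ c ∈ Subgroup.centralizer (W : Set X) := by
    intro c
    rw [hC]
    constructor
    · intro hc
      have h2 : W ≤ Subgroup.centralizer ((Subgroup.centralizer (Z : Set X)).normalCore : Set X) :=
        Subgroup.normalClosure_le_normal
          (show Z ≤ _ from Subgroup.le_centralizer_iff.mp (Subgroup.normalCore_le _))
      exact Subgroup.le_centralizer_iff.mp h2 hc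
    · intro hc
      refine (Subgroup.normal_le_normalCore.mpr ?_) hc
      exact Subgroup.centralizer_le Subgroup.subset_normalClosure
  let U : Subgroup X :=
    { carrier := {x | x ∈ W ∧ x ^ 2 = 1}
      one_mem' := ⟨W.one_mem, one_pow 2⟩
      mul_mem' := fun {a b} ha hb => ⟨W.mul_mem ha.1 hb.1, by
        rw [(show Commute a b from hWab a ha.1 b hb.1).mul_pow, ha.2, hb.2, one_mul]⟩
      inv_mem' := fun {a} ha => ⟨W.inv_mem ha.1, by rw [inv_pow, ha.2, inv_one]⟩ }
  haveI : U.Normal := ⟨fun x hx g => ⟨Subgroup.normalClosure_normal.conj_mem x hx.1 g, by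
    rw [conj_pow, hx.2, mul_one, mul_inv_cancel]⟩⟩
  have hU : Cfsg.IsElementaryAbelian 2 U :=
    ⟨⟨⟨fun a b => Subtype.ext (hWab a a.2.1 b b.2.1)⟩⟩, fun a ha => ha.2⟩
  set CU := Subgroup.centralizer (U : Set X) with hCU
  -- odd elements centralizing `U` centralize `W`
  have hodd : ∀ c ∈ CU, Odd (orderOf c) → c ∈ C := by
    intro c hc hco
    rw [hCW, Subgroup.mem_centralizer_iff]
    have key : ∀ k : ℕ, ∀ v ∈ W, v ^ 2 ^ k = 1 → c * v = v * c := by
      intro k
      induction k with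
      | zero =>
        intro v _ hv
        rw [pow_zero, pow_one] at hv
        rw [hv, one_mul, mul_one]
      | succ k ih =>
        intro v hv hvk
        rw [pow_succ', pow_mul] at hvk
        have h2 := ih (v ^ 2) (W.pow_mem hv 2) hvk
        set d := c * v * c⁻¹ * v⁻¹ with hd
        have hcv : c * v * c⁻¹ ∈ W := Subgroup.normalClosure_normal.conj_mem v hv c
        have hdU : d ∈ U := ⟨W.mul_mem hcv (W.inv_mem hv), by
          rw [hd, (show Commute (c * v * c⁻¹) v⁻¹ from hWab _ hcv _ (W.inv_mem hv)).mul_pow, conj_pow,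
            h2, mul_inv_cancel_right, inv_pow, mul_inv_cancel]⟩
        have hdc : d * c = c * d := Subgroup.mem_centralizer_iff.mp hc d hdU
        have hn : ∀ n : ℕ, c ^ n * v * (c ^ n)⁻¹ = d ^ n * v := by
          intro n
          induction n with
          | zero => simp
          | succ n ihn =>
            calc c ^ (n + 1) * v * (c ^ (n + 1))⁻¹ = c * (c ^ n * v * (c ^ n)⁻¹) * c⁻¹ := by
                  rw [pow_succ']; group
              _ = c * (d ^ n * v) * c⁻¹ := by rw [ihn]
              _ = (c * d ^ n) * v * c⁻¹ := by group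
              _ = (d ^ n * c) * v * c⁻¹ := by rw [((show Commute d c from hdc).pow_left n).eq]
              _ = d ^ n * d * v := by rw [hd]; group
              _ = d ^ (n + 1) * v := by rw [pow_succ]
        have h3 := hn (orderOf c)
        rw [pow_orderOf_eq_one, one_mul, inv_one, mul_one, eq_comm, mul_eq_right] at h3
        obtain ⟨m, hm⟩ := hco
        rw [hm, pow_succ, pow_mul, hdU.2, one_pow, one_mul] at h3
        rw [hd, mul_inv_eq_one, mul_inv_eq_iff_eq_mul] at h3
        exact h3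
    intro v hv
    obtain ⟨k, hk⟩ := hOp ⟨v, (hWO hv).1⟩
    exact (key k v hv (congrArg Subtype.val hk)).symm
  have hCle : C ≤ CU := fun c hc => Subgroup.centralizer_le (fun u (hu : u ∈ U) => hu.1) ((hCW c).mp hc)
  -- 2-subgroups modulo `C`
  have hcore : ∀ D : Subgroup X, D.Normal → C ≤ D → (∀ d ∈ D, ∃ k : ℕ, d ^ 2 ^ k ∈ C) → D ≤ C := by
    intro D hDn hCD hD
    have hDT : D ≤ (T : Subgroup X) ⊔ C := by
      intro d hd
      set q := QuotientGroup.mk' C
      have hp : IsPGroup 2 ↥(D.map q) := by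
        rintro ⟨_, e, he, rfl⟩
        obtain ⟨k, hk⟩ := hD e he
        exact ⟨k, Subtype.ext (show q e ^ 2 ^ k = 1 by
          rw [← map_pow]; exact (QuotientGroup.eq_one_iff _).mpr hk)⟩
      obtain ⟨g, hg⟩ := Cfsg.Agent.Transfer.exists_map_conj_le_sylow
        (T.mapSurjective (QuotientGroup.mk'_surjective C)) hp
      obtain ⟨g', rfl⟩ := QuotientGroup.mk'_surjective C g
      have h1 : q g' * q (g'⁻¹ * d * g') * (q g')⁻¹ ∈ (T : Subgroup X).map q := by
        have := hg ⟨_, ⟨_, hDn.conj_mem' d hd g', rfl⟩, rfl⟩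
        exact this
      rw [← map_mul, ← map_inv, ← map_mul, show g' * (g'⁻¹ * d * g') * g'⁻¹ = d by group] at h1
      have h2 : d ∈ ((T : Subgroup X).map q).comap q := h1
      rwa [Subgroup.comap_map_eq, QuotientGroup.ker_mk'] at h2
    have hCZ : C ≤ Subgroup.centralizer (Z : Set X) := hC ▸ Subgroup.normalCore_le _
    have hTZ : (T : Subgroup X) ≤ Subgroup.centralizer (Z : Set X) :=
      Subgroup.le_centralizer_iff.mp (hZ ▸ inf_le_right)
    rw [hC]
    exact Subgroup.normal_le_normalCore.mpr (hDT.trans (sup_le hTZ hCZ))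
  have hCeq : C = CU := by
    refine le_antisymm hCle (hcore CU inferInstance hCle fun c hc => ?_)
    obtain ⟨k, m, hm, hcm⟩ : ∃ k m : ℕ, Odd m ∧ orderOf c = 2 ^ k * m := by
      obtain ⟨k, m, hm, h⟩ := Nat.exists_eq_pow_mul_and_not_dvd (orderOf_pos c).ne' 2 (by norm_num)
      exact ⟨k, m, Nat.not_even_iff_odd.mp (fun he => hm (even_iff_two_dvd.mp he)), h⟩
    refine ⟨k, hodd _ (Subgroup.pow_mem _ hc _) ?_⟩
    rw [orderOf_pow' _ (by positivity), hcm, Nat.gcd_eq_right (dvd_mul_right _ _),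
      Nat.mul_div_cancel_left _ (by positivity)]
    exact hm
  have hO2 : Cfsg.pCore 2 (X ⧸ CU) = ⊥ := by
    set D := (Cfsg.pCore 2 (X ⧸ CU)).comap (QuotientGroup.mk' CU) with hD
    have hle : D ≤ C := by
      refine hcore D inferInstance (hCle.trans ?_) fun d hd => ?_
      · intro c hc
        rw [hD, Subgroup.mem_comap, show QuotientGroup.mk' CU c = 1 from (QuotientGroup.eq_one_iff _).mpr hc]
        exact one_mem _
      · obtain ⟨k, hk⟩ := Cfsg.Agent.Core.isPGroup_pCore 2 (X ⧸ CU) ⟨_, hd⟩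
        refine ⟨k, hCeq.ge ((QuotientGroup.eq_one_iff _).mp ?_)⟩
        exact (map_pow (QuotientGroup.mk' CU) d _).trans (congrArg Subtype.val hk)
    rw [← Subgroup.map_comap_eq_self_of_surjective (QuotientGroup.mk'_surjective CU)
      (Cfsg.pCore 2 (X ⧸ CU)), Subgroup.map_eq_bot_iff, QuotientGroup.ker_mk', ← hD]
    exact hle.trans hCeq.le
  -- each abelian subgroup of largest order is a best offender on `U`
  have hoff : ∀ A ∈ Cfsg.maxAbelianSubgroups ↥(T : Subgroup X),
      Cfsg.IsBestOffenderOn 2 U (A.map (T : Subgroup X).subtype) := by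
    intro A hA
    set AX := A.map (T : Subgroup X).subtype with hAX
    have hAT : AX ≤ (T : Subgroup X) := Subgroup.map_subtype_le _
    have hAab : ∀ a ∈ AX, ∀ b ∈ AX, a * b = b * a := by
      rintro _ ⟨a, ha, rfl⟩ _ ⟨b, hb, rfl⟩
      exact congrArg (fun t : ↥A => ((t : ↥(T : Subgroup X)) : X)) (hA.1.is_comm.comm ⟨a, ha⟩ ⟨b, hb⟩)
    have hUT : U ≤ (T : Subgroup X) := fun u hu => hOT (hWO hu.1).1
    have hmaxX : ∀ B : Subgroup X, B ≤ (T : Subgroup X) → (∀ a ∈ B, ∀ b ∈ B, a * b = b * a) →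
        Nat.card B ≤ Nat.card AX := by
      intro B hB hab
      have h := hA.2 (B.subgroupOf (T : Subgroup X))
        ⟨⟨fun a b => Subtype.ext (Subtype.ext (hab _ a.2 _ b.2))⟩⟩
      rwa [Cfsg.Agent.Core.card_subgroupOf hB, ← Cfsg.Agent.Core.card_map_subtype, ← hAX] at h
    have hsupab : ∀ B : Subgroup X, B ≤ AX → ∀ a ∈ B ⊔ (U ⊓ Subgroup.centralizer (B : Set X)),
        ∀ b ∈ B ⊔ (U ⊓ Subgroup.centralizer (B : Set X)), a * b = b * a := by
      intro B hB
      set B' := B ⊔ (U ⊓ Subgroup.centralizer (B : Set X))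
      have h1 : B' ≤ Subgroup.centralizer (B' : Set X) := by
        refine sup_le ?_ ?_
        · rw [Subgroup.le_centralizer_iff]
          exact sup_le (fun a ha => Subgroup.mem_centralizer_iff.mpr fun b hb => hAab b (hB hb) a (hB ha))
            inf_le_right
        · rw [Subgroup.le_centralizer_iff]
          refine sup_le (Subgroup.le_centralizer_iff.mp inf_le_right) ?_
          exact fun a ha => Subgroup.mem_centralizer_iff.mpr fun b hb => hWab b hb.1.1 a ha.1.1
      exact fun a ha b hb => (Subgroup.mem_centralizer_iff.mp (h1 ha) b hb).symm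
    have hUA : U ⊓ Subgroup.centralizer (AX : Set X) ≤ AX := by
      have h := Subgroup.eq_of_le_of_card_ge (le_sup_left (b := U ⊓ Subgroup.centralizer (AX : Set X)))
        (hmaxX _ (sup_le hAT (inf_le_left.trans hUT)) (hsupab AX le_rfl))
      exact le_sup_right.trans h.ge
    have hcount : ∀ B : Subgroup X, B ≤ AX → Nat.card B * Nat.card ↥(U ⊓ Subgroup.centralizer (B : Set X)) ≤
        Nat.card AX * Nat.card ↥(U ⊓ Subgroup.centralizer (AX : Set X)) := by
      intro B hB
      set CB := U ⊓ Subgroup.centralizer (B : Set X)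
      have hn : CB ≤ Subgroup.normalizer (B : Set X) :=
        inf_le_right.trans (Subgroup.centralizer_le_normalizer _)
      have hcard := card_sup_mul_card_inf hn
      have h1 : B ⊓ CB ≤ U ⊓ Subgroup.centralizer (AX : Set X) := fun x hx =>
        ⟨hx.2.1, Subgroup.mem_centralizer_iff.mpr fun a ha => hAab a ha x (hB hx.1)⟩
      rw [sup_comm CB, inf_comm CB] at hcard
      rw [mul_comm (Nat.card B), ← hcard]
      exact Nat.mul_le_mul (hmaxX _ (sup_le (hB.trans hAT) (inf_le_left.trans hUT)) (hsupab B hB))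
        (Subgroup.card_le_of_le h1)
    refine ⟨hcount, ?_, ?_⟩
    · rw [Subgroup.commutator_le]
      intro a ha b hb
      rw [show ⁅a, b⁆ = 1 by rw [commutatorElement_eq_one_iff_mul_comm]; exact hAab a ha b hb]
      exact one_mem _
    · intro a ha
      -- the square of an offender element fixes `U`
      exact sq_mem_centralizer_of_count U hU hO2 ⟨⟨fun x y => Subtype.ext (hAab x x.2 y y.2)⟩⟩
        (T.isPGroup'.to_le hAT) hcount a ha
  obtain hgen : N = ⨆ A : {A : Subgroup X // A ≤ N ∧ Cfsg.IsBestOffenderOn 2 U A}, (A : Subgroup X) := by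
    refine le_antisymm ?_ (iSup_le fun A => A.2.1)
    set S := ⨆ A : {A : Subgroup X // A ≤ N ∧ Cfsg.IsBestOffenderOn 2 U A}, (A : Subgroup X) with hS
    have hmem : ∀ g : X, ∀ A ∈ Cfsg.maxAbelianSubgroups ↥(T : Subgroup X),
        (A.map (T : Subgroup X).subtype).map (MulAut.conj g).toMonoidHom ≤ S := by
      intro g A hA
      have h1 := isBestOffenderOn_map_conj (hoff A hA) g
      rw [show U.map (MulAut.conj g).toMonoidHom = U from Subgroup.mem_normalizer_iff_map_conj_eq.mp (by rw [Subgroup.normalizer_eq_top]; exact Subgroup.mem_top g)] at h1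
      refine le_iSup (fun A : {A : Subgroup X // A ≤ N ∧ Cfsg.IsBestOffenderOn 2 U A} => (A : Subgroup X))
        ⟨_, ?_, h1⟩
      rintro _ ⟨a, ha, rfl⟩
      exact hNn.conj_mem a (hJN (hmax A hA ha)) g
    conv_lhs => rw [hN]
    rw [Subgroup.normalClosure, Subgroup.closure_le]
    intro y hy
    obtain ⟨j, hj, hjy⟩ := Group.mem_conjugatesOfSet_iff.mp hy
    obtain ⟨g, rfl⟩ := isConj_iff.mp hjy
    have hJS : J ≤ S.comap (MulAut.conj g).toMonoidHom := by
      rw [hJ, Cfsg.thompsonSubgroupAOf, Cfsg.thompsonSubgroupA, Subgroup.map_le_iff_le_comap]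
      refine sSup_le fun A hA a ha => ?_
      exact hmem g A hA ⟨_, ⟨a, ha, rfl⟩, rfl⟩
    exact hJS hj
  exact exists_pi_equiv U hU hO2 N hgen (fun h => hNC (h.trans hCeq.ge)) C hCeq

/-- Let `X` be a finite solvable group whose Fitting subgroup is a 2-group (equivalently `F(X) = O₂(X)`), `T` a Sylow 2-subgroup of `X`, `J(T)` the subgroup generated by the abelian subgroups of `T` of largest order, `C` the largest normal subgroup of `X` centralizing the centre `Z(T)`, and `Y` the normal closure of `J(T)` in `X`. Then `X = C · Y · N_X(J(T))`, and either `Y ≤ C`, or `CY/C` is isomorphic to a direct product of at least one copy of the symmetric group of degree 3. -/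
theorem result {X : Type*} [Group X] [Finite X]
    [Group.IsSolvable X] (hF : Cfsg.fittingSubgroup X = Cfsg.pCore 2 X) (T : Sylow 2 X) :
    ((Subgroup.centralizer (((T : Subgroup X) ⊓ Subgroup.centralizer ((T : Subgroup X) : Set X) : Subgroup X) : Set X)).normalCore
        ⊔ Subgroup.normalClosure (Cfsg.thompsonSubgroupAOf (T : Subgroup X) : Set X)
        ⊔ Subgroup.normalizer (Cfsg.thompsonSubgroupAOf (T : Subgroup X) : Set X) = ⊤) ∧
    (Subgroup.normalClosure (Cfsg.thompsonSubgroupAOf (T : Subgroup X) : Set X)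
        ≤ (Subgroup.centralizer (((T : Subgroup X) ⊓ Subgroup.centralizer ((T : Subgroup X) : Set X) : Subgroup X) : Set X)).normalCore
      ∨ ∃ n : ℕ, 1 ≤ n ∧
        Nonempty (↥(Subgroup.normalClosure (Cfsg.thompsonSubgroupAOf (T : Subgroup X) : Set X)) ⧸
            ((Subgroup.centralizer (((T : Subgroup X) ⊓ Subgroup.centralizer ((T : Subgroup X) : Set X) : Subgroup X) : Set X)).normalCore).subgroupOf
              (Subgroup.normalClosure (Cfsg.thompsonSubgroupAOf (T : Subgroup X) : Set X))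
          ≃* (Fin n → Equiv.Perm (Fin 3)))) := by
    haveI : Fact (Nat.Prime 2) := ⟨Nat.prime_two⟩
    exact thompson_structure T (centralizer_fittingSubgroup_le_two hF) _ rfl _ rfl _ rfl _ rfl

end Cfsg.Agent.S4302
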