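import Cfsg.Statements.S4347


set_option autoImplicit false
open Cfsg

namespace Cfsg.Agent.S4347
open Pointwise

/-- Let G be a finite group and p a prime. Say a Sylow p-subgroup Q is redundant when every element of p-power order lies in some Sylow p-subgroup other than Q. Then G has no redundant Sylow p-subgroup if and only if some element of p-power order lies in exactly one Sylow p-subgroup. -/
theorem result {G : Type*} [Group G] [Finite G]
    (p : ℕ) [Fact p.Prime] :
    (¬ ∃ Q : Sylow p G, ∀ x : G, (∃ k : ℕ, orderOf x = p ^ k) → ∃ P : Sylow p G, P ≠ Q ∧ x ∈ P) ↔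
      ∃ x : G, (∃ k : ℕ, orderOf x = p ^ k) ∧ ∃! P : Sylow p G, x ∈ P := by
  constructor
  · intro h
    push Not at h
    obtain ⟨x, hx, h⟩ := h default
    obtain ⟨P, hP⟩ : ∃ P : Sylow p G, x ∈ P := by
      obtain ⟨k, hk⟩ := hx
      obtain ⟨P, hP⟩ := IsPGroup.exists_le_sylow (p := p) (P := Subgroup.zpowers x)
        (IsPGroup.of_card ((Nat.card_zpowers x).trans hk))
      exact ⟨P, hP (Subgroup.mem_zpowers x)⟩
    refine ⟨x, hx, P, hP, fun Q hQ => ?_⟩
    by_contra hne
    by_cases hd : P = default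
    · exact h Q (hd ▸ hne) hQ
    · exact h P hd hP
  · rintro ⟨x, hx, P, hP, hu⟩ ⟨Q, hQ⟩
    obtain ⟨g, hg⟩ := MulAction.exists_smul_eq G P Q
    have hx' : ∃ k : ℕ, orderOf (g * x * g⁻¹) = p ^ k := by
      rw [← MulAut.conj_apply, MulEquiv.orderOf_eq]; exact hx
    obtain ⟨R, hR, hxR⟩ := hQ _ hx'
    apply hR
    have h2 : g⁻¹ • R = P := hu _ (by
      change x ∈ ((g⁻¹ • R : Sylow p G) : Set G)
      rw [Sylow.coe_smul, Set.mem_smul_set_iff_inv_smul_mem]
      simpa [MulAut.smul_def, mul_assoc] using hxR)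
    rw [← hg, ← h2, smul_inv_smul]

end Cfsg.Agent.S4347
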