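import Cfsg.Statements.S4358
import Mathlib.LinearAlgebra.Matrix.GeneralLinearGroup.Card
import Mathlib.LinearAlgebra.Vandermonde
import Mathlib.GroupTheory.Sylow
import Mathlib.GroupTheory.SpecificGroups.Cyclic
import Mathlib.RingTheory.IntegralDomain
import Mathlib.LinearAlgebra.Matrix.NonsingularInverse
import Mathlib.LinearAlgebra.Matrix.ToLinearEquiv
import Mathlib.Tactic.LinearCombination

set_option autoImplicit false
open Cfsg

namespace Cfsg.Agent.S4358

open scoped Pointwise
open Matrix Finset

variable {F : Type*} [Field F] {p : ℕ} [hp' : Fact p.Prime]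

/-- Monomial matrix along the shift `k`. -/
def mon (k : Fin p) (t : Fin p → F) : Matrix (Fin p) (Fin p) F :=
  fun i j => if j = i + k then t i else 0

theorem mon_mul (k l : Fin p) (t s : Fin p → F) :
    mon k t * mon l s = mon (k + l) (fun i => t i * s (i + k)) := by
  haveI : NeZero p := ⟨hp'.out.ne_zero⟩
  ext i j
  rw [mul_apply, sum_eq_single (i + k)]
  · simp only [mon, if_true]
    by_cases h : j = i + (k + l)
    · rw [if_pos h, if_pos (by rw [h, add_assoc]), ]
    · rw [if_neg h, if_neg (fun e => h (by rw [e, add_assoc])), mul_zero]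
  · intro b _ hb; simp [mon, hb]
  · intro h; exact absurd (mem_univ _) h

theorem mon_one : (mon 0 (fun _ => 1) : Matrix (Fin p) (Fin p) F) = 1 := by
  haveI : NeZero p := ⟨hp'.out.ne_zero⟩
  ext i j
  simp [mon, one_apply, eq_comm]

variable (F p) in
/-- The monomial Sylow subgroup. -/
def monGroup : Subgroup (GL (Fin p) F) where
  carrier := {g | ∃ k t, (∀ i, t i ^ p = 1) ∧ (g : Matrix (Fin p) (Fin p) F) = mon k t}
  one_mem' := ⟨0, fun _ => 1, fun _ => one_pow p, by rw [Units.val_one, mon_one]⟩
  mul_mem' := by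
    rintro g h ⟨k, t, ht, hg⟩ ⟨l, s, hs, hh⟩
    exact ⟨k + l, fun i => t i * s (i + k), fun i => by rw [mul_pow, ht, hs, one_mul],
      by rw [Units.val_mul, hg, hh, mon_mul]⟩
  inv_mem' := by
    haveI : NeZero p := ⟨hp'.out.ne_zero⟩
    rintro g ⟨k, t, ht, hg⟩
    refine ⟨-k, fun i => (t (i - k))⁻¹, fun i => by rw [inv_pow, ht, inv_one], ?_⟩
    have hne : ∀ i, t i ≠ 0 := fun i h => by
      have := ht i; rw [h, zero_pow hp'.out.ne_zero] at this; exact zero_ne_one this
    have : (g : Matrix (Fin p) (Fin p) F) * mon (-k) (fun i => (t (i - k))⁻¹) = 1 := by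
      rw [hg, mon_mul, add_neg_cancel, ← mon_one]
      congr 1
      funext i
      rw [add_sub_cancel_right, mul_inv_cancel₀ (hne i)]
    exact Units.inv_eq_of_mul_eq_one_right this

theorem mon_pow (k : Fin p) (t : Fin p → F) : ∀ n : ℕ,
    mon k t ^ n = mon (n • k) (fun i => ∏ l ∈ range n, t (i + l • k)) := by
  haveI : NeZero p := ⟨hp'.out.ne_zero⟩
  intro n
  induction n with
  | zero => simp [mon_one]
  | succ n ih =>
    rw [pow_succ, ih, mon_mul, succ_nsmul]
    congr 1
    funext i
    rw [prod_range_succ]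

theorem nsmul_bijective {k : Fin p} (hk : k ≠ 0) :
    Function.Bijective fun l : Fin p => (l : ℕ) • k := by
  haveI : NeZero p := ⟨hp'.out.ne_zero⟩
  refine Finite.injective_iff_bijective.mp fun a b h => Fin.ext ?_
  have ho : addOrderOf k = p := addOrderOf_eq_prime (by
    have := card_nsmul_eq_zero' (G := Fin p) (x := k)
    rwa [Nat.card_fin] at this) hk
  refine nsmul_injOn_Iio_addOrderOf ?_ ?_ h
  · show (a : ℕ) < addOrderOf k; rw [ho]; exact a.isLt
  · show (b : ℕ) < addOrderOf k; rw [ho]; exact b.isLt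

theorem mon_pow_p {k : Fin p} (hk : k ≠ 0) (t : Fin p → F) :
    mon k t ^ p = (∏ i, t i) • (1 : Matrix (Fin p) (Fin p) F) := by
  haveI : NeZero p := ⟨hp'.out.ne_zero⟩
  have h0 : p • k = 0 := by
    have := card_nsmul_eq_zero' (G := Fin p) (x := k)
    rwa [Nat.card_fin] at this
  rw [mon_pow, h0]
  ext i j
  simp only [mon, add_zero, Matrix.smul_apply, one_apply, smul_eq_mul, mul_ite, mul_one, mul_zero]
  by_cases h : i = j
  · rw [if_pos h.symm, if_pos h, ← Fin.prod_univ_eq_prod_range (fun l => t (i + l • k)) p]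
    exact Fintype.prod_bijective _ ((Equiv.addLeft i).bijective.comp (nsmul_bijective hk)) _ _
      fun l => rfl
  · rw [if_neg (Ne.symm h), if_neg h]

theorem exists_root [Fintype F] (hd : p ∣ Fintype.card F - 1) : ∃ ζ : F, ζ ^ p = 1 ∧ ζ ≠ 1 := by
  classical
  obtain ⟨z, hz⟩ := exists_prime_orderOf_dvd_card' (G := Fˣ) p (by
    rwa [Nat.card_eq_fintype_card, Fintype.card_units])
  refine ⟨z, ?_, fun h => ?_⟩
  · rw [← Units.val_pow_eq_pow_val, ← hz, pow_orderOf_eq_one, Units.val_one]
  · rw [show z = 1 from Units.ext h, orderOf_one] at hz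
    exact hp'.out.ne_one hz.symm

theorem card_roots [Fintype F] [DecidableEq F] (hd : p ∣ Fintype.card F - 1) :
    Nat.card {t : F // t ^ p = 1} = p := by
  have h1 : Nat.card (powMonoidHom p : Fˣ →* Fˣ).ker = p := by
    rw [IsCyclic.card_powMonoidHom_ker, Nat.card_eq_fintype_card, Fintype.card_units]
    exact Nat.gcd_eq_right hd
  conv_rhs => rw [← h1]
  refine Nat.card_congr (Equiv.ofBijective (fun t => ⟨Units.mk0 t.1 (fun h => by
    have := t.2; rw [h, zero_pow hp'.out.ne_zero] at this; exact zero_ne_one this),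
      Units.ext (by simpa using t.2)⟩) ⟨?_, ?_⟩)
  · intro s t h; exact Subtype.ext (congrArg (fun u : (powMonoidHom p : Fˣ →* Fˣ).ker => ((u : Fˣ) : F)) h)
  · rintro ⟨u, hu⟩
    exact ⟨⟨(u : F), by simpa using congrArg Units.val (show u ^ p = 1 from hu)⟩, Subtype.ext (Units.ext rfl)⟩

theorem card_monGroup [Fintype F] (hd : p ∣ Fintype.card F - 1) :
    Nat.card (monGroup F p) = p ^ (p + 1) := by
  classical
  haveI : NeZero p := ⟨hp'.out.ne_zero⟩
  let f : Fin p × (Fin p → {t : F // t ^ p = 1}) → monGroup F p := fun z =>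
    have hne : ∀ i, (z.2 i : F) ≠ 0 := fun i h => by
      have := (z.2 i).2; rw [h, zero_pow hp'.out.ne_zero] at this; exact zero_ne_one this
    ⟨⟨mon z.1 fun i => z.2 i, mon (-z.1) fun i => (z.2 (i - z.1) : F)⁻¹, by
      rw [mon_mul, add_neg_cancel, ← mon_one]
      congr 1; funext i; rw [add_sub_cancel_right, mul_inv_cancel₀ (hne i)], by
      rw [mon_mul, neg_add_cancel, ← mon_one]
      congr 1; funext i; rw [← sub_eq_add_neg, inv_mul_cancel₀ (hne _)]⟩,
      z.1, fun i => z.2 i, fun i => (z.2 i).2, rfl⟩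
  have hf : Function.Bijective f := by
    constructor
    · rintro ⟨k, t⟩ ⟨l, s⟩ h
      have hm : mon k (fun i => (t i : F)) = mon l (fun i => (s i : F)) :=
        congrArg (fun g : monGroup F p => ((g : GL (Fin p) F) : Matrix (Fin p) (Fin p) F)) h
      have hkl : k = l := by
        have h0 := congrFun (congrFun hm 0) k
        simp only [mon, zero_add] at h0
        by_contra hne
        simp only [if_true, if_neg hne] at h0
        have := (t 0).2; rw [h0, zero_pow hp'.out.ne_zero] at this; exact zero_ne_one this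
      subst hkl
      refine Prod.ext rfl (funext fun i => Subtype.ext ?_)
      have := congrFun (congrFun hm i) (i + k)
      simpa [mon] using this
    · rintro ⟨g, k, t, ht, hg⟩
      exact ⟨(k, fun i => ⟨t i, ht i⟩), Subtype.ext (Units.ext hg.symm)⟩
  rw [← Nat.card_congr (Equiv.ofBijective f hf), Nat.card_prod, Nat.card_fun, card_roots hd,
    Nat.card_fin, pow_succ']

theorem card_monGroup_eq [Fintype F] (hp2 : p ≠ 2) (a : ℕ) (hq : Fintype.card F = p * a + 1)
    (hap : ¬ p ∣ a) (hd : p ∣ Fintype.card F - 1) :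
    Nat.card (monGroup F p) = p ^ (Nat.card (GL (Fin p) F)).factorization p := by
  classical
  rw [card_monGroup hd]
  congr 1
  set q := Fintype.card F
  let G : ℕ → ℕ := fun j => ∑ l ∈ range j, q ^ l
  have hG : ∀ j, q ^ j = p * a * G j + 1 := by
    intro j
    induction j with
    | zero => simp [G]
    | succ j ih =>
      rw [pow_succ', ih]
      simp only [G, sum_range_succ]
      rw [ih]; nth_rewrite 1 [hq]; ring
  have hGp : ∀ j, (G j : ZMod p) = j := fun j => by
    simp only [G, Nat.cast_sum, Nat.cast_pow]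
    rw [show (q : ZMod p) = 1 by rw [hq]; simp]
    simp
  obtain ⟨b, hb, hbp⟩ : ∃ b, G p = p * b ∧ ¬ p ∣ b := by
    have key : ∀ j, ∃ c, G j * 2 = 2 * j + p * (a * j * (j - 1)) + p * p * c := by
      intro j
      induction j with
      | zero => exact ⟨0, by simp [G]⟩
      | succ j ih =>
        obtain ⟨c, hc⟩ := ih
        refine ⟨c * (p * a + 1) + a * a * j * (j - 1), ?_⟩
        have e : G (j + 1) = q * G j + 1 := by
          simp only [G, sum_range_succ']
          rw [pow_zero, mul_sum]; simp [pow_succ']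
        rw [e, hq, show (((p * a + 1) * G j + 1) * 2 : ℕ) = (p * a + 1) * (G j * 2) + 2 by ring, hc]
        rcases j with _ | j
        · simp; ring
        · simp only [Nat.add_sub_cancel]; ring
    obtain ⟨c, hc⟩ := key p
    obtain ⟨b, hb⟩ : p ∣ G p := by
      rw [← ZMod.natCast_eq_zero_iff, hGp]; exact ZMod.natCast_self p
    refine ⟨b, hb, fun ⟨d, hd'⟩ => ?_⟩
    rw [hb, hd'] at hc
    have h2 : p ∣ 2 := by
      have h3 : p * (p * d * 2) = p * (2 + p * (a * (p - 1) + c)) := by rw [← mul_assoc, hc]; ring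
      have h4 := Nat.eq_of_mul_eq_mul_left hp'.out.pos h3
      exact (Nat.dvd_add_left (dvd_mul_right p _)).mp (h4 ▸ (dvd_mul_right p d).mul_right 2)
    exact hp2 ((Nat.prime_dvd_prime_iff_eq hp'.out Nat.prime_two).mp h2)
  have hcard : Nat.card (GL (Fin p) F) =
      p ^ (p + 1) * ((∏ i : Fin p, q ^ (i : ℕ) * a) *
        ∏ i : Fin p, if (i : ℕ) = 0 then b else G (p - i)) := by
    haveI : NeZero p := ⟨hp'.out.ne_zero⟩
    rw [Matrix.card_GL_field]
    have e : ∀ i : Fin p, q ^ p - q ^ (i : ℕ) =
        p * (q ^ (i : ℕ) * a) * ((if (i : ℕ) = 0 then b else G (p - i)) * if (i : ℕ) = 0 then p else 1) := by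
      intro i
      have h := hG (p - i)
      rw [show q ^ p - q ^ (i : ℕ) = q ^ (i : ℕ) * (q ^ (p - i) - 1) by
        rw [Nat.mul_sub, mul_one, ← pow_add]; congr 2; have := i.isLt; omega, h, Nat.add_sub_cancel]
      split_ifs with h0
      · rw [h0, Nat.sub_zero, hb]; ring
      · ring
    rw [prod_congr rfl fun i _ => e i]
    simp only [prod_mul_distrib, prod_const, card_univ, Fintype.card_fin]
    rw [prod_eq_single (f := fun i : Fin p => if (i : ℕ) = 0 then p else 1) 0
      (fun i _ hi => if_neg (fun h => hi (Fin.ext h))) (fun h => absurd (mem_univ _) h)]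
    simp only [Fin.val_zero, if_true]
    ring
  rw [hcard]
  refine (fac_aux hp'.out ?_).symm
  intro hdvd
  rcases hp'.out.dvd_mul.mp hdvd with h | h <;>
    obtain ⟨i, -, hi⟩ := hp'.out.prime.exists_mem_finset_dvd h
  · rcases hp'.out.dvd_mul.mp hi with h' | h'
    · have := hp'.out.dvd_of_dvd_pow h'
      rw [hq] at this
      exact hp'.out.not_dvd_one ((Nat.dvd_add_right (dvd_mul_right p a)).mp this)
    · exact hap h'
  · split_ifs at hi with h0
    · exact hbp hi
    · rw [← ZMod.natCast_eq_zero_iff, hGp, ZMod.natCast_eq_zero_iff] at hi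
      have := Nat.le_of_dvd (by omega) hi
      omega
where
  fac_aux {p e R : ℕ} (hp : p.Prime) (hR : ¬ p ∣ R) :
      (p ^ e * R).factorization p = e := by
    have hR0 : R ≠ 0 := fun h => hR (h ▸ dvd_zero p)
    rw [Nat.factorization_mul (pow_ne_zero _ hp.ne_zero) hR0, Finsupp.add_apply,
      hp.factorization_pow, Finsupp.single_eq_same, Nat.factorization_eq_zero_of_not_dvd hR, add_zero]

theorem not_normalizing (hp2 : p ≠ 2) {ζ : F} (hζ : ζ ^ p = 1) (hζ1 : ζ ≠ 1) (u : GL (Fin p) F)
    {i0 r r' : Fin p} (hrr : r ≠ r') (hr : (u : Matrix (Fin p) (Fin p) F) r i0 ≠ 0)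
    (hr' : (u : Matrix (Fin p) (Fin p) F) r' i0 ≠ 0)
    (h : ∀ g ∈ monGroup F p, u * g * u⁻¹ ∈ monGroup F p) : False := by
  classical
  haveI : NeZero p := ⟨hp'.out.ne_zero⟩
  set t : Fin p → F := fun i => if i = i0 then ζ else 1 with ht
  have htp : ∀ i, t i ^ p = 1 := fun i => by simp only [ht]; split_ifs <;> simp [hζ]
  have hmul : ∀ s : Fin p → F, ∀ t : Fin p → F, mon 0 s * mon 0 t = mon 0 fun i => s i * t i := by
    intro s t; rw [mon_mul]; simp
  have ht0 : ∀ i, t i ≠ 0 := fun i h0 => by
    have := htp i; rw [h0, zero_pow hp'.out.ne_zero] at this; exact zero_ne_one this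
  let d : GL (Fin p) F := ⟨mon 0 t, mon 0 fun i => (t i)⁻¹,
    by rw [hmul, ← mon_one]; simp [ht0], by rw [hmul, ← mon_one]; simp [ht0]⟩
  obtain ⟨k, s, hs, hm⟩ := h d ⟨0, t, htp, rfl⟩
  set U : Matrix (Fin p) (Fin p) F := (u : Matrix (Fin p) (Fin p) F) with hU
  have heq : U * mon 0 t = mon k s * U := by
    rw [← hm, hU]
    show (u : Matrix (Fin p) (Fin p) F) * (d : Matrix (Fin p) (Fin p) F) = _
    rw [← Units.val_mul, ← Units.val_mul, inv_mul_cancel_right]
  have hent : ∀ i j, U i j * t j = s i * U (i + k) j := by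
    intro i j
    have h1 := congrFun (congrFun heq i) j
    rwa [mul_apply, mul_apply, sum_eq_single j (fun b _ hb => by simp [mon, Ne.symm hb])
      (fun h => absurd (mem_univ _) h), sum_eq_single (i + k) (fun b _ hb => by simp [mon, hb])
      (fun h => absurd (mem_univ _) h), mon, mon, if_pos (add_zero j).symm, if_pos rfl] at h1
  have hdet : U.det ≠ 0 := ((Matrix.isUnit_iff_isUnit_det U).mp u.isUnit).ne_zero
  -- two columns with a linear relation give a contradiction
  by_cases hk : k = 0
  · have hzero : ∀ i, U i i0 ≠ 0 → ∀ j, j ≠ i0 → U i j = 0 := by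
      intro i hi j hj
      have h1 := hent i i0
      have h2 := hent i j
      rw [hk, add_zero] at h1 h2
      simp only [ht, if_pos rfl] at h1
      simp only [ht, if_neg hj, mul_one] at h2
      have hsi : s i = ζ := mul_right_cancel₀ hi (h1.symm.trans (mul_comm _ _))
      rw [hsi] at h2
      have : (ζ - 1) * U i j = 0 := by linear_combination -h2
      exact (mul_eq_zero.mp this).resolve_left (sub_ne_zero.mpr hζ1)
    refine hdet (Matrix.exists_vecMul_eq_zero_iff.mp ⟨Pi.single r (U r' i0) - Pi.single r' (U r i0),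
      fun h0 => hr' ?_, ?_⟩)
    · have := congrFun h0 r
      simpa [hrr] using this
    · ext j
      rw [sub_vecMul, Pi.sub_apply, single_vecMul, single_vecMul, Pi.zero_apply]
      simp only [Pi.smul_apply, Matrix.row_apply, smul_eq_mul]
      by_cases hj : j = i0
      · subst hj; ring
      · rw [hzero r hr j hj, hzero r' hr' j hj]; ring
  · obtain ⟨j1, hj1, j2, hj2, hj12⟩ : ∃ j1, j1 ≠ i0 ∧ ∃ j2, j2 ≠ i0 ∧ j1 ≠ j2 := by
      have : 2 ≤ (univ.erase i0).card := by
        rw [card_erase_of_mem (mem_univ _), card_univ, Fintype.card_fin]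
        have := hp'.out.two_le; omega
      obtain ⟨x, hx, y, hy, hxy⟩ := one_lt_card.mp this
      exact ⟨x, ne_of_mem_erase hx, y, ne_of_mem_erase hy, hxy⟩
    have hfix : ∀ j, j ≠ i0 → ∀ i, U i j = s i * U (i + k) j := fun j hj i => by
      have := hent i j
      rwa [show t j = 1 from if_neg hj, mul_one] at this
    have hs0 : ∀ i, s i ≠ 0 := fun i h0 => by
      have := hs i; rw [h0, zero_pow hp'.out.ne_zero] at this; exact zero_ne_one this
    have hvan : ∀ v : Fin p → F, (∀ i, v i = s i * v (i + k)) → v 0 = 0 → v = 0 := by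
      intro v hv hv0
      have : ∀ n : ℕ, v (n • k) = 0 := by
        intro n
        induction n with
        | zero => simpa using hv0
        | succ n ih =>
          have h1 := hv (n • k)
          rw [ih, eq_comm, mul_eq_zero] at h1
          rw [succ_nsmul]; exact h1.resolve_left (hs0 _)
      funext i
      obtain ⟨l, hl⟩ := (nsmul_bijective hk).2 i
      rw [← hl]; exact this _
    refine hdet (Matrix.exists_mulVec_eq_zero_iff.mp ?_)
    by_cases h10 : U 0 j1 = 0
    · refine ⟨Pi.single j1 1, by simp, ?_⟩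
      have := hvan (fun i => U i j1) (hfix j1 hj1) h10
      ext i
      have hi : U i j1 = 0 := congrFun this i
      simp [mulVec_single, hi]
    · refine ⟨Pi.single j1 (U 0 j2) - Pi.single j2 (U 0 j1), fun h0 => h10 ?_, ?_⟩
      · have := congrFun h0 j2
        simpa [hj12.symm] using this
      · have := hvan (fun i => U i j1 * U 0 j2 - U i j2 * U 0 j1)
          (fun i => by rw [hfix j1 hj1 i, hfix j2 hj2 i]; ring) (by ring)
        ext i
        have hi := congrFun this i
        simp only [Pi.zero_apply] at hi ⊢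
        rw [mulVec_sub, Pi.sub_apply, mulVec_single, mulVec_single]
        simp only [Pi.smul_apply, Matrix.col_apply, MulOpposite.smul_eq_mul_unop, MulOpposite.unop_op]
        exact hi

theorem exists_mover (hp2 : p ≠ 2) {ζ : F} (hζ : ζ ^ p = 1) (hζ1 : ζ ≠ 1) {x : GL (Fin p) F}
    (hx : x ∈ monGroup F p) :
    ∃ (u : GL (Fin p) F) (i0 r r' : Fin p), r ≠ r' ∧ (u : Matrix (Fin p) (Fin p) F) r i0 ≠ 0 ∧
      (u : Matrix (Fin p) (Fin p) F) r' i0 ≠ 0 ∧ u⁻¹ * x * u ∈ monGroup F p := by
  classical
  haveI : NeZero p := ⟨hp'.out.ne_zero⟩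
  have hp3 : 3 ≤ p := by have := hp'.out.two_le; omega
  obtain ⟨k, t, ht, hxm⟩ := hx
  have ht0 : ∀ i, t i ≠ 0 := fun i h0 => by
    have := ht i; rw [h0, zero_pow hp'.out.ne_zero] at this; exact zero_ne_one this
  by_cases hk : k = 0
  · subst hk
    by_cases hinj : Function.Injective t
    · -- Vandermonde
      have hV : IsUnit (vandermonde t) :=
        (Matrix.isUnit_iff_isUnit_det _).mpr (isUnit_iff_ne_zero.mpr (det_vandermonde_ne_zero_iff.mpr hinj))
      refine ⟨hV.unit, 0, 0, 1, fun h => ?_, ?_, ?_, ?_⟩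
      · have := congrArg Fin.val h
        simp [Fin.val_one', Nat.mod_eq_of_lt (show 1 < p by omega)] at this
      · show vandermonde t 0 0 ≠ 0; simp [vandermonde_apply]
      · show vandermonde t 1 0 ≠ 0; simp [vandermonde_apply]
      · refine ⟨-1, fun _ => 1, fun _ => one_pow p, ?_⟩
        have e : (x : Matrix (Fin p) (Fin p) F) * vandermonde t =
            vandermonde t * mon (-1) fun _ => (1 : F) := by
          rw [hxm]
          ext i j
          rw [mul_apply, mul_apply, sum_eq_single i (fun b _ hb => by simp [mon, hb])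
            (fun h => absurd (mem_univ _) h), sum_eq_single (j + 1) (fun b _ hb => by
              rw [mon, if_neg (fun e => hb (by rw [e]; simp)), mul_zero])
            (fun h => absurd (mem_univ _) h)]
          simp only [mon, add_zero, if_true, vandermonde_apply, add_neg_cancel_right, mul_one]
          rw [← pow_succ', Fin.val_add, Fin.val_one', Nat.mod_eq_of_lt (show 1 < p by omega),
            ← pow_eq_pow_mod ((j : ℕ) + 1) (ht i)]
        rw [Units.val_mul, Units.val_mul, mul_assoc, show ((hV.unit : GL (Fin p) F) : Matrix (Fin p) (Fin p) F) = vandermonde t from rfl,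
          e, ← mul_assoc]
        have : ((hV.unit⁻¹ : GL (Fin p) F) : Matrix (Fin p) (Fin p) F) * vandermonde t = 1 := by
          exact hV.val_inv_mul
        rw [this, one_mul]
    · obtain ⟨a, b, hab, hne⟩ := Function.not_injective_iff.mp hinj
      have hsq : single a b (1 : F) * single a b (1 : F) = 0 := by
        rw [single_mul_single_of_ne _ _ _ _ hne.symm]
      let u : GL (Fin p) F := ⟨1 + single a b 1, 1 - single a b 1,
        by rw [add_mul, one_mul, mul_sub, mul_one, hsq, sub_zero, sub_add_cancel],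
        by rw [sub_mul, one_mul, mul_add, mul_one, hsq, add_zero, add_sub_cancel_right]⟩
      have hc : Commute (x : Matrix (Fin p) (Fin p) F) (single a b 1) := by
        show _ * _ = _ * _
        rw [hxm]
        ext i j
        rw [mul_apply, mul_apply, sum_eq_single i (fun c _ hc => by simp [mon, hc])
          (fun h => absurd (mem_univ _) h), sum_eq_single j (fun c _ hc => by simp [mon, Ne.symm hc])
          (fun h => absurd (mem_univ _) h)]
        simp only [mon, add_zero, if_true, single, of_apply]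
        by_cases h : a = i ∧ b = j
        · rw [if_pos h, ← h.1, ← h.2, hab]; ring
        · rw [if_neg h]; ring
      refine ⟨u, b, a, b, hne, ?_, ?_, 0, t, ht, ?_⟩
      · show (1 + single a b (1 : F)) a b ≠ 0
        simp [hne]
      · show (1 + single a b (1 : F)) b b ≠ 0
        simp [hne]
      · rw [show u⁻¹ * x * u = x by
          have hxu : x * u = u * x := Units.ext (((Commute.one_right _).add_right hc).eq)
          rw [mul_assoc, hxu, inv_mul_cancel_left]]
        exact hxm
  · set X : Matrix (Fin p) (Fin p) F := (x : Matrix (Fin p) (Fin p) F) with hX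
    have hXp : X ^ p = (∏ i, t i) • (1 : Matrix (Fin p) (Fin p) F) := by rw [hxm]; exact mon_pow_p hk t
    have hcp : (∏ i, t i) ^ p = 1 := by rw [← prod_pow]; exact prod_eq_one fun i _ => ht i
    have hmem : ∀ u : GL (Fin p) F, Commute X (u : Matrix (Fin p) (Fin p) F) →
        u⁻¹ * x * u ∈ monGroup F p := fun u hu => by
      have hxu : x * u = u * x := Units.ext hu.eq
      rw [mul_assoc, hxu, inv_mul_cancel_left]
      exact ⟨k, t, ht, hxm⟩
    by_cases hc : ∏ i, t i = 1
    · rw [hc, one_smul] at hXp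
      set J : Matrix (Fin p) (Fin p) F := ∑ n ∈ range p, X ^ n with hJ
      have hXJ : X * J = J := by
        have h1 := mul_geom_sum X p
        rw [hXp, sub_self, ← hJ, sub_mul, one_mul, sub_eq_zero] at h1
        exact h1
      have hJJ : J * J = (p : F) • J := by
        have h1 : ∀ n, X ^ n * J = J := fun n => by
          induction n with
          | zero => simp
          | succ n ih => rw [pow_succ, mul_assoc, hXJ, ih]
        conv_lhs => arg 1; rw [hJ]
        rw [sum_mul, sum_congr rfl (fun n _ => h1 n), sum_const, card_range,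
          Nat.cast_smul_eq_nsmul]
      have hpF : (p : F) ≠ 0 := by
        intro h0
        haveI : CharP F (ringChar F) := ringChar.charP F
        have hd := (CharP.cast_eq_zero_iff F (ringChar F) p).mp h0
        rcases hp'.out.eq_one_or_self_of_dvd _ hd with h | h
        · exact CharP.ringChar_ne_one h
        · haveI : CharP F p := h ▸ ringChar.charP F
          have h1 : (ζ - 1) ^ p = 0 := by rw [sub_pow_char, hζ, one_pow, sub_self]
          exact hζ1 (sub_eq_zero.mp (eq_zero_of_pow_eq_zero h1))
      set a := (ζ - 1) / (p : F) with ha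
      set b := (ζ⁻¹ - 1) / (p : F) with hb
      have hζ0 : ζ ≠ 0 := fun h => by rw [h, zero_pow hp'.out.ne_zero] at hζ; exact zero_ne_one hζ
      have hab : a + b + (p : F) * a * b = 0 := by
        rw [ha, hb]; field_simp; ring
      have hmm : ∀ a b : F, a + b + (p : F) * a * b = 0 → (1 + a • J) * (1 + b • J) = 1 := by
        intro a b h
        rw [add_mul, one_mul, mul_add, mul_one, smul_mul_smul_comm, hJJ, smul_smul, add_assoc,
          ← add_smul, ← add_smul, show b + (a + a * b * (p : F)) = 0 by linear_combination h, zero_smul,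
          add_zero]
      let u : GL (Fin p) F := ⟨1 + a • J, 1 + b • J, hmm a b hab, hmm b a (by linear_combination hab)⟩
      have ha0 : a ≠ 0 := div_ne_zero (sub_ne_zero.mpr hζ1) hpF
      have hJe : ∀ (n : Fin p) (j : Fin p), J (j - (n : ℕ) • k) j = ∏ l ∈ range n, t (j - (n : ℕ) • k + l • k) := by
        intro n j
        rw [hJ, Matrix.sum_apply, sum_eq_single (n : ℕ)]
        · rw [hxm, mon_pow, mon, if_pos (sub_add_cancel _ _).symm]
        · intro m hm hmn
          rw [hxm, mon_pow, mon, if_neg]
          intro e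
          have h1 : m • k = (n : ℕ) • k := by
            have e2 : j + (n : ℕ) • k = j + m • k := by
              nth_rewrite 1 [e]; abel
            exact (add_left_cancel e2).symm
          have := (nsmul_bijective hk).1 (a₁ := ⟨m, mem_range.mp hm⟩) (a₂ := n) h1
          exact hmn (congrArg Fin.val this)
        · intro h; exact absurd (mem_range.mpr n.isLt) h
      let n1 : Fin p := ⟨1, by omega⟩
      let n2 : Fin p := ⟨2, by omega⟩
      have hne : ∀ n : Fin p, (n : ℕ) ≠ 0 → (1 + a • J) ((0 : Fin p) - (n : ℕ) • k) 0 ≠ 0 := by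
        intro n hn
        rw [Matrix.add_apply, Matrix.smul_apply, hJe, one_apply_ne, zero_add, smul_eq_mul]
        · exact mul_ne_zero ha0 (prod_ne_zero_iff.mpr fun l _ => ht0 _)
        · intro e
          rw [zero_sub, neg_eq_zero] at e
          have := (nsmul_bijective hk).1 (a₁ := n) (a₂ := 0) (by simpa using e)
          exact hn (congrArg Fin.val this)
      refine ⟨u, 0, 0 - (1 : ℕ) • k, 0 - (2 : ℕ) • k, fun e => ?_, hne n1 Nat.one_ne_zero,
        hne n2 two_ne_zero, hmem u ?_⟩
      · have := (nsmul_bijective hk).1 (a₁ := n1) (a₂ := n2) (sub_right_injective e)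
        simpa [n1, n2] using congrArg Fin.val this
      · exact (Commute.one_right X).add_right ((Commute.sum_right _ _ _ fun n _ => (Commute.self_pow X n)).smul_right a)
    · have hu : IsUnit (1 + X) := by
        rw [Matrix.isUnit_iff_isUnit_det, isUnit_iff_ne_zero]
        intro h0
        obtain ⟨v, hv, hv0⟩ := Matrix.exists_mulVec_eq_zero_iff.mpr h0
        rw [add_mulVec, one_mulVec] at hv0
        have hXv : X *ᵥ v = (-1 : F) • v := by rw [neg_one_smul]; exact eq_neg_of_add_eq_zero_right hv0
        have hpow : ∀ n : ℕ, (X ^ n) *ᵥ v = (-1 : F) ^ n • v := by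
          intro n
          induction n with
          | zero => simp
          | succ n ih => rw [pow_succ, ← mulVec_mulVec, hXv, mulVec_smul, ih, smul_smul, pow_succ']
        have h1 := hpow p
        rw [hXp, smul_mulVec, one_mulVec] at h1
        have hce : ∏ i, t i = -1 := by
          rw [(hp'.out.odd_of_ne_two hp2).neg_one_pow] at h1
          exact smul_left_injective F hv h1
        rw [hce, (hp'.out.odd_of_ne_two hp2).neg_one_pow] at hcp
        exact hc (hce.trans hcp)
      refine ⟨hu.unit, k, 0, k, fun h => hk h.symm, ?_, ?_,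
        hmem _ ((Commute.one_right X).add_right (Commute.refl X))⟩
      · show (1 + X) 0 k ≠ 0
        rw [Matrix.add_apply, hxm, one_apply_ne (Ne.symm hk), zero_add, mon, if_pos (zero_add k).symm]
        exact ht0 0
      · show (1 + X) k k ≠ 0
        rw [Matrix.add_apply, hxm, one_apply_eq, mon, if_neg (fun h => hk (left_eq_add.mp h)), add_zero]
        exact one_ne_zero

/-- Let p be an odd prime and F a finite field with q elements such that p divides q - 1 but p² does not. Then GL(p, F) has a Sylow p-subgroup Q such that every element of p-power order lies in some Sylow p-subgroup other than Q (a redundant Sylow p-subgroup). -/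
theorem result {F : Type*} [Field F] [Fintype F] (p : ℕ) [Fact p.Prime]
    (hp : p ≠ 2) (h1 : p ∣ Fintype.card F - 1) (h2 : ¬ p ^ 2 ∣ Fintype.card F - 1) :
    ∃ Q : Sylow p (Matrix.GeneralLinearGroup (Fin p) F), ∀ x : Matrix.GeneralLinearGroup (Fin p) F,
      (∃ k : ℕ, orderOf x = p ^ k) → ∃ P : Sylow p (Matrix.GeneralLinearGroup (Fin p) F), P ≠ Q ∧ x ∈ P := by
  classical
  obtain ⟨a, ha⟩ := h1
  have hq : Fintype.card F = p * a + 1 := by have := Fintype.card_pos (α := F); omega
  have hap : ¬ p ∣ a := fun ⟨b, hb⟩ => h2 ⟨b, by rw [ha, hb]; ring⟩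
  obtain ⟨ζ, hζ, hζ1⟩ := exists_root (F := F) ⟨a, ha⟩
  let Qs : Sylow p (Matrix.GeneralLinearGroup (Fin p) F) :=
    Sylow.ofCard (monGroup F p) (card_monGroup_eq hp a hq hap ⟨a, ha⟩)
  refine ⟨Qs, fun x ⟨n, hn⟩ => ?_⟩
  by_cases hxQ : x ∈ monGroup F p
  · obtain ⟨u, i0, r, r', hrr, hr, hr', hu⟩ := exists_mover hp hζ hζ1 hxQ
    refine ⟨u • Qs, fun h => not_normalizing hp hζ hζ1 u hrr hr hr' ?_, ?_⟩
    · intro g hg
      have : u * g * u⁻¹ ∈ ((u • Qs : Sylow p _) : Subgroup (Matrix.GeneralLinearGroup (Fin p) F)) := by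
        rw [Sylow.coe_subgroup_smul, Subgroup.mem_pointwise_smul_iff_inv_smul_mem]
        simp [MulAut.smul_def, mul_assoc]
        exact hg
      rw [h] at this
      exact this
    · show x ∈ ((u • Qs : Sylow p _) : Subgroup (Matrix.GeneralLinearGroup (Fin p) F))
      rw [Sylow.coe_subgroup_smul, Subgroup.mem_pointwise_smul_iff_inv_smul_mem]
      simp [MulAut.smul_def, mul_assoc]
      rw [← mul_assoc]
      exact hu
  · have hpx : IsPGroup p (Subgroup.zpowers x) :=
      IsPGroup.of_card (n := n) (by rw [Nat.card_zpowers, hn])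
    obtain ⟨P, hP⟩ := hpx.exists_le_sylow
    exact ⟨P, fun h => hxQ (h ▸ hP (Subgroup.mem_zpowers x) : x ∈ (Qs : Subgroup _)),
      hP (Subgroup.mem_zpowers x)⟩

end Cfsg.Agent.S4358
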