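import Cfsg.Statements.S4403
import Cfsg.Agent.S4145
import Cfsg.Agent.Components.Basic
import Cfsg.Agent.Components.FStar
import Cfsg.Agent.Core.Fitting
import Cfsg.Agent.Core.Cores
import Cfsg.Agent.Coprime.Action
import Cfsg.Agent.Transfer.CentralTransfer
import Mathlib.RingTheory.ZMod.UnitsCyclic
import Mathlib.GroupTheory.SpecificGroups.Cyclic

set_option autoImplicit false
open Cfsg

namespace Cfsg.Agent.S4403

theorem unique_order_p {K : Type*} [Group K] [Finite K] {p : ℕ} [Fact p.Prime] (P : Sylow p K)
    (hP : IsCyclic (P : Subgroup K)) {a b : K} (ha : orderOf a = p) (hb : orderOf b = p)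
    (hab : Commute a b) : a ∈ Subgroup.zpowers b := by
  haveI := hP
  have hpg : ∀ {x : K}, orderOf x = p → IsPGroup p (Subgroup.zpowers x) := fun hx =>
    IsPGroup.of_card (n := 1) (by rw [Nat.card_zpowers, hx, pow_one])
  have hA : IsPGroup p (Subgroup.zpowers a ⊔ Subgroup.zpowers b : Subgroup K) := by
    refine (hpg ha).to_sup_of_normal_right' (hpg hb) ?_
    rw [Subgroup.zpowers_le]
    refine Cfsg.Agent.Coprime.mem_normalizer_of_conj_mem fun y hy => ?_
    obtain ⟨k, rfl⟩ := Subgroup.mem_zpowers_iff.mp hy
    rw [(hab.zpow_right k).eq, mul_inv_cancel_right]; exact hy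
  obtain ⟨Q, hQ⟩ := hA.exists_le_sylow
  haveI : IsCyclic (Q : Subgroup K) := isCyclic_of_surjective (f := (P.equiv Q).toMonoidHom)
    (P.equiv Q).surjective
  set a' : Q := ⟨a, hQ (Subgroup.mem_sup_left (Subgroup.mem_zpowers a))⟩
  set b' : Q := ⟨b, hQ (Subgroup.mem_sup_right (Subgroup.mem_zpowers b))⟩
  have h : Subgroup.zpowers a' = Subgroup.zpowers b' := by
    classical
    haveI : Fintype Q := Fintype.ofFinite Q
    have hle : Finset.card {x : Q | x ^ p = 1} ≤ p := IsCyclic.card_pow_eq_one_le (Fact.out : p.Prime).pos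
    have hsub : ∀ c : Q, orderOf (c : K) = p →
        ((Subgroup.zpowers c : Set Q).toFinset) = ({x : Q | x ^ p = 1} : Finset Q) := by
      intro c hc
      refine Finset.eq_of_subset_of_card_le (fun x hx => ?_) (hle.trans ?_)
      · rw [Set.mem_toFinset] at hx
        rw [Finset.mem_filter]
        refine ⟨Finset.mem_univ _, orderOf_dvd_iff_pow_eq_one.mp ?_⟩
        refine (orderOf_dvd_of_mem_zpowers hx).trans ?_
        rw [← Subgroup.orderOf_coe, hc]
      · rw [Set.toFinset_card, ← Nat.card_eq_fintype_card, Nat.card_coe_set_eq]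
        show p ≤ Set.ncard _
        rw [← Nat.card_coe_set_eq]
        exact le_of_eq (((hc.symm.trans (Subgroup.orderOf_coe c)).trans (Nat.card_zpowers c).symm))
    exact SetLike.coe_injective (Set.toFinset_inj.mp ((hsub a' ha).trans (hsub b' hb).symm))
  obtain ⟨k, hk⟩ := Subgroup.mem_zpowers_iff.mp (h ▸ Subgroup.mem_zpowers a' : a' ∈ Subgroup.zpowers b')
  exact Subgroup.mem_zpowers_iff.mpr ⟨k, congrArg Subtype.val hk⟩

/-- A perfect group with cyclic Sylow `p`-subgroup has no central element of order `p`. -/
theorem no_central {L : Type*} [Group L] [Finite L] {p : ℕ} [hp : Fact p.Prime]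
    (hperf : commutator L = ⊤) (P : Sylow p L) (hP : IsMulCommutative (P : Subgroup L)) {z : L}
    (hz : z ∈ Subgroup.center L) (ho : orderOf z = p) : False := by
  obtain ⟨Q, hQ⟩ := (IsPGroup.of_card (p := p) (n := 1) (by rw [Nat.card_zpowers, ho, pow_one]) :
    IsPGroup p (Subgroup.zpowers z)).exists_le_sylow
  have hQc : IsMulCommutative (Q : Subgroup L) := ⟨⟨fun a b => (P.equiv Q).symm.injective (by
    rw [map_mul, map_mul]; haveI := hP; exact mul_comm' _ _)⟩⟩
  have h1 := Cfsg.Agent.Transfer.pow_index_eq_one_of_isMulCommutative hQc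
    (hQ (Subgroup.mem_zpowers z)) hz (hperf ▸ Subgroup.mem_top z)
  exact Q.not_dvd_index ((dvd_of_eq ho.symm).trans (orderOf_dvd_of_pow_eq_one h1))

theorem not_complement {L : Type*} [Group L] [Finite L] {p : ℕ} [hp : Fact p.Prime]
    (hperf : commutator L = ⊤) (hd : p ∣ Nat.card L) : ¬ Cfsg.HasNormalPComplement p L := by
  rintro ⟨Q, N, hN, hc⟩
  have hpg : IsPGroup p (L ⧸ N) := Q.2.of_equiv (hc.symm.QuotientMulEquiv (H := (Q : Subgroup L))).symm
  haveI : Group.IsNilpotent (L ⧸ N) := hpg.isNilpotent
  have hnt : Nontrivial (L ⧸ N) := by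
    rw [← Finite.one_lt_card_iff_nontrivial,
      Nat.card_congr (hc.symm.QuotientMulEquiv (H := (Q : Subgroup L))).toEquiv]
    exact Subgroup.one_lt_card_iff_ne_bot (Q : Subgroup L) |>.mpr (Q.ne_bot_of_dvd_card hd)
  have h : commutator (L ⧸ N) = ⊤ := by
    have := Subgroup.map_commutator (⊤ : Subgroup L) ⊤ (QuotientGroup.mk' N)
    rw [← commutator_def, hperf, Subgroup.map_top_of_surjective _ (QuotientGroup.mk'_surjective N)]
      at this
    exact this.symm
  haveI : Group.IsSolvable (L ⧸ N) := inferInstance
  obtain ⟨n, hn⟩ := Group.IsSolvable.solvable (G := L ⧸ N)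
  have : ∀ m, derivedSeries (L ⧸ N) m = ⊤ := by
    intro m
    induction m with
    | zero => rfl
    | succ m ih => rw [derivedSeries_succ, ih]; exact h
  rw [this n] at hn
  exact top_ne_bot hn

/-- Let K be a finite group, p a prime dividing its order with O_{p'}(K) = 1 (no nontrivial normal subgroup of order prime to p), and P a cyclic Sylow p-subgroup of K. Then either P is normal and self-centralizing in K with K/P cyclic of order dividing p − 1 (so K is the semidirect product of P by a group of automorphisms of P of order dividing p − 1), or the generalized Fitting subgroup F*(K) is a non-abelian simple group and p does not divide the index of F*(K) in K. -/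
theorem result {K : Type*} [Group K] [Finite K] (p : ℕ) [Fact p.Prime] (hp : p ∣ Nat.card K) (hO : Cfsg.pPrimeCore p K = ⊥)
    (P : Sylow p K) (hP : IsCyclic ↥(P : Subgroup K)) :
    ((P : Subgroup K).Normal ∧ Subgroup.centralizer ((P : Subgroup K) : Set K) = (P : Subgroup K) ∧
      (∀ (_ : (P : Subgroup K).Normal), IsCyclic (K ⧸ (P : Subgroup K))) ∧ (P : Subgroup K).index ∣ p - 1) ∨
    (IsSimpleGroup ↥(Cfsg.generalizedFittingSubgroup K) ∧ ¬ IsMulCommutative ↥(Cfsg.generalizedFittingSubgroup K) ∧
      ¬ p ∣ (Cfsg.generalizedFittingSubgroup K).index) := by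
  classical
  have hpp : p.Prime := Fact.out
  haveI := hP
  have hPc : IsMulCommutative (P : Subgroup K) := inferInstance
  by_cases hlay : Cfsg.layer K = ⊥
  · left
    have hCF := Cfsg.Agent.Components.centralizer_fitting_le_of_layer_eq_bot hlay
    rw [Cfsg.Agent.Core.fittingSubgroup_eq_pCore hO] at hCF
    obtain ⟨Q, hQ⟩ := (Cfsg.Agent.Core.isPGroup_pCore p K).exists_le_sylow
    obtain ⟨g, hg⟩ := MulAction.exists_smul_eq K Q P
    have hFP : Cfsg.pCore p K ≤ (P : Subgroup K) := by
      intro x hx
      rw [← hg, Sylow.coe_subgroup_smul, Subgroup.mem_pointwise_smul_iff_inv_smul_mem]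
      exact hQ (by simpa using (inferInstance : (Cfsg.pCore p K).Normal).conj_mem x hx g⁻¹)
    have hPF : (P : Subgroup K) = Cfsg.pCore p K := by
      refine le_antisymm (le_trans (fun x hx => ?_) hCF) hFP
      rw [Subgroup.mem_centralizer_iff]
      intro y hy
      exact congrArg Subtype.val (mul_comm' (⟨y, hFP hy⟩ : (P : Subgroup K)) ⟨x, hx⟩)
    have hPn : (P : Subgroup K).Normal := hPF ▸ inferInstance
    have hC : Subgroup.centralizer ((P : Subgroup K) : Set K) = (P : Subgroup K) := by
      refine le_antisymm (by rw [hPF]; exact hCF) fun x hx => ?_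
      rw [Subgroup.mem_centralizer_iff]
      intro y hy
      exact congrArg Subtype.val (mul_comm' (⟨y, hy⟩ : (P : Subgroup K)) ⟨x, hx⟩)
    haveI := hPn
    let φ : K →* MulAut (P : Subgroup K) := MulAut.conjNormal
    have hker : φ.ker = (P : Subgroup K) := by
      conv_rhs => rw [← hC]
      ext x
      rw [MonoidHom.mem_ker, Subgroup.mem_centralizer_iff]
      constructor
      · intro h y hy
        have := congrArg Subtype.val (DFunLike.congr_fun h ⟨y, hy⟩)
        simp only [φ, MulAut.conjNormal_apply, MulAut.one_apply] at this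
        exact (mul_inv_eq_iff_eq_mul.mp this).symm
      · intro h
        ext y
        simp only [φ, MulAut.conjNormal_apply, MulAut.one_apply]
        rw [← h y y.2, mul_inv_cancel_right]
    have hidx : (P : Subgroup K).index = Nat.card φ.range := by
      exact (congrArg Subgroup.index hker).symm.trans (Subgroup.index_ker φ)
    have hdvd : (P : Subgroup K).index ∣ p - 1 := by
      obtain ⟨n, hn⟩ := IsPGroup.iff_card.mp P.2
      have h1 : (P : Subgroup K).index ∣ Nat.totient (p ^ n) := by
        rw [hidx, ← hn, ← IsCyclic.card_mulAut]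
        exact Subgroup.card_subgroup_dvd_card _
      rcases Nat.eq_zero_or_pos n with rfl | hn0
      · simp only [pow_zero, Nat.totient_one, Nat.dvd_one] at h1
        rw [h1]; exact one_dvd _
      rw [Nat.totient_prime_pow hpp hn0] at h1
      exact (((hpp.coprime_iff_not_dvd).mpr P.not_dvd_index).symm.pow_right _).dvd_of_dvd_mul_left h1
    refine ⟨hPn, hC, fun hN => ?_, hdvd⟩
    obtain ⟨n, hn⟩ := IsPGroup.iff_card.mp P.2
    by_cases hp2 : p = 2
    · subst hp2
      have h1 : (P : Subgroup K).index = 1 := Nat.dvd_one.mp (by simpa using hdvd)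
      rw [Subgroup.index_eq_card] at h1
      haveI : Subsingleton (K ⧸ (P : Subgroup K)) := (Nat.card_eq_one_iff_unique.mp h1).1
      exact isCyclic_of_subsingleton
    · haveI : IsCyclic (ZMod (Nat.card (P : Subgroup K)))ˣ := by
        rw [hn]; exact ZMod.isCyclic_units_of_prime_pow p hpp hp2 n
      haveI : IsCyclic (MulAut (P : Subgroup K)) :=
        isCyclic_of_surjective (f := (IsCyclic.mulAutMulEquiv (P : Subgroup K)).symm.toMonoidHom)
          (IsCyclic.mulAutMulEquiv (P : Subgroup K)).symm.surjective
      exact isCyclic_of_surjective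
        (f := ((QuotientGroup.quotientMulEquivOfEq hker).symm.trans
          (QuotientGroup.quotientKerEquivRange φ)).symm.toMonoidHom) (MulEquiv.surjective _)
  · right
    obtain ⟨L, hL⟩ : ∃ L, Cfsg.IsComponent L := by
      by_contra h
      exact hlay (Cfsg.Agent.Components.layer_eq_bot_iff.mpr fun L hL => h ⟨L, hL⟩)
    have hperf : ∀ M : Subgroup K, Cfsg.IsComponent M → commutator M = ⊤ := fun M hM =>
      Cfsg.Agent.Components.quasisimple_commutator_top (Cfsg.Agent.Components.component_quasisimple hM)
    have hpdvd : ∀ M : Subgroup K, Cfsg.IsComponent M → p ∣ Nat.card M := by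
      intro M hM
      by_contra h
      have hle := Cfsg.Agent.Core.le_pPrimeCore_of_isSubnormal (p := p)
        (Cfsg.Agent.Components.component_isSubnormal hM) ((hpp.coprime_iff_not_dvd.mpr h).symm)
      rw [hO, le_bot_iff] at hle
      exact Cfsg.Agent.Components.component_ne_bot hM hle
    have hno : ∀ M : Subgroup K, Cfsg.IsComponent M → ∀ z ∈ M, orderOf z = p →
        z ∉ Subgroup.centralizer (M : Set K) := by
      intro M hM z hz ho hzc
      haveI : (M).FiniteIndex := inferInstance
      obtain ⟨S⟩ : Nonempty (Sylow p M) := inferInstance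
      have hS : IsMulCommutative (S : Subgroup M) := by
        obtain ⟨Q, hQ⟩ := (S.2.map M.subtype).exists_le_sylow
        refine ⟨⟨fun a b => Subtype.ext (Subtype.ext ?_)⟩⟩
        have h := mul_comm' ((P.equiv Q).symm ⟨_, hQ ⟨a.1, a.2, rfl⟩⟩)
          ((P.equiv Q).symm ⟨_, hQ ⟨b.1, b.2, rfl⟩⟩)
        rw [← map_mul, ← map_mul] at h
        have h' := congrArg Subtype.val ((P.equiv Q).symm.injective h)
        exact h'
      refine no_central (hperf M hM) S hS (z := ⟨z, hz⟩) ?_ (by rw [Subgroup.orderOf_mk]; exact ho)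
      rw [Subgroup.mem_center_iff]
      exact fun g => Subtype.ext (Subgroup.mem_centralizer_iff.mp hzc g g.2)
    obtain ⟨⟨a, haL⟩, ha⟩ := exists_prime_orderOf_dvd_card' (G := L) p (hpdvd L hL)
    rw [Subgroup.orderOf_mk] at ha
    have huniq : ∀ M : Subgroup K, Cfsg.IsComponent M → M = L := by
      intro M hM
      by_contra hne
      have hcomm := Cfsg.Agent.Components.components_commute hM hL hne
      obtain ⟨⟨b, hbM⟩, hb⟩ := exists_prime_orderOf_dvd_card' (G := M) p (hpdvd M hM)
      rw [Subgroup.orderOf_mk] at hb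
      have hMC : M ≤ Subgroup.centralizer (L : Set K) :=
        Subgroup.commutator_eq_bot_iff_le_centralizer.mp hcomm
      have hab : Commute a b := Subgroup.mem_centralizer_iff.mp (hMC hbM) a haL
      exact hno L hL a haL ha (hMC (Subgroup.zpowers_le.mpr hbM (unique_order_p P hP ha hb hab)))
    haveI hLn : L.Normal := by
      refine ⟨fun x hx g => ?_⟩
      have := huniq _ (Cfsg.Agent.Components.isComponent_conj hL g)
      rw [← this]
      exact ⟨x, hx, rfl⟩
    have hlayL : Cfsg.layer K = L :=
      le_antisymm (Cfsg.Agent.Components.layer_le_iff.mpr fun M hM => (huniq M hM).le)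
        (Cfsg.Agent.Components.component_le_layer hL)
    haveI := Cfsg.Agent.Core.isSolvable_fittingSubgroup K
    have hLF : L ≤ Subgroup.centralizer (Cfsg.fittingSubgroup K : Set K) :=
      Cfsg.Agent.Components.component_centralizes_solvable_normal hL inferInstance
    have hF : Cfsg.fittingSubgroup K = ⊥ := by
      by_contra hne
      have hFp : IsPGroup p (Cfsg.fittingSubgroup K) := by
        rw [Cfsg.Agent.Core.fittingSubgroup_eq_pCore hO]; exact Cfsg.Agent.Core.isPGroup_pCore p K
      obtain ⟨n, hn⟩ := IsPGroup.iff_card.mp hFp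
      obtain ⟨⟨b, hbF⟩, hb⟩ := exists_prime_orderOf_dvd_card' (G := Cfsg.fittingSubgroup K) p (by
        rw [hn]; refine dvd_pow_self p fun h => hne (Subgroup.card_eq_one.mp (by rw [hn, h, pow_zero])))
      rw [Subgroup.orderOf_mk] at hb
      have hab : Commute a b := (Subgroup.mem_centralizer_iff.mp (hLF haL) b hbF).symm
      have haF : a ∈ Cfsg.fittingSubgroup K :=
        Subgroup.zpowers_le.mpr hbF (unique_order_p P hP ha hb hab)
      exact hno L hL a haL ha (Subgroup.le_centralizer_iff.mp hLF haF)
    have hFs : Cfsg.generalizedFittingSubgroup K = L := by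
      show Cfsg.layer K ⊔ Cfsg.fittingSubgroup K = L
      rw [hF, sup_bot_eq, hlayL]
    have hq := Cfsg.Agent.Components.component_quasisimple hL
    have hZ : Subgroup.center L = ⊥ := by
      have hle : (Subgroup.center L).map L.subtype ≤ Cfsg.fittingSubgroup K := by
        rw [Cfsg.Agent.Components.map_center_eq_inf_centralizer]
        refine Cfsg.Agent.Components.le_fitting inferInstance
          (Cfsg.Agent.Components.isNilpotent_of_commute (le_bot_iff.mp ?_))
        exact (Subgroup.commutator_mono inf_le_left inf_le_right).trans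
          (Subgroup.commutator_eq_bot_iff_le_centralizer.mpr
            (Subgroup.le_centralizer_iff.mp le_rfl)).le
      rw [hF, le_bot_iff, Subgroup.map_eq_bot_iff, Subgroup.ker_subtype] at hle
      exact le_bot_iff.mp hle
    rw [hFs]
    haveI := Cfsg.Agent.Components.quasisimple_nontrivial hq
    refine ⟨⟨fun N hN => ?_⟩, Cfsg.Agent.Components.quasisimple_not_isMulCommutative hq, fun hdvd => ?_⟩
    · rcases Cfsg.Agent.Components.quasisimple_normal_eq_top_or_le_center hq N with h | h
      · exact Or.inr h
      · exact Or.inl (le_bot_iff.mp (hZ ▸ h))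
    · exact not_complement (hperf L hL) (hpdvd L hL)
        (Cfsg.Agent.S4145.result p P hP L (hpdvd L hL) hdvd).1

end Cfsg.Agent.S4403
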