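import Cfsg.Statements.S4602
import Cfsg.Agent.Core.Cores
import Cfsg.Agent.Core.PiSeparable
import Cfsg.Agent.Core.CoprimeAction

set_option autoImplicit false
open Cfsg

namespace Cfsg.Agent.S4602

/-- Let G be a finite p-solvable group and q a prime different from p. Some Sylow p-subgroup of G normalizes some Sylow q-subgroup of G if and only if q does not divide the order of G/O_{p'}(G), the quotient by the largest normal subgroup of order prime to p. -/
theorem result {G : Type*} [Group G] [Finite G] (p q : ℕ) [Fact p.Prime] [Fact q.Prime] (hpq : p ≠ q) (hsolv : Cfsg.IsPSolvable p G) :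
    (∃ (P : Sylow p G) (Q : Sylow q G), (P : Subgroup G) ≤ Subgroup.normalizer ((Q : Subgroup G) : Set G)) ↔ ¬ q ∣ (Cfsg.pPrimeCore p G).index := by
  have hK : (Cfsg.pPrimeCore p G).Normal := by infer_instance
  have hqN := (Fact.out : q.Prime)
  have hpN := (Fact.out : p.Prime)
  constructor
  · rintro ⟨P, Q, hPQ⟩ hq
    set K := Cfsg.pPrimeCore p G
    set π := QuotientGroup.mk' K
    have hHH := Core.centralizer_pCore_le (Core.isPSolvable_quotient hsolv K)
      (Core.pPrimeCore_quotient_pPrimeCore p G)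
    have hπ : Function.Surjective π := QuotientGroup.mk'_surjective K
    have hRP : Cfsg.pCore p (G ⧸ K) ≤ (P : Subgroup G).map π := Core.pCore_le_sylow (P.mapSurjective hπ)
    set R := Cfsg.pCore p (G ⧸ K)
    set T := (Q : Subgroup G).map π with hT
    have hRT : R ≤ Subgroup.normalizer (T : Set (G ⧸ K)) :=
      hRP.trans ((Subgroup.map_mono hPQ).trans (Subgroup.le_normalizer_map π))
    have hTp : IsPGroup q T := Q.isPGroup'.map π
    have hdisj : Disjoint R T := IsPGroup.disjoint_of_ne p q hpq _ _ (Core.isPGroup_pCore p _) hTp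
    have hTC : T ≤ Subgroup.centralizer (R : Set (G ⧸ K)) := by
      intro t ht
      rw [Subgroup.mem_centralizer_iff]
      intro r hr
      have h1 : r * t * r⁻¹ * t⁻¹ ∈ R := by
        have := (inferInstance : R.Normal).conj_mem r⁻¹ (inv_mem hr) t
        rw [mul_assoc (r * t) r⁻¹ t⁻¹, mul_assoc r t]
        exact mul_mem hr (by simpa [mul_assoc] using this)
      have h2 : r * t * r⁻¹ * t⁻¹ ∈ T :=
        mul_mem ((Subgroup.mem_normalizer_iff.mp (hRT hr) t).mp ht) (inv_mem ht)
      have h3 : r * t * r⁻¹ * t⁻¹ = 1 := Subgroup.mem_bot.mp (hdisj.le_bot ⟨h1, h2⟩)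
      rw [mul_inv_eq_one, mul_inv_eq_iff_eq_mul] at h3
      exact h3
    have hT1 : T = ⊥ := le_bot_iff.mp fun t ht => hdisj.le_bot ⟨hHH (hTC ht), ht⟩
    refine (Q.mapSurjective hπ).not_dvd_index ?_
    rw [Sylow.coe_mapSurjective, show Subgroup.map π (Q : Subgroup G) = ⊥ from hT1, Subgroup.index_bot]
    exact hq
  · intro hq
    obtain ⟨P⟩ : Nonempty (Sylow p G) := inferInstance
    set K := Cfsg.pPrimeCore p G
    have hcop : (Nat.card (P : Subgroup G)).Coprime (Nat.card K) := by
      obtain ⟨k, hk⟩ := IsPGroup.iff_card.mp P.isPGroup'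
      rw [hk]
      exact Nat.Coprime.pow_left _ (Core.card_pPrimeCore_coprime p G).symm
    haveI : Group.IsNilpotent (P : Subgroup G) := P.isPGroup'.isNilpotent
    obtain ⟨Q, hQK, hQ, hQi, hPQ⟩ := Core.exists_invariant_sylow (N := K) (A := (P : Subgroup G))
      (fun x _ => by rw [Subgroup.normalizer_eq_top]; trivial) (Or.inl inferInstance) hcop q
    have hind : ¬ q ∣ Q.index := by
      rw [← Subgroup.relIndex_mul_index hQK]
      intro h
      rcases hqN.dvd_mul.mp h with h | h
      · exact hQi h
      · exact hq h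
    exact ⟨P, hQ.toSylow hind, hPQ⟩

end Cfsg.Agent.S4602
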