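import Cfsg.Statements.S4634
import Cfsg.Agent.Blocks.CyclicFrobenius
-- import your own Cfsg.Agent.* helpers here

set_option autoImplicit false
open Cfsg Cfsg.Agent Cfsg.Agent.BlockChar Cfsg.Agent.Blocks

namespace Cfsg.Agent.S4634

/-- Let B be a block of the finite group G relative to a maximal ideal M of the algebraic integers containing the prime p, with a nontrivial cyclic defect group P, let c be a block of C_G(P) inducing B, T the stabilizer of c in N_G(P) and e the index of C_G(P) in T. Let F be any finite group of order #P · e having a cyclic subgroup Q of order #P that is its own centralizer (F is then the semidirect product of Q by a cyclic group of order e acting faithfully). Then there is a perfect isometry from the set of all irreducible characters of F onto B whose signs agree on all the characters of F that do not contain Q in their kernel. -/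
theorem result {G : Type*} [Group G] [Finite G] (p : ℕ) [Fact p.Prime] (M : Ideal Cfsg.AlgInt) (hM : Cfsg.IsPModular p M) (B : Set (Cfsg.IrrCharacter G)) (hB : Cfsg.IsPBlock M B) (P : Subgroup G) (hPD : Cfsg.IsDefectGroup p M B P) (hP1 : P ≠ ⊥) (hcyc : IsCyclic P) (c : Set (Cfsg.IrrCharacter (Subgroup.centralizer (P : Set G)))) (hc : Cfsg.IsInducedBlock M (Subgroup.centralizer (P : Set G)) c B) (T : Subgroup G) (hT : ∀ g : G, g ∈ T ↔ (g ∈ Subgroup.normalizer (P : Set G) ∧ Cfsg.StabilizesBlock (Subgroup.centralizer (P : Set G)) c g)) (e : ℕ) (he : (Subgroup.centralizer (P : Set G)).relIndex T = e) (F : Type*) [Group F] [Finite F] (hF : Nat.card F = Nat.card P * e) (Q : Subgroup F) (hQ : IsCyclic Q) (hQcard : Nat.card Q = Nat.card P) (hQC : Subgroup.centralizer (Q : Set F) = Q) : ∃ (I : Cfsg.IrrCharacter F → Cfsg.IrrCharacter G) (ε : Cfsg.IrrCharacter F → ℤ), Cfsg.IsPerfectIsometry p M (Set.univ : Set (Cfsg.IrrCharacter F)) B I ε ∧ ∀ η η' : Cfsg.IrrCharacter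 F, (∃ x ∈ Q, (η : F → ℂ) x ≠ (η : F → ℂ) 1) → (∃ x ∈ Q, (η' : F → ℂ) x ≠ (η' : F → ℂ) 1) → ε η = ε η' := by
  classical
  haveI := Fintype.ofFinite G
  haveI := Fintype.ofFinite F
  obtain ⟨-, hmax, hpM⟩ := hM
  haveI := hmax
  obtain rfl := CyclicApps.stab_eq hpM hc.1 hT
  obtain ⟨D, -, hdvd, -⟩ := CyclicStructure.cyclic_setup hpM hPD hcyc hP1 hc
  rw [he] at hdvd
  have hp := (Fact.out : p.Prime)
  have he0 : 0 < e := he ▸ Nat.pos_of_ne_zero Subgroup.index_ne_zero_of_finite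
  have hep : e < p := by
    have := Nat.le_of_dvd (by have := hp.two_le; omega) hdvd
    have := hp.two_le
    omega
  obtain ⟨a, ha⟩ := D.pmax.pair.pgroup.exists_card_eq
  have hQp : IsPGroup p Q := IsPGroup.of_card (hQcard.trans ha)
  have hQidx : Q.index = e := by
    have h := Subgroup.card_mul_index Q
    rw [hF, hQcard] at h
    exact Nat.eq_of_mul_eq_mul_left Nat.card_pos h
  obtain ⟨hQn, hsub, hmemQ⟩ := CyclicFrobenius.normal_of_index hQp hQidx hep
  haveI := hQn
  haveI := hsub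
  have habQ := CyclicStructure.commute_of_cyclic hQ
  have hab' : Q ≤ Subgroup.centralizer (Q : Set F) := fun x hx =>
    Subgroup.mem_centralizer_iff.mpr fun y hy => habQ y hy x hx
  have hS : ∀ S : Sylow p F, (S : Subgroup F) = Q := fun S => by
    obtain ⟨T, hT'⟩ := hQp.exists_le_sylow
    refine le_antisymm (fun x hx => hmemQ x (orderOf_of_mem S.isPGroup' hx)) ?_
    rw [Subsingleton.elim S T]; exact hT'
  obtain ⟨hB1, hQD, cF, hcF, hstabF⟩ :=
    CyclicFrobenius.single_block hpM hQp hab' hQC.le hS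
  have hQ1 : Q ≠ ⊥ := by
    intro h
    rw [h, Subgroup.card_bot] at hQcard
    exact hP1 (Subgroup.eq_bot_of_card_eq P hQcard.symm)
  obtain ⟨-, hfreeF, -, ⟨t, -, hgen⟩, -⟩ := CyclicStructure.cyclic_setup hpM hQD hQ hQ1 hcF
  rw [hstabF] at hfreeF hgen
  haveI : IsCyclic (F ⧸ Q) := ⟨⟨QuotientGroup.mk t, fun q => by
    obtain ⟨g, rfl⟩ := QuotientGroup.mk'_surjective Q q
    obtain ⟨k, hk⟩ := hgen g (Subgroup.mem_top g)
    rw [hQC] at hk
    refine Subgroup.mem_zpowers_iff.mpr ⟨k, ?_⟩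
    rw [zpow_natCast, ← QuotientGroup.mk_pow, QuotientGroup.mk'_apply]
    exact QuotientGroup.eq.mpr hk⟩⟩
  haveI : NeZero (Nat.card P) := ⟨Nat.card_pos.ne'⟩
  obtain ⟨S⟩ := CyclicShape.exists_shape hpM hPD hcyc hP1 hc rfl he
  obtain ⟨S'⟩ := CyclicShape.exists_shape (e := e) hpM hQD hQ hQ1 hcF hQcard
    (by rw [hstabF, hQC, Subgroup.relIndex_top_right, hQidx])
  obtain ⟨I, ε, X', Y', hI, hXY, hall, hXc, hYc, hagree, κ, hκY, hκ1⟩ :=
    CyclicPerfect.isometry hpM S S'
  refine ⟨I, ε, hI, fun η η' hη hη' => ?_⟩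
  by_cases he1 : e = 1
  · rw [hκ1 he1 η (Set.mem_univ η), hκ1 he1 η' (Set.mem_univ η')]
  obtain ⟨K, hKc, hK⟩ := CyclicFrobenius.exists_linear_set (Q := Q)
  have hnK : ∀ θ : IrrCharacter F, (∃ x ∈ Q, (θ : F → ℂ) x ≠ (θ : F → ℂ) 1) → θ ∈ Kᶜ := by
    rintro θ ⟨x, hx, hne⟩
    refine Finset.mem_compl.mpr fun hθ => ?_
    obtain ⟨φ, hφ, hφQ⟩ := hK θ hθ
    exact hne (by rw [hφ, hφ, hφQ x hx, map_one])
  have hreg1 : ¬ p ∣ orderOf (1 : F) := by rw [orderOf_one]; exact hp.not_dvd_one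
  set Y'' : Finset (IrrCharacter F) := Y'.map (Function.Embedding.subtype _) with hY''
  have hcardY : Kᶜ.card = Y''.card := by
    have h1 : Fintype.card (IrrCharacter F) = X'.card + Y'.card := by
      rw [← Finset.card_union_of_disjoint hXY,
        show X' ∪ Y' = Finset.univ from
          Finset.eq_univ_iff_forall.2 fun x => Finset.mem_union.2 (hall x),
        Finset.card_univ, Fintype.card_coe]
      exact (congrArg Finset.card (Finset.eq_univ_iff_forall.2 fun x =>
        mem_bf.2 (Set.mem_univ x))).symm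
    rw [Finset.card_compl, h1, hXc, hKc, hQidx, hY'', Finset.card_map]
    omega
  rcases Nat.lt_or_ge 1 Y''.card with h2 | h1
  swap
  · have hc1 : Kᶜ.card ≤ 1 := hcardY ▸ h1
    rw [Finset.card_le_one.mp hc1 η (hnK η hη) η' (hnK η' hη')]
  have hsubY : Y'' ⊆ Kᶜ := by
    intro ψ hψ
    refine Finset.mem_compl.mpr fun hψK => ?_
    obtain ⟨ψ', hψ', hne⟩ := Finset.exists_mem_ne h2 ψ
    obtain ⟨ψ₀, hψ₀, rfl⟩ := Finset.mem_map.mp hψ
    obtain ⟨ψ₁, hψ₁, rfl⟩ := Finset.mem_map.mp hψ'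
    have hag := hagree ψ₁ hψ₁ ψ₀ hψ₀
    obtain ⟨φ, hφ, hφQ⟩ := hK _ hψK
    simp only [Function.Embedding.subtype_apply] at hne hφ
    have h11 : ((ψ₁ : IrrCharacter F) : F → ℂ) 1 = 1 := by
      rw [hag 1 hreg1, hφ, map_one, Units.val_one]
    obtain ⟨φ', hφ'⟩ := Chars.exists_hom_of_degree_one (Chars.irr_isCharacter _) h11
    have hQt : Q ≠ ⊤ := fun h => he1 (by rw [← hQidx, h, Subgroup.index_top])
    obtain ⟨t', ht'⟩ : ∃ t' : F, t' ∉ Q := by
      by_contra hall'
      push Not at hall'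
      exact hQt (Subgroup.eq_top_iff' Q |>.mpr hall')
    have htriv : ∀ x ∈ Q, φ' x = 1 := fun x hx =>
      CyclicFrobenius.trivial_of_free habQ (fun y hy hy1 hyt => ht' (by
        have := hfreeF t' (Subgroup.mem_top t') y hy hy1 hyt
        rwa [hQC] at this)) φ' hx
    refine hne (Subtype.ext (funext fun g => ?_))
    obtain ⟨s, hs, -, hu, hr⟩ := isPPart_ppart (p := p) g
    have hv : ∀ h, ((ψ₁ : IrrCharacter F) : F → ℂ) h = (φ' h : ℂ) := fun h => by rw [hφ']
    rw [← hs, hv, hφ, map_mul, map_mul, htriv _ (hmemQ _ hu), hφQ _ (hmemQ _ hu), one_mul,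
      one_mul, ← hv, ← hφ]
    exact hag s hr
  have heq : Y'' = Kᶜ := Finset.eq_of_subset_of_card_le hsubY hcardY.le
  have hval : ∀ θ : IrrCharacter F, θ ∈ Kᶜ → ε θ = κ := fun θ hθ => by
    obtain ⟨θ₀, hθ₀, rfl⟩ := Finset.mem_map.mp (heq.symm ▸ hθ)
    exact hκY θ₀ hθ₀
  rw [hval η (hnK η hη), hval η' (hnK η' hη')]

end Cfsg.Agent.S4634
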