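import Cfsg.Statements.S4635
import Cfsg.Agent.Blocks.CyclicApps
-- import your own Cfsg.Agent.* helpers here

set_option autoImplicit false
open Cfsg Cfsg.Agent Cfsg.Agent.BlockChar Cfsg.Agent.Blocks

namespace Cfsg.Agent.S4635

/-- Let B be a block of the finite group G relative to a maximal ideal M of the algebraic integers containing the prime p, with a nontrivial cyclic defect group P; let Z be the subgroup of order p of P and H = N_G(Z), which contains N_G(P). Let c be the block of H with defect group P that induces B. Then B and c contain the same number of irreducible characters, have the same p-regular rank, and there is a perfect isometry from c onto B. -/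
theorem result {G : Type*} [Group G] [Finite G] (p : ℕ) [Fact p.Prime] (M : Ideal Cfsg.AlgInt) (hM : Cfsg.IsPModular p M) (B : Set (Cfsg.IrrCharacter G)) (hB : Cfsg.IsPBlock M B) (P : Subgroup G) (hPD : Cfsg.IsDefectGroup p M B P) (hP1 : P ≠ ⊥) (hcyc : IsCyclic P) (Z : Subgroup G) (hZ : Z ≤ P) (hZcard : Nat.card Z = p) (H : Subgroup G) (hH : H = Subgroup.normalizer (Z : Set G)) (c : Set (Cfsg.IrrCharacter H)) (hcD : Cfsg.IsDefectGroup p M c (P.subgroupOf H)) (hc : Cfsg.IsInducedBlock M H c B) : Nat.card c = Nat.card B ∧ Cfsg.blockRank p c = Cfsg.blockRank p B ∧ ∃ (I : Cfsg.IrrCharacter H → Cfsg.IrrCharacter G) (ε : Cfsg.IrrCharacter H → ℤ), Cfsg.IsPerfectIsometry p M c B I ε := by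
  classical
  haveI := Fintype.ofFinite G
  obtain ⟨-, hmax, hpM⟩ := hM
  haveI := hmax
  haveI : Fintype H := Fintype.ofFinite _
  have hab := CyclicStructure.commute_of_cyclic hcyc
  have hPH : P ≤ H := by
    intro x hx
    rw [hH, Subgroup.mem_normalizer_iff]
    intro y
    constructor
    · intro hy
      rw [hab x hx y (hZ hy), mul_inv_cancel_right]
      exact hy
    · intro hy
      have h1 := hab x hx _ (hZ hy)
      have h2 : x * y = y * x := by
        have h3 : x * (x * y * x⁻¹) = x * (y : G) := by rw [h1]; group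
        have h4 := mul_left_cancel h3
        rw [mul_inv_eq_iff_eq_mul] at h4
        exact h4
      rwa [h2, mul_inv_cancel_right] at hy
  have hCH : Subgroup.centralizer (P : Set G) ≤ H := by
    refine (centralizer_anti hZ).trans ?_
    rw [hH]
    exact centralizer_le_normalizer Z
  have hstab : ∀ d : Set (IrrCharacter (Subgroup.centralizer (P : Set G))),
      IsInducedBlock M (Subgroup.centralizer (P : Set G)) d B → stab P (idemS M d) ≤ H := by
    intro d hd t ht
    obtain ⟨-, -, -, -, Ω, -, hΩcard, hmin, hΩN, -⟩ :=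
      CyclicStructure.cyclic_setup hpM hPD hcyc hP1 hd
    have hZ1 : Z ≠ ⊥ := fun h => by
      rw [h, Subgroup.card_bot] at hZcard
      exact (Fact.out : p.Prime).ne_one hZcard.symm
    have hΩZ : Ω = Z := Subgroup.eq_of_le_of_card_ge (hmin Z hZ hZ1) (by rw [hΩcard, hZcard])
    rw [hH, ← hΩZ]
    exact hΩN t ht
  obtain ⟨hr, I, ε, hI⟩ := CyclicApps.local_isometry hpM hB hPD hcyc hP1 hPH hCH hstab hcD hc
  refine ⟨?_, hr, I, ε, hI⟩
  rw [← hI.1.image_eq, Nat.card_image_of_injOn hI.1.injOn]

end Cfsg.Agent.S4635
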