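import Cfsg.Statements.S4702
import Cfsg.Agent.S0727
import Cfsg.Agent.S0265

set_option autoImplicit false
open Cfsg

namespace Cfsg.Agent.S4702

/-- Let G be a triply transitive permutation group on a finite set of odd size m ≥ 3 in which only the identity fixes three or more points. Then m = 2^a + 1 for some a ≥ 1 and G is isomorphic to SL(2, 2^a). -/
theorem result {α : Type*} [Fintype α] [DecidableEq α] (hm : 3 ≤ Fintype.card α) (hodd : Odd (Fintype.card α)) (G : Subgroup (Equiv.Perm α)) (h3 : MulAction.IsMultiplyPretransitive G α 3) (hfix : ∀ g : G, 3 ≤ Nat.card (MulAction.fixedBy α g) → g = 1) : ∃ a : ℕ, 1 ≤ a ∧ Fintype.card α = 2 ^ a + 1 ∧ ∃ (F : Type) (_ : Field F) (_ : Fintype F), Fintype.card F = 2 ^ a ∧ Nonempty (G ≃* Matrix.SpecialLinearGroup (Fin 2) F) := by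
  classical
  have hsharp : ∀ x : Fin 3 ↪ α, MulAction.stabilizer G x = ⊥ := fun x => by
    rw [Subgroup.eq_bot_iff_forall]
    intro g hg
    refine hfix g ?_
    have hxi : ∀ i, g • x i = x i := fun i => congrArg (fun u : Fin 3 ↪ α => u i) (MulAction.mem_stabilizer_iff.1 hg)
    refine le_trans (le_of_eq (by simp)) (Nat.card_le_card_of_injective (α := Fin 3)
      (fun i => (⟨x i, hxi i⟩ : MulAction.fixedBy α g)) fun i j e => x.injective (congrArg Subtype.val e))
  obtain ⟨b⟩ : Nonempty α := Fintype.card_pos_iff.1 (by omega)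
  obtain ⟨p, j, N, hp, hj, hcard, -⟩ := PermGroups.exists_translations h3 hsharp hm b
  have hp2 : p = 2 := by
    by_contra hne
    have h1 : Odd (p ^ j) := (hp.odd_of_ne_two hne).pow
    obtain ⟨r, hr⟩ := h1
    obtain ⟨u, hu⟩ := hodd
    omega
  subst hp2
  obtain ⟨K, fK, fintK, hK, ⟨e⟩⟩ := S0727.result hj hcard G h3 hsharp
  have hchar : CharP K 2 := by
    obtain ⟨r, hr⟩ := CharP.exists K
    obtain ⟨n, hrp, hn⟩ := FiniteField.card K r
    rw [hK] at hn
    have hd : r ∣ 2 ^ j := hn ▸ dvd_pow_self r n.pos.ne'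
    rw [← (Nat.prime_dvd_prime_iff_eq hrp Nat.prime_two).1 (hrp.dvd_of_dvd_pow hd)]
    exact hr
  have hinj : Function.Injective (Matrix.SpecialLinearGroup.toPGL : Matrix.SpecialLinearGroup (Fin 2) K →* Matrix.ProjGenLinGroup (Fin 2) K) := by
    rw [injective_iff_map_eq_one]
    intro g hg
    have hc : g ∈ Subgroup.center (Matrix.SpecialLinearGroup (Fin 2) K) := by
      rw [← Matrix.SpecialLinearGroup.toPGL_ker]; exact hg
    obtain ⟨u, hu, hug⟩ := Matrix.SpecialLinearGroup.mem_center_iff.1 hc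
    have hu1 : u = 1 := by
      simp only [Fintype.card_fin] at hu
      have h0 : (u - 1) ^ 2 = 0 := by
        rw [CharTwo.sub_eq_add, CharTwo.add_sq, hu, one_pow, CharTwo.add_self_eq_zero]
      exact sub_eq_zero.1 (pow_eq_zero_iff (two_ne_zero) |>.1 h0)
    refine Subtype.ext ?_
    rw [← hug, hu1]
    simp
  haveI : Finite (Matrix.ProjGenLinGroup (Fin 2) K) :=
    Finite.of_surjective _ Matrix.ProjGenLinGroup.mk_surjective
  have hbij : Function.Bijective (Matrix.SpecialLinearGroup.toPGL : Matrix.SpecialLinearGroup (Fin 2) K →* Matrix.ProjGenLinGroup (Fin 2) K) :=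
    (Nat.bijective_iff_injective_and_card _).2 ⟨hinj, (S0265.result (F := K) 2).symm⟩
  exact ⟨j, hj, hcard, K, fK, fintK, hK, ⟨e.trans (MulEquiv.ofBijective _ hbij).symm⟩⟩

end Cfsg.Agent.S4702
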