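import Cfsg.Statements.S4706
import Cfsg.Agent.S0676
import Cfsg.Agent.S4702
import Mathlib.Data.Fintype.CardEmbedding
import Mathlib.GroupTheory.GroupAction.MultipleTransitivity

/-!
Permutation groups of prime degree whose Sylow normalizer is dihedral of order `2p`.

The group is triply transitive. The generalized permutation character on the signed pairs contains
the permutation heart and the `(p-1)/2` exceptional characters, so its norm is at least `(p+1)/2`;
this is written as a sum of squares over the group and forces trivial three-point stabilizers.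
-/

set_option autoImplicit false
set_option linter.style.haveILetI false

namespace Cfsg.Agent.S4706

/-- For a transitive action and any map `σ` of the set, the pairs `(g, x)` with `g • x = σ x` are as
many as the group elements. -/
theorem sum_card_smul_eq {G β : Type*} [Group G] [Fintype G] [Fintype β] [DecidableEq β]
    [MulAction G β] [MulAction.IsPretransitive G β] [Nonempty β] (σ : β → β) :
    ∑ g : G, Fintype.card {x : β // g • x = σ x} = Fintype.card G := by
  classical
  obtain ⟨x₀⟩ := ‹Nonempty β›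
  have hfib : ∀ x y : β, (Finset.univ.filter fun g : G => g • x = y).card =
      (Finset.univ.filter fun g : G => g • x₀ = x₀).card := by
    intro x y
    obtain ⟨a, ha⟩ := MulAction.exists_smul_eq G x₀ x
    obtain ⟨b, hb⟩ := MulAction.exists_smul_eq G x₀ y
    refine Finset.card_bij' (fun g _ => b⁻¹ * g * a) (fun g _ => b * g * a⁻¹) ?_ ?_ ?_ ?_
    · intro g hg
      simp only [Finset.mem_filter, Finset.mem_univ, true_and] at hg ⊢
      rw [mul_smul, mul_smul, ha, hg, ← hb, inv_smul_smul]
    · intro g hg
      simp only [Finset.mem_filter, Finset.mem_univ, true_and] at hg ⊢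
      rw [mul_smul, mul_smul, ← ha, inv_smul_smul, hg, hb]
    · intro g _; group
    · intro g _; group
  have h1 : ∑ g : G, Fintype.card {x : β // g • x = σ x} =
      ∑ x : β, (Finset.univ.filter fun g : G => g • x = σ x).card := by
    simp only [Fintype.card_subtype, Finset.card_filter]
    rw [Finset.sum_comm]
  have h2 : Fintype.card G = ∑ y : β, (Finset.univ.filter fun g : G => g • x₀ = y).card := by
    rw [← Finset.card_univ]
    exact Finset.card_eq_sum_card_fiberwise (fun g _ => Finset.mem_univ (g • x₀))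
  rw [h1, h2]
  exact Finset.sum_congr rfl fun x _ => by rw [hfib, hfib x₀ x]

section
variable {G α : Type*} [Group G] [Fintype G] [Fintype α] [DecidableEq α] [MulAction G α]

/-- Number of fixed points. -/
def fx (g : G) : ℕ := Fintype.card {a : α // g • a = a}

/-- Number of points lying in 2-cycles. -/
def tw (g : G) : ℕ := Fintype.card {a : α // g • a ≠ a ∧ g • (g • a) = a}

omit [Fintype G] in
theorem card_fixed_tuples (k : ℕ) (g : G) :
    Fintype.card {x : Fin k ↪ α // g • x = x} = (fx (α := α) g).descFactorial k := by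
  have e : {x : Fin k ↪ α // g • x = x} ≃ (Fin k ↪ {a : α // g • a = a}) :=
    { toFun := fun x => ⟨fun i => ⟨x.1 i, congrArg (fun u : Fin k ↪ α => u i) x.2⟩,
        fun i j h => x.1.injective (congrArg Subtype.val h)⟩
      invFun := fun x => ⟨x.trans (Function.Embedding.subtype _),
        Function.Embedding.ext fun i => (x i).2⟩
      left_inv := fun x => Subtype.ext (Function.Embedding.ext fun i => rfl)
      right_inv := fun x => Function.Embedding.ext fun i => Subtype.ext rfl }
  rw [Fintype.card_congr e, Fintype.card_embedding_eq, Fintype.card_fin, fx]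

/-- Reindex a tuple. -/
def re {k : ℕ} (π : Equiv.Perm (Fin k)) (x : Fin k ↪ α) : Fin k ↪ α := π.toEmbedding.trans x

omit [Fintype G] in
theorem card_swapped_two (g : G) :
    Fintype.card {x : Fin 2 ↪ α // g • x = re (Equiv.swap 0 1) x} = tw (α := α) g := by
  refine Fintype.card_congr
    { toFun := fun x => ⟨x.1 0, ?_, ?_⟩
      invFun := fun a => ⟨⟨![a.1, g • a.1], ?_⟩, ?_⟩
      left_inv := ?_
      right_inv := ?_ }
  · have h : g • x.1 0 = x.1 1 := congrArg (fun u : Fin 2 ↪ α => u 0) x.2
    rw [h]
    exact fun e => absurd (x.1.injective e) (by decide)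
  · have h : g • x.1 0 = x.1 1 := congrArg (fun u : Fin 2 ↪ α => u 0) x.2
    have h' : g • x.1 1 = x.1 0 := congrArg (fun u : Fin 2 ↪ α => u 1) x.2
    rw [h, h']
  · intro i j hij
    fin_cases i <;> fin_cases j <;>
      first
      | rfl
      | exact absurd (show a.1 = g • a.1 from hij) a.2.1.symm
      | exact absurd (show g • a.1 = a.1 from hij) a.2.1
  · refine Function.Embedding.ext fun i => ?_
    fin_cases i
    · rfl
    · exact a.2.2
  · intro x
    refine Subtype.ext (Function.Embedding.ext fun i => ?_)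
    fin_cases i
    · rfl
    · exact congrArg (fun u : Fin 2 ↪ α => u 0) x.2
  · intro a; rfl

omit [Fintype G] in
theorem card_swapped_three (g : G) :
    Fintype.card {x : Fin 3 ↪ α // g • x = re (Equiv.swap 0 1) x} =
      tw (α := α) g * fx (α := α) g := by
  unfold tw fx
  rw [← Fintype.card_prod]
  refine Fintype.card_congr
    { toFun := fun x => (⟨x.1 0, ?_, ?_⟩, ⟨x.1 2, ?_⟩)
      invFun := fun q => ⟨⟨![q.1.1, g • q.1.1, q.2.1], ?_⟩, ?_⟩
      left_inv := ?_
      right_inv := ?_ }
  · have h : g • x.1 0 = x.1 1 := congrArg (fun u : Fin 3 ↪ α => u 0) x.2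
    rw [h]
    exact fun e => absurd (x.1.injective e) (by decide)
  · have h : g • x.1 0 = x.1 1 := congrArg (fun u : Fin 3 ↪ α => u 0) x.2
    have h' : g • x.1 1 = x.1 0 := congrArg (fun u : Fin 3 ↪ α => u 1) x.2
    rw [h, h']
  · exact congrArg (fun u : Fin 3 ↪ α => u 2) x.2
  · have h1 : q.1.1 ≠ g • q.1.1 := q.1.2.1.symm
    have h2 : q.1.1 ≠ q.2.1 := fun e => q.1.2.1 (by rw [e]; exact q.2.2)
    have h3 : g • q.1.1 ≠ q.2.1 := fun e => h2 (by
      have h := q.1.2.2
      rw [e, q.2.2] at h
      exact h.symm)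
    intro i j hij
    fin_cases i <;> fin_cases j <;>
      first
      | rfl
      | exact absurd hij h1
      | exact absurd hij h2
      | exact absurd hij h3
      | exact absurd hij h1.symm
      | exact absurd hij h2.symm
      | exact absurd hij h3.symm
  · refine Function.Embedding.ext fun i => ?_
    fin_cases i
    · rfl
    · exact q.1.2.2
    · exact q.2.2
  · intro x
    refine Subtype.ext (Function.Embedding.ext fun i => ?_)
    fin_cases i
    · rfl
    · exact congrArg (fun u : Fin 3 ↪ α => u 0) x.2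
    · rfl
  · intro q; rfl

omit [Fintype G] in
theorem card_swapped_four (g : G) :
    (Fintype.card {x : Fin 4 ↪ α // g • x = re (Equiv.swap 0 1 * Equiv.swap 2 3) x} : ℤ) =
      (tw (α := α) g : ℤ) * tw (α := α) g - 2 * tw (α := α) g := by
  classical
  let U := {a : α // g • a ≠ a ∧ g • (g • a) = a}
  have e : {x : Fin 4 ↪ α // g • x = re (Equiv.swap 0 1 * Equiv.swap 2 3) x} ≃
      Σ a : U, {c : U // c.1 ≠ a.1 ∧ c.1 ≠ g • a.1} :=
    { toFun := fun x =>
        have h0 : g • x.1 0 = x.1 1 := congrArg (fun u : Fin 4 ↪ α => u 0) x.2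
        have h1 : g • x.1 1 = x.1 0 := congrArg (fun u : Fin 4 ↪ α => u 1) x.2
        have h2 : g • x.1 2 = x.1 3 := congrArg (fun u : Fin 4 ↪ α => u 2) x.2
        have h3 : g • x.1 3 = x.1 2 := congrArg (fun u : Fin 4 ↪ α => u 3) x.2
        ⟨⟨x.1 0, by rw [h0]; exact fun e => absurd (x.1.injective e) (by decide),
            by rw [h0, h1]⟩,
          ⟨x.1 2, by rw [h2]; exact fun e => absurd (x.1.injective e) (by decide),
            by rw [h2, h3]⟩,
          fun e => absurd (x.1.injective e) (by decide),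
          fun e => absurd (x.1.injective (e.trans h0)) (by decide)⟩
      invFun := fun q =>
        ⟨⟨![q.1.1, g • q.1.1, q.2.1.1, g • q.2.1.1], by
          have h1 : q.1.1 ≠ g • q.1.1 := q.1.2.1.symm
          have h2 : q.2.1.1 ≠ g • q.2.1.1 := q.2.1.2.1.symm
          have h3 : q.2.1.1 ≠ q.1.1 := q.2.2.1
          have h4 : q.2.1.1 ≠ g • q.1.1 := q.2.2.2
          have h5 : g • q.2.1.1 ≠ g • q.1.1 := fun e => h3 (smul_left_cancel g e)
          have h6 : g • q.2.1.1 ≠ q.1.1 := fun e => h4 (smul_left_cancel g (by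
            rw [e, q.1.2.2]))
          intro i j hij
          fin_cases i <;> fin_cases j <;>
            first
            | rfl
            | exact absurd hij h1
            | exact absurd hij h2
            | exact absurd hij h3
            | exact absurd hij h4
            | exact absurd hij h5
            | exact absurd hij h6
            | exact absurd hij h1.symm
            | exact absurd hij h2.symm
            | exact absurd hij h3.symm
            | exact absurd hij h4.symm
            | exact absurd hij h5.symm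
            | exact absurd hij h6.symm⟩, by
          refine Function.Embedding.ext fun i => ?_
          fin_cases i
          · rfl
          · exact q.1.2.2
          · rfl
          · exact q.2.1.2.2⟩
      left_inv := fun x => by
        refine Subtype.ext (Function.Embedding.ext fun i => ?_)
        fin_cases i
        · rfl
        · exact congrArg (fun u : Fin 4 ↪ α => u 0) x.2
        · rfl
        · exact congrArg (fun u : Fin 4 ↪ α => u 2) x.2
      right_inv := fun q => rfl }
  have hc : ∀ a : U, (Fintype.card {c : U // c.1 ≠ a.1 ∧ c.1 ≠ g • a.1} : ℤ) =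
      (tw (α := α) g : ℤ) - 2 := by
    intro a
    let b : U := ⟨g • a.1, by rw [a.2.2]; exact a.2.1.symm, by rw [a.2.2]⟩
    have hab : a ≠ b := fun h => a.2.1 (congrArg Subtype.val h).symm
    have hset : (Finset.univ.filter fun c : U => c.1 ≠ a.1 ∧ c.1 ≠ g • a.1) =
        (Finset.univ : Finset U) \ {a, b} := by
      ext c
      simp only [Finset.mem_filter, Finset.mem_univ, true_and, Finset.mem_sdiff, Finset.mem_insert,
        Finset.mem_singleton, not_or]
      exact ⟨fun h => ⟨fun e => h.1 (congrArg Subtype.val e), fun e => h.2 (congrArg Subtype.val e)⟩,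
        fun h => ⟨fun e => h.1 (Subtype.ext e), fun e => h.2 (Subtype.ext e)⟩⟩
    have h2 : ({a, b} : Finset U).card = 2 := Finset.card_pair hab
    have hle : 2 ≤ Fintype.card U := h2 ▸ Finset.card_le_univ _
    rw [Fintype.card_subtype, hset, Finset.card_sdiff, Finset.inter_univ, h2, Finset.card_univ,
      Nat.cast_sub hle]
    rfl
  rw [Fintype.card_congr e, Fintype.card_sigma, Nat.cast_sum,
    Finset.sum_congr rfl (fun a _ => hc a), Finset.sum_const, Finset.card_univ, nsmul_eq_mul]
  show (tw (α := α) g : ℤ) * ((tw (α := α) g : ℤ) - 2) = _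
  ring

theorem sum_swapped_four_le :
    ∑ g : G, Fintype.card {x : Fin 4 ↪ α // g • x = re (Equiv.swap 0 1 * Equiv.swap 2 3) x} ≤
      ∑ g : G, Fintype.card {x : Fin 4 ↪ α // g • x = x} := by
  classical
  simp only [Fintype.card_subtype, Finset.card_filter]
  rw [Finset.sum_comm, Finset.sum_comm (f := fun (g : G) (x : Fin 4 ↪ α) => if g • x = x then 1 else 0)]
  refine Finset.sum_le_sum fun x _ => ?_
  rw [← Finset.card_filter, ← Finset.card_filter]
  by_cases h : ∃ g₀ : G, g₀ • x = re (Equiv.swap 0 1 * Equiv.swap 2 3) x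
  · obtain ⟨g₀, hg₀⟩ := h
    refine Finset.card_le_card_of_injOn (fun g => g₀⁻¹ * g) ?_
      (fun a _ b _ hab => mul_left_cancel hab)
    intro g hg
    simp only [Finset.mem_coe, Finset.mem_filter, Finset.mem_univ, true_and] at hg ⊢
    rw [mul_smul, hg, ← hg₀, inv_smul_smul]
  · rw [Finset.filter_eq_empty_iff.mpr fun g _ hg => h ⟨g, hg⟩]
    simp

/-- The counting theorem: in a triply transitive group of degree `p = 2m+1` in which the elements
of order `p` are exactly `m/p` of the group, elements fixing three points are trivial. -/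
theorem fix_three [FaithfulSMul G α] {p : ℕ} [Fact p.Prime] (hα : Fintype.card α = p) (hp3 : 3 ≤ p)
    [MulAction.IsPretransitive G α] [MulAction.IsPretransitive G (Fin 2 ↪ α)]
    [MulAction.IsPretransitive G (Fin 3 ↪ α)] (hsq : ¬ p ^ 2 ∣ Fintype.card G)
    (hcount : (Finset.univ.filter fun g : G => orderOf g = p).card * (2 * p) =
      (p - 1) * Fintype.card G) :
    ∀ g : G, 3 ≤ fx (α := α) g → g = 1 := by
  classical
  have hp : p.Prime := Fact.out
  obtain ⟨m, hm⟩ : Odd p := hp.odd_of_ne_two (by omega)
  haveI : Nonempty α := Fintype.card_pos_iff.mp (by omega)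
  haveI : Nonempty (Fin 2 ↪ α) :=
    Function.Embedding.nonempty_of_card_le (by rw [Fintype.card_fin]; omega)
  haveI : Nonempty (Fin 3 ↪ α) :=
    Function.Embedding.nonempty_of_card_le (by rw [Fintype.card_fin]; omega)
  have hord : ∀ g : G, orderOf g = p → fx (α := α) g = 0 ∧ tw (α := α) g = 0 := by
    intro g hg
    have hfix : ∀ h : G, orderOf h = p → ∀ a : α, h • a ≠ a := by
      intro h hh a ha
      apply hsq
      have h1 : p ∣ Nat.card (MulAction.stabilizer G a) :=
        hh ▸ Subgroup.orderOf_dvd_natCard _ (MulAction.mem_stabilizer_iff.mpr ha)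
      have h2 := (MulAction.stabilizer G a).card_mul_index
      rw [MulAction.index_stabilizer_of_transitive, Nat.card_eq_fintype_card (α := α), hα,
        Nat.card_eq_fintype_card (α := G)] at h2
      rw [← h2, pow_two]
      exact Nat.mul_dvd_mul h1 dvd_rfl
    refine ⟨Fintype.card_eq_zero_iff.mpr ⟨fun a => hfix g hg a.1 a.2⟩,
      Fintype.card_eq_zero_iff.mpr ⟨fun a => hfix (g ^ 2) ?_ a.1 (by rw [pow_two, mul_smul]; exact a.2.2)⟩⟩
    rw [Nat.Coprime.orderOf_pow, hg]
    rw [hg, Nat.coprime_primes hp Nat.prime_two]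
    omega
  -- the sums
  have s1 : ∑ g : G, (fx (α := α) g : ℤ) = Fintype.card G := by
    rw [← Nat.cast_sum]
    exact congrArg (Nat.cast : ℕ → ℤ) (sum_card_smul_eq (G := G) (β := α) id)
  have s2 : ∑ g : G, ((fx (α := α) g).descFactorial 2 : ℤ) = Fintype.card G := by
    rw [← Nat.cast_sum, ← sum_card_smul_eq (G := G) (β := Fin 2 ↪ α) id]
    exact congrArg (Nat.cast : ℕ → ℤ) (Finset.sum_congr rfl fun g _ => (card_fixed_tuples 2 g).symm)
  have s3 : ∑ g : G, ((fx (α := α) g).descFactorial 3 : ℤ) = Fintype.card G := by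
    rw [← Nat.cast_sum, ← sum_card_smul_eq (G := G) (β := Fin 3 ↪ α) id]
    exact congrArg (Nat.cast : ℕ → ℤ) (Finset.sum_congr rfl fun g _ => (card_fixed_tuples 3 g).symm)
  have t2 : ∑ g : G, (tw (α := α) g : ℤ) = Fintype.card G := by
    rw [← Nat.cast_sum, ← sum_card_smul_eq (G := G) (β := Fin 2 ↪ α) (re (Equiv.swap 0 1))]
    exact congrArg (Nat.cast : ℕ → ℤ) (Finset.sum_congr rfl fun g _ => (card_swapped_two g).symm)
  have t3 : ∑ g : G, (tw (α := α) g : ℤ) * fx (α := α) g = Fintype.card G := by
    simp only [← Nat.cast_mul]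
    rw [← Nat.cast_sum, ← sum_card_smul_eq (G := G) (β := Fin 3 ↪ α) (re (Equiv.swap 0 1))]
    exact congrArg (Nat.cast : ℕ → ℤ) (Finset.sum_congr rfl fun g _ => (card_swapped_three g).symm)
  have hW : ∑ g : G, ((tw (α := α) g : ℤ) * tw (α := α) g - 2 * tw (α := α) g) ≤
      ∑ g : G, ((fx (α := α) g).descFactorial 4 : ℤ) := by
    rw [Finset.sum_congr rfl (fun g _ => (card_swapped_four (α := α) g).symm),
      ← Nat.cast_sum, ← Nat.cast_sum,
      Finset.sum_congr rfl (fun g _ => (card_fixed_tuples (α := α) 4 g).symm)]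
    exact_mod_cast sum_swapped_four_le (G := G) (α := α)
  -- falling factorials in the integers
  have d2 : ∀ n : ℕ, (n.descFactorial 2 : ℤ) = (n : ℤ) * (n - 1) := by
    rintro (_ | n) <;> simp [Nat.descFactorial_succ] ; ring
  have d3 : ∀ n : ℕ, (n.descFactorial 3 : ℤ) = (n : ℤ) * (n - 1) * (n - 2) := by
    rintro (_ | _ | n) <;> simp [Nat.descFactorial_succ] ; ring
  have d4 : ∀ n : ℕ, (n.descFactorial 4 : ℤ) = (n : ℤ) * (n - 1) * (n - 2) * (n - 3) := by
    rintro (_ | _ | _ | n) <;> simp [Nat.descFactorial_succ] ; ring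
  simp only [d2] at s2
  simp only [d3] at s3
  simp only [d4] at hW
  set N : ℤ := ((Fintype.card G : ℕ) : ℤ) with hN
  let I : G → ℤ := fun g => if orderOf g = p then 1 else 0
  have hI : ∑ g : G, I g * p = m * N := by
    have h1 : ∑ g : G, I g = ((Finset.univ.filter fun g : G => orderOf g = p).card : ℤ) :=
      Finset.sum_boole _ _
    have h2 : ((Finset.univ.filter fun g : G => orderOf g = p).card : ℤ) * (2 * p) =
        ((p - 1 : ℕ) : ℤ) * N := by rw [hN]; exact_mod_cast hcount
    rw [show p - 1 = 2 * m by omega] at h2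
    push_cast at h2
    rw [← Finset.sum_mul, h1]
    linarith
  have hIf : ∀ g, I g * (fx (α := α) g : ℤ) = 0 ∧ I g * (tw (α := α) g : ℤ) = 0 := by
    intro g
    by_cases h : orderOf g = p
    · simp [(hord g h).1, (hord g h).2]
    · simp [I, h]
  have hII : ∀ g, I g * I g = I g := fun g => by
    by_cases h : orderOf g = p <;> simp [I, h]
  have hpm : (p : ℤ) = 2 * m + 1 := by exact_mod_cast hm
  -- the square of the difference with the projection
  have key : 4 * (m + 1) * N ≤ ∑ g : G, ((fx (α := α) g : ℤ) * (fx (α := α) g - 1) -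
      tw (α := α) g) ^ 2 := by
    have h0 : 0 ≤ ∑ g : G, (((fx (α := α) g : ℤ) * (fx (α := α) g - 1) - tw (α := α) g) -
        2 * (p * I g - m + (m + 1) * ((fx (α := α) g : ℤ) - 1))) ^ 2 :=
      Finset.sum_nonneg fun g _ => sq_nonneg _
    have hexp : ∀ g : G, (((fx (α := α) g : ℤ) * (fx (α := α) g - 1) - tw (α := α) g) -
        2 * (p * I g - m + (m + 1) * ((fx (α := α) g : ℤ) - 1))) ^ 2 =
        ((fx (α := α) g : ℤ) * (fx (α := α) g - 1) - tw (α := α) g) ^ 2
        - 4 * (m + 1) * ((fx (α := α) g : ℤ) * (fx (α := α) g - 1) * (fx (α := α) g - 2))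
        + 4 * (m + 1) * ((tw (α := α) g : ℤ) * fx (α := α) g)
        + (4 * (m + 1) * (m + 1) - 4) *
            ((fx (α := α) g : ℤ) * (fx (α := α) g - 1))
        - 4 * (2 * m + 1) * (tw (α := α) g : ℤ)
        - 4 * (m + 1) * (3 * m + 1 - (0 : ℤ)) * (fx (α := α) g : ℤ)
        + 4 * (p - 2 * (2 * m + 1)) * (I g * p)
        + 4 * (2 * m + 1) * (2 * m + 1) := by
      intro g
      linear_combination (4 * (p : ℤ) ^ 2) * (hII g) +
        (-4 * (p : ℤ) * ((fx (α := α) g : ℤ) - 1) + 8 * (p : ℤ) * (m + 1)) * (hIf g).1 +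
        (4 * (p : ℤ)) * (hIf g).2
    rw [Finset.sum_congr rfl (fun g _ => hexp g)] at h0
    simp only [Finset.sum_add_distrib, Finset.sum_sub_distrib, ← Finset.mul_sum, Finset.sum_const,
      Finset.card_univ, nsmul_eq_mul, s1, s2, s3, t2, t3, hI] at h0
    rw [← hN, hpm] at h0
    linarith [h0]
  have hsq2 : ∀ g : G, ((fx (α := α) g : ℤ) * (fx (α := α) g - 1) - tw (α := α) g) ^ 2 ≤
      (fx (α := α) g : ℤ) * (fx (α := α) g - 1) * (fx (α := α) g - 2) * (fx (α := α) g - 3)
      + 4 * ((fx (α := α) g : ℤ) * (fx (α := α) g - 1) * (fx (α := α) g - 2))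
      + 2 * ((fx (α := α) g : ℤ) * (fx (α := α) g - 1))
      + ((tw (α := α) g : ℤ) * tw (α := α) g - 2 * tw (α := α) g) + 2 * tw (α := α) g := by
    intro g
    have h1 : 0 ≤ (fx (α := α) g : ℤ) * (fx (α := α) g - 1) := by
      rw [← d2]; positivity
    nlinarith [mul_nonneg h1 (Nat.cast_nonneg (α := ℤ) (tw (α := α) g))]
  have up := Finset.sum_le_sum (fun g (_ : g ∈ (Finset.univ : Finset G)) => hsq2 g)
  simp only [Finset.sum_add_distrib, ← Finset.mul_sum, s2, s3, t2] at up
  have hQ : ((p : ℤ) - 3) * N ≤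
      ∑ g : G, (fx (α := α) g : ℤ) * (fx (α := α) g - 1) * (fx (α := α) g - 2) *
        (fx (α := α) g - 3) := by
    rw [hpm]
    linarith
  have hnn : ∀ g : G, 0 ≤ (fx (α := α) g : ℤ) * (fx (α := α) g - 1) * (fx (α := α) g - 2) *
      ((p : ℤ) - fx (α := α) g) := by
    intro g
    refine mul_nonneg ?_ ?_
    · rw [← d3]; positivity
    · have h : fx (α := α) g ≤ p := hα ▸ Fintype.card_subtype_le _
      omega
  have hzero : ∑ g : G, (fx (α := α) g : ℤ) * (fx (α := α) g - 1) * (fx (α := α) g - 2) *
      ((p : ℤ) - fx (α := α) g) = 0 := by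
    refine le_antisymm ?_ (Finset.sum_nonneg fun g _ => hnn g)
    have e : ∀ g : G, (fx (α := α) g : ℤ) * (fx (α := α) g - 1) * (fx (α := α) g - 2) *
        ((p : ℤ) - fx (α := α) g) =
        ((p : ℤ) - 3) * ((fx (α := α) g : ℤ) * (fx (α := α) g - 1) * (fx (α := α) g - 2)) -
        (fx (α := α) g : ℤ) * (fx (α := α) g - 1) * (fx (α := α) g - 2) *
          (fx (α := α) g - 3) := fun g => by ring
    rw [Finset.sum_congr rfl (fun g _ => e g), Finset.sum_sub_distrib, ← Finset.mul_sum, s3]
    linarith
  intro g hg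
  have h := (Finset.sum_eq_zero_iff_of_nonneg fun g _ => hnn g).mp hzero g (Finset.mem_univ g)
  have hfp : fx (α := α) g = p := by
    simp only [mul_eq_zero] at h
    omega
  refine eq_of_smul_eq_smul (α := α) fun a => ?_
  rw [one_smul]
  have huniv : (Finset.univ.filter fun a : α => g • a = a) = Finset.univ := by
    apply Finset.eq_univ_of_card
    rw [← Fintype.card_subtype, hα]
    exact hfp
  exact (Finset.mem_filter.mp (huniv.ge (Finset.mem_univ a))).2

end

/-- Let p > 2 be a prime and G a permutation group on p letters whose Sylow p-subgroup P has normalizer of order 2p. Then either P is normal in G, or p − 1 = 2^a for some a and G is isomorphic to SL(2, 2^a). -/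
theorem result {α : Type*} [Fintype α] [DecidableEq α] {p : ℕ} [Fact p.Prime] (hp : 2 < p) (hα : Fintype.card α = p) (G : Subgroup (Equiv.Perm α)) (P : Sylow p G) (hN : Nat.card (Subgroup.normalizer ((P : Subgroup G) : Set G)) = 2 * p) : (P : Subgroup G).Normal ∨ ∃ (a : ℕ) (F : Type) (_ : Field F) (_ : Fintype F), p = 2 ^ a + 1 ∧ Fintype.card F = 2 ^ a ∧ Nonempty (G ≃* Matrix.SpecialLinearGroup (Fin 2) F) := by
  classical
  haveI := Fintype.ofFinite G
  have hpp : p.Prime := Fact.out
  have hpG : p ∣ Nat.card G :=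
    (dvd_mul_left p 2).trans (hN ▸ Subgroup.card_subgroup_dvd_card _)
  have hsq : ¬ p ^ 2 ∣ Nat.card G := by
    intro h
    have h1 : p ^ 2 ∣ p.factorial := h.trans (by
      rw [← hα, ← Fintype.card_perm, ← Nat.card_eq_fintype_card]
      exact Subgroup.card_subgroup_dvd_card G)
    rw [← Nat.mul_factorial_pred hpp.ne_zero, pow_two,
      Nat.mul_dvd_mul_iff_left hpp.pos, hpp.dvd_factorial] at h1
    omega
  have hP : Nat.card (P : Subgroup G) = p := by
    rw [P.card_eq_multiplicity]
    have h1 : (Nat.card G).factorization p = 1 := by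
      refine le_antisymm ?_ ((Nat.Prime.dvd_iff_one_le_factorization hpp Nat.card_pos.ne').mp hpG)
      by_contra hlt
      exact hsq ((hpp.pow_dvd_iff_le_factorization Nat.card_pos.ne').mpr (by omega))
    rw [h1, pow_one]
  haveI htrans : MulAction.IsPretransitive G α := by
    obtain ⟨x, hx⟩ := exists_prime_orderOf_dvd_card' p hpG
    have hxc : ((x : Equiv.Perm α)).IsCycle := by
      refine Equiv.Perm.isCycle_of_prime_order'' (hα ▸ hpp) ?_
      rw [Subgroup.orderOf_coe, hx, hα]
    have hsupp : (x : Equiv.Perm α).support = Finset.univ := by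
      apply Finset.eq_univ_of_card
      rw [← hxc.orderOf, Subgroup.orderOf_coe, hx, hα]
    refine ⟨fun a b => ?_⟩
    obtain ⟨i, hi⟩ := hxc.sameCycle
      (Equiv.Perm.mem_support.mp (hsupp ▸ Finset.mem_univ a))
      (Equiv.Perm.mem_support.mp (hsupp ▸ Finset.mem_univ b))
    refine ⟨x ^ i, ?_⟩
    rw [Subgroup.smul_def, Subgroup.coe_zpow]
    exact hi
  by_cases hPn : (P : Subgroup G).Normal
  · exact Or.inl hPn
  right
  have hnsol : ¬ Group.IsSolvable G := by
    intro hs
    haveI : MulAction.IsPreprimitive G α :=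
      MulAction.IsPreprimitive.of_prime_card (by rw [Nat.card_eq_fintype_card, hα]; exact hpp)
    haveI : Nontrivial G := by
      rw [← Finite.one_lt_card_iff_nontrivial]
      exact lt_of_lt_of_le hpp.one_lt (Nat.le_of_dvd Nat.card_pos hpG)
    -- the last nontrivial derived subgroup
    obtain ⟨n, hn⟩ := hs.solvable
    obtain ⟨k, hk1, hk2⟩ : ∃ k, derivedSeries G k ≠ ⊥ ∧ derivedSeries G (k + 1) = ⊥ := by
      by_contra hno
      push Not at hno
      have : ∀ k, derivedSeries G k ≠ ⊥ := fun k => by
        induction k with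
        | zero => rw [derivedSeries_zero]; exact top_ne_bot
        | succ k ih => exact hno k ih
      exact this n hn
    set A := derivedSeries G k with hA
    have hAc : ∀ a ∈ A, ∀ b ∈ A, a * b = b * a := by
      intro a ha b hb
      have h : ⁅A, A⁆ = ⊥ := by rw [hA, ← derivedSeries_succ, hk2]
      exact commutatorElement_eq_one_iff_mul_comm.mp
        (Subgroup.mem_bot.mp (h ▸ Subgroup.commutator_mem_commutator ha hb))
    haveI hAn : A.Normal := derivedSeries_normal G k
    have hfix : MulAction.fixedPoints A α ≠ Set.univ := by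
      intro hu
      refine hk1 ((Subgroup.eq_bot_iff_forall _).mpr fun a ha => ?_)
      refine eq_of_smul_eq_smul (α := α) fun u => ?_
      rw [one_smul]
      exact (Set.eq_univ_iff_forall.mp hu u) ⟨a, ha⟩
    haveI := MulAction.IsQuasiPreprimitive.isPretransitive_of_normal hfix
    obtain ⟨u⟩ : Nonempty α := Fintype.card_pos_iff.mp (by omega)
    have hdA : p ∣ Nat.card A := by
      have h := (MulAction.stabilizer A u).index_mul_card
      rw [MulAction.index_stabilizer_of_transitive, Nat.card_eq_fintype_card (α := α), hα] at h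
      exact Dvd.intro _ h
    obtain ⟨y, hy⟩ := exists_prime_orderOf_dvd_card' p hdA
    have hy' : orderOf (y : G) = p := by rw [Subgroup.orderOf_coe, hy]
    have hQ : ∀ Q : Sylow p G, (Q : Subgroup G) ≤ A := by
      intro Q
      have hyp : IsPGroup p ↥(Subgroup.zpowers (y : G)) :=
        IsPGroup.of_card (n := 1) (by rw [Nat.card_zpowers, hy', pow_one])
      obtain ⟨R, hR⟩ := hyp.exists_le_sylow
      have hRc : Nat.card (R : Subgroup G) = p := by
        rw [R.card_eq_multiplicity, ← P.card_eq_multiplicity, hP]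
      have hRA : (R : Subgroup G) ≤ A := by
        rw [← Subgroup.eq_of_le_of_card_ge hR (by rw [hRc, Nat.card_zpowers, hy'])]
        exact Subgroup.zpowers_le.mpr y.2
      obtain ⟨g, rfl⟩ := MulAction.exists_smul_eq G R Q
      rintro _ hz
      rw [Sylow.smul_def] at hz
      obtain ⟨z, hz', rfl⟩ := Subgroup.mem_map.mp hz
      exact hAn.conj_mem z (hRA hz') g
    refine hPn ?_
    haveI hsub : Subsingleton (Sylow p G) := ⟨fun Q R => by
      refine Sylow.ext ?_
      have hnorm : (R : Subgroup G) ≤ Subgroup.normalizer ((Q : Subgroup G) : Set G) := by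
        intro r hr
        rw [Subgroup.mem_normalizer_iff]
        intro q
        constructor
        · intro hq
          have : r * q * r⁻¹ = q := by rw [hAc r (hQ R hr) q (hQ Q hq), mul_inv_cancel_right]
          rw [this]; exact hq
        · intro hq
          have h2 : r⁻¹ * (r * q * r⁻¹) * r = r * q * r⁻¹ := by
            rw [mul_assoc, hAc _ (hQ Q hq) r (hQ R hr), inv_mul_cancel_left]
          have h3 : r⁻¹ * (r * q * r⁻¹) * r = q := by group
          rw [h3] at h2
          rw [h2]; exact hq
      exact (Q.3 (IsPGroup.to_sup_of_normal_left' Q.2 R.2 hnorm) le_sup_left).symm.trans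
        ((R.3 (IsPGroup.to_sup_of_normal_left' Q.2 R.2 hnorm) le_sup_right))⟩
    exact Sylow.normal_of_subsingleton P
  have h3 := S0676.result hα G hnsol P (hN ▸ even_two_mul p)
  haveI : MulAction.IsPretransitive G (Fin 3 ↪ α) := h3
  haveI : MulAction.IsPretransitive G (Fin 2 ↪ α) :=
    MulAction.isMultiplyPretransitive_of_le (m := 2) (n := 3) (by norm_num)
      (by rw [Nat.card_eq_fintype_card, hα]; omega)
  have hcount : (Finset.univ.filter fun g : G => orderOf g = p).card * (2 * p) =
      (p - 1) * Fintype.card G := by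
    have hcard : ∀ Q : Sylow p G, Nat.card (Q : Subgroup G) = p := fun Q => by
      rw [Q.card_eq_multiplicity, ← P.card_eq_multiplicity, hP]
    have hS : Nat.card (Sylow p G) * (2 * p) = Fintype.card G := by
      rw [Sylow.card_eq_index_normalizer P, ← hN, ← Nat.card_eq_fintype_card]
      exact Subgroup.index_mul_card _
    let f : (Σ Q : Sylow p G, {z : ↥(Q : Subgroup G) // z ≠ 1}) → {g : G // orderOf g = p} :=
      fun s => ⟨(s.2.1 : G), by
        have h1 : orderOf (s.2.1 : G) ∣ p := by
          rw [Subgroup.orderOf_coe]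
          exact (orderOf_dvd_natCard _).trans (hcard s.1).dvd
        rcases hpp.eq_one_or_self_of_dvd _ h1 with h | h
        · exact absurd (Subtype.ext (orderOf_eq_one_iff.mp h)) s.2.2
        · exact h⟩
    have hzp : ∀ (g : G), orderOf g = p → ∀ Q : Sylow p G, g ∈ (Q : Subgroup G) →
        (Q : Subgroup G) = Subgroup.zpowers g := fun g hg Q hgQ =>
      (Subgroup.eq_of_le_of_card_ge (Subgroup.zpowers_le.mpr hgQ)
        (by rw [hcard, Nat.card_zpowers, hg])).symm
    have hf : Function.Bijective f := by
      constructor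
      · rintro ⟨Q, z⟩ ⟨R, w⟩ h
        have hzw : (z.1 : G) = (w.1 : G) := congrArg Subtype.val h
        have hQR : Q = R := Sylow.ext (by
          rw [hzp _ (f ⟨Q, z⟩).2 Q z.1.2]
          exact (hzp _ (f ⟨Q, z⟩).2 R (hzw ▸ w.1.2 : (z.1 : G) ∈ (R : Subgroup G))).symm)
        subst hQR
        rw [Subtype.ext (Subtype.ext hzw)]
      · rintro ⟨g, hg⟩
        obtain ⟨Q, hQ⟩ := (IsPGroup.of_card (n := 1)
          (by rw [Nat.card_zpowers, hg, pow_one]) : IsPGroup p ↥(Subgroup.zpowers g)).exists_le_sylow
        refine ⟨⟨Q, ⟨⟨g, hQ (Subgroup.mem_zpowers g)⟩, fun h => ?_⟩⟩, rfl⟩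
        rw [show g = 1 from congrArg Subtype.val h, orderOf_one] at hg
        omega
    rw [← Fintype.card_subtype, ← Nat.card_eq_fintype_card, ← Nat.card_eq_of_bijective f hf,
      Nat.card_sigma]
    have hone : ∀ Q : Sylow p G, Nat.card {z : ↥(Q : Subgroup G) // z ≠ 1} = p - 1 := fun Q => by
      rw [Nat.card_eq_fintype_card, Fintype.card_subtype_compl, Fintype.card_subtype_eq,
        ← Nat.card_eq_fintype_card, hcard]
    rw [Finset.sum_congr rfl (fun Q _ => hone Q), Finset.sum_const, Finset.card_univ, smul_eq_mul,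
      ← hS, Nat.card_eq_fintype_card]
    ring
  have hfix := fix_three (G := G) (α := α) hα (by omega)
    (by rwa [← Nat.card_eq_fintype_card]) hcount
  obtain ⟨a, -, hca, F, fF, fintF, hF, e⟩ := S4702.result (by omega)
    (by rw [hα]; exact hpp.odd_of_ne_two (by omega)) G h3 (fun g hg => hfix g (by
      rw [fx, ← Nat.card_eq_fintype_card]
      exact hg))
  exact ⟨a, F, fF, fintF, hα ▸ hca, hF, e⟩

end Cfsg.Agent.S4706
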