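import Cfsg.Statements.S4720
import Cfsg.Agent.Blocks.NormSum

set_option autoImplicit false
set_option linter.style.haveILetI false
set_option linter.unusedSectionVars false
open Cfsg
open scoped ComplexConjugate

namespace Cfsg.Agent.S4720

universe u

/-- A sum over the subgroup `N` of the values at the conjugates of `u`. -/
theorem sum_conj_fibre {G : Type u} [Group G] [Fintype G] (P N : Subgroup G) [Fintype P]
    [Fintype N] (u : G) (hmem : ∀ n : N, (n : G) * u * (n : G)⁻¹ ∈ P)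
    (hf : ∀ v : P, IsConj u (v : G) → ∃ n : N, (n : G) * u * (n : G)⁻¹ = v) (f : P → ℂ)
    [DecidablePred fun v : P => IsConj u (v : G)] :
    ∑ n : N, f ⟨_, hmem n⟩ = ∑ v : P, if IsConj u (v : G) then
      (Nat.card ↥(N ⊓ Subgroup.centralizer ({u} : Set G)) : ℂ) * f v else 0 := by
  classical
  rw [← Finset.sum_fiberwise (Finset.univ : Finset N) (fun n => (⟨_, hmem n⟩ : P))
    (fun n => f ⟨_, hmem n⟩)]
  refine Finset.sum_congr rfl fun v _ => ?_
  rw [Finset.sum_congr rfl (g := fun _ => f v) (fun n hn => by rw [(Finset.mem_filter.1 hn).2]),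
    Finset.sum_const, nsmul_eq_mul]
  split_ifs with hc
  · congr 1
    obtain ⟨n0, hn0⟩ := hf v hc
    norm_cast
    rw [← Fintype.card_subtype, ← Nat.card_eq_fintype_card]
    refine Nat.card_congr (Equiv.ofBijective (fun n => (⟨(n0 : G)⁻¹ * (n.1 : G), Subgroup.mem_inf.2
      ⟨N.mul_mem (N.inv_mem n0.2) n.1.2, Subgroup.mem_centralizer_singleton_iff.2 ?_⟩⟩ :
        ↥(N ⊓ Subgroup.centralizer ({u} : Set G)))) ⟨?_, ?_⟩)
    · have h : (n.1 : G) * u * (n.1 : G)⁻¹ = (n0 : G) * u * (n0 : G)⁻¹ :=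
        (congrArg Subtype.val n.2).trans hn0.symm
      calc (n0 : G)⁻¹ * n.1 * u = (n0 : G)⁻¹ * ((n.1 : G) * u * (n.1 : G)⁻¹) * n.1 := by group
        _ = _ := by rw [h]; group
    · intro a b hab
      exact Subtype.ext (Subtype.ext (mul_left_cancel (congrArg Subtype.val hab)))
    · intro c
      obtain ⟨hcN, hcC⟩ := Subgroup.mem_inf.1 c.2
      refine ⟨⟨⟨(n0 : G) * c, N.mul_mem n0.2 hcN⟩, Subtype.ext ?_⟩, Subtype.ext ?_⟩
      · show (n0 : G) * c * u * ((n0 : G) * c)⁻¹ = v
        rw [← hn0, mul_assoc (n0 : G) (c : G), Subgroup.mem_centralizer_singleton_iff.1 hcC]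
        group
      · show (n0 : G)⁻¹ * ((n0 : G) * c) = c
        group
  · have he : (Finset.univ.filter fun n : N => (⟨_, hmem n⟩ : P) = v) = ∅ :=
      Finset.filter_eq_empty_iff.2 fun n _ hn =>
        hc (isConj_iff.2 ⟨(n : G), congrArg Subtype.val hn⟩)
    rw [he]; simp

/-- Let p be a prime, M a maximal ideal of the algebraic integers containing p, P a p-subgroup of the finite group G, N a subgroup with P ≤ N ≤ N_G(P), and U a nonempty subset of P normalized by N such that an element of U and an element of P that are conjugate in G are already conjugate in N, and such that λ(C_G(y)) = w·#C_N(y) for every y ∈ U with one rational number w, where λ(X) denotes the sum of the squares of the degrees of the irreducible characters in the principal p-block of X. For a complex function θ on P and χ in the principal block of G put a_χ(θ) = #P⁻¹ Σ_{y ∈ P} χ(y) θ(y⁻¹). Then for generalized characters θ, η of P with θ vanishing outside U, Σ_χ a_χ(θ)·conj(a_χ(η))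 = (w/#P²)·Σ_{y ∈ P} θ(y)·conj(Σ_{x ∈ N} η(x y x⁻¹)) (η extended by zero off P; the conjugates lie in P), the first sum over the principal p-block of G. -/
theorem result {G : Type*} [Group G] [Finite G] (p : ℕ) [Fact p.Prime] (M : Ideal Cfsg.AlgInt) (hM : Cfsg.IsPModular p M) (P : Subgroup G) (hP : IsPGroup p P) (N : Subgroup G) (hPN : P ≤ N) (hNN : N ≤ Subgroup.normalizer (P : Set G)) (U : Set G) (hUne : U.Nonempty) (hUP : U ⊆ (P : Set G)) (hUN : ∀ n ∈ N, ∀ u ∈ U, n * u * n⁻¹ ∈ U) (hfus : ∀ u ∈ U, ∀ g : G, g * u * g⁻¹ ∈ (P : Set G) → ∃ n ∈ N, n * u * n⁻¹ = g * u * g⁻¹) (w : ℚ) (hw : ∀ y ∈ U, ((∑ᶠ ψ ∈ Cfsg.principalBlock M ↥(Subgroup.centralizer ({y} : Set G)), Cfsg.charDegree (ψ : ↥(Subgroup.centralizer ({y} : Set G)) → ℂ) ^ 2) : ℚ) = w * Nat.card ↥(N ⊓ Subgroup.centralizer ({y} : Set G))) (θ η : ↥P → ℂ) (hθ : Cfsg.IsGeneralizedCharacter ↥P θ) (hη : Cfsg.IsGeneralizedCharacter ↥P η) (hθU : ∀ y : ↥P, (y : G) ∉ U → θ y = 0) : ∑ᶠ χ ∈ Cfsg.principalBlock M G,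 ((Nat.card ↥P : ℂ)⁻¹ * ∑ᶠ y : ↥P, (χ : G → ℂ) (y : G) * θ y⁻¹) * (starRingEnd ℂ) ((Nat.card ↥P : ℂ)⁻¹ * ∑ᶠ y : ↥P, (χ : G → ℂ) (y : G) * η y⁻¹) = ((w : ℂ) / ((Nat.card ↥P : ℂ) ^ 2)) * ∑ᶠ y : ↥P, θ y * (starRingEnd ℂ) (∑ᶠ x : ↥N, Cfsg.extendByZero P η ((x : G) * (y : G) * (x : G)⁻¹)) := by
  classical
  haveI : M.IsMaximal := hM.2.1
  haveI : Fintype G := Fintype.ofFinite G
  haveI : Fintype P := Fintype.ofFinite P
  haveI : Fintype N := Fintype.ofFinite N
  have hpM : (p : AlgInt) ∈ M := hM.2.2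
  set B := Finset.univ.filter (· ∈ principalBlock M G) with hB
  have hord : ∀ v : P, ∃ k : ℕ, orderOf (v : G) = p ^ k := fun v => by
    obtain ⟨k, hk⟩ := IsPGroup.iff_orderOf.1 hP v
    exact ⟨k, by rw [Subgroup.orderOf_coe]; exact hk⟩
  have h1p : ¬ p ∣ orderOf (1 : G) := by rw [orderOf_one]; exact (Fact.out : p.Prime).not_dvd_one
  have hpp : ∀ v : P, Blocks.ppart p (v : G) = v := fun v => by
    have := Blocks.ppart_mul (Commute.one_right (v : G)) (hord v) h1p
    rwa [mul_one] at this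
  -- the kernel
  have hS : ∀ u v : P, (u : G) ∈ U → ∑ χ ∈ B, (χ : G → ℂ) v * conj ((χ : G → ℂ) u) =
      if IsConj (u : G) (v : G) then
        (w : ℂ) * (Nat.card ↥(N ⊓ Subgroup.centralizer ({(u : G)} : Set G)) : ℂ) else 0 := by
    intro u v hu
    split_ifs with hc
    · haveI : Fintype (Subgroup.centralizer ({(u : G)} : Set G)) := Fintype.ofFinite _
      have hn := Blocks.norm_sum_principal (M := M) hpM (hord u)
        (y := (1 : Subgroup.centralizer ({(u : G)} : Set G)))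
        (by rw [orderOf_one]; exact (Fact.out : p.Prime).not_dvd_one)
      simp only [Subgroup.coe_one, mul_one] at hn
      have hw' : ((∑ᶠ ψ ∈ principalBlock M ↥(Subgroup.centralizer ({(u : G)} : Set G)),
          (charDegree (ψ : ↥(Subgroup.centralizer ({(u : G)} : Set G)) → ℂ) : ℚ) ^ 2 : ℚ) : ℂ) =
          (w : ℂ) * (Nat.card ↥(N ⊓ Subgroup.centralizer ({(u : G)} : Set G)) : ℂ) := by
        rw [hw u hu]; push_cast; rfl
      rw [← hw', Blocks.finsum_mem_eq_filter, Rat.cast_sum]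
      obtain ⟨g, hg⟩ := isConj_iff.1 hc
      calc ∑ χ ∈ B, (χ : G → ℂ) v * conj ((χ : G → ℂ) u)
          = ∑ χ ∈ B, (χ : G → ℂ) u * conj ((χ : G → ℂ) u) :=
            Finset.sum_congr rfl fun χ _ => by rw [← hg, Chars.isClassFunction_irr χ (u : G) g]
        _ = _ := hn
        _ = _ := Finset.sum_congr rfl fun χ _ => by
            rw [Rat.cast_pow, Rat.cast_natCast,
              BlockChar.charDegree_cast (Chars.irr_isCharacter χ),
              Chars.irr_apply_one_conj (Chars.irr_isCharacter χ), sq]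
    · refine Blocks.block_orth hpM Blocks.isPBlock_principal ?_
      rw [hpp, hpp]
      exact fun h => hc h.symm
  -- the summation over `N`
  have hη' : ∀ u : P, (u : G) ∈ U →
      conj (∑ n : N, extendByZero P η ((n : G) * (u : G) * (n : G)⁻¹)) =
        ∑ v : P, if IsConj (u : G) (v : G) then
          (Nat.card ↥(N ⊓ Subgroup.centralizer ({(u : G)} : Set G)) : ℂ) * conj (η v) else 0 := by
    intro u hu
    rw [map_sum, ← sum_conj_fibre P N (u : G) (fun n => hUP (hUN n n.2 u hu)) ?_ (fun v => conj (η v))]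
    · refine Finset.sum_congr rfl fun n _ => congrArg conj ?_
      exact Subtype.val_injective.extend_apply η 0 ⟨_, hUP (hUN n n.2 u hu)⟩
    · intro v hv
      obtain ⟨g, hg⟩ := isConj_iff.1 hv
      obtain ⟨n, hn, h⟩ := hfus u hu g (by rw [hg]; exact v.2)
      exact ⟨⟨n, hn⟩, h.trans hg⟩
  -- the coefficients
  have hinv : ∀ (χ : IrrCharacter G) (f : P → ℂ), ∑ᶠ y : P, (χ : G → ℂ) (y : G) * f y⁻¹ =
      ∑ u : P, conj ((χ : G → ℂ) u) * f u := by
    intro χ f
    rw [finsum_eq_sum_of_fintype, ← Equiv.sum_comp (Equiv.inv P)]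
    exact Finset.sum_congr rfl fun u _ => by
      simp [Chars.char_inv_eq_conj (Chars.irr_isCharacter χ)]
  rw [Blocks.finsum_mem_eq_filter]
  simp only [hinv, finsum_eq_sum_of_fintype, ← hB]
  calc ∑ χ ∈ B, ((Nat.card P : ℂ)⁻¹ * ∑ u : P, conj ((χ : G → ℂ) u) * θ u) *
        conj ((Nat.card P : ℂ)⁻¹ * ∑ v : P, conj ((χ : G → ℂ) v) * η v)
      = ∑ χ ∈ B, ∑ u : P, ∑ v : P, ((Nat.card P : ℂ) ^ 2)⁻¹ *
          (θ u * conj (η v) * ((χ : G → ℂ) v * conj ((χ : G → ℂ) u))) := by
        refine Finset.sum_congr rfl fun χ _ => ?_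
        simp only [map_mul, map_inv₀, map_natCast, map_sum, Complex.conj_conj, Finset.mul_sum,
          Finset.sum_mul]
        rw [Finset.sum_comm]
        exact Finset.sum_congr rfl fun u _ => Finset.sum_congr rfl fun v _ => by ring
    _ = ∑ u : P, ((Nat.card P : ℂ) ^ 2)⁻¹ * (θ u *
          ∑ v : P, conj (η v) * ∑ χ ∈ B, (χ : G → ℂ) v * conj ((χ : G → ℂ) u)) := by
        rw [Finset.sum_comm]
        refine Finset.sum_congr rfl fun u _ => ?_
        rw [Finset.sum_comm]
        simp only [Finset.mul_sum]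
        exact Finset.sum_congr rfl fun v _ => Finset.sum_congr rfl fun χ _ => by ring
    _ = _ := by
        rw [Finset.mul_sum]
        refine Finset.sum_congr rfl fun u _ => ?_
        by_cases hu : (u : G) ∈ U
        · rw [hη' u hu]
          simp only [hS u _ hu, Finset.mul_sum]
          exact Finset.sum_congr rfl fun v _ => by split_ifs <;> ring
        · simp [hθU u hu]

end Cfsg.Agent.S4720
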