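import Cfsg.Statements.S4779
import Cfsg.Agent.DegreeGraph.RelativeDiameter
-- import your own Cfsg.Agent.* helpers here

set_option autoImplicit false
open Cfsg

namespace Cfsg.Agent.S4779

/-- Let N be a solvable normal subgroup of the finite group G contained in the derived subgroup of G, and consider the common-divisor graph on the relative degree set cd(G|N) (degrees of irreducible complex characters of G whose kernel does not contain N, two distinct degrees adjacent when not coprime). If this graph has two vertices that are not joined by any path, then there is a vertex a₀ such that any two distinct vertices in the component of a₀ are adjacent, and any two distinct vertices outside that component are adjacent or have a common neighbour (one component is complete, the other has diameter at most 2). -/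
theorem result {G : Type*} [Group G] [Finite G] (N : Subgroup G) [N.Normal] [Group.IsSolvable N] (hNG : N ≤ commutator G) (hdisc : ¬ (Cfsg.commonDivisorGraph.induce (Cfsg.relCharDegrees N)).Preconnected) : ∃ a₀ : ↥(Cfsg.relCharDegrees N), (∀ b c : ↥(Cfsg.relCharDegrees N), (Cfsg.commonDivisorGraph.induce (Cfsg.relCharDegrees N)).Reachable a₀ b → (Cfsg.commonDivisorGraph.induce (Cfsg.relCharDegrees N)).Reachable a₀ c → b ≠ c → (Cfsg.commonDivisorGraph.induce (Cfsg.relCharDegrees N)).Adj b c) ∧ (∀ b c : ↥(Cfsg.relCharDegrees N), ¬ (Cfsg.commonDivisorGraph.induce (Cfsg.relCharDegrees N)).Reachable a₀ b → ¬ (Cfsg.commonDivisorGraph.induce (Cfsg.relCharDegrees N)).Reachable a₀ c → b ≠ c → (Cfsg.commonDivisorGraph.induce (Cfsg.relCharDegrees N)).Adj b c ∨ ∃ d : ↥(Cfsg.relCharDegrees N), (Cfsg.commonDivisorGraph.induce (Cfsg.relCharDegrees N)).Adj b d ∧ (Cfsg.commonDivisorGraph.induce (Cfsg.relCharDegrees N)).Adj d c) := by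
  classical
  haveI := Fintype.ofFinite G
  obtain ⟨x, y, hxy⟩ : ∃ x y, ¬ (Cfsg.commonDivisorGraph.induce (Cfsg.relCharDegrees N)).Reachable x y := by
    by_contra h
    simp only [not_exists, not_not] at h
    exact hdisc fun x y => h x y
  have hlt : ⁅N, N⁆ < N := by
    obtain ⟨χ, ⟨z, hz, hne⟩, -⟩ := x.2
    haveI : Nontrivial N := ⟨⟨z, hz⟩, 1, fun e => hne (by rw [show z = 1 from congrArg Subtype.val e])⟩
    have h := Group.IsSolvable.commutator_lt_top_of_nontrivial (G := N)
    refine lt_of_le_of_ne (Subgroup.commutator_le_left N N) fun e => h.ne ?_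
    refine Subgroup.map_injective N.subtype_injective ?_
    rw [Subgroup.map_subtype_commutator, e, ← MonoidHom.range_eq_map, Subgroup.range_subtype]
  obtain ⟨r, hr, hrm⟩ := Nat.exists_prime_and_dvd (n := ⁅N, N⁆.relIndex N)
    (fun h => hlt.not_ge (Subgroup.relIndex_eq_one.1 h))
  have key := (S4776.result N hlt hNG).2
  obtain ⟨a₀, a', hne, hall, hcop⟩ : ∃ a₀ a' : ↥(Cfsg.relCharDegrees N),
      ¬ (Cfsg.commonDivisorGraph.induce (Cfsg.relCharDegrees N)).Reachable a₀ a' ∧
      (∀ r : ℕ, r.Prime → r ∣ ⁅N, N⁆.relIndex N → r ∣ (a₀ : ℕ)) ∧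
      Nat.Coprime (a' : ℕ) (⁅N, N⁆.relIndex N) := by
    rcases key x y x.2 y.2 hxy with h | h
    · exact ⟨y, x, fun h' => hxy h'.symm, h.2, h.1⟩
    · exact ⟨x, y, hxy, h.2, h.1⟩
  refine ⟨a₀, fun b c hb hc hbc => ?_, fun b c hb hc hbc => ?_⟩
  · have hdiv : ∀ z : ↥(Cfsg.relCharDegrees N),
        (Cfsg.commonDivisorGraph.induce (Cfsg.relCharDegrees N)).Reachable a₀ z → r ∣ (z : ℕ) := by
      intro z hz
      rcases key z a' z.2 a'.2 (fun h => hne (hz.trans h)) with h | h
      · exact absurd (Nat.eq_one_of_dvd_coprimes hcop (h.2 r hr hrm) hrm) hr.ne_one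
      · exact h.2 r hr hrm
    exact DegreeGraph.RelTwo.Near.adj ⟨b.2, c.2, r, hr.ne_one, hdiv b hb, hdiv c hc⟩ hbc
  · have hco : ∀ z : ↥(Cfsg.relCharDegrees N),
        ¬ (Cfsg.commonDivisorGraph.induce (Cfsg.relCharDegrees N)).Reachable a₀ z →
        Nat.Coprime (z : ℕ) (⁅N, N⁆.relIndex N) := by
      intro z hz
      rcases key z a₀ z.2 a₀.2 (fun h => hz h.symm) with h | h
      · exact h.1
      · exact absurd (Nat.eq_one_of_dvd_coprimes h.1 (hall r hr hrm) hrm) hr.ne_one
    obtain ⟨d, h1, h2⟩ := DegreeGraph.RelTwo.two_of_coprime (Nat.card N) N le_rfl inferInstance hNG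
      b c a₀ b.2 c.2 a₀.2 (hco b hb) (hco c hc) (fun ⟨_, _, h⟩ => hb h.symm)
      (fun ⟨_, _, h⟩ => hc h.symm)
    by_cases hbd : b.1 = d
    · exact .inl (DegreeGraph.RelTwo.Near.adj (hbd ▸ h2) hbc)
    by_cases hcd : c.1 = d
    · exact .inl (DegreeGraph.RelTwo.Near.adj (hcd ▸ h1) hbc)
    exact .inr ⟨⟨d, h2.1⟩, DegreeGraph.RelTwo.Near.adj (b := ⟨d, h2.1⟩) h1 fun e => hbd (congrArg Subtype.val e),
      DegreeGraph.RelTwo.Near.adj (a := ⟨d, h2.1⟩) h2 fun e => hcd (congrArg Subtype.val e).symm⟩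

end Cfsg.Agent.S4779
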