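import Cfsg.Statements.S4805
import Cfsg.Agent.FPF4.OneClass
import Cfsg.Agent.Chars.Orth
import Cfsg.Agent.Chars.Linear
import Cfsg.Agent.Chars.TwoDegrees
import Cfsg.Agent.Chars.Eigen
import Cfsg.Agent.Blocks.Orth

set_option autoImplicit false
open Cfsg

namespace Cfsg.Agent.S4805

open scoped ComplexConjugate commutatorElement

variable {G : Type*} [Group G] [Finite G]

theorem degree_ne_one_iff (ψ : IrrCharacter G) :
    Cfsg.charDegree (ψ : G → ℂ) ≠ 1 ↔ (ψ : G → ℂ) 1 ≠ 1 := by
  haveI := Fintype.ofFinite G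
  rw [(Blocks.charDegree_eq ψ.2).1]
  simp

theorem linear_sum_eq [Fintype G] [DecidableEq (IrrCharacter G)] (x : G) (hx : x ∈ commutator G) :
    ∑ ψ ∈ (Finset.univ : Finset (IrrCharacter G)).filter (fun ψ : IrrCharacter G => (ψ : G → ℂ) 1 = 1),
      (ψ : G → ℂ) x = ((commutator G).index : ℂ) := by
  rw [Finset.sum_congr rfl (g := fun _ => (1 : ℂ)), Finset.sum_const, nsmul_eq_mul, mul_one,
    ← Chars.card_linear, Nat.card_eq_fintype_card, ← Fintype.card_subtype]
  intro ψ hψ
  refine Chars.TwoDeg.linear_apply_commutator ?_ hx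
  by_contra h
  exact (degree_ne_one_iff ψ).mp h (Finset.mem_filter.mp hψ).2

/-- Let G be a finite group, g an element outside the centre of G, and χ an irreducible complex character of degree greater than one with χ(g) ≠ 0 such that every other irreducible character of degree greater than one vanishes at g. Then g lies in the derived subgroup G′ and χ(g) = −[G : G′]/χ(1); G′ is the union of the kernel of χ (the elements where χ takes the value χ(1)) and the conjugacy class of g, and χ vanishes outside G′; every irreducible character of degree greater than one whose kernel contains that of χ equals χ; and G is solvable. -/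
theorem result {G : Type*} [Group G] [Finite G] (g : G) (hg : g ∉ Subgroup.center G) (χ : Cfsg.IrrCharacter G) (hχ1 : Cfsg.charDegree (χ : G → ℂ) ≠ 1) (hχg : (χ : G → ℂ) g ≠ 0) (hother : ∀ ψ : Cfsg.IrrCharacter G, Cfsg.charDegree (ψ : G → ℂ) ≠ 1 → ψ ≠ χ → (ψ : G → ℂ) g = 0) : g ∈ commutator G ∧ (χ : G → ℂ) g = -(((commutator G).index : ℂ) / (χ : G → ℂ) 1) ∧ ((commutator G : Set G) = {x : G | (χ : G → ℂ) x = (χ : G → ℂ) 1} ∪ {h : G | IsConj g h}) ∧ (∀ x : G, x ∉ commutator G → (χ : G → ℂ) x = 0) ∧ (∀ ψ : Cfsg.IrrCharacter G, Cfsg.charDegree (ψ : G → ℂ) ≠ 1 → (∀ x : G, (χ : G → ℂ) x = (χ : G → ℂ) 1 → (ψ : G → ℂ) x = (ψ : G → ℂ) 1) → ψ = χ) ∧ Group.IsSolvable G := by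
  classical
  haveI := Fintype.ofFinite G
  set i : ℂ := ((commutator G).index : ℂ) with hi
  have hi0 : i ≠ 0 := Nat.cast_ne_zero.mpr Subgroup.index_ne_zero_of_finite
  obtain ⟨hd, hdpos⟩ := Blocks.charDegree_eq χ.2
  set d : ℕ := charDegree (χ : G → ℂ)
  have hd0 : (χ : G → ℂ) 1 ≠ 0 := by
    rw [hd]; exact Nat.cast_ne_zero.mpr hdpos.ne'
  set L := (Finset.univ : Finset (IrrCharacter G)).filter (fun ψ : IrrCharacter G => (ψ : G → ℂ) 1 = 1) with hL
  have hχL : χ ∉ L := fun h => (degree_ne_one_iff χ).mp hχ1 (Finset.mem_filter.mp h).2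
  -- the orthogonality relation at `g`
  have horth : ∀ x : G, (∑ ψ ∈ L, (ψ : G → ℂ) x * conj ((ψ : G → ℂ) g)) +
      (χ : G → ℂ) x * conj ((χ : G → ℂ) g) =
      if IsConj x g then (Nat.card (Subgroup.centralizer ({x} : Set G)) : ℂ) else 0 := by
    intro x
    refine Eq.trans ?_ ((Chars.column_orth x g).trans (by congr))
    rw [add_comm]
    refine (Finset.sum_insert (f := fun ψ : IrrCharacter G =>
      (ψ : G → ℂ) x * conj ((ψ : G → ℂ) g)) hχL).symm.trans ?_
    refine Finset.sum_subset (Finset.subset_univ _) fun ψ _ hψ => ?_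
    rw [Finset.mem_insert] at hψ
    push Not at hψ
    rw [hother ψ ((degree_ne_one_iff ψ).mpr fun h => hψ.2 (Finset.mem_filter.mpr ⟨Finset.mem_univ _, h⟩))
      hψ.1, map_zero, mul_zero]
  have hg1 : ¬ IsConj (1 : G) g := fun h => hg (by
    rw [isConj_one_right.mp h]; exact Subgroup.one_mem _)
  have hnon : ∀ x : G, x ∉ commutator G → ∀ y : G, y ∈ commutator G → ¬ IsConj x y := by
    intro x hx y hy h
    obtain ⟨c, hc⟩ := isConj_iff.mp h.symm
    exact hx (hc ▸ Subgroup.Normal.conj_mem inferInstance y hy c)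
  have hLsum : ∀ x y : G, (∑ ψ ∈ L, (ψ : G → ℂ) x * conj ((ψ : G → ℂ) y)) =
      if x * y⁻¹ ∈ commutator G then i else 0 := by
    intro x y
    have hmul : ∀ ψ ∈ L, (ψ : G → ℂ) x * conj ((ψ : G → ℂ) y) = (ψ : G → ℂ) (x * y⁻¹) := by
      intro ψ hψ
      obtain ⟨f, hf⟩ := Chars.exists_hom_of_degree_one (Chars.irr_isCharacter ψ) (Finset.mem_filter.mp hψ).2
      have hv : ∀ z, (ψ : G → ℂ) z = (f z : ℂ) := fun z => congrFun hf z
      have hn : ‖(f y : ℂ)‖ = 1 := by
        refine Chars.norm_eq_one_of_pow_eq_one (orderOf_pos y).ne' ?_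
        rw [← Units.val_pow_eq_pow_val, ← map_pow, pow_orderOf_eq_one, map_one, Units.val_one]
      rw [hv, hv, hv, map_mul, map_inv, Units.val_mul, Units.val_inv_eq_inv_val,
        Complex.inv_eq_conj hn]
    rw [Finset.sum_congr rfl hmul]
    split_ifs with h
    · exact linear_sum_eq _ h
    · -- a linear character not trivial at the element
      haveI : Finite (Abelianization G) := Finite.of_surjective _ QuotientGroup.mk_surjective
      have hne : Abelianization.of (x * y⁻¹) ≠ 1 := fun e => h ((QuotientGroup.eq_one_iff _).mp e)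
      obtain ⟨f, hf⟩ := CommGroup.exists_apply_ne_one_of_hasEnoughRootsOfUnity (Abelianization G) ℂ hne
      let φ : G →* ℂˣ := f.comp Abelianization.of
      haveI : Finite (G →* ℂˣ) := Finite.of_equiv _ (Chars.homEquivLinear (G := G)).symm
      haveI : Fintype (G →* ℂˣ) := Fintype.ofFinite _
      have hsum : ∑ ψ ∈ L, (ψ : G → ℂ) (x * y⁻¹) =
          ∑ θ : G →* ℂˣ, (θ (x * y⁻¹) : ℂ) := by
        rw [hL, ← Finset.sum_subtype_eq_sum_filter]
        refine Eq.trans ?_ (Fintype.sum_equiv (Chars.homEquivLinear (G := G))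
          (fun θ => (θ (x * y⁻¹) : ℂ))
          (fun ψ => ((ψ : IrrCharacter G) : G → ℂ) (x * y⁻¹)) fun θ => rfl).symm
        exact Finset.sum_congr (by ext; simp) fun _ _ => rfl
      rw [hsum]
      have hshift : (φ (x * y⁻¹) : ℂ) * ∑ θ : G →* ℂˣ, (θ (x * y⁻¹) : ℂ) =
          ∑ θ : G →* ℂˣ, (θ (x * y⁻¹) : ℂ) := by
        rw [Finset.mul_sum]
        exact Fintype.sum_equiv (Equiv.mulLeft φ) _ _ fun θ => (Units.val_mul _ _).symm
      have hφ : (φ (x * y⁻¹) : ℂ) ≠ 1 := fun e => hf (Units.ext e)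
      have := sub_eq_zero.mpr hshift
      rw [← sub_one_mul, mul_eq_zero, sub_eq_zero] at this
      exact this.resolve_left hφ
  -- the element lies in the derived subgroup
  have h1 := horth 1
  rw [if_neg hg1, hLsum] at h1
  have hgM : g ∈ commutator G := by
    by_contra h
    rw [if_neg (by rwa [one_mul, inv_mem_iff]), zero_add] at h1
    exact hχg (RingHom.injective (starRingEnd ℂ) (by
      rw [map_zero]; exact (mul_eq_zero.mp h1).resolve_left hd0))
  rw [if_pos (by rw [one_mul]; exact inv_mem hgM)] at h1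
  have hcg : conj ((χ : G → ℂ) g) = -(i / (χ : G → ℂ) 1) := by
    rw [eq_neg_iff_add_eq_zero]
    field_simp
    linear_combination h1
  have hval : (χ : G → ℂ) g = -(i / (χ : G → ℂ) 1) := by
    have := congrArg (starRingEnd ℂ) hcg
    rwa [Complex.conj_conj, map_neg, map_div₀, hd, hi, Complex.conj_natCast, Complex.conj_natCast,
      ← hi, ← hd] at this
  have hmem : ∀ x : G, x * g⁻¹ ∈ commutator G ↔ x ∈ commutator G := fun x =>
    Subgroup.mul_mem_cancel_right _ (inv_mem hgM)
  have hin : ∀ x ∈ commutator G, ¬ IsConj g x → (χ : G → ℂ) x = (χ : G → ℂ) 1 := by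
    intro x hx hne
    have h := horth x
    rw [if_neg fun e => hne e.symm, hLsum, if_pos ((hmem x).mpr hx), hcg] at h
    field_simp at h
    have h' : i * ((χ : G → ℂ) 1 - (χ : G → ℂ) x) = 0 := by linear_combination h
    exact (sub_eq_zero.mp ((mul_eq_zero.mp h').resolve_left hi0)).symm
  have hout : ∀ x : G, x ∉ commutator G → (χ : G → ℂ) x = 0 := by
    intro x hx
    have h := horth x
    rw [if_neg (hnon x hx g hgM), hLsum, if_neg (fun e => hx ((hmem x).mp e)), zero_add, hcg] at h
    exact (mul_eq_zero.mp h).resolve_right (neg_ne_zero.mpr (div_ne_zero hi0 hd0))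
  have hgk : (χ : G → ℂ) g ≠ (χ : G → ℂ) 1 := by
    intro e
    rw [hval, neg_eq_iff_add_eq_zero, hd, hi, div_add' _ _ _ (Nat.cast_ne_zero.mpr hdpos.ne'),
      div_eq_zero_iff] at e
    rcases e with e | e
    · have h' : (((commutator G).index + d * d : ℕ) : ℂ) = 0 := by push_cast; exact e
      rw [Nat.cast_eq_zero] at h'
      have := Nat.mul_pos hdpos hdpos
      omega
    · exact hdpos.ne' (Nat.cast_eq_zero.mp e)
  have hsplit : (commutator G : Set G) =
      {x : G | (χ : G → ℂ) x = (χ : G → ℂ) 1} ∪ {h : G | IsConj g h} := by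
    ext x
    constructor
    · intro hx
      by_cases hc : IsConj g x
      · exact Or.inr hc
      · exact Or.inl (hin x hx hc)
    · rintro (hx | hx)
      · by_contra h
        exact hd0 ((hout x h).symm.trans hx).symm
      · obtain ⟨c, rfl⟩ := isConj_iff.mp hx
        exact Subgroup.Normal.conj_mem inferInstance g hgM c
  set K := Chars.charKer (Chars.irr_isCharacter χ) with hK
  have hmemK : ∀ x, x ∈ K ↔ (χ : G → ℂ) x = (χ : G → ℂ) 1 := fun x => Chars.mem_charKer _
  have hKM : K ≤ commutator G := fun x hx => by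
    rw [← SetLike.mem_coe, hsplit]
    exact Or.inl ((hmemK x).mp hx)
  have hgK : g ∉ K := fun h => hgk ((hmemK g).mp h)
  have hconjK : ∀ x, IsConj g x → x ∉ K := fun x hx h => by
    obtain ⟨c, rfl⟩ := isConj_iff.mp hx
    have := (Chars.charKer_normal (Chars.irr_isCharacter χ)).conj_mem _ h c⁻¹
    exact hgK (by rwa [show c⁻¹ * (c * g * c⁻¹) * c⁻¹⁻¹ = g by group] at this)
  refine ⟨hgM, hval, hsplit, hout, fun ψ hψ1 hψk => ?_, ?_⟩
  · -- uniqueness
    by_contra hne
    have hψg := hother ψ hψ1 hne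
    have h0 : ∀ θ ∈ L, ∑ x : G, (ψ : G → ℂ) x * conj ((θ : G → ℂ) x) = 0 := by
      intro θ hθ
      have h := Chars.classInner_irr_of_ne ψ.2 θ.2 fun e =>
        (degree_ne_one_iff ψ).mp hψ1 (e ▸ (Finset.mem_filter.mp hθ).2)
      rw [Cfsg.classInner] at h
      exact (mul_eq_zero.mp h).resolve_left (inv_ne_zero (Nat.cast_ne_zero.mpr Nat.card_pos.ne'))
    have h2 : ∑ x : G, (ψ : G → ℂ) x * conj (if x ∈ commutator G then i else 0) = 0 := by
      calc ∑ x : G, (ψ : G → ℂ) x * conj (if x ∈ commutator G then i else 0)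
          = ∑ x : G, ∑ θ ∈ L, (ψ : G → ℂ) x * conj ((θ : G → ℂ) x) := by
            refine Finset.sum_congr rfl fun x _ => ?_
            have := hLsum x 1
            rw [inv_one, mul_one] at this
            rw [← this, map_sum, Finset.mul_sum]
            refine Finset.sum_congr rfl fun θ hθ => ?_
            rw [(Finset.mem_filter.mp hθ).2, map_one, mul_one]
        _ = ∑ θ ∈ L, ∑ x : G, (ψ : G → ℂ) x * conj ((θ : G → ℂ) x) := Finset.sum_comm
        _ = 0 := Finset.sum_eq_zero h0
    have h3 : ∀ x : G, (ψ : G → ℂ) x * conj (if x ∈ commutator G then i else 0) =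
        if x ∈ K then (ψ : G → ℂ) 1 * i else 0 := by
      intro x
      by_cases hxK : x ∈ K
      · rw [if_pos hxK, if_pos (hKM hxK), hψk x ((hmemK x).mp hxK), hi, Complex.conj_natCast]
      · rw [if_neg hxK]
        by_cases hxM : x ∈ commutator G
        · have hxg : IsConj g x := by
            rw [← SetLike.mem_coe, hsplit] at hxM
            exact hxM.resolve_left fun e => hxK ((hmemK x).mpr e)
          obtain ⟨c, rfl⟩ := isConj_iff.mp hxg
          rw [Chars.isCharacter_conj_apply (Chars.irr_isCharacter ψ), hψg, zero_mul]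
        · rw [if_neg hxM, map_zero, mul_zero]
    rw [Finset.sum_congr rfl (fun x _ => h3 x), ← Finset.sum_filter, Finset.sum_const, nsmul_eq_mul,
      mul_eq_zero] at h2
    rcases h2 with h2 | h2
    · rw [Nat.cast_eq_zero, Finset.card_eq_zero] at h2
      exact Finset.notMem_empty (1 : G) (h2 ▸ Finset.mem_filter.mpr ⟨Finset.mem_univ _, K.one_mem⟩)
    · rcases mul_eq_zero.mp h2 with h | h
      · obtain ⟨e, epos⟩ := Blocks.charDegree_eq ψ.2
        rw [e, Nat.cast_eq_zero] at h
        omega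
      · exact hi0 h
  · -- solvability
    refine FPF4.OneClass.Hyp.isSolvable (g := g) (K := K)
      ⟨Chars.charKer_normal _, hKM, hgM, hgK, fun x hx hxK => ?_, fun z hz => ?_⟩
    · rw [← SetLike.mem_coe, hsplit] at hx
      exact hx.resolve_left fun e => hxK ((hmemK x).mpr e)
    · by_contra hzM
      obtain ⟨n, ρ, hirr, hρ⟩ := χ.2
      have hρ1 : ∀ x ∈ K, ρ x = 1 := fun x hx => by
        refine (Chars.rep_char_eq_finrank_iff ρ x).mp ?_
        rw [← Representation.char_one (ρ := ρ), hρ]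
        exact (hmemK x).mp hx
      obtain ⟨c, hc⟩ := Chars.scalar_of_commute ρ (ρ z) fun h => by
        rw [← map_mul, ← map_mul, show z * h = ⁅z, h⁆ * (h * z) by
          rw [commutatorElement_def]; group, map_mul, hρ1 _ (hz h), one_mul]
      have hn := (Chars.rep_norm_char_eq_iff ρ z).mpr ⟨c, hc⟩
      rw [congrFun hρ z, hout z hzM, norm_zero] at hn
      have h1 : (χ : G → ℂ) 1 = (Module.finrank ℂ (Fin n → ℂ) : ℂ) := by
        rw [← hρ]; exact Representation.char_one ρ
      exact hd0 (h1.trans (by rw [← Complex.ofReal_natCast, ← hn, Complex.ofReal_zero]))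

end Cfsg.Agent.S4805
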