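import Cfsg.Statements.S4811
import Cfsg.Agent.S4776
import Cfsg.Agent.Chars.Monomial
-- import your own Cfsg.Agent.* helpers here

set_option autoImplicit false
open Cfsg Cfsg.Agent Cfsg.Agent.DegreeGraph.RelTwo
open scoped commutatorElement

namespace Cfsg.Agent.S4811

/-- For every finite solvable group G the character degree graph of G (vertices: the primes dividing some irreducible complex character degree; edges: distinct primes whose product divides some degree) has at most two connected components. -/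
theorem result {G : Type*} [Group G] [Finite G] [Group.IsSolvable G] : Nat.card ((Cfsg.degreeGraph G).induce (Cfsg.degreePrimes G)).ConnectedComponent ≤ 2 := by
  classical
  haveI := Fintype.ofFinite G
  haveI : Finite (Cfsg.IrrCharacter G) := Chars.irr_finite
  -- each prime of the graph divides a degree relative to the derived subgroup
  have hmem : ∀ p ∈ Cfsg.degreePrimes G,
      ∃ d ∈ Cfsg.relCharDegrees (commutator G), p ∣ d := by
    rintro p ⟨hp, d, ⟨χ, rfl⟩, hpd⟩
    refine ⟨_, ⟨χ, ?_, rfl⟩, hpd⟩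
    by_contra hc
    push Not at hc
    have h1 : Cfsg.charDegree (χ : G → ℂ) = 1 := by
      have hlin : (χ : G → ℂ) 1 = 1 := by
        haveI := Fintype.ofFinite ↥(commutator G)
        obtain ⟨d, ρ, hirr, hρ⟩ := χ.2
        haveI := hirr
        have hker : ∀ g ∈ commutator G, ρ g = 1 := fun g hg => by
          have h := hc g hg
          rw [← hρ, Representation.char_one] at h
          exact (Chars.rep_char_eq_finrank_iff ρ g).1 h
        have hcomm : ∀ a b : G, ρ a * ρ b = ρ b * ρ a := fun a b => by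
          have h := hker ⁅a, b⁆
            (Subgroup.commutator_mem_commutator (Subgroup.mem_top a) (Subgroup.mem_top b))
          rw [← map_mul, ← map_mul, show a * b = ⁅a, b⁆ * (b * a) by
            simp [commutatorElement_def, mul_assoc], map_mul, h, one_mul]
        have hd : d = 1 := Chars.finrank_eq_one_of_scalar ρ hirr fun g =>
          Chars.scalar_of_commute ρ (ρ g) fun h => hcomm g h
        rw [← hρ, Representation.char_one, Module.finrank_fin_fun, hd, Nat.cast_one]
      rw [← Nat.cast_inj (R := ℂ), degree_cast χ, hlin, Nat.cast_one]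
    exact hp.ne_one (Nat.dvd_one.1 (h1 ▸ hpd))
  rcases eq_or_ne (commutator G) ⊥ with hbot | hbot
  · have hno : IsEmpty ↥(Cfsg.degreePrimes G) := ⟨fun q => by
      obtain ⟨d, ⟨χ, ⟨x, hx, hne⟩, -⟩, -⟩ := hmem q q.2
      rw [hbot, Subgroup.mem_bot] at hx
      exact hne (by rw [hx])⟩
    haveI : IsEmpty ((Cfsg.degreeGraph G).induce (Cfsg.degreePrimes G)).ConnectedComponent :=
      ⟨fun C => by induction C using SimpleGraph.ConnectedComponent.ind with | _ v => exact hno.false v⟩
    simp
  have hlt : ⁅commutator G, commutator G⁆ < commutator G :=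
    Group.IsSolvable.commutator_lt_of_ne_bot hbot
  have h2 := (Cfsg.Agent.S4776.result (commutator G) hlt le_rfl).1
  set D := Cfsg.relCharDegrees (commutator G) with hD
  set Γ := (Cfsg.degreeGraph G).induce (Cfsg.degreePrimes G) with hΓ
  have hshare : ∀ (p q : ↥(Cfsg.degreePrimes G)) (u : ↥D), (p : ℕ) ∣ (u : ℕ) → (q : ℕ) ∣ (u : ℕ) →
      Γ.Reachable p q := by
    intro p q u hp hq
    rcases eq_or_ne p q with rfl | hne
    · exact SimpleGraph.Reachable.refl _
    · have hne' : (p : ℕ) ≠ q := fun h => hne (Subtype.ext h)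
      obtain ⟨χ, -, hu⟩ := u.2
      refine SimpleGraph.Adj.reachable ⟨hne', p.2.1, q.2.1, (u : ℕ), ⟨χ, hu⟩, ?_⟩
      exact ((Nat.coprime_primes p.2.1 q.2.1).2 hne').mul_dvd_of_dvd_of_dvd hp hq
  have hpath : ∀ (u v : ↥D), (Cfsg.commonDivisorGraph.induce D).Reachable u v →
      ∀ p q : ↥(Cfsg.degreePrimes G), (p : ℕ) ∣ (u : ℕ) → (q : ℕ) ∣ (v : ℕ) → Γ.Reachable p q := by
    rintro u v ⟨w⟩
    induction w with
    | @nil u => intro p q hp hq; exact hshare p q u hp hq
    | @cons u x v hadj w ih =>
      intro p q hp hq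
      have hg : Nat.gcd (u : ℕ) (x : ℕ) ≠ 1 := by
        have := hadj.2
        exact (show 1 < Nat.gcd (u : ℕ) (x : ℕ) from this).ne'
      obtain ⟨r, hr, hrd⟩ := Nat.exists_prime_and_dvd hg
      have hru : r ∣ (u : ℕ) := hrd.trans (Nat.gcd_dvd_left _ _)
      obtain ⟨χ, -, hu⟩ := u.2
      exact (hshare p ⟨r, hr, (u : ℕ), ⟨χ, hu⟩, hru⟩ u hp hru).trans
        (ih _ q (hrd.trans (Nat.gcd_dvd_right _ _)) hq)
  choose f hf hfd using fun p : ↥(Cfsg.degreePrimes G) => hmem p p.2
  haveI : Finite ↥D :=
    ((Set.finite_range fun χ : Cfsg.IrrCharacter G => Cfsg.charDegree (χ : G → ℂ)).subset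
      (by rintro d ⟨χ, -, h⟩; exact ⟨χ, h⟩)).to_subtype
  refine le_trans ?_ h2
  refine Nat.card_le_card_of_injective
    (fun C => (Cfsg.commonDivisorGraph.induce D).connectedComponentMk ⟨f C.out, hf C.out⟩) ?_
  intro C C' h
  have h1 := hpath _ _ (SimpleGraph.ConnectedComponent.eq.1 h) C.out C'.out (hfd _) (hfd _)
  have h3 := SimpleGraph.ConnectedComponent.sound h1
  rwa [show Γ.connectedComponentMk C.out = C from Quot.out_eq C,
    show Γ.connectedComponentMk C'.out = C' from Quot.out_eq C'] at h3

end Cfsg.Agent.S4811
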