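import Cfsg.Statements.S4866
import Cfsg.Agent.DegreeGraph.Permutation
import Mathlib.GroupTheory.GroupAction.Quotient
-- import your own Cfsg.Agent.* helpers here

set_option autoImplicit false
open Cfsg

namespace Cfsg.Agent.S4866

/-- Let K be a normal subgroup of odd index in the finite group G. Then G has as many orbits on the real-valued irreducible complex characters of K (acting by conjugation) as it has orbits on the conjugacy classes of K that are real in K; equivalently, the number of G-orbits of real-valued irreducible characters of K equals the number of G-conjugacy classes of elements of K that are conjugate in K to their inverses. -/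
theorem result {G : Type*} [Group G] [Finite G] (K : Subgroup G) [K.Normal] (hodd : Odd K.index) : Nat.card (Quot (fun θ η : {θ : Cfsg.IrrCharacter ↥K // (∀ k : ↥K, ((θ : ↥K → ℂ) k).im = 0)} => ∃ g : G, ∀ k k' : ↥K, (k' : G) = g * (k : G) * g⁻¹ → (η.1 : ↥K → ℂ) k' = (θ.1 : ↥K → ℂ) k)) = Nat.card (Quot (fun x y : {x : ↥K // IsConj x x⁻¹} => ∃ g : G, (y.1 : G) = g * x.1 * g⁻¹)) := by
  classical
  let φ : G →* MulAut K := MulAut.conjNormal
  have hφ : ∀ (g : G) (k : K), ((φ g k : K) : G) = g * (k : G) * g⁻¹ :=
    fun g k => MulAut.conjNormal_apply g k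
  let X := {θ : Cfsg.IrrCharacter ↥K // ∀ k : ↥K, ((θ : ↥K → ℂ) k).im = 0}
  let Y := {C : ConjClasses K // DegreeGraph.clsInv C = C}
  have hreal : ∀ (g : G) (θ : X) (k : K),
      ((DegreeGraph.irrPerm (φ g) θ.1 : K → ℂ) k).im = 0 := fun g θ k => θ.2 _
  letI actX : MulAction G X :=
    { smul := fun g θ => ⟨DegreeGraph.irrPerm (φ g) θ.1, hreal g θ⟩
      one_smul := fun θ => Subtype.ext (by
        show DegreeGraph.irrPerm (φ 1) θ.1 = θ.1
        rw [map_one, map_one]; rfl)
      mul_smul := fun g h θ => Subtype.ext (by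
        show DegreeGraph.irrPerm (φ (g * h)) θ.1 =
          DegreeGraph.irrPerm (φ g) (DegreeGraph.irrPerm (φ h) θ.1)
        rw [map_mul, map_mul]; rfl) }
  letI actY : MulAction G Y :=
    { smul := fun g C => ⟨DegreeGraph.clsPerm (φ g) C.1, by
        have := congrFun (congrArg DFunLike.coe (DegreeGraph.clsInv_comm (φ g))) C.1
        simp only [Equiv.Perm.mul_apply, C.2] at this
        exact this⟩
      one_smul := fun C => Subtype.ext (by
        show DegreeGraph.clsPerm (φ 1) C.1 = C.1
        rw [map_one, map_one]; rfl)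
      mul_smul := fun g h C => Subtype.ext (by
        show DegreeGraph.clsPerm (φ (g * h)) C.1 =
          DegreeGraph.clsPerm (φ g) (DegreeGraph.clsPerm (φ h) C.1)
        rw [map_mul, map_mul]; rfl) }
  -- inner automorphisms act trivially
  have hinn : ∀ g : G, g ^ K.index ∈ K := fun g => Subgroup.pow_index_mem K g
  have hinnI : ∀ g ∈ K, DegreeGraph.irrPerm (φ g) = 1 := fun g hg => Equiv.ext fun θ =>
    Subtype.ext (funext fun k => by
      rw [DegreeGraph.irrPerm_apply, Equiv.Perm.one_apply]
      refine Blocks.isClassFunction_eq (Chars.isClassFunction_of_isCharacter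
        (Chars.irr_isCharacter θ)) (isConj_iff.2 ⟨(⟨g, hg⟩ : K)⁻¹, Subtype.ext ?_⟩)
      show g⁻¹ * (k : G) * g⁻¹⁻¹ = (((φ g).symm k : K) : G)
      rw [MulAut.conjNormal_symm_apply, inv_inv])
  have hinnC : ∀ g ∈ K, DegreeGraph.clsPerm (φ g) = 1 := fun g hg => Equiv.ext fun C => by
    induction C using Quotient.inductionOn with | h k => ?_
    show ConjClasses.mk (φ g k) = ConjClasses.mk k
    rw [ConjClasses.mk_eq_mk_iff_isConj]
    exact (isConj_iff.2 ⟨(⟨g, hg⟩ : K), Subtype.ext (hφ g k).symm⟩).symm
  have hcount : ∀ g : G, Nat.card (MulAction.fixedBy X g) = Nat.card (MulAction.fixedBy Y g) := by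
    intro g
    have h := DegreeGraph.card_real_fixed_eq (φ g) hodd
      (by rw [← map_pow, ← map_pow]; exact hinnI _ (hinn g))
      (by rw [← map_pow, ← map_pow]; exact hinnC _ (hinn g))
    refine ((Nat.card_congr ?_).trans h).trans (Nat.card_congr ?_)
    · exact
        { toFun := fun θ => ⟨θ.1.1, (DegreeGraph.irrStar_eq_iff _).2 θ.1.2,
            congrArg Subtype.val θ.2⟩
          invFun := fun θ => ⟨⟨θ.1, (DegreeGraph.irrStar_eq_iff _).1 θ.2.1⟩, Subtype.ext θ.2.2⟩
          left_inv := fun _ => rfl
          right_inv := fun _ => rfl }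
    · exact
        { toFun := fun C => ⟨⟨C.1, C.2.1⟩, Subtype.ext C.2.2⟩
          invFun := fun C => ⟨C.1.1, C.1.2, congrArg Subtype.val C.2⟩
          left_inv := fun _ => rfl
          right_inv := fun _ => rfl }
  haveI : Fintype G := Fintype.ofFinite G
  haveI : Fintype K := Fintype.ofFinite K
  haveI : Finite (Cfsg.IrrCharacter K) := Chars.irr_finite
  haveI : Fintype (MulAction.orbitRel.Quotient G X) := Fintype.ofFinite _
  haveI : Fintype (MulAction.orbitRel.Quotient G Y) := Fintype.ofFinite _
  haveI : ∀ g : G, Fintype (MulAction.fixedBy X g) := fun g => Fintype.ofFinite _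
  haveI : ∀ g : G, Fintype (MulAction.fixedBy Y g) := fun g => Fintype.ofFinite _
  have hX := MulAction.sum_card_fixedBy_eq_card_orbits_mul_card_group G X
  have hY := MulAction.sum_card_fixedBy_eq_card_orbits_mul_card_group G Y
  simp only [← Nat.card_eq_fintype_card, hcount] at hX hY
  have horb : Nat.card (MulAction.orbitRel.Quotient G X) =
      Nat.card (MulAction.orbitRel.Quotient G Y) :=
    Nat.eq_of_mul_eq_mul_right Nat.card_pos (hX.symm.trans hY)
  -- identify the orbit spaces
  refine Eq.trans ?_ (horb.trans ?_)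
  · refine Nat.card_congr
      { toFun := Quot.lift (fun θ : X => (⟦θ⟧ : MulAction.orbitRel.Quotient G X)) ?_
        invFun := Quotient.lift (fun θ : X => Quot.mk _ θ) ?_
        left_inv := fun q => by induction q using Quot.ind; rfl
        right_inv := fun q => by induction q using Quotient.inductionOn; rfl }
    · rintro θ η ⟨g, hg⟩
      refine Quotient.sound ⟨g⁻¹, Subtype.ext (Subtype.ext (funext fun k => ?_))⟩
      show (η.1 : K → ℂ) ((φ g⁻¹).symm k) = (θ.1 : K → ℂ) k
      refine hg k _ ?_
      rw [map_inv]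
      exact hφ g k
    · rintro θ η ⟨g, hg⟩
      refine Quot.sound ⟨g⁻¹, fun k k' hk => ?_⟩
      rw [show θ = g • η from hg.symm]
      show (η.1 : K → ℂ) k' = (η.1 : K → ℂ) ((φ g).symm k)
      refine congrArg (η.1 : K → ℂ) (Subtype.ext ?_)
      rw [hk, inv_inv]
      exact (MulAut.conjNormal_symm_apply g k).symm
  · refine (Nat.card_congr
      { toFun := Quot.lift (fun x : {x : K // IsConj x x⁻¹} =>
          (⟦⟨ConjClasses.mk x.1, (DegreeGraph.clsInv_mk_eq_iff _).2 x.2⟩⟧ :
            MulAction.orbitRel.Quotient G Y)) ?_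
        invFun := Quotient.lift (fun C : Y => Quot.mk _ (⟨Blocks.clsRep C.1,
          (DegreeGraph.clsInv_mk_eq_iff _).1 (by rw [Blocks.mk_clsRep]; exact C.2)⟩ :
            {x : K // IsConj x x⁻¹})) ?_
        left_inv := fun q => by
          induction q using Quot.ind with | mk x => ?_
          refine Quot.sound ?_
          obtain ⟨c, hc⟩ := isConj_iff.1 (ConjClasses.mk_eq_mk_iff_isConj.1
            (Blocks.mk_clsRep (ConjClasses.mk x.1)))
          exact ⟨(c : G), (congrArg Subtype.val hc).symm⟩
        right_inv := fun q => by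
          induction q using Quotient.inductionOn with | h C => ?_
          exact congrArg (Quotient.mk _) (show _ = C from Subtype.ext (Blocks.mk_clsRep C.1)) }).symm
    · rintro x y ⟨g, hg⟩
      refine (Quotient.sound (s := MulAction.orbitRel G Y) ⟨g, Subtype.ext ?_⟩).symm
      show ConjClasses.mk (φ g x.1) = ConjClasses.mk y.1
      exact congrArg ConjClasses.mk (Subtype.ext ((hφ g x.1).trans hg.symm))
    · rintro C D ⟨g, hg⟩
      have h1 : DegreeGraph.clsPerm (φ g) D.1 = C.1 := congrArg Subtype.val hg
      rw [← Blocks.mk_clsRep D.1, ← Blocks.mk_clsRep C.1, DegreeGraph.clsPerm_mk,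
        ConjClasses.mk_eq_mk_iff_isConj] at h1
      obtain ⟨c, hc⟩ := isConj_iff.1 h1
      refine (Quot.sound ⟨(c : G) * g, ?_⟩).symm
      show ((Blocks.clsRep C.1 : K) : G) = _
      rw [← hc]
      show (c : G) * ((φ g (Blocks.clsRep D.1) : K) : G) * (c : G)⁻¹ = _
      rw [hφ]
      group

end Cfsg.Agent.S4866
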