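import Cfsg.Statements.S4873
import Cfsg.Agent.S4866
import Cfsg.Agent.DegreeGraph.Indicator
-- import your own Cfsg.Agent.* helpers here

set_option autoImplicit false
open Cfsg

namespace Cfsg.Agent.S4873

/-- Let N be a normal subgroup of odd index in the finite group G. Then every irreducible complex character of N with Frobenius–Schur indicator +1 lies under exactly one irreducible character of G with Frobenius–Schur indicator +1. -/
theorem result {G : Type*} [Group G] [Finite G] (N : Subgroup G) [N.Normal] (hodd : Odd N.index) (φ : Cfsg.IrrCharacter ↥N) (hφ : (Nat.card ↥N : ℂ)⁻¹ * ∑ᶠ g : ↥N, (φ : ↥N → ℂ) (g * g) = 1) : ∃! χ : Cfsg.IrrCharacter G, (Nat.card G : ℂ)⁻¹ * ∑ᶠ g : G, (χ : G → ℂ) (g * g) = 1 ∧ (∑ᶠ n : ↥N, (χ : G → ℂ) n * (starRingEnd ℂ) ((φ : ↥N → ℂ) n)) ≠ 0 := by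
  classical
  haveI : Fintype G := Fintype.ofFinite G
  haveI : Fintype N := Fintype.ofFinite N
  haveI : Finite (Cfsg.IrrCharacter N) := Chars.irr_finite
  haveI : Finite (Cfsg.IrrCharacter G) := Chars.irr_finite
  simp only [finsum_eq_sum_of_fintype] at hφ ⊢
  let X := {θ : Cfsg.IrrCharacter ↥N // ∀ k : ↥N, ((θ : ↥N → ℂ) k).im = 0}
  -- the restriction of an induced character
  have hres : ∀ (θ η : Cfsg.IrrCharacter N),
      classInner (fun n : N => indFun N (θ : N → ℂ) n) (η : N → ℂ) =
        (Nat.card N : ℂ)⁻¹ *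
          ((Finset.univ.filter fun x : G => DegreeGraph.irrPerm (MulAut.conjNormal x) θ = η).card :
            ℂ) := by
    intro θ η
    have e : (fun n : N => indFun N (θ : N → ℂ) n) =
        (Nat.card N : ℂ)⁻¹ • ∑ x : G,
          (DegreeGraph.irrPerm (MulAut.conjNormal x) θ : N → ℂ) := by
      funext n
      rw [Chars.indFun_apply, Pi.smul_apply, Finset.sum_apply, smul_eq_mul]
      congr 1
      refine Finset.sum_congr rfl fun x _ => ?_
      rw [← MulAut.conjNormal_symm_apply x n, Chars.extendByZero_coe, DegreeGraph.irrPerm_apply]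
    rw [e, Chars.classInner_smul_left, Chars.classInner_sum_left]
    simp only [Chars.classInner_irrCharacter, Finset.sum_boole]
  -- the constituents of an induced character
  have hdec : ∀ θ : Cfsg.IrrCharacter N, ∃ m : Cfsg.IrrCharacter G → ℕ,
      (∀ χ : Cfsg.IrrCharacter G,
        classInner (θ : N → ℂ) (fun n : N => (χ : G → ℂ) n) = m χ) ∧
      indFun N (θ : N → ℂ) = ∑ χ : Cfsg.IrrCharacter G, m χ • (χ : G → ℂ) := by
    intro θ
    obtain ⟨m, hm, hsum⟩ := Chars.exists_eq_sum_nsmul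
      (Chars.isCharacter_indFun N (Chars.irr_isCharacter θ))
    exact ⟨m, fun χ => by
      rw [← Chars.classInner_indFun N _ (Chars.isClassFunction_irr χ)]; exact hm χ, hsum⟩
  choose m hm hsum using hdec
  have hclif : ∀ (θ η : Cfsg.IrrCharacter N) (χ : Cfsg.IrrCharacter G),
      m θ χ ≠ 0 → m η χ ≠ 0 → ∃ x : G, DegreeGraph.irrPerm (MulAut.conjNormal x) θ = η := by
    intro θ η χ h1 h2
    by_contra hne
    push Not at hne
    have h0 : classInner (fun n : N => indFun N (θ : N → ℂ) n) (η : N → ℂ) = 0 := by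
      rw [hres, Finset.filter_eq_empty_iff.2 fun x _ => hne x]; simp
    have e : (fun n : N => indFun N (θ : N → ℂ) n) =
        ∑ ζ : Cfsg.IrrCharacter G, (m θ ζ : ℂ) • fun n : N => (ζ : G → ℂ) n := by
      funext n
      rw [hsum θ]
      simp [Finset.sum_apply, nsmul_eq_mul]
    have hk : ∀ ζ : Cfsg.IrrCharacter G,
        classInner (fun n : N => (ζ : G → ℂ) n) (η : N → ℂ) = (m η ζ : ℂ) := fun ζ => by
      rw [← Chars.classInner_conj_symm, hm, map_natCast]
    rw [e, Chars.classInner_sum_left] at h0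
    simp only [Chars.classInner_smul_left, hk] at h0
    have h0' : ∑ ζ : Cfsg.IrrCharacter G, m θ ζ * m η ζ = 0 := by exact_mod_cast h0
    exact Nat.mul_ne_zero h1 h2 ((Finset.sum_eq_zero_iff.1 h0') χ (Finset.mem_univ _))
  -- some real character lies over a real one
  have hex : ∀ θ : X, ∃ χ : Cfsg.IrrCharacter G, DegreeGraph.irrStar χ = χ ∧ m θ.1 χ ≠ 0 := by
    intro θ
    by_contra hnone
    push Not at hnone
    have hstar : ∀ χ : Cfsg.IrrCharacter G,
        m θ.1 (DegreeGraph.irrStar χ) = m θ.1 χ := fun χ => by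
      have h1 := hm θ.1 (DegreeGraph.irrStar χ)
      have h2 : (starRingEnd ℂ) (classInner (θ.1 : N → ℂ) fun n : N => (χ : G → ℂ) n) =
          (m θ.1 (DegreeGraph.irrStar χ) : ℂ) := by
        rw [← h1]
        simp only [Chars.classInner_def, map_mul, map_sum, map_inv₀, map_natCast]
        congr 1
        refine Finset.sum_congr rfl fun n _ => ?_
        rw [Complex.conj_eq_iff_im.2 (θ.2 n)]
        rfl
      rw [hm θ.1 χ, map_natCast] at h2
      exact_mod_cast h2.symm
    -- the sum of the squared multiplicities is even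
    have heven : (((∑ χ : Cfsg.IrrCharacter G, m θ.1 χ ^ 2 : ℕ)) : ZMod 2) = 0 := by
      rw [Nat.cast_sum]
      refine Finset.sum_involution (fun χ _ => DegreeGraph.irrStar χ) (fun χ _ => ?_)
        (fun χ _ hne heq => ?_) (fun χ _ => Finset.mem_univ _) (fun χ _ =>
          Subtype.ext (funext fun g => Complex.conj_conj _))
      · rw [hstar]; exact CharTwo.add_self_eq_zero _
      · rw [hnone χ heq] at hne
        exact hne (by simp)
    have hnorm : classInner (fun n : N => indFun N (θ.1 : N → ℂ) n) (θ.1 : N → ℂ) =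
        ((∑ χ : Cfsg.IrrCharacter G, m θ.1 χ ^ 2 : ℕ) : ℂ) := by
      have e : (fun n : N => indFun N (θ.1 : N → ℂ) n) =
          ∑ ζ : Cfsg.IrrCharacter G, (m θ.1 ζ : ℂ) • fun n : N => (ζ : G → ℂ) n := by
        funext n
        rw [hsum θ.1]
        simp [Finset.sum_apply, nsmul_eq_mul]
      rw [e, Chars.classInner_sum_left, Nat.cast_sum]
      refine Finset.sum_congr rfl fun ζ _ => ?_
      rw [Chars.classInner_smul_left, ← Chars.classInner_conj_symm, hm, map_natCast]
      push_cast; ring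
    let T : Subgroup G :=
      { carrier := {x | DegreeGraph.irrPerm (MulAut.conjNormal x) θ.1 = θ.1}
        one_mem' := by simp only [Set.mem_setOf_eq, map_one]; rfl
        mul_mem' := fun {a b} ha hb => by
          simp only [Set.mem_setOf_eq] at ha hb ⊢
          rw [map_mul, map_mul, Equiv.Perm.mul_apply, hb, ha]
        inv_mem' := fun {a} ha => by
          simp only [Set.mem_setOf_eq] at ha ⊢
          rw [map_inv, map_inv, Equiv.Perm.inv_eq_iff_eq]
          exact ha.symm }
    have hNT : N ≤ T := fun x hx => Subtype.ext (funext fun k => by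
      rw [DegreeGraph.irrPerm_apply]
      refine Blocks.isClassFunction_eq (Chars.isClassFunction_irr θ.1)
        (isConj_iff.2 ⟨(⟨x, hx⟩ : N)⁻¹, Subtype.ext ?_⟩)
      show x⁻¹ * (k : G) * x⁻¹⁻¹ = (((MulAut.conjNormal x).symm k : N) : G)
      rw [MulAut.conjNormal_symm_apply, inv_inv])
    rw [hres, show (Finset.univ.filter fun x : G =>
        DegreeGraph.irrPerm (MulAut.conjNormal x) θ.1 = θ.1).card = Nat.card T by
      rw [Nat.card_eq_fintype_card, ← Fintype.card_subtype]; exact Fintype.card_congr (Equiv.refl _)] at hnorm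
    rw [inv_mul_eq_iff_eq_mul₀ (Chars.subgroup_card_ne_zero N)] at hnorm
    have hT : Nat.card T = Nat.card N * ∑ χ : Cfsg.IrrCharacter G, m θ.1 χ ^ 2 := by
      exact_mod_cast hnorm
    have hdvd : ∑ χ : Cfsg.IrrCharacter G, m θ.1 χ ^ 2 ∣ N.index := by
      have h1 := N.card_mul_index
      rw [← T.card_mul_index, hT, mul_assoc] at h1
      exact ⟨T.index, Nat.eq_of_mul_eq_mul_left Nat.card_pos h1⟩
    exact (hodd.of_dvd_nat hdvd).not_two_dvd_nat
      ((CharP.cast_eq_zero_iff (ZMod 2) 2 _).1 heven)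
  choose F hFreal hFne using hex
  let r : X → X → Prop := fun θ η => ∃ g : G, ∀ k k' : ↥N, (k' : G) = g * (k : G) * g⁻¹ →
    (η.1 : ↥N → ℂ) k' = (θ.1 : ↥N → ℂ) k
  have hr : ∀ θ η : X, (∃ x : G, DegreeGraph.irrPerm (MulAut.conjNormal x) θ.1 = η.1) →
      Quot.mk r θ = Quot.mk r η := by
    rintro θ η ⟨x, hx⟩
    refine Quot.sound ⟨x, fun k k' hk => ?_⟩
    rw [← hx, DegreeGraph.irrPerm_apply]
    refine congrArg (θ.1 : N → ℂ) ((MulEquiv.symm_apply_eq _).2 (Subtype.ext ?_))
    rw [MulAut.conjNormal_apply]; exact hk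
  let F' : Quot r → {χ : Cfsg.IrrCharacter G // DegreeGraph.irrStar χ = χ} := fun q =>
    ⟨F q.out, hFreal q.out⟩
  have hinj : Function.Injective F' := by
    intro q q' h
    rw [← Quot.out_eq q, ← Quot.out_eq q']
    refine hr _ _ (hclif _ _ (F q.out) (hFne _) ?_)
    rw [show F q.out = F q'.out from congrArg Subtype.val h]
    exact hFne _
  have hcard : Nat.card (Quot r) =
      Nat.card {χ : Cfsg.IrrCharacter G // DegreeGraph.irrStar χ = χ} := by
    rw [DegreeGraph.card_real_eq, show Nat.card (Quot r) = _ from Cfsg.Agent.S4866.result N hodd]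
    -- real elements of G lie in N and are real there
    have hreal : ∀ g : G, IsConj g g⁻¹ → ∃ hg : g ∈ N, IsConj (⟨g, hg⟩ : N) (⟨g, hg⟩ : N)⁻¹ := by
      intro g hg
      obtain ⟨c, hc⟩ := isConj_iff.1 hg
      obtain ⟨k, hk⟩ := hodd
      have hsw : SemiconjBy c g g⁻¹ := by
        show c * g = g⁻¹ * c
        rw [← hc, inv_mul_cancel_right]
      have hsw2 : SemiconjBy (c * c) g g := by
        have h1 : SemiconjBy c g⁻¹ g := by simpa using hsw.inv_right
        exact h1.mul_left hsw
      have hd : SemiconjBy (c ^ N.index) g g⁻¹ := by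
        rw [hk, pow_succ', pow_mul, sq]
        exact hsw.mul_left (Commute.pow_left hsw2 k)
      have hdN : c ^ N.index ∈ N := Subgroup.pow_index_mem N c
      have hgg : g * g ∈ N := by
        have h1 : c ^ N.index * g * (c ^ N.index)⁻¹ * g⁻¹ ∈ N := by
          have := N.mul_mem hdN (‹N.Normal›.conj_mem _ (N.inv_mem hdN) g)
          simpa [mul_assoc] using this
        rw [hd.eq, mul_inv_cancel_right] at h1
        have := N.inv_mem h1
        simpa [mul_inv_rev] using this
      have hgN : g ∈ N := by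
        have h1 : g ^ N.index ∈ N := Subgroup.pow_index_mem N g
        rw [hk, pow_succ, pow_mul, sq] at h1
        exact (N.mul_mem_cancel_left (N.pow_mem hgg k)).1 h1
      refine ⟨hgN, isConj_iff.2 ⟨⟨_, hdN⟩, Subtype.ext ?_⟩⟩
      show c ^ N.index * g * (c ^ N.index)⁻¹ = g⁻¹
      rw [hd.eq, mul_inv_cancel_right]
    refine Nat.card_congr
      { toFun := Quot.lift (fun x : {x : N // IsConj x x⁻¹} =>
          (⟨ConjClasses.mk (x.1 : G), (DegreeGraph.clsInv_mk_eq_iff _).2 (by
            simpa using N.subtype.map_isConj x.2)⟩ :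
              {C : ConjClasses G // DegreeGraph.clsInv C = C})) ?_
        invFun := fun C => Quot.mk _ ⟨⟨Blocks.clsRep C.1, ?_⟩, ?_⟩
        left_inv := ?_
        right_inv := ?_ }
    · rintro x y ⟨g, hg⟩
      exact Subtype.ext (ConjClasses.mk_eq_mk_iff_isConj.2 (isConj_iff.2 ⟨g, hg.symm⟩))
    · exact (hreal _ ((DegreeGraph.clsInv_mk_eq_iff _).1 (by rw [Blocks.mk_clsRep]; exact C.2))).1
    · exact (hreal _ ((DegreeGraph.clsInv_mk_eq_iff _).1 (by rw [Blocks.mk_clsRep]; exact C.2))).2
    · intro q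
      induction q using Quot.ind with | mk x => ?_
      obtain ⟨c, hc⟩ := isConj_iff.1 (ConjClasses.mk_eq_mk_iff_isConj.1
        (Blocks.mk_clsRep (ConjClasses.mk (x.1 : G))))
      exact Quot.sound ⟨c, hc.symm⟩
    · intro C
      exact Subtype.ext (Blocks.mk_clsRep C.1)
  haveI : Finite (Quot r) := Finite.of_surjective (Quot.mk r) Quot.mk_surjective
  have hsurj := (Nat.bijective_iff_injective_and_card F').2 ⟨hinj, hcard⟩ |>.2
  -- the given character
  have hφreal : (fun n => (starRingEnd ℂ) ((φ : N → ℂ) n)) = (φ : N → ℂ) :=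
    DegreeGraph.real_of_indicator_ne_zero φ.2 fun h => by
      rw [h, mul_zero] at hφ; exact zero_ne_one hφ
  let φ' : X := ⟨φ, fun k => Complex.conj_eq_iff_im.1 (congrFun hφreal k)⟩
  have huniq : ∀ χ : Cfsg.IrrCharacter G, DegreeGraph.irrStar χ = χ → m φ χ ≠ 0 →
      χ = F (Quot.mk r φ').out := by
    intro χ hχ hne
    obtain ⟨q, hq⟩ := hsurj ⟨χ, hχ⟩
    have hq' : F q.out = χ := congrArg Subtype.val hq
    have h1 : Quot.mk r q.out = Quot.mk r φ' :=
      hr _ _ (hclif _ _ χ (hq' ▸ hFne q.out) hne)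
    rw [Quot.out_eq] at h1
    rw [← hq', h1]
  have hnz : ∀ χ : Cfsg.IrrCharacter G,
      (Nat.card G : ℂ)⁻¹ * ∑ g : G, (χ : G → ℂ) (g * g) ≠ 0 → DegreeGraph.irrStar χ = χ :=
    fun χ h => Subtype.ext (DegreeGraph.real_of_indicator_ne_zero χ.2 fun h0 => h (by
      rw [h0, mul_zero]))
  have hover : ∀ χ : Cfsg.IrrCharacter G,
      (∑ n : N, (χ : G → ℂ) n * (starRingEnd ℂ) ((φ : N → ℂ) n)) ≠ 0 ↔ m φ χ ≠ 0 := by
    intro χ
    have h1 : classInner (fun n : N => (χ : G → ℂ) n) (φ : N → ℂ) = (m φ χ : ℂ) := by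
      rw [← Chars.classInner_conj_symm, hm, map_natCast]
    rw [Chars.classInner_def] at h1
    rw [← Nat.cast_ne_zero (R := ℂ), ← h1, mul_ne_zero_iff,
      and_iff_right (inv_ne_zero (Chars.subgroup_card_ne_zero N))]
  -- the indicator of the induced character
  have hS : ∑ χ : Cfsg.IrrCharacter G,
      (m φ χ : ℂ) * ((Nat.card G : ℂ)⁻¹ * ∑ g : G, (χ : G → ℂ) (g * g)) = 1 := by
    have h1 : ∀ g : G, g * g ∈ N → g ∈ N := fun g hg => by
      obtain ⟨k, hk⟩ := hodd
      have h1 : g ^ N.index ∈ N := Subgroup.pow_index_mem N g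
      rw [hk, pow_succ, pow_mul, sq] at h1
      exact (N.mul_mem_cancel_left (N.pow_mem hg k)).1 h1
    have h2 : ∑ g : G, indFun N (φ : N → ℂ) (g * g) = (Nat.card G : ℂ) := by
      have h3 : ∀ x : G, ∑ g : G, extendByZero N (φ : N → ℂ) (x⁻¹ * (g * g) * x) =
          (Nat.card N : ℂ) := fun x => by
        rw [show (∑ g : G, extendByZero N (φ : N → ℂ) (x⁻¹ * (g * g) * x)) =
          ∑ g : G, extendByZero N (φ : N → ℂ) (g * g) from
          Fintype.sum_equiv (MulAut.conj x⁻¹).toEquiv _ _ fun g => by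
            congr 1
            simp only [MulEquiv.toEquiv_eq_coe, EquivLike.coe_coe, MulAut.conj_apply]
            group]
        rw [← Finset.sum_filter_of_ne (p := fun g : G => g ∈ N) (fun g _ hne => by
          by_contra hg
          exact hne (Chars.extendByZero_of_not_mem _ _ fun h => hg (h1 g h))),
          Finset.sum_subtype _ (p := fun g : G => g ∈ N) (fun g => by simp)]
        rw [inv_mul_eq_one₀ (Chars.subgroup_card_ne_zero N)] at hφ
        rw [hφ]
        exact Finset.sum_congr rfl fun g _ => by rw [← Subgroup.coe_mul, Chars.extendByZero_coe]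
      simp only [Chars.indFun_apply, ← Finset.mul_sum]
      rw [Finset.sum_comm]
      simp only [h3, Finset.sum_const, Finset.card_univ, nsmul_eq_mul, ← Nat.card_eq_fintype_card]
      field_simp [Chars.subgroup_card_ne_zero N]
    simp only [hsum φ, Finset.sum_apply, Pi.smul_apply] at h2
    simp only [nsmul_eq_mul] at h2
    rw [Finset.sum_comm] at h2
    simp only [← Finset.mul_sum] at h2
    calc ∑ χ : Cfsg.IrrCharacter G,
          (m φ χ : ℂ) * ((Nat.card G : ℂ)⁻¹ * ∑ g : G, (χ : G → ℂ) (g * g))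
        = (Nat.card G : ℂ)⁻¹ * ∑ χ : Cfsg.IrrCharacter G,
            (m φ χ : ℂ) * ∑ g : G, (χ : G → ℂ) (g * g) := by
          rw [Finset.mul_sum]; exact Finset.sum_congr rfl fun χ _ => by ring
      _ = 1 := by rw [h2, inv_mul_cancel₀ (Chars.card_ne_zero (G := G))]
  have hmain := hS
  rw [Finset.sum_eq_single (F (Quot.mk r φ').out) (fun χ _ hne => by
    by_contra h0
    exact hne (huniq χ (hnz χ (right_ne_zero_of_mul h0))
      (Nat.cast_ne_zero.1 (left_ne_zero_of_mul h0)))) (fun h => absurd (Finset.mem_univ _) h)]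
    at hmain
  have hν : (Nat.card G : ℂ)⁻¹ *
      ∑ g : G, (F (Quot.mk r φ').out : G → ℂ) (g * g) = 1 := by
    rcases DegreeGraph.indicator_of_real (F (Quot.mk r φ').out).2
      (congrArg Subtype.val (hFreal (Quot.mk r φ').out)) with h | h
    · exact h
    · rw [h, mul_neg, mul_one] at hmain
      have h3 : (((m φ (F (Quot.mk r φ').out)) : ℤ) : ℂ) = ((-1 : ℤ) : ℂ) := by
        push_cast; linear_combination -hmain
      have h4 : (m φ (F (Quot.mk r φ').out) : ℤ) = -1 := Int.cast_inj.1 h3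
      omega
  refine ⟨F (Quot.mk r φ').out, ⟨hν, (hover _).2 ?_⟩, ?_⟩
  · intro h0
    rw [h0, Nat.cast_zero, zero_mul] at hmain
    exact zero_ne_one hmain
  · rintro χ ⟨h1, h2⟩
    exact huniq χ (hnz χ (by rw [h1]; exact one_ne_zero)) ((hover χ).1 h2)

end Cfsg.Agent.S4873
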