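import Cfsg.Statements.S4886
import Cfsg.Agent.CrossDeg.Main
import Cfsg.Agent.DegreeGraph.Principal
import Cfsg.Agent.Blocks.Covering
import Cfsg.Agent.S4602
-- import your own Cfsg.Agent.* helpers here

set_option autoImplicit false
open Cfsg

namespace Cfsg.Agent.S4886

open Cfsg.Agent

/-- Characters trivial on `O_{p'}` of a `p`-solvable group lie in the principal block when their
degree is prime to `p`. -/
theorem primeDeg {G : Type*} [Group G] [Finite G] (p q : ℕ) [Fact p.Prime] [Fact q.Prime]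
    (M : Ideal Cfsg.AlgInt) [M.IsMaximal] (hM : (p : Cfsg.AlgInt) ∈ M)
    (hps : Cfsg.IsPSolvable p G)
    (h : ∀ χ : Cfsg.IrrCharacter G, χ ∈ Cfsg.principalBlock M G →
      ¬ p ∣ Cfsg.charDegree (χ : G → ℂ) → ¬ q ∣ Cfsg.charDegree (χ : G → ℂ)) :
    CrossDeg.PrimeDeg p q G := by
  classical
  haveI := Fintype.ofFinite G
  intro χ hker hd
  obtain ⟨ψ, hψ⟩ := Blocks.exists_descend χ.2 hker
  have he : Cfsg.charDegree (ψ : G ⧸ pPrimeCore p G → ℂ) = Cfsg.charDegree (χ : G → ℂ) := by
    simp only [charDegree, hψ, Function.comp_apply, QuotientGroup.mk_one]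
  refine h χ (DegreeGraph.mem_principal_of_surjective (QuotientGroup.mk' _)
    (QuotientGroup.mk'_surjective _)
    (DegreeGraph.mem_principal_of_centralizer_le hM (Core.isPGroup_pCore p (G ⧸ pPrimeCore p G))
      (Core.centralizer_pCore_le (Core.isPSolvable_quotient hps _)
        (Core.pPrimeCore_quotient_pPrimeCore p G)) (χ := ψ) (by rw [he]; exact hd)) ?_) hd
  exact hψ

/-- One half of the converse. -/
theorem half {G : Type*} [Group G] [Finite G] (p q : ℕ) [Fact p.Prime] [Fact q.Prime]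
    (M : Ideal Cfsg.AlgInt) [M.IsMaximal] (hM : (p : Cfsg.AlgInt) ∈ M)
    (hq : ¬ q ∣ (pPrimeCore p G).index) (χ : Cfsg.IrrCharacter G)
    (hχ : χ ∈ Cfsg.principalBlock M G) : ¬ q ∣ Cfsg.charDegree (χ : G → ℂ) := by
  haveI := Fintype.ofFinite G
  obtain ⟨ψ, hψ⟩ := Blocks.exists_descend χ.2 fun k hk =>
    DegreeGraph.apply_eq_of_mem_principal hM (Core.not_dvd_card_pPrimeCore p G) hχ hk
  obtain ⟨d, -, hd, hdvd⟩ := Chars.irr_degree_dvd_card ψ.2
  intro h
  refine hq (h.trans ?_)
  rw [Subgroup.index_eq_card]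
  have he : charDegree (χ : G → ℂ) = d := by
    simp only [charDegree, hψ, Function.comp_apply, QuotientGroup.mk_one, hd, Complex.natCast_re,
      Nat.floor_natCast]
  exact he ▸ hdvd

/-- Let p ≠ q be primes and G a finite group that is p-solvable and q-solvable. Fix maximal ideals of the algebraic integers containing p and q, defining the principal p-block and the principal q-block. Then every irreducible character of degree prime to p in the principal p-block has degree prime to q and every irreducible character of degree prime to q in the principal q-block has degree prime to p, if and only if some Sylow p-subgroup of G commutes elementwise with some Sylow q-subgroup. -/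
theorem result {G : Type*} [Group G] [Finite G] (p q : ℕ) [Fact p.Prime] [Fact q.Prime] (hpq : p ≠ q) (Mp Mq : Ideal Cfsg.AlgInt) (hMp : Cfsg.IsPModular p Mp) (hMq : Cfsg.IsPModular q Mq) (hps : Cfsg.IsPSolvable p G) (hqs : Cfsg.IsPSolvable q G) : ((∀ χ : Cfsg.IrrCharacter G, χ ∈ Cfsg.principalBlock Mp G → ¬ p ∣ Cfsg.charDegree (χ : G → ℂ) → ¬ q ∣ Cfsg.charDegree (χ : G → ℂ)) ∧ (∀ χ : Cfsg.IrrCharacter G, χ ∈ Cfsg.principalBlock Mq G → ¬ q ∣ Cfsg.charDegree (χ : G → ℂ) → ¬ p ∣ Cfsg.charDegree (χ : G → ℂ))) ↔ ∃ (P : Sylow p G) (Q : Sylow q G), ∀ x ∈ (P : Subgroup G), ∀ y ∈ (Q : Subgroup G), x * y = y * x := by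
  haveI := hMp.2.1
  haveI := hMq.2.1
  constructor
  · rintro ⟨h₁, h₂⟩
    obtain ⟨hq, hp⟩ := CrossDeg.not_dvd_index hpq _ G rfl hps hqs
      (primeDeg p q Mp hMp.2.2 hps h₁) (primeDeg q p Mq hMq.2.2 hqs h₂)
    obtain ⟨P, Q, hPQ⟩ := (S4602.result p q hpq hps).2 hq
    refine ⟨P, Q, fun x hx y hy => ?_⟩
    have hPle : (P : Subgroup G) ≤ pPrimeCore q G := CrossDeg.mem_of_pElement hp P.2
    have h3 : x * y * x⁻¹ * y⁻¹ = 1 := by
      refine CrossDeg.eq_one_of_mem Q.2 (Core.not_dvd_card_pPrimeCore q G)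
        (Subgroup.mul_mem _ ((Subgroup.mem_normalizer_iff.1 (hPQ hx) y).1 hy)
          (Subgroup.inv_mem _ hy)) ?_
      rw [mul_assoc x y, mul_assoc x]
      exact Subgroup.mul_mem _ (hPle hx)
        ((inferInstance : (pPrimeCore q G).Normal).conj_mem _ (Subgroup.inv_mem _ (hPle hx)) y)
    rwa [mul_inv_eq_one, mul_inv_eq_iff_eq_mul] at h3
  · rintro ⟨P, Q, h⟩
    have hcen : (P : Subgroup G) ≤ Subgroup.centralizer ((Q : Subgroup G) : Set G) := fun x hx =>
      Subgroup.mem_centralizer_iff.2 fun y hy => (h x hx y hy).symm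
    have hq := (S4602.result p q hpq hps).1
      ⟨P, Q, hcen.trans (Subgroup.centralizer_le_normalizer _)⟩
    have hp := (S4602.result q p hpq.symm hqs).1
      ⟨Q, P, (Subgroup.le_centralizer_iff.1 hcen).trans (Subgroup.centralizer_le_normalizer _)⟩
    exact ⟨fun χ hχ _ => half p q Mp hMp.2.2 hq χ hχ, fun χ hχ _ => half q p Mq hMq.2.2 hp χ hχ⟩

end Cfsg.Agent.S4886
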