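import Cfsg.Statements.S4997
import Cfsg.Agent.VanishOrder.Main
-- import your own Cfsg.Agent.* helpers here

set_option autoImplicit false
open Cfsg Cfsg.Agent

namespace Cfsg.Agent.S4997

/-- Let p be an odd prime and G a finite solvable group with exactly one conjugacy class consisting of vanishing elements (elements at which some irreducible complex character is zero) of order divisible by p. Let P be a Sylow p-subgroup of G. Then the order of P is at most p times the order of the largest normal p-subgroup of G. -/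
theorem result {G : Type*} [Group G] [Finite G] (hsolv : Group.IsSolvable G) (p : ℕ) [Fact p.Prime] (hp : p ≠ 2) (h1 : Set.ncard {C : ConjClasses G | (∀ g ∈ C.carrier, ∃ χ : Cfsg.IrrCharacter G, (χ : G → ℂ) g = 0) ∧ ∃ g ∈ C.carrier, p ∣ orderOf g} = 1) (P : Sylow p G) : Nat.card ↥(P : Subgroup G) ≤ p * Nat.card ↥(Cfsg.pCore p G) := by
  haveI := hsolv
  obtain ⟨C, hC⟩ := Set.ncard_eq_one.mp h1
  obtain ⟨c, rfl⟩ := ConjClasses.exists_rep C
  have hb : ∀ g : G, p ∣ orderOf g → VanishOrder.Van g → orderOf g = orderOf c := by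
    intro g hg hv
    have hmem : ConjClasses.mk g = ConjClasses.mk c := by
      refine Set.eq_of_mem_singleton (hC ▸ ?_)
      refine ⟨fun y hy => ?_, g, ConjClasses.mem_carrier_mk, hg⟩
      obtain ⟨χ, hχ⟩ := hv
      obtain ⟨z, hz⟩ := isConj_iff.mp (ConjClasses.mk_eq_mk_iff_isConj.mp
        (ConjClasses.mem_carrier_iff_mk_eq.mp hy)).symm
      refine ⟨χ, ?_⟩
      rw [← hz, Chars.isCharacter_conj_apply (Chars.irr_isCharacter χ)]
      exact hχ
    obtain ⟨z, hz⟩ := isConj_iff.mp (ConjClasses.mk_eq_mk_iff_isConj.mp hmem)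
    rw [← hz, ← MulAut.conj_apply, MulEquiv.orderOf_eq]
  have hdvd := VanishOrder.sylow_le_pCore (p := p) (orderOf c) hb P
  have hle := Nat.le_of_dvd (Fact.out : p.Prime).pos hdvd
  set π := (QuotientGroup.mk' (Cfsg.pCore p G)).comp (P : Subgroup G).subtype
  have e := Subgroup.card_mul_index π.ker
  rw [Subgroup.index_ker] at e
  have hr : Nat.card π.range = Nat.card ((P : Subgroup G).map (QuotientGroup.mk' (Cfsg.pCore p G))) := by
    rw [MonoidHom.range_comp, Subgroup.range_subtype]
  have hk : Nat.card π.ker ≤ Nat.card (Cfsg.pCore p G) :=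
    Nat.card_le_card_of_injective (fun x => ⟨((x : (P : Subgroup G)) : G),
      (QuotientGroup.eq_one_iff _).mp x.2⟩) fun a b h => Subtype.ext (Subtype.ext
        (congrArg Subtype.val h :))
  rw [← e, hr, mul_comm p]
  exact Nat.mul_le_mul hk hle

end Cfsg.Agent.S4997
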