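import Cfsg.Statements.S5195
import Cfsg.Agent.FusionZJ.NilpotencyApps
import Cfsg.Agent.FusionZJ.CharStep

set_option autoImplicit false
set_option linter.style.haveILetI false

open Cfsg Cfsg.FusionSystem Cfsg.Agent Cfsg.Agent.Fusion Cfsg.Agent.FusionZJ

namespace Cfsg.Agent.S5195

/-- A strengthened Frobenius normal p-complement criterion for fusion systems. Let F be a saturated fusion system over a finite p-group S such that p is odd or F is S₄-free (the symmetric group of degree 4 is not involved in any model of the normalizer system of a fully normalized F-centric subgroup). If Aut_F(Q) is a p-group for every nontrivial characteristic subgroup Q of S, then F is the inner fusion system of S. -/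
theorem result {Ω : Type*} [Group Ω] {S : Subgroup Ω} [Finite S] (p : ℕ) [Fact p.Prime] (hS : IsPGroup p S) (F : Cfsg.FusionSystem S) (hF : F.IsSaturated p) (hp : p ≠ 2 ∨ F.IsSectionFree p (Equiv.Perm (Fin 4))) (h : ∀ Q : Subgroup Ω, Q ≤ S → Q ≠ ⊥ → (Q.subgroupOf S).Characteristic → IsPGroup p (F.autGroup Q)) : ∀ P : Subgroup Ω, F.Hom P = (Cfsg.innerFusionSystem S).Hom P := by
  intro P
  by_contra hP
  obtain ⟨U, hNS, hUn, hUc, N, L, _, ι, hN', hM, hfree, hLp⟩ :=
    exists_witness_model hS hF hp fun h => hP (h ▸ rfl)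
  haveI : Finite L := hM.1
  obtain ⟨T, hT⟩ := hM.2.2.1
  obtain ⟨Q₀, hQ₀, g, hg, hgp, q₀, hq₀, hne⟩ :=
    exists_char_noncentral _ L rfl T hM.2.2.2 hfree hLp
  let e : ↥(normalizerIn S U) ≃* ↥(T : Subgroup L) :=
    (MonoidHom.ofInjective hM.2.1.1).trans (MulEquiv.subgroupCongr hT.symm)
  set Q' := Q₀.comap e.toMonoidHom with hQ'
  have hQ'c : Q'.Characteristic := by
    refine Subgroup.characteristic_iff_le_comap.mpr fun α v hv => ?_
    have h := (Subgroup.characteristic_iff_le_comap.mp hQ₀) ((e.symm.trans α).trans e) hv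
    simpa [hQ'] using h
  set Q := Q'.map (normalizerIn S U).subtype with hQ
  have hQN : Q ≤ normalizerIn S U := Subgroup.map_subtype_le _
  have hQchar : (Q.subgroupOf S).Characteristic := by
    have : ∀ (T' : Subgroup Ω), T' = S → ∀ R : Subgroup ↥T', R.Characteristic →
        ((R.map T'.subtype).subgroupOf S).Characteristic := by
      rintro T' rfl R hR
      rwa [Subgroup.subgroupOf, Subgroup.comap_map_eq_self_of_injective T'.subtype_injective]
    exact this _ hNS Q' hQ'c
  have hQi : (Q.subgroupOf (normalizerIn S U)).map ι = Q₀.map (T : Subgroup L).subtype := by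
    ext y
    constructor
    · rintro ⟨x, hx, rfl⟩
      obtain ⟨x', hx', e'⟩ := hx
      rw [← Subtype.ext e']
      exact ⟨e x', hx', rfl⟩
    · rintro ⟨t, ht, rfl⟩
      obtain ⟨x, rfl⟩ := e.surjective t
      exact ⟨x, ⟨x, ht, rfl⟩, rfl⟩
  have hQ1 : Q ≠ ⊥ := fun hb => hne (by
    have h1 : (q₀ : L) ∈ Q₀.map (T : Subgroup L).subtype := ⟨q₀, hq₀, rfl⟩
    rw [← hQi, hb, Subgroup.bot_subgroupOf, Subgroup.map_bot, Subgroup.mem_bot] at h1
    rw [h1]
    group)
  obtain ⟨f, hf, hfQ, hfm, -⟩ := model_stab hS hF hUn hUc hN' hM hQN (g := g) (by rw [hQi]; exact hg)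
  haveI : Finite ↥Q := finite_of_le (hQN.trans normalizerIn_le)
  have hfI : Iso F f Q Q := (hf.mor.restrict le_sup_right).iso_of_card
    (fun x hx => hfQ.le ⟨x, hx, rfl⟩) le_rfl
  obtain ⟨k, hk⟩ := (isPGroup_autGroup_iff hfI.dom_le).mp
    (h Q hfI.dom_le hQ1 hQchar) f hfI
  obtain ⟨y, hy, hye⟩ : (q₀ : L) ∈ (Q.subgroupOf (normalizerIn S U)).map ι :=
    hQi ▸ ⟨q₀, hq₀, rfl⟩
  obtain ⟨hmem, he⟩ := model_iterate ι hQN (fun x hx => hfI.mapsTo hx)
    (fun x hx => hfm x hx _) (p ^ k) y hy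
  have hy' : ι ⟨f^[p ^ k] (y : Ω), hQN hmem⟩ = (q₀ : L) := by
    rw [← hye]
    exact congrArg ι (Subtype.ext (hk y hy))
  rw [hy', hye, eq_mul_inv_iff_mul_eq] at he
  obtain ⟨j, hj⟩ := exists_pow_eq_self_of_coprime (x := g) (n := p ^ k) (hgp.pow_right k).symm
  have hc : Commute (q₀ : L) (g ^ p ^ k) := he
  apply hne
  rw [← hj, ← ((hc.pow_right j).eq), mul_inv_cancel_right]

end Cfsg.Agent.S5195
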