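import Cfsg.Statements.S5234
import Cfsg.Agent.Fusion.RankTwoClosed
import Cfsg.Agent.OddLocal.RankTwo.Metacyclic

set_option autoImplicit false
open Cfsg Cfsg.Agent.Fusion Cfsg.FusionSystem

namespace Cfsg.Agent.S5234

/-- Let p be an odd prime, F a saturated fusion system over a finite p-group S and P a metacyclic subgroup of S strongly closed in F. Then P is normal in F. -/
theorem result {Ω : Type*} [Group Ω] {S : Subgroup Ω} [Finite S] (p : ℕ) [Fact p.Prime] (hS : IsPGroup p S) (F : Cfsg.FusionSystem S) (hF : F.IsSaturated p) (P : Subgroup Ω) (hP : F.StronglyClosed P) (hp : p ≠ 2) (hm : Cfsg.IsMetacyclic ↥P) : F.IsNormal P := by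
  haveI := Fusion.finite_of_le hP.1
  obtain ⟨A, -, hA, hall, -, hcard⟩ :=
    OddLocal.RankTwo.exists_omega_of_metacyclic hp (hS.to_le hP.1) hm
  have heq : omegaOne p P = A.map P.subtype := by
    refine le_antisymm ((Subgroup.closure_le _).mpr fun x hx =>
      ⟨⟨x, hx.1⟩, hall _ (Subtype.ext (by simpa using hx.2)), rfl⟩) ?_
    rintro _ ⟨a, ha, rfl⟩
    exact Subgroup.subset_closure ⟨a.2, by simpa using congrArg Subtype.val (hA.2 a ha)⟩
  refine Fusion.RankTwoClosed.isNormal_of_omega_le_sq hS hF hp hP ?_ ?_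
  · rw [heq]
    refine ⟨⟨⟨?_⟩⟩, ?_⟩
    · rintro ⟨_, a, ha, rfl⟩ ⟨_, b, hb, rfl⟩
      haveI := hA.1
      exact Subtype.ext (congrArg (fun u : A => ((u : P) : Ω)) (mul_comm' (⟨a, ha⟩ : A) ⟨b, hb⟩))
    · rintro _ ⟨a, ha, rfl⟩
      rw [← map_pow, hA.2 a ha, map_one]
  · rw [heq, ← Nat.card_congr (A.equivMapOfInjective P.subtype P.subtype_injective).toEquiv]
    exact hcard

end Cfsg.Agent.S5234
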