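import Cfsg.Statements.S5252
import Cfsg.Agent.FusionZJ.TransferControl
import Cfsg.Agent.FusionZJ.NilpotencyApps
import Cfsg.Agent.PLocal.KInfTransfer
import Cfsg.Agent.Fusion.TateMore

set_option autoImplicit false
open scoped commutatorElement
open Cfsg Cfsg.FusionSystem Cfsg.Agent Cfsg.Agent.Fusion Cfsg.Agent.FusionZJ

namespace Cfsg.Agent.S5252

/-- Let p ≥ 5 be a prime and F a saturated fusion system over a nontrivial finite p-group S such that Aut_F(S) is a p-group. Then the focal subgroup of F is a proper subgroup of S. -/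
theorem result {Ω : Type*} [Group Ω] {S : Subgroup Ω} [Finite S] (p : ℕ) [Fact p.Prime] (hS : IsPGroup p S) (F : Cfsg.FusionSystem S) (hF : F.IsSaturated p) (hp : 5 ≤ p) (hS1 : S ≠ ⊥) (haut : IsPGroup p ↥(F.autGroup S)) : F.focalSubgroup < S := by
  set K := wOf kLo S with hK
  have hW2 := fun (Q R : Type _) [Group Q] [Group R] [Finite Q] (_ : IsPGroup p Q) (φ : Q ≃* R) =>
    kInfLower_equiv (P := Q) (R := R) φ
  have hKS : K ≤ S := wOf_le kLo S
  have hSK : S ≤ normalizerIn S K := fun s hs =>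
    ⟨hs, normalizerIn_le_wOf hS hW2 le_rfl ⟨hs, Subgroup.le_normalizer hs⟩⟩
  have hNK : normalizerIn S K = S := le_antisymm normalizerIn_le hSK
  haveI : Finite ↥(normalizerIn S K) := finite_of_le normalizerIn_le
  have hKn : F.IsFullyNormalized K :=
    ⟨hKS, fun R _ => by rw [hNK]; exact Fusion.card_le_of_le normalizerIn_le⟩
  have hCK : centralizerIn S K ≤ K := fun c hc =>
    ⟨⟨c, hc.1⟩, (S1978.result hS).1 fun y hy =>
      Subtype.ext (hc.2 y (Subgroup.mem_map_of_mem S.subtype hy)), rfl⟩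
  haveI := finite_of_le hKS
  have hKc : F.IsCentric K := by
    refine ⟨hKS, fun R hR => ?_⟩
    obtain ⟨f, hf⟩ := isConj_iff.mp hR
    have hR' : R ≤ S := hf.cod_le
    haveI := finite_of_le hR'
    haveI := finite_of_le (centralizerIn_le : centralizerIn S R ≤ S)
    haveI := finite_of_le (centralizerIn_le : centralizerIn S K ≤ S)
    have hfc := (IsSaturated_fullyNormalized hS hF hKn).1
    have h1 : centralizerIn S R ⊓ R = centralizerIn S R := by
      refine Subgroup.eq_of_le_of_card_ge inf_le_left ?_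
      haveI := finite_of_le ((inf_le_right : centralizerIn S R ⊓ R ≤ R).trans hR')
      refine (hfc.2 R hR).trans ?_
      refine Nat.card_le_card_of_injective (fun c : ↥(centralizerIn S K) =>
        (⟨f c, ⟨⟨hR' (hf.mapsTo (hCK c.2)), fun y hy => ?_⟩, hf.mapsTo (hCK c.2)⟩⟩ :
          ↥(centralizerIn S R ⊓ R))) fun a b h =>
            Subtype.ext (hf.mor.injOn (hCK a.2) (hCK b.2) (congrArg Subtype.val h))
      obtain ⟨x, hx, rfl⟩ := hf.surj hy
      rw [← hf.mor.map_mul hx (hCK c.2), ← hf.mor.map_mul (hCK c.2) hx, c.2.2 x hx]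
    intro c hc
    exact (h1.ge hc).2
  obtain ⟨E, L, _, ι, hE, hM, -⟩ := exists_local_model hS hF hKn hKc
  haveI : Finite L := hM.1
  obtain ⟨hinj, hreal⟩ := hM.2.1
  obtain ⟨T, hT⟩ := hM.2.2.1
  have hT1 : (T : Subgroup L) ≠ ⊥ := by
    intro h
    refine hS1 (le_bot_iff.mp fun s hs => ?_)
    have h1 : ι ⟨s, hSK hs⟩ ∈ (T : Subgroup L) := by rw [hT]; exact ⟨_, rfl⟩
    rw [h, Subgroup.mem_bot, ← map_one ι] at h1
    exact Subgroup.mem_bot.mpr (congrArg Subtype.val (hinj h1))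
  have hSSeq : (S.subgroupOf (normalizerIn S K)).map ι = (T : Subgroup L) := by
    rw [hT, Subgroup.subgroupOf_eq_top.mpr normalizerIn_le, ← MonoidHom.range_eq_map]
  have hN : ∀ g ∈ Subgroup.normalizer ((T : Subgroup L) : Set L), (orderOf g).Coprime p →
      g ∈ Subgroup.centralizer ((T : Subgroup L) : Set L) := by
    intro g hg hgp
    obtain ⟨f, hf, hfS, -, hkey⟩ := model_stab hS hF hKn hKc hE hM hSK (g := g) (by rw [hSSeq]; exact hg)
    have hKS' : K ⊔ S = S := sup_eq_right.mpr hKS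
    rw [hKS'] at hf
    obtain ⟨k, hk⟩ := (isPGroup_autGroup_iff le_rfl).mp haut f hf
    rw [hkey hgp ⟨k, fun x hx => hk x (hKS hx)⟩]
    exact Subgroup.one_mem _
  obtain ⟨M, hMn, hMi⟩ := Cfsg.Agent.PLocal.exists_index_eq_five hp T hT1 hN
  haveI := hMn
  have hab : ∀ a b : L, ⁅a, b⁆ ∈ M := by
    haveI : IsCyclic (L ⧸ M) := isCyclic_of_prime_card (p := p) (by rw [← Subgroup.index_eq_card, hMi])
    intro a b
    rw [← QuotientGroup.eq_one_iff, ← QuotientGroup.mk'_apply, map_commutatorElement,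
      commutatorElement_eq_one_iff_mul_comm]
    exact (IsCyclic.commutative (α := L ⧸ M)).is_comm.comm _ _
  set D₀ := (M.comap ι).map (normalizerIn S K).subtype with hD₀
  have hTC : ∀ (L : Type _) [Group L] [Finite L] (P : Sylow p L),
      Subgroup.centralizer ((pCore p L : Subgroup L) : Set L) ≤ pCore p L →
      pCore p L ⊓ commutator L = pCore p L ⊓
        (commutator ↥(Subgroup.normalizer ((wOf kLo (P : Subgroup L) : Subgroup L) : Set L))).map
          (Subgroup.normalizer ((wOf kLo (P : Subgroup L) : Subgroup L) : Set L)).subtype := by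
    intro L _ _ P _
    have h := Cfsg.Agent.PLocal.transfer_eq (Cfsg.Agent.PLocal.isCharP_kLo (p := p))
      (Cfsg.Agent.PLocal.controlsTransfer_kLo hp L) P
    rw [Subgroup.map_subtype_commutator]
    conv_lhs => rw [← inf_eq_left.mpr (Core.pCore_le_sylow P), inf_assoc, h]
    rw [← inf_assoc, inf_eq_left.mpr (Core.pCore_le_sylow P)]
    rfl
  have hfoc : F.focalSubgroup ≤ D₀ := by
    refine (Subgroup.closure_le _).mpr ?_
    rintro _ ⟨P, φ, x, hφ, rfl⟩
    have h := focal_le_of_stab (W := kLo) (fun Q _ _ hQ hnt => kInfLower_ne_bot Q hQ hnt) hW2 hTC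
      _ _ Ω S hS F hF rfl rfl D₀ (fun P f hf hKP hfK y hy => ?_) P _ (mor_of_mem hφ) x x.2
    · rwa [extFun_coe] at h
    have hfN : Mor E P f := mor_normalizerSystem hE (hf.restrict (sup_le le_rfl hKP)) (fun _ _ => rfl)
      (image_eq_of_iso (F := F) ((hf.restrict hKP).iso_of_card hfK le_rfl))
      (hf.dom_le.trans hSK) (fun z hz => hSK (hf.map_mem hz))
    obtain ⟨g, hg⟩ := (hreal _ hfN.dom_le hfN.hom (fun z => hfN.map_mem z.2)).mp hfN.hom_mem
    refine ⟨⟨y, hfN.dom_le hy⟩⁻¹ * ⟨f y, hfN.map_mem hy⟩, ?_, rfl⟩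
    show ι _ ∈ M
    have hg' : ι ⟨f y, hfN.map_mem hy⟩ = g * ι ⟨y, hfN.dom_le hy⟩ * g⁻¹ := hg ⟨y, hy⟩
    rw [map_mul, map_inv, hg', show (ι ⟨y, hfN.dom_le hy⟩)⁻¹ * (g * ι ⟨y, hfN.dom_le hy⟩ * g⁻¹) =
      ⁅(ι ⟨y, hfN.dom_le hy⟩)⁻¹, g⁆ by rw [commutatorElement_def]; group]
    exact hab _ _
  refine lt_of_le_of_ne (focal_le F) fun e => ?_
  have hTM : (T : Subgroup L) ≤ M := by
    rw [hT]
    rintro _ ⟨s, rfl⟩
    obtain ⟨m, hm, hms⟩ := hfoc (e.symm ▸ s.2.1 : (s : Ω) ∈ F.focalSubgroup)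
    rw [← Subtype.ext (hms : (m : Ω) = s)]
    exact hm
  refine T.not_dvd_index' Subgroup.index_ne_zero_of_finite ?_
  exact (hMi ▸ dvd_rfl : p ∣ M.index).trans (Subgroup.index_dvd_of_le hTM)

end Cfsg.Agent.S5252
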