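import Cfsg.Statements.S5270
import Cfsg.Agent.Fusion.MaxClassEssential

set_option autoImplicit false
open Cfsg Cfsg.Agent.Fusion Cfsg.FusionSystem

namespace Cfsg.Agent.S5270

/-- Let p ≥ 5 be a prime, S a finite p-group of maximal class of order p^n with n ≥ 4, and F a saturated fusion system over S. If some map of F defined on the second centre Z₂(S) with image Z₂(S) does not carry Z(S) into itself, then the centralizer C_S(Z₂(S)) is an F-essential subgroup. -/
theorem result {Ω : Type*} [Group Ω] {S : Subgroup Ω} [Finite S] (p : ℕ) [Fact p.Prime] (hS : IsPGroup p ↥S) (n : ℕ) (hn : Nat.card S = p ^ n) (h4 : 4 ≤ n) (hmax : Subgroup.lowerCentralSeries S (n - 2) ≠ ⊥) (F : Cfsg.FusionSystem S) (hF : F.IsSaturated p) (hp : 5 ≤ p) (φ : ↥((Subgroup.upperCentralSeries ↥S 2).map S.subtype) →* Ω) (hφ : φ ∈ F.Hom ((Subgroup.upperCentralSeries ↥S 2).map S.subtype)) (hφZ : φ.range = ((Subgroup.upperCentralSeries ↥S 2).map S.subtype)) (hmove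 : ∃ (z : Ω) (hz : z ∈ ((Subgroup.upperCentralSeries ↥S 2).map S.subtype)), z ∈ ((Subgroup.center ↥S).map S.subtype) ∧ φ ⟨z, hz⟩ ∉ ((Subgroup.center ↥S).map S.subtype)) : F.IsEssential p (S ⊓ Subgroup.centralizer (((Subgroup.upperCentralSeries ↥S 2).map S.subtype) : Set Ω)) := by
  have h : Agent.Fusion.MaxCl.MC p n S := ⟨hn, h4, hmax⟩
  have hfin : Finite (Agent.Fusion.MaxCl.zTwo S) := Agent.Fusion.finite_of_le Agent.Fusion.MaxCl.zTwo_le
  have hm : Agent.Fusion.Mor F (Agent.Fusion.MaxCl.zTwo S) (Agent.Fusion.extFun φ) := Agent.Fusion.mor_of_mem hφ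
  have hi : Agent.Fusion.Iso F (Agent.Fusion.extFun φ) (Agent.Fusion.MaxCl.zTwo S) (Agent.Fusion.MaxCl.zTwo S) :=
    hm.iso_of_card (fun x hx => by
      rw [Agent.Fusion.extFun_apply φ hx]
      exact hφZ.le ⟨⟨x, hx⟩, rfl⟩) le_rfl
  refine h.cTwo_essential hF hi ?_
  obtain ⟨z, hz, hzc, hzm⟩ := hmove
  have key : ∀ x, x ∈ Agent.Fusion.CenterSq.zS S ↔ x ∈ (Subgroup.center ↥S).map S.subtype := by
    intro x
    constructor
    · intro hx
      exact ⟨⟨x, hx.1⟩, Subgroup.mem_center_iff.mpr fun g => Subtype.ext (hx.2 g g.2), rfl⟩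
    · rintro ⟨w, hw, rfl⟩
      exact ⟨w.2, fun g hg => congrArg Subtype.val (Subgroup.mem_center_iff.mp hw ⟨g, hg⟩)⟩
  refine ⟨z, (key z).mpr hzc, fun e => hzm ?_⟩
  rw [Agent.Fusion.extFun_apply φ hz] at e
  exact (key _).mp e

end Cfsg.Agent.S5270
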