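import Cfsg.Statements.S5272
import Cfsg.Agent.FusionZJ.FamilyZJ

set_option autoImplicit false
open Cfsg Cfsg.FusionSystem Cfsg.Agent Cfsg.Agent.Fusion Cfsg.Agent.FusionZJ

namespace Cfsg.Agent.S5272

/-- An axiomatic Glauberman–Thompson nilpotency criterion for fusion systems. Let p be an odd prime, F a saturated fusion system over a finite p-group S, and 𝒜 a nonempty family of abelian subgroups of S. For Q ≤ S write I(Q) for the intersection of the members of 𝒜 contained in Q. Assume (invariance) that for every Q ≤ S containing a member of 𝒜, every F-automorphism of Q maps I(Q) into itself, and (replacement) that for every subgroup B of S of nilpotency class at most 2, if some member of 𝒜 contains [B,B] but not B, then B normalizes some member of 𝒜 that contains [B,B] but not B. Then F is the inner fusion system of S if and only if the normalizer fusion system of I(S) in F is the inner fusion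 system of N_S(I(S)). -/
theorem result {Ω : Type*} [Group Ω] {S : Subgroup Ω} [Finite S] (p : ℕ) [Fact p.Prime] (hS : IsPGroup p ↥S) (F : Cfsg.FusionSystem S) (hF : F.IsSaturated p) (hp : p ≠ 2) (𝒜 : Set (Subgroup Ω)) (h𝒜 : ∀ A ∈ 𝒜, A ≤ S ∧ IsMulCommutative ↥A) (hne : 𝒜.Nonempty) (hinv : ∀ Q : Subgroup Ω, Q ≤ S → (∃ A ∈ 𝒜, A ≤ Q) → ∀ α ∈ F.autGroup Q, ∀ x : ↥Q, (x : Ω) ∈ (⨅ A ∈ {A : Subgroup Ω | A ∈ 𝒜 ∧ A ≤ Q}, A) → (((α : MulAut ↥Q) x : ↥Q) : Ω) ∈ (⨅ A ∈ {A : Subgroup Ω | A ∈ 𝒜 ∧ A ≤ Q}, A)) (hrep : ∀ B : Subgroup Ω, B ≤ S → ⁅⁅B, B⁆, B⁆ = ⊥ → (∃ A ∈ 𝒜, ⁅B, B⁆ ≤ A ∧ ¬ B ≤ A) → ∃ A ∈ 𝒜, ⁅B, B⁆ ≤ A ∧ ¬ B ≤ A ∧ B ≤ Subgroup.normalizer (A : Set Ω)) : (∀ P : Subgroup Ω, F.Hom P = (Cfsg.innerFusionSystem S).Hom P) ↔ ∀ N : Cfsg.FusionSystem (Cfsg.FusionSystem.normalizerIn S (⨅ A ∈ 𝒜, A)), F.IsNormalizerSystem (⨅ A ∈ 𝒜, A) N → ∀ P : Subgroup Ω, N.Hom P = (Cfsg.innerFusionSystem (Cfsg.FusionSystem.normalizerIn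 S (⨅ A ∈ 𝒜, A))).Hom P := by
  set I : Subgroup Ω := ⨅ A ∈ 𝒜, A with hI
  have hmemI : ∀ x, x ∈ I ↔ ∀ A ∈ 𝒜, x ∈ A := fun x => by simp only [hI, Subgroup.mem_iInf]
  obtain ⟨A₀, hA₀⟩ := hne
  have hIS : I ≤ S := fun x hx => (h𝒜 A₀ hA₀).1 ((hmemI x).mp hx A₀ hA₀)
  -- the invariance, for maps of the system
  have hinv' : ∀ (Q : Subgroup Ω) (f : Ω → Ω), (∃ A ∈ 𝒜, A ≤ Q) → Iso F f Q Q → ∀ x ∈ Q,
      (∀ A ∈ 𝒜, A ≤ Q → x ∈ A) → ∀ A ∈ 𝒜, A ≤ Q → f x ∈ A := by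
    intro Q f hex hf x hxQ hx A hA hAQ
    have h1 := hinv Q hf.dom_le hex _ hf.equiv_mem_autGroup ⟨x, hxQ⟩
      (by simp only [Subgroup.mem_iInf, Set.mem_setOf_eq]; exact fun B hB => hx B hB.1 hB.2)
    simp only [Subgroup.mem_iInf, Set.mem_setOf_eq] at h1
    exact h1 A ⟨hA, hAQ⟩
  have hSI : S ≤ Subgroup.normalizer (I : Set Ω) := by
    intro s hs
    haveI : Finite ↥I := finite_of_le hIS
    refine Subgroup.mem_normalizer_fintype fun x hx => (hmemI _).mpr fun A hA => ?_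
    exact hinv' S _ ⟨A, hA, (h𝒜 A hA).1⟩ (Iso.conj_self le_rfl hs (Subgroup.le_normalizer hs)) x
      (hIS hx) (fun B hB _ => (hmemI x).mp hx B hB) A hA (h𝒜 A hA).1
  refine ⟨fun h N hN P => normalizerSystem_inner hSI h hN P, fun h => ?_⟩
  by_contra hne'
  have hne'' : F ≠ innerFusionSystem S := fun e => hne' fun P => by rw [e]
  obtain ⟨U, hNS, hUn, hUc, N, L, _, ι, hN, hM, -, hL⟩ :=
    exists_witness_model hS hF (Or.inl hp) hne''
  obtain ⟨T, hT⟩ := hM.2.2.1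
  haveI : Finite L := hM.1
  have hinj : Function.Injective ι := hM.2.1.1
  haveI : Finite ↥(normalizerIn S U) := finite_of_le normalizerIn_le
  have hAD : ∀ A ∈ 𝒜, A ≤ (normalizerIn S U) := fun A hA => (h𝒜 A hA).1.trans hNS.ge
  set img : Subgroup Ω → Subgroup L := fun A => (A.subgroupOf (normalizerIn S U)).map ι with himg
  have hmem : ∀ (A : Subgroup Ω) (x : (normalizerIn S U)), ι x ∈ img A ↔ (x : Ω) ∈ A := fun A x =>
    ⟨fun ⟨y, hy, e⟩ => by rw [← hinj e]; exact hy, fun hx => ⟨x, hx, rfl⟩⟩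
  have hrange : ∀ A, img A ≤ ι.range := fun A => Subgroup.map_le_range _ _
  have hfam : AbFamily (T : Subgroup L) (img '' 𝒜) := by
    refine ⟨?_, ?_, ⟨_, A₀, hA₀, rfl⟩, ?_, ?_⟩
    · rintro _ ⟨A, -, rfl⟩
      exact hT ▸ hrange A
    · rintro _ ⟨A, hA, rfl⟩
      haveI := (h𝒜 A hA).2
      rw [Subgroup.commutator_eq_bot_iff_le_centralizer]
      rintro _ ⟨x, hx, rfl⟩ _ ⟨y, hy, rfl⟩
      rw [← map_mul, ← map_mul]
      exact congrArg ι (Subtype.ext (setLike_mul_comm (show ((y : ↥(normalizerIn S U)) : Ω) ∈ A from hy) hx))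
    · rintro V hV ⟨_, ⟨A₁, hA₁, rfl⟩, hA₁V⟩ g hg
      set Q : Subgroup Ω := (V.comap ι).map (normalizerIn S U).subtype with hQ
      have hQD : Q ≤ (normalizerIn S U) := Subgroup.map_subtype_le _
      have hQmem : ∀ x : (normalizerIn S U), (x : Ω) ∈ Q ↔ ι x ∈ V := fun x =>
        ⟨fun ⟨y, hy, e⟩ => by rw [← Subtype.ext e]; exact hy, fun hx => ⟨x, hx, rfl⟩⟩
      have hle : ∀ A ∈ 𝒜, A ≤ Q ↔ img A ≤ V := fun A hA =>
        ⟨fun hAQ => by rintro _ ⟨x, hx, rfl⟩; exact (hQmem x).mp (hAQ hx),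
          fun hAV a ha => (hQmem ⟨a, hAD A hA ha⟩).mpr (hAV ((hmem A _).mpr ha))⟩
      have hconj : ∀ x : Q, g * ι ⟨x, hQD x.2⟩ * g⁻¹ ∈ V := fun x =>
        (Subgroup.mem_normalizer_iff.mp hg _).mp ((hQmem _).mp x.2)
      obtain ⟨f, hfN, hf, ef⟩ := model_mor hN hM hQD g fun x => hT ▸ hV (hconj x)
      haveI := finite_of_le hQD
      have hfQ : Iso F f Q Q := hf.iso_of_card (fun x hx => by
        refine (hQmem ⟨f x, hfN.map_mem hx⟩).mpr ?_
        rw [ef x hx]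
        exact hconj ⟨x, hx⟩) le_rfl
      refine Subgroup.mem_normalizer_fintype fun y hy => ?_
      obtain ⟨x, rfl⟩ : y ∈ ι.range :=
        hrange A₁ (interIn_le_mem (Set.mem_image_of_mem img hA₁) hA₁V hy)
      have hxA : ∀ A ∈ 𝒜, A ≤ Q → (x : Ω) ∈ A := fun A hA hAQ =>
        (hmem A x).mp (interIn_le_mem (Set.mem_image_of_mem img hA) ((hle A hA).mp hAQ) hy)
      have hxQ : (x : Ω) ∈ Q := (hle A₁ hA₁).mpr hA₁V (hxA A₁ hA₁ ((hle A₁ hA₁).mpr hA₁V))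
      refine Subgroup.mem_sInf.mpr ?_
      rintro _ ⟨⟨A, hA, rfl⟩, hAV⟩
      have h1 := hinv' Q f ⟨A₁, hA₁, (hle A₁ hA₁).mpr hA₁V⟩ hfQ x hxQ hxA A hA ((hle A hA).mpr hAV)
      show g * ι x * g⁻¹ ∈ img A
      rw [← ef x hxQ (hfN.map_mem hxQ)]
      exact (hmem A _).mpr h1
    · rintro B hB hB3 ⟨_, ⟨A, hA, rfl⟩, hBA, hnBA⟩
      set X : Subgroup (normalizerIn S U) := B.comap ι with hX
      have hXB : X.map ι = B := Subgroup.map_comap_eq_self (hT ▸ hB)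
      have hc : ⁅X.map (normalizerIn S U).subtype, X.map (normalizerIn S U).subtype⁆ = ⁅X, X⁆.map (normalizerIn S U).subtype :=
        (Subgroup.map_commutator _ _ _).symm
      have hci : ⁅B, B⁆ = ⁅X, X⁆.map ι := by rw [Subgroup.map_commutator, hXB]
      obtain ⟨A', hA', h1, h2, h3⟩ := hrep (X.map (normalizerIn S U).subtype)
        ((Subgroup.map_subtype_le _).trans normalizerIn_le)
        (by
          rw [hc, ← Subgroup.map_commutator, Subgroup.map_eq_bot_iff_of_injective _ (normalizerIn S U).subtype_injective,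
            ← Subgroup.map_eq_bot_iff_of_injective _ hinj, Subgroup.map_commutator, ← hci, hXB, hB3])
        ⟨A, hA, by
          rw [hc]
          rintro _ ⟨x, hx, rfl⟩
          exact (hmem A x).mp (hBA (hci.ge ⟨x, hx, rfl⟩)),
          fun hle => hnBA fun b hb => by
            obtain ⟨x, rfl⟩ : b ∈ ι.range := hT ▸ hB hb
            exact (hmem A x).mpr (hle ⟨x, hb, rfl⟩)⟩
      refine ⟨img A', Set.mem_image_of_mem img hA', ?_, fun hle => h2 ?_, fun b hb => ?_⟩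
      · rw [hci]
        rintro _ ⟨x, hx, rfl⟩
        exact (hmem A' x).mpr (h1 (hc.ge ⟨x, hx, rfl⟩))
      · rintro _ ⟨x, hx, rfl⟩
        exact (hmem A' x).mp (hle hx)
      · obtain ⟨x, rfl⟩ : b ∈ ι.range := hT ▸ hB hb
        refine Subgroup.mem_normalizer_fintype ?_
        rintro _ ⟨a, ha, rfl⟩
        rw [SetLike.mem_coe, ← map_inv, ← map_mul, ← map_mul]
        exact (hmem A' _).mpr ((Subgroup.mem_normalizer_iff.mp (h3 ⟨x, hb, rfl⟩) _).mp ha)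
  obtain ⟨g, hgn, hg1, hgp⟩ := hfam.exists_coprime hp T hM.2.2.2 hL
  have hID : I ≤ (normalizerIn S U) := hIS.trans hNS.ge
  have hIimg : interIn (img '' 𝒜) (T : Subgroup L) = img I := by
    refine le_antisymm (fun y hy => ?_) (le_sInf ?_)
    · obtain ⟨x, rfl⟩ : y ∈ ι.range := hT ▸ hfam.interIn_le hy
      refine (hmem I x).mpr ((hmemI _).mpr fun A hA => (hmem A x).mp ?_)
      exact interIn_le_mem (Set.mem_image_of_mem img hA) (hT ▸ hrange A) hy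
    · rintro _ ⟨⟨A, hA, rfl⟩, -⟩
      exact Subgroup.map_mono (Subgroup.comap_mono fun x hx => (hmemI x).mp hx A hA)
  obtain ⟨f, hf, hfI, -, hkey⟩ := model_stab hS hF hUn hUc hN hM hID (g := g)
    (by rw [hIimg] at hgn; exact hgn)
  obtain ⟨E, hE⟩ := exists_normalizerSystem F I hIS
  haveI : Finite ↥(normalizerIn S I) := finite_of_le normalizerIn_le
  have hSn : S ≤ normalizerIn S I := fun s hs => ⟨hs, hSI hs⟩
  have hWS : U ⊔ I ≤ S := hf.dom_le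
  have hE' : Iso E f (U ⊔ I) (U ⊔ I) :=
    ⟨mor_normalizerSystem hE (hf.mor.restrict (sup_le le_rfl le_sup_right)) (fun _ _ => rfl) hfI
      (hWS.trans hSn) (fun x hx => hSn (hWS (hf.mapsTo hx))), hf.bij⟩
  obtain ⟨k, hk⟩ := period_of_inner (hS.to_le normalizerIn_le) (h E hE) hE'
  exact hg1 (hkey hgp ⟨k, fun x hx => hk x (Subgroup.mem_sup_left hx)⟩)

end Cfsg.Agent.S5272
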