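import Cfsg.Statements.S5275
import Cfsg.Agent.FusionZJ.NilpotencyApps
import Cfsg.Agent.FusionZJ.ClosedZJ
import Cfsg.Agent.Fusion.TateMore

set_option autoImplicit false
set_option linter.style.haveILetI false
open Cfsg Cfsg.FusionSystem Cfsg.Agent Cfsg.Agent.Fusion Cfsg.Agent.FusionZJ

namespace Cfsg.Agent.S5275

/-- A Glauberman–Thompson nilpotency criterion for fusion systems relative to a strongly closed subgroup. Let p be an odd prime, F a saturated fusion system over a finite p-group S, and D a subgroup of S that is strongly closed in F. Let Z(J(D)) be the centre of the subgroup of D generated by the abelian subgroups of D of largest order. Then F is the inner fusion system of S if and only if the normalizer fusion system of Z(J(D)) in F is the inner fusion system of N_S(Z(J(D))) = S. -/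
theorem result {Ω : Type*} [Group Ω] {S : Subgroup Ω} [Finite S] (p : ℕ) [Fact p.Prime] (hS : IsPGroup p ↥S) (F : Cfsg.FusionSystem S) (hF : F.IsSaturated p) (hp : p ≠ 2) (D : Subgroup Ω) (hD : F.StronglyClosed D) : (∀ P : Subgroup Ω, F.Hom P = (Cfsg.innerFusionSystem S).Hom P) ↔ ∀ N : Cfsg.FusionSystem (Cfsg.FusionSystem.normalizerIn S (Cfsg.centerThompsonAOf D)), F.IsNormalizerSystem (Cfsg.centerThompsonAOf D) N → ∀ P : Subgroup Ω, N.Hom P = (Cfsg.innerFusionSystem (Cfsg.FusionSystem.normalizerIn S (Cfsg.centerThompsonAOf D))).Hom P := by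
  have hDS : D ≤ S := hD.1
  have hSN : S ≤ normalizerIn S (centerThompsonAOf D) := fun s hs => ⟨hs, by
    rw [← wOf_zjA]
    exact normalizerIn_le_wOf hS zjA_equiv hDS ⟨hs, stronglyClosed_normalizer hD hs⟩⟩
  refine ⟨fun hI N hN => normalizerSystem_inner (fun s hs => (hSN hs).2) hI hN, fun h => ?_⟩
  by_contra hne
  obtain ⟨U, hNS, hUn, hUc, M, L, iL, ι, hMn, hM, -, hL⟩ :=
    exists_witness_model hS hF (Or.inl hp) (fun e => hne fun P => e ▸ rfl)
  haveI : Finite L := hM.1
  haveI : Finite ↥(normalizerIn S U) := finite_of_le normalizerIn_le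
  obtain ⟨T, hT⟩ := hM.2.2.1
  have hDU : D ≤ normalizerIn S U := hNS.symm ▸ hDS
  set Di := (D.subgroupOf (normalizerIn S U)).map ι with hDi
  have hcl : ClosedIn (T : Subgroup L) Di := by
    refine ⟨hT ▸ Subgroup.map_le_range _ _, ?_⟩
    rintro g _ ⟨x, hx, rfl⟩ hgx
    obtain ⟨y, hy⟩ : g * ι x * g⁻¹ ∈ ι.range := hT ▸ hgx
    obtain ⟨f, hfN, hf, ef⟩ := model_mor hMn hM
      (show Subgroup.zpowers (x : Ω) ≤ normalizerIn S U from Subgroup.zpowers_le.mpr x.2) g fun w => by
        obtain ⟨k, hk⟩ := Subgroup.mem_zpowers_iff.mp w.2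
        refine ⟨y ^ k, ?_⟩
        rw [map_zpow, hy, conj_zpow, ← map_zpow]
        congr 3
        exact Subtype.ext (by rw [Subgroup.coe_zpow]; exact hk)
    have hxm : (x : Ω) ∈ Subgroup.zpowers (x : Ω) := Subgroup.mem_zpowers _
    refine ⟨⟨f x, hfN.map_mem hxm⟩, stronglyClosed_mem hD hf hxm hx, ?_⟩
    exact ef x hxm (hfN.map_mem hxm)
  obtain ⟨g, hg, hg1, hgp⟩ := zjD_step hp _ L rfl T hM.2.2.2 hL Di hcl
  have hVU : centerThompsonAOf D ≤ normalizerIn S U := by
    rw [← wOf_zjA]
    exact (wOf_le zjA D).trans hDU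
  have himg : ((centerThompsonAOf D).subgroupOf (normalizerIn S U)).map ι = centerThompsonAOf Di := by
    haveI : Finite ↥(D.subgroupOf (normalizerIn S U)) := inferInstance
    have hDp : IsPGroup p ↥(D.subgroupOf (normalizerIn S U)) :=
      (hS.to_le normalizerIn_le).to_subgroup _
    have h1 := wOf_map zjA zjA_equiv (normalizerIn S U).subtype (Subgroup.subtype_injective _)
      (D.subgroupOf (normalizerIn S U)) hDp
    rw [Subgroup.map_subgroupOf_eq_of_le hDU] at h1
    rw [← wOf_zjA, ← wOf_zjA, hDi, wOf_map zjA zjA_equiv ι hM.2.1.1 _ hDp, h1, Subgroup.subgroupOf,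
      Subgroup.comap_map_eq_self_of_injective (Subgroup.subtype_injective _)]
  obtain ⟨f, hf, hfV, -, hkey⟩ := model_stab hS hF hUn hUc hMn hM hVU (g := g) (himg.symm ▸ hg)
  obtain ⟨E, hE⟩ := exists_normalizerSystem F (centerThompsonAOf D) (hVU.trans normalizerIn_le)
  haveI : Finite ↥(normalizerIn S (centerThompsonAOf D)) := finite_of_le normalizerIn_le
  have hle : U ⊔ centerThompsonAOf D ≤ S := hf.dom_le
  have hE' : Iso E f (U ⊔ centerThompsonAOf D) (U ⊔ centerThompsonAOf D) :=
    ⟨mor_normalizerSystem hE (hf.mor.restrict (sup_le le_rfl le_sup_right)) (fun _ _ => rfl) hfV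
      (hle.trans hSN) (fun x hx => hSN (hle (hf.mapsTo hx))), hf.bij⟩
  obtain ⟨k, hk⟩ := period_of_inner (hS.to_le normalizerIn_le) (h E hE) hE'
  exact hg1 (hkey hgp ⟨k, fun x hx => hk x (Subgroup.mem_sup_left hx)⟩)

end Cfsg.Agent.S5275
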