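import Cfsg.Statements.S5287
import Cfsg.Agent.S5234
import Cfsg.Agent.S5283
import Cfsg.Agent.S5284
import Cfsg.Agent.Fusion.MetacyclicTwo
import Cfsg.Agent.Fusion.MetacyclicLine
import Cfsg.Agent.Fusion.NotSupersolModels
import Cfsg.Agent.FGS3.ComplementAut
-- import your own Cfsg.Agent.* helpers here

set_option autoImplicit false
open Cfsg Cfsg.Agent Cfsg.Agent.Fusion Cfsg.FusionSystem

namespace Cfsg.Agent.S5287

universe u

/-- A cyclic `p`-group: automorphisms of order prime to `p` are abelian of exponent dividing `p - 1`. -/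
theorem aut_cyclic {p : ℕ} [Fact p.Prime] {G : Type u} [Group G] [Finite G] (hG : IsPGroup p G) [hc : IsCyclic G]
    (H : Subgroup (MulAut G)) (hH : (Nat.card H).Coprime p) :
    IsMulCommutative H ∧ ∀ a ∈ H, a ^ (p - 1) = 1 := by
  obtain ⟨g, hg⟩ := IsCyclic.exists_generator (α := G)
  refine cyclicSeries_coprime hG H hH (fun j => if j = 0 then ⊥ else ⊤) 1 rfl rfl (fun j hj => ?_)
    (fun α _ j _ x hx => ?_) (fun j => ?_) (fun j hj => ⟨g, by simp, fun x _ => Subgroup.mem_sup_right (hg x)⟩)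
  · interval_cases j; simp
  · by_cases h : j = 0
    · simp only [h, ↓reduceIte, Subgroup.mem_bot] at hx ⊢; rw [hx, map_one]
    · simp [h]
  · split_ifs <;> infer_instance

/-- An invariant maximal subgroup of a metacyclic group gives the same conclusion. -/
theorem aut_line {p : ℕ} [Fact p.Prime] {G : Type u} [Group G] [Finite G] (hG : IsPGroup p G) (hm : IsMetacyclic G)
    {L : Subgroup G} (hL : L.index = p) (hinv : ∀ α : MulAut G, ∀ x ∈ L, α x ∈ L)
    (H : Subgroup (MulAut G)) (hH : (Nat.card H).Coprime p) :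
    IsMulCommutative H ∧ ∀ a ∈ H, a ^ (p - 1) = 1 := by
  haveI := finite_mulAut (G := G)
  haveI hLn : L.Normal := ⟨fun x hx g => hinv (MulAut.conj g) x hx⟩
  haveI : Fact L.index.Prime := ⟨hL.symm ▸ Fact.out⟩
  set Φ := frattini G
  have hΦL : Φ ≤ L := frattini_le_coatom ⟨fun h => by
      rw [h, Subgroup.index_top] at hL; exact (Fact.out : p.Prime).ne_one hL.symm,
    fun K hK => by
      have h1 := Subgroup.index_dvd_of_le hK.le
      rw [hL] at h1
      rcases (Nat.dvd_prime Fact.out).mp h1 with h | h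
      · exact Subgroup.index_eq_one.mp h
      · exfalso
        refine hK.ne (Subgroup.eq_of_le_of_card_ge hK.le ?_)
        have e1 := K.card_mul_index
        rw [h, ← L.card_mul_index, hL] at e1
        exact (Nat.eq_of_mul_eq_mul_right (Fact.out : p.Prime).pos e1).le⟩
  let ρ : H →* MulAut (G ⧸ Φ) :=
    { toFun := fun a => QuotientGroup.congr Φ Φ (a : MulAut G)
        (Subgroup.characteristic_iff_map_eq.mp (inferInstance : (frattini G).Characteristic) _)
      map_one' := MulEquiv.ext fun q => by induction q using QuotientGroup.induction_on with | _ y => rfl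
      map_mul' := fun a b => MulEquiv.ext fun q => by
        induction q using QuotientGroup.induction_on with | _ y => rfl }
  have hρ : Function.Injective ρ := by
    rw [injective_iff_map_eq_one]
    intro a ha
    refine Subtype.ext (FGS3.ComplementAut.eq_one_of_frattini hG (a : MulAut G) ?_ fun x => ?_)
    · rw [Subgroup.orderOf_coe]; exact hH.coprime_dvd_left (orderOf_dvd_natCard a)
    · exact QuotientGroup.eq.mp (DFunLike.congr_fun ha (QuotientGroup.mk x)).symm
  let π := QuotientGroup.mk' Φ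
  set Lb := L.map π
  have hV : Nat.card (G ⧸ Φ) ≤ p ^ 2 := by
    have h2 := OddLocal.RankTwo.card_le_of_metacyclic (p := p)
      (OddLocal.RankTwo.metacyclic_quotient hm Φ) ⊤ fun v _ => FGS3.quotient_frattini_pow hG v
    rwa [Subgroup.card_top] at h2
  have hLi : Lb.index = p := by
    rw [Subgroup.index_map_eq _ (QuotientGroup.mk'_surjective Φ) (by rwa [QuotientGroup.ker_mk']), hL]
  have hLc : Nat.card Lb ≤ p := by
    have h1 := Lb.card_mul_index
    rw [hLi] at h1
    rw [← h1, pow_two] at hV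
    exact Nat.le_of_mul_le_mul_right hV (Fact.out : p.Prime).pos
  haveI : IsCyclic Lb := by
    obtain ⟨k, hk⟩ := IsPGroup.iff_card.mp ((hG.to_quotient Φ).to_subgroup Lb)
    rw [hk] at hLc
    rcases k with _ | _ | k
    · haveI : Subsingleton Lb := (Nat.card_eq_one_iff_unique.mp (by rw [hk, pow_zero])).1
      infer_instance
    · exact isCyclic_of_prime_card (p := p) (by rw [hk, pow_one])
    · exfalso
      have : p ^ 1 < p ^ (k + 2) := Nat.pow_lt_pow_right (Fact.out : p.Prime).one_lt (by omega)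
      rw [pow_one] at this
      exact absurd (this.trans_le hLc) (lt_irrefl p)
  obtain ⟨g, hg⟩ := IsCyclic.exists_generator (α := Lb)
  obtain ⟨x, -, hx⟩ := SetLike.exists_of_lt (lt_top_iff_ne_top.mpr (fun h => by
    rw [h, Subgroup.index_top] at hLi; exact (Fact.out : p.Prime).ne_one hLi.symm) : Lb < ⊤)
  haveI : Lb.Normal := hLn.map π (QuotientGroup.mk'_surjective Φ)
  have hc : (Nat.card (ρ.range)).Coprime p := hH.coprime_dvd_left (Subgroup.card_range_dvd ρ)
  obtain ⟨hab, hex⟩ := cyclicSeries_coprime (hG.to_quotient Φ) ρ.range hc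
    (fun j => if j = 0 then ⊥ else if j = 1 then Lb else ⊤) 2 rfl rfl
    (fun j hj => by interval_cases j <;> simp)
    (fun α hα j _ v hv => by
      obtain ⟨a, rfl⟩ := hα
      by_cases h0 : j = 0
      · simp only [h0, ↓reduceIte, Subgroup.mem_bot] at hv ⊢; rw [hv, map_one]
      by_cases h1 : j = 1
      · simp only [h0, h1, ↓reduceIte, one_ne_zero] at hv ⊢
        obtain ⟨w, hw, rfl⟩ := hv
        exact ⟨(a : MulAut G) w, hinv _ w hw, rfl⟩
      · simp [h0, h1])
    (fun j => by split_ifs <;> infer_instance)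
    (fun j hj => by
      interval_cases j
      · refine ⟨g, by simp, fun v hv => Subgroup.mem_sup_right ?_⟩
        simp only [zero_add, one_ne_zero, ↓reduceIte] at hv
        obtain ⟨i, hi⟩ := Subgroup.mem_zpowers_iff.mp (hg ⟨v, hv⟩)
        exact Subgroup.mem_zpowers_iff.mpr ⟨i, by rw [← Subgroup.coe_zpow, hi]⟩
      · refine ⟨x, by simp, ?_⟩
        simp only [Nat.reduceAdd, OfNat.ofNat_ne_zero, ↓reduceIte, OfNat.ofNat_ne_one, one_ne_zero]
        refine le_of_eq (Subgroup.index_eq_one.mp ?_).symm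
        have hd : (Lb ⊔ Subgroup.zpowers x).index ∣ p := hLi ▸ Subgroup.index_dvd_of_le le_sup_left
        rcases (Nat.dvd_prime Fact.out).mp hd with h | h
        · exact h
        · exfalso
          refine hx (?_ : x ∈ Lb)
          rw [Subgroup.eq_of_le_of_card_ge (le_sup_left : Lb ≤ Lb ⊔ Subgroup.zpowers x) (by
            have e1 := (Lb ⊔ Subgroup.zpowers x).card_mul_index
            rw [h, ← Lb.card_mul_index, hLi] at e1
            exact (Nat.eq_of_mul_eq_mul_right (Fact.out : p.Prime).pos e1).le)]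
          exact Subgroup.mem_sup_right (Subgroup.mem_zpowers x))
  haveI := hab
  refine ⟨⟨⟨fun a b => hρ ?_⟩⟩, fun a ha => ?_⟩
  · rw [map_mul, map_mul]
    exact setLike_mul_comm (s := ρ.range) (MonoidHom.mem_range.mpr ⟨a, rfl⟩) (MonoidHom.mem_range.mpr ⟨b, rfl⟩)
  · exact congrArg Subtype.val (show (⟨a, ha⟩ : H) ^ (p - 1) = 1 from
      hρ (by rw [map_pow, map_one]; exact hex _ ⟨⟨a, ha⟩, rfl⟩))

/-- Let S be a finite metacyclic p-group (an extension of a cyclic group by a cyclic group). Every saturated fusion system over S is supersoluble (S has a chain of F-strongly closed subgroups from 1 to S with cyclic steps) if and only if S is not homocyclic of rank two (isomorphic to Z/p^n × Z/p^n with n ≥ 1) and, when p = 2, S is not dihedral of order at least 4, not quasi-dihedral (semidihedral) and not generalized quaternion of order at least 8. -/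
theorem result {Ω : Type*} [Group Ω] {S : Subgroup Ω} [Finite S] (p : ℕ) [Fact p.Prime] (hS : IsPGroup p ↥S) (hm : Cfsg.IsMetacyclic ↥S) : (∀ F : Cfsg.FusionSystem S, F.IsSaturated p → (∃ (m : ℕ) (c : Fin (m + 1) → Subgroup Ω), c 0 = ⊥ ∧ c (Fin.last m) = S ∧ (∀ i : Fin (m + 1), F.StronglyClosed (c i)) ∧ ∀ i : Fin m, c i.castSucc ≤ c i.succ ∧ ∃ x ∈ S, c i.succ = c i.castSucc ⊔ Subgroup.zpowers x)) ↔ ¬ ((∃ n : ℕ, 0 < n ∧ Nonempty (↥S ≃* Multiplicative (ZMod (p ^ n)) × Multiplicative (ZMod (p ^ n)))) ∨ (p = 2 ∧ ((∃ n : ℕ, 2 ≤ n ∧ Nonempty (↥S ≃* DihedralGroup n)) ∨ Cfsg.IsQuasiDihedral ↥S ∨ (∃ n : ℕ, 2 ≤ n ∧ Nonempty (↥S ≃* QuaternionGroup n))))) := by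
  classical
  have hcyc : ∀ n : ℕ, 2 ≤ n → (Nonempty (S ≃* DihedralGroup n) ∨ Nonempty (S ≃* QuaternionGroup n)) → p = 2 →
      ∃ k, 1 ≤ k ∧ n = 2 ^ k := by
    intro n hn h hp
    subst hp
    obtain ⟨c, hc⟩ := IsPGroup.iff_card.mp hS
    obtain ⟨r, hr⟩ : n ∣ 2 ^ c := by
      haveI : NeZero n := ⟨by omega⟩
      rcases h with ⟨⟨e⟩⟩ | ⟨⟨e⟩⟩
      · rw [← hc, Nat.card_congr e.toEquiv, DihedralGroup.nat_card]; exact dvd_mul_left n 2
      · rw [← hc, Nat.card_congr e.toEquiv, Nat.card_eq_fintype_card, QuaternionGroup.card]; exact dvd_mul_left n 4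
    obtain ⟨k, -, rfl⟩ := (Nat.dvd_prime_pow Nat.prime_two).mp ⟨r, hr⟩
    rcases k with _ | k
    · simp at hn
    · exact ⟨k + 1, by omega, rfl⟩
  constructor
  · rintro h (⟨n, hn, ⟨e⟩⟩ | ⟨rfl, hD | hQD | hQ⟩)
    · refine S5284.not_repeated (p := p) (C := Multiplicative (ZMod (p ^ n))) (H := PUnit.{1}) (e.trans MulEquiv.prodUnique.symm)
        (a := Multiplicative.ofAdd 1) ?_ ?_ ((S5283.result p hS).mp h).2
      · intro he
        have h1 : (1 : ZMod (p ^ n)) = 0 := Multiplicative.ofAdd.injective he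
        rw [← Nat.cast_one, ZMod.natCast_eq_zero_iff, Nat.dvd_one] at h1
        exact (Nat.one_lt_pow hn.ne' (Fact.out : p.Prime).one_lt).ne' h1
      · intro hp he
        have h1 : (-1 : ZMod (p ^ n)) = 1 := Multiplicative.ofAdd.injective he
        have h2 : ((2 : ℕ) : ZMod (p ^ n)) = 0 := by push_cast; linear_combination -h1
        rw [ZMod.natCast_eq_zero_iff] at h2
        exact hp ((Nat.prime_dvd_prime_iff_eq Fact.out Nat.prime_two).mp ((dvd_pow_self p hn.ne').trans h2))
    · obtain ⟨n, hn, ⟨e⟩⟩ := hD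
      obtain ⟨k, hk, rfl⟩ := hcyc n hn (Or.inl ⟨e⟩) rfl
      obtain ⟨F, hF, hbad⟩ := dihedral_not_chain hk e
      exact hbad (h F hF)
    · obtain ⟨F, hF, hbad⟩ := quasiDihedral_not_chain hQD
      exact hbad (h F hF)
    · obtain ⟨n, hn, ⟨e⟩⟩ := hQ
      obtain ⟨k, hk, rfl⟩ := hcyc n hn (Or.inr ⟨e⟩) rfl
      obtain ⟨F, hF, hbad⟩ := quaternion_not_chain hk e
      exact hbad (h F hF)
  intro hex
  rw [not_or] at hex
  obtain ⟨hh, h2⟩ := hex
  refine (S5283.result p hS).mpr ⟨fun F hF => ?_, fun H hH => ?_⟩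
  · by_cases hc : IsCyclic S
    · exact abelian_isNormal_self hS hF fun x hx y hy =>
        congrArg Subtype.val ((IsCyclic.commGroup (α := S)).mul_comm ⟨x, hx⟩ ⟨y, hy⟩)
    have hcl : F.StronglyClosed S := stronglyClosed_of_mor le_rfl fun _ _ hf _ hx _ => hf.map_mem hx
    by_cases hp : p = 2
    · subst hp
      refine MetacyclicTwo.isNormal_metacyclic hS hF hcl hm ?_ ?_ fun h => h2 ⟨rfl, Or.inr (Or.inl h)⟩
      · rintro ⟨n, ⟨e⟩⟩
        rcases n with _ | _ | n
        · have := Nat.card_congr e.toEquiv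
          rw [DihedralGroup.nat_card] at this
          simp [Nat.card_pos.ne'] at this
        · exact hc (isCyclic_of_prime_card (p := 2) (by rw [Nat.card_congr e.toEquiv, DihedralGroup.nat_card]))
        · exact h2 ⟨rfl, Or.inl ⟨n + 2, by omega, ⟨e⟩⟩⟩
      · rintro ⟨n, ⟨e⟩⟩
        rcases n with _ | _ | n
        · have := Nat.card_congr (e.trans QuaternionGroup.quaternionGroupZeroEquivDihedralGroupZero).toEquiv
          rw [DihedralGroup.nat_card] at this
          simp [Nat.card_pos.ne'] at this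
        · exact hc ((MulEquiv.isCyclic e).2 QuaternionGroup.quaternionGroup_one_isCyclic)
        · exact h2 ⟨rfl, Or.inr (Or.inr ⟨n + 2, by omega, ⟨e⟩⟩)⟩
    · exact S5234.result p hS F hF S hcl hp hm
  · by_cases hc : IsCyclic S
    · exact aut_cyclic hS H hH
    by_cases hp : p = 2
    · subst hp
      haveI := finite_mulAut (G := S)
      have hA : IsPGroup 2 (MulAut S) := by
        by_contra hA
        rcases TwoGroups.MetacyclicAut.classify hS hm hA with h | ⟨n, ⟨e⟩⟩
        · exact h2 ⟨rfl, Or.inr (Or.inr ⟨2, le_rfl, h⟩)⟩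
        · rcases n with _ | n
          · haveI : Subsingleton (Multiplicative (ZMod (2 ^ 0))) :=
              (Nat.card_eq_one_iff_unique.mp (by simp)).1
            haveI : Subsingleton S := e.toEquiv.subsingleton
            exact hc inferInstance
          · exact hh ⟨n + 1, n.succ_pos, ⟨e⟩⟩
      obtain ⟨k, hk⟩ := IsPGroup.iff_card.mp (hA.to_subgroup H)
      haveI : Subsingleton H := (Nat.card_eq_one_iff_unique.mp
        (Nat.eq_one_of_dvd_coprimes (hH.pow_right k) dvd_rfl hk.dvd)).1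
      exact ⟨⟨⟨fun a b => Subsingleton.elim _ _⟩⟩, fun a ha => by
        rw [show a = 1 from congrArg Subtype.val (Subsingleton.elim (⟨a, ha⟩ : H) 1), one_pow]⟩
    · obtain ⟨L, hL, hinv⟩ := MetacyclicLine.exists_line hS hp hm hc hh
      exact aut_line hS hm hL hinv H hH


end Cfsg.Agent.S5287
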