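import Cfsg.Statements.S5295
import Cfsg.Agent.S1983
import Cfsg.Agent.FusionZJ.WeakClosureOdd
import Cfsg.Agent.FusionZJ.FunctorControl
import Cfsg.Agent.FusionZJ.KInfControl
import Cfsg.Agent.Fusion.CenterTrace
import Cfsg.Agent.Fusion.LocalModel

set_option autoImplicit false
universe u
open Cfsg Cfsg.FusionSystem Cfsg.Agent Cfsg.Agent.Fusion Cfsg.Agent.FusionZJ

namespace Cfsg.Agent.S5295

/-- Let F be a saturated fusion system over a finite p-group S with p odd. Then the centre Z(F) of F is a direct factor of Z(S): there is a subgroup K of Z(S) with Z(F) ∩ K = 1 and Z(F)K = Z(S). (At the prime 2 this can fail.) -/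
theorem result {Ω : Type u} [Group Ω] {S : Subgroup Ω} [Finite S] (p : ℕ) [Fact p.Prime] (hp : p ≠ 2) (hS : IsPGroup p S)
    (F : Cfsg.FusionSystem S) (hF : F.IsSaturated p) :
    ∃ K : Subgroup Ω, K ≤ (S ⊓ Subgroup.centralizer (S : Set Ω)) ∧ F.center ⊓ K = ⊥ ∧ F.center ⊔ K = (S ⊓ Subgroup.centralizer (S : Set Ω)) := by
  have hW2 : ∀ (Q R : Type u) [Group Q] [Group R] [Finite Q], IsPGroup p Q → ∀ φ : Q ≃* R,
      (kLo Q).map φ.toMonoidHom = kLo R := fun _ _ _ _ _ _ φ => kInfLower_equiv φ
  have hWZ : ∀ (Q : Type u) [Group Q] [Finite Q], IsPGroup p Q → Subgroup.center Q ≤ kLo Q :=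
    fun Q _ _ hQ => (S1978.result hQ).2.1.trans (S1978.result hQ).1
  have hq : ∀ (L : Type u) [Group L] [Finite L] (P : Sylow p L),
      ¬ (((kLo ↥(P : Subgroup L)).map (P : Subgroup L).subtype : Subgroup L)).Normal →
      ∃ g : L, g ∈ (P : Subgroup L) ∧ g ∉ pCore p L ∧
        ⁅⁅(Subgroup.center ↥(pCore p L)).map (pCore p L).subtype, Subgroup.zpowers g⁆,
          Subgroup.zpowers g⁆ = ⊥ := by
    intro L _ _ P h
    obtain ⟨g, hgP, hgO, -, hz, -⟩ := S1983.result P (Or.inl h)
    refine ⟨g, hgP, hgO, le_bot_iff.mp (le_trans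
      (Subgroup.commutator_mono (Subgroup.commutator_mono ?_ le_rfl) le_rfl) hz.le)⟩
    rintro _ ⟨b, hb, rfl⟩
    exact ⟨b.2, fun o ho => congrArg Subtype.val (Subgroup.mem_center_iff.mp hb ⟨o, ho⟩)⟩
  have hWS : wOf kLo S ≤ S := wOf_le kLo S
  obtain ⟨N, hN⟩ := exists_normalizerSystem F (wOf kLo S) hWS
  have hSn : S ≤ normalizerIn S (wOf kLo S) := le_inf le_rfl
    (normalizerIn_self.ge.trans (normalizerIn_le_wOf hS hW2 le_rfl))
  have heq : normalizerIn S (wOf kLo S) = S := le_antisymm normalizerIn_le hSn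
  haveI : Finite ↥(normalizerIn S (wOf kLo S)) := finite_of_le normalizerIn_le
  have hNp : IsPGroup p ↥(normalizerIn S (wOf kLo S)) := hS.to_le normalizerIn_le
  have hWfn : F.IsFullyNormalized (wOf kLo S) :=
    ⟨hWS, fun Q _ => by rw [heq]; exact card_le_of_le normalizerIn_le⟩
  have hNs : N.IsSaturated p := normalizerSystem_saturated hS hF hWfn hN
  have hZW : S ⊓ Subgroup.centralizer (S : Set Ω) ≤ wOf kLo S := fun z hz =>
    mem_wOf_of_center hS hWZ hz.2 le_rfl hz.1
  have hNF : N.center = F.center := by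
    refine le_antisymm ?_ (center_le_center_normalizerSystem hS hF hWS
      ((Fusion.center_le_centralizer hS hF).trans hZW) hN)
    refine mem_center_of_fixed_powers hS hF ((center_isCentral (F := N)).1.trans normalizerIn_le)
      fun x hx P f hf hxP => ?_
    have hxA := Fusion.center_le_centralizer hNp hNs hx
    have h := fixed_of_group_condition hS hF hW2 hWZ 1
      (fun L _ _ T hc _ z hz hzc _ hfix g => by
        rw [pow_one] at hfix ⊢
        exact center_fixed_of_quadratic hp kLo hW2 hq L T hc z hz hzc hfix g)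
      (normalizerIn_le hxA.1) (fun s hs => hxA.2 s (hSn hs)) (N := N) hN (by rwa [pow_one]) P f hf
      (by rwa [pow_one])
    rwa [pow_one] at h
  have hcore : normalizerIn S (wOf kLo S) ⊓ Subgroup.centralizer (normalizerIn S (wOf kLo S) : Set Ω) ≤
      N.core := by
    refine le_trans ?_ (hZW.trans (le_sSup (Fusion.normalizerSystem_isNormal hWS hN)))
    exact le_of_eq (by rw [heq])
  have h := center_factor hNp hNs hcore
  simp only [heq, hNF] at h
  exact h

end Cfsg.Agent.S5295
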