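import Cfsg.Statements.S5299
import Cfsg.Agent.Fusion.LocalModel

set_option autoImplicit false
universe u
open Cfsg Cfsg.Agent.Fusion Cfsg.FusionSystem

namespace Cfsg.Agent.S5299

/-- Let F be a saturated fusion system over a finite p-group S, H a finite group and Q a p-subgroup of H. If Q is not involved in S (no section of S is isomorphic to Q), then F is H-free: H is involved in no model of the normalizer system of a fully normalized centric subgroup. -/
theorem result {Ω : Type u} [Group Ω] {S : Subgroup Ω} [Finite S] (p : ℕ) [Fact p.Prime] (hS : IsPGroup p S)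
    (F : Cfsg.FusionSystem S) (hF : F.IsSaturated p) (H : Type*) [Group H] [Finite H] (Q : Subgroup H) (hQ : IsPGroup p Q)
    (hfree : ¬ Cfsg.Involves (↥Q) (↥S)) : F.IsSectionFree p H := by
  intro R hRn hRc N hN L _ ι hM hinv
  obtain ⟨hfin, hR, ⟨T, hT⟩, -⟩ := hM
  haveI := hfin
  obtain ⟨K, R₀, hRK, ⟨e⟩⟩ := hinv
  haveI := hRK
  let π : K →* H := e.toMonoidHom.comp (QuotientGroup.mk' (R₀.subgroupOf K))
  have hπ : Function.Surjective π := e.surjective.comp (QuotientGroup.mk'_surjective _)
  let K' : Subgroup K := Q.comap π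
  let π' : K' →* Q := MonoidHom.mk' (fun x => ⟨π x, x.2⟩) fun a b => Subtype.ext (map_mul π _ _)
  have hπ' : Function.Surjective π' := fun q => by
    obtain ⟨k, hk⟩ := hπ q
    exact ⟨⟨k, show π k ∈ Q by rw [hk]; exact q.2⟩, Subtype.ext hk⟩
  let P₀ : Sylow p K' := default
  have hP₀ : (P₀ : Subgroup K').map π' = ⊤ := by
    refine Subgroup.index_eq_one.mp ?_
    obtain ⟨a, ha⟩ := IsPGroup.iff_card.mp hQ
    obtain ⟨b, hb, hab⟩ := (Nat.dvd_prime_pow (Fact.out : p.Prime)).mp (ha ▸ ((P₀ : Subgroup K').map π').index_dvd_card)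
    rcases Nat.eq_zero_or_pos b with rfl | hb0
    · simpa using hab
    · exact absurd ((dvd_pow_self p hb0.ne').trans (hab ▸ (P₀ : Subgroup K').index_map_dvd hπ')) P₀.not_dvd_index
  obtain ⟨T', hT'⟩ := ((P₀.isPGroup'.map K'.subtype).map K.subtype).exists_le_sylow
  obtain ⟨g, hg⟩ := MulAction.exists_smul_eq L T' T
  have hmem : ∀ x ∈ (T' : Subgroup L), g * x * g⁻¹ ∈ ι.range := fun x hx => by
    have h1 : g * x * g⁻¹ ∈ ((g • T' : Sylow p L) : Subgroup L) := ⟨x, hx, rfl⟩
    rw [hg, hT] at h1
    exact h1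
  have hP₀T : ∀ x : (P₀ : Subgroup K'), (((x : K') : K) : L) ∈ (T' : Subgroup L) := fun x =>
    hT' ⟨((x : K') : K), ⟨(x : K'), x.2, rfl⟩, rfl⟩
  let w : (P₀ : Subgroup K') →* ι.range :=
    MonoidHom.mk' (fun x => ⟨g * (((x : K') : K) : L) * g⁻¹, hmem _ (hP₀T x)⟩) fun a b => Subtype.ext (by
      simp only [Subgroup.coe_mul]; group)
  have hw : Function.Injective w := fun a b h => by
    have h1 := mul_left_cancel (mul_right_cancel (congrArg Subtype.val h))
    exact Subtype.ext (Subtype.ext (Subtype.ext h1))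
  let j : (P₀ : Subgroup K') →* S :=
    ((Subgroup.inclusion normalizerIn_le).comp (MonoidHom.ofInjective hR.1).symm.toMonoidHom).comp w
  have hj : Function.Injective j :=
    ((Subgroup.inclusion_injective normalizerIn_le).comp (MonoidHom.ofInjective hR.1).symm.injective).comp hw
  let ψ : j.range →* Q :=
    (π'.comp (P₀ : Subgroup K').subtype).comp (MonoidHom.ofInjective hj).symm.toMonoidHom
  have hψ : Function.Surjective ψ := fun q => by
    obtain ⟨x, hx, e⟩ := hP₀.ge (Subgroup.mem_top q)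
    refine ⟨MonoidHom.ofInjective hj ⟨x, hx⟩, ?_⟩
    show π' ((MonoidHom.ofInjective hj).symm _ : (P₀ : Subgroup K')) = q
    rw [MulEquiv.symm_apply_apply]
    exact e
  have hs : (ψ.ker.map j.range.subtype).subgroupOf j.range = ψ.ker :=
    Subgroup.comap_map_eq_self_of_injective j.range.subtype_injective _
  refine hfree ⟨j.range, ψ.ker.map j.range.subtype, hs.symm ▸ inferInstance, ⟨?_⟩⟩
  haveI : ((ψ.ker.map j.range.subtype).subgroupOf j.range).Normal := hs.symm ▸ inferInstance
  exact (QuotientGroup.quotientMulEquivOfEq hs).trans (QuotientGroup.quotientKerEquivOfSurjective ψ hψ)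

end Cfsg.Agent.S5299
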