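import Cfsg.Statements.S5316
import Cfsg.Agent.Fusion.RankThree.Main
import Cfsg.Agent.Fusion.EssentialSmall

set_option autoImplicit false
open Cfsg

namespace Cfsg.Agent.S5316

/-- Let p ≥ 5 be a prime, S a finite p-group of maximal class of order p^n with n ≥ 5 (nilpotency class n − 1), F a saturated fusion system over S, and E an F-essential subgroup that is not a pearl (not elementary abelian of order p² and not extraspecial of order p³ and exponent p). Then E has order at least p⁴. -/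
theorem result {Ω : Type*} [Group Ω] {S : Subgroup Ω} [Finite S] (p : ℕ) [Fact p.Prime] (hp : 5 ≤ p) (hS : IsPGroup p ↥S) (n : ℕ) (hn : Nat.card S = p ^ n) (h5 : 5 ≤ n)
    (hmax : Subgroup.lowerCentralSeries S (n - 2) ≠ ⊥) (F : Cfsg.FusionSystem S) (hF : F.IsSaturated p)
    (E : Subgroup Ω) (hE : F.IsEssential p E)
    (hnp : ¬ ((Nat.card ↥E = p ^ 2 ∧ Cfsg.IsElementaryAbelian p E) ∨ (Nat.card ↥E = p ^ 3 ∧ Cfsg.IsExtraspecial p ↥E ∧ Monoid.exponent ↥E = p))) :
    p ^ 4 ≤ Nat.card ↥E := by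
  haveI : Finite E := Cfsg.Agent.Fusion.finite_of_le hE.1.1
  have hEp : IsPGroup p E := hS.to_le hE.1.1
  obtain ⟨k, hk⟩ := IsPGroup.iff_card.mp hEp
  by_contra hlt
  rw [hk, Nat.pow_le_pow_iff_right (Fact.out : p.Prime).one_lt] at hlt
  have hm : Cfsg.Agent.Fusion.MaxCl.MC p n S := ⟨hn, by omega, hmax⟩
  rcases Nat.lt_or_ge k 2 with hk1 | hk2
  · -- order at most `p` is not centric
    have hab : ∀ a ∈ E, ∀ b ∈ E, a * b = b * a := fun a ha b hb => by
      haveI : IsCyclic E := by
        rcases (show k = 0 ∨ k = 1 by omega) with rfl | rfl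
        · haveI : Subsingleton E := (Nat.card_eq_one_iff_unique.mp (by rw [hk, pow_zero])).1
          exact isCyclic_of_subsingleton
        · exact isCyclic_of_prime_card (hk.trans (pow_one p))
      exact congrArg Subtype.val ((IsCyclic.commGroup (α := E)).mul_comm ⟨a, ha⟩ ⟨b, hb⟩)
    have hzE : Cfsg.Agent.Fusion.CenterSq.zS S ≤ E := fun v hv =>
      hE.1.2 E (Cfsg.Agent.Fusion.isConj_refl hE.1.1) ⟨hv.1, fun e he => hv.2 e (hE.1.1 he)⟩
    have heq : Cfsg.Agent.Fusion.CenterSq.zS S = E := Cfsg.Agent.Fusion.eq_of_le_of_card hzE (by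
      rw [hk, hm.card_zS]
      exact (Nat.pow_le_pow_right (Fact.out : p.Prime).pos (show k ≤ 1 by omega)).trans (pow_one p).le)
    have hSE : S ≤ E := fun s hs =>
      hE.1.2 E (Cfsg.Agent.Fusion.isConj_refl hE.1.1) ⟨hs, fun e he => ((heq.ge he).2 s hs).symm⟩
    have := Cfsg.Agent.Fusion.card_le_of_le hSE
    rw [hn, hk, Nat.pow_le_pow_iff_right (Fact.out : p.Prime).one_lt] at this
    omega
  · rcases (show k = 2 ∨ k = 3 by omega) with rfl | rfl
    · exact hnp (Or.inl ⟨hk, (Cfsg.Agent.Fusion.EssShape.essential_sq hS hF hE hk).1⟩)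
    · rcases Cfsg.Agent.Fusion.EssShape.essential_cube hS hF hE hk with h | ⟨-, hex, hexp⟩ | ⟨h2, -⟩
      · obtain ⟨hab, hexp⟩ := h
        exact Cfsg.Agent.Fusion.RankThree.no_elementary_cube hS hF hm h5 hp hE
          (fun a ha b hb => congrArg Subtype.val (hab.is_comm.comm ⟨a, ha⟩ ⟨b, hb⟩)) hexp hk
      · refine hnp (Or.inr ⟨hk, hex, ?_⟩)
        haveI : Nontrivial E := Finite.one_lt_card_iff_nontrivial.mp
          (by rw [hk]; exact Nat.one_lt_pow (by omega) (by omega))
        exact (Monoid.exponent_eq_prime_iff Fact.out).mpr fun g hg =>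
          orderOf_eq_prime (Subtype.ext (hexp g g.2)) hg
      · omega

end Cfsg.Agent.S5316
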