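import Cfsg.Statements.S5332
import Cfsg.Agent.FusionZJ.NilpotencyApps

set_option autoImplicit false
set_option linter.style.haveILetI false

open Cfsg Cfsg.FusionSystem Cfsg.Agent Cfsg.Agent.Fusion Cfsg.Agent.FusionZJ

namespace Cfsg.Agent.S5332

/-- Let p be odd and F a saturated fusion system over a finite p-group S that is not the inner system of S. Then F contains a saturated constrained subsystem over S that is itself not the inner system. -/
theorem result {Ω : Type*} [Group Ω] {S : Subgroup Ω} [Finite S] (p : ℕ) [Fact p.Prime] (hS : IsPGroup p S) (F : Cfsg.FusionSystem S) (hF : F.IsSaturated p) (hp : p ≠ 2) (hne : ∃ P : Subgroup Ω, F.Hom P ≠ (Cfsg.innerFusionSystem S).Hom P) : ∃ E : Cfsg.FusionSystem S, E ≤ F ∧ E.IsConstrained p ∧ ∃ P : Subgroup Ω, E.Hom P ≠ (Cfsg.innerFusionSystem S).Hom P := by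
  obtain ⟨P, hP⟩ := hne
  obtain ⟨U, hNS, hUn, hUc, N, L, _, ι, hN, hM, -, hLp⟩ :=
    exists_witness_model hS hF (Or.inl hp) fun h => hP (h ▸ rfl)
  suffices key : ∀ (T : Subgroup Ω), T = S → ∀ E : FusionSystem T,
      (∀ Q, E.Hom Q ⊆ F.Hom Q) → E.IsConstrained p →
      (¬ ∀ Q, E.Hom Q = (innerFusionSystem T).Hom Q) →
      ∃ E : FusionSystem S, E ≤ F ∧ E.IsConstrained p ∧
        ∃ Q : Subgroup Ω, E.Hom Q ≠ (innerFusionSystem S).Hom Q by
    refine key _ hNS N (fun Q φ hφ => ?_)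
      (FusionZJ.normalizerSystem_constrained hS hF hUn hUc hN).2.2 fun hin => hLp ?_
    · rw [hN Q] at hφ
      exact hφ.1
    haveI : Finite L := hM.1
    by_contra hL
    obtain ⟨g, -, hg1, hgp⟩ := exists_coprime_ne_one (C := (⊤ : Subgroup L))
      fun h => hL (h.of_equiv Subgroup.topEquiv)
    have hUi := model_image_normal hS hF hUn hUc hN hM
    obtain ⟨f, hf, hfU, -, hkey⟩ := model_stab hS hF hUn hUc hN hM (le_normalizerIn hUc.1)
      (g := g) (by rw [Subgroup.normalizer_eq_top_iff.mpr hUi]; trivial)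
    haveI : Finite ↥(normalizerIn S U) := finite_of_le normalizerIn_le
    have hfN : Iso N f (U ⊔ U) (U ⊔ U) :=
      ⟨mor_normalizerSystem hN (hf.mor.restrict (sup_le le_rfl le_sup_right)) (fun _ _ => rfl) hfU
        (hf.dom_le.trans hNS.ge) (fun x hx => hNS.ge (hf.cod_le (hf.mapsTo hx))), hf.bij⟩
    obtain ⟨k, hk⟩ := period_of_inner (hS.to_le normalizerIn_le) hin hfN
    exact hg1 (hkey hgp ⟨k, fun x hx => hk x (Subgroup.mem_sup_left hx)⟩)
  rintro T rfl E hle hc hn
  push Not at hn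
  exact ⟨E, hle, hc, hn⟩

end Cfsg.Agent.S5332
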