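import Cfsg.Statements.S5522
import Cfsg.Agent.Golay.Mathieu
import Cfsg.Agent.M24Orbits.Elements

set_option autoImplicit false
open Cfsg

namespace Cfsg.Agent.S5522

open scoped Pointwise

/-- The Mathieu group M₁₁, realised as the stabiliser of one point of the dodecad of squares inside the stabiliser M₁₂ of that dodecad in M₂₄, acts on the twelve coordinate positions outside the dodecad of squares (its 3-transitive action of degree 12); in this action every element of prime order fixes a point, i.e. the action is elusive. -/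
theorem result (g : Equiv.Perm Cfsg.GolayPt) (hg : g ∈ Cfsg.Spor.M11) (hord : (orderOf g).Prime) :
    ∃ x : Cfsg.GolayPt, x ∉ Cfsg.Spor.squareDodecad ∧ g x = x := by
  classical
  open Cfsg.Agent.Golay Cfsg.Agent.M24Orbits in
  have hd := squareDodecad_mem
  open Cfsg.Agent.Golay Cfsg.Agent.M24Orbits in
  have h0 : (some 0 : Cfsg.GolayPt) ∈ Cfsg.Spor.squareDodecad := zero_mem_squareDodecad
  obtain ⟨⟨hM, hstab⟩, hp0⟩ := hg
  set d := Cfsg.Spor.squareDodecad with hdd
  have hgd : g • d = d := hstab
  have hdc : ∀ x, x ∉ d ↔ g x ∉ d := fun x => by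
    refine not_congr ?_
    conv_rhs => rw [← hgd]
    exact (Finset.smul_mem_smul_finset_iff g).symm
  by_contra hno
  push Not at hno
  haveI := Fact.mk hord
  by_cases h12 : orderOf g ∣ 12
  · have h23 : orderOf g = 2 ∨ orderOf g = 3 := by
      have h1 := Nat.le_of_dvd (by norm_num) h12
      have h2 := hord.two_le
      revert h12 hord h1 h2
      generalize orderOf g = n
      intro hn hd12 h1 h2
      interval_cases n <;> first | omega | exact absurd hn (by norm_num)
    have hfix : (some 0 : Cfsg.GolayPt) ∈ Finset.univ.filter fun p => g p = p :=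
      Finset.mem_filter.2 ⟨Finset.mem_univ _, hp0⟩
    have h5 : 5 ≤ (Finset.univ.filter fun p => g p = p).card := by
      have hpos := Finset.card_pos.2 ⟨_, hfix⟩
      rcases h23 with h | h
      · rcases Cfsg.Agent.M24Orbits.two_classes hM h with ⟨e, -⟩ | ⟨e, -⟩ <;> omega
      · rcases Cfsg.Agent.M24Orbits.three_classes hM h with ⟨e, -⟩ | ⟨e, -⟩ <;> omega
    obtain ⟨F, hF, hF5⟩ := Finset.exists_subset_card_eq h5
    let e : Fin 5 ↪ Cfsg.GolayPt := ((Finset.equivFinOfCardEq hF5).symm.toEmbedding).trans
      (Function.Embedding.subtype _)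
    have hmem : ∀ i, g (e i) = e i := fun i => (Finset.mem_filter.1 (hF ((Finset.equivFinOfCardEq hF5).symm i).2)).2
    have hin : ∀ i, e i ∈ d := fun i => by
      by_contra h
      exact hno (e i) h (hmem i)
    have h1 := Cfsg.Agent.Golay.eq_one_of_fix_five hd hM hgd e hin hmem
    rw [h1, orderOf_one] at hord
    exact Nat.not_prime_one hord
  · let π : Equiv.Perm {x // x ∉ d} := g.subtypePerm fun x => (hdc x).symm
    have hπ : π ^ (orderOf g) ^ 1 = 1 := by
      refine Equiv.ext fun x => Subtype.ext ?_
      simp only [π, Equiv.Perm.subtypePerm_pow, pow_one, pow_orderOf_eq_one]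
      rfl
    have hcard : Fintype.card {x // x ∉ d} = 12 := by
      rw [Fintype.card_subtype_compl, Fintype.card_coe, hd.2, Cfsg.Agent.Golay.card_golayPt]
    have hnd : ¬ orderOf g ∣ Fintype.card {x // x ∉ d} := hcard ▸ h12
    obtain ⟨x, hx⟩ : ∃ x, π x = x := by
      by_contra hne
      push Not at hne
      have hcong := Equiv.Perm.card_compl_support_modEq (p := orderOf g) hπ
      rw [show π.supportᶜ = ∅ from Finset.eq_empty_of_forall_notMem fun x hx =>
        (Finset.mem_compl.1 hx) (Equiv.Perm.mem_support.2 (hne x)), Finset.card_empty] at hcong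
      exact hnd (Nat.modEq_zero_iff_dvd.1 hcong.symm)
    exact hno x.1 x.2 (congrArg Subtype.val hx)

end Cfsg.Agent.S5522
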