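import Cfsg.Statements.S5726


set_option autoImplicit false
open Cfsg

namespace Cfsg.Agent.S5726

/-- If a finite group acts faithfully and transitively on a set with p^k elements, p a prime and k ≥ 1, then some element of order p fixes no point. -/
theorem result {G Ω : Type*} [Group G] [Finite G] [MulAction G Ω] [FaithfulSMul G Ω] [Fintype Ω] (htr : MulAction.IsPretransitive G Ω)
    (p k : ℕ) (hp : p.Prime) (hk : 1 ≤ k) (hΩ : Fintype.card Ω = p ^ k) :
    ∃ g : G, orderOf g = p ∧ ∀ ω : Ω, g • ω ≠ ω := by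
  classical
  haveI := Fact.mk hp
  obtain ⟨P⟩ := (inferInstance : Nonempty (Sylow p G))
  obtain ⟨ω₀⟩ : Nonempty Ω := Fintype.card_pos_iff.mp (by rw [hΩ]; exact pow_pos hp.pos k)
  have horb : (MulAction.stabilizer G ω₀).index = p ^ k := by
    rw [MulAction.index_stabilizer_of_transitive, Nat.card_eq_fintype_card, hΩ]
  -- the Sylow subgroup is transitive: `G = P * stabilizer`
  have hPtr : ∀ ω : Ω, ∃ x ∈ (P : Subgroup G), x • ω₀ = ω := by
    set S := MulAction.stabilizer G ω₀ with hS
    have h1 : ((P : Subgroup G).index).Coprime (p ^ k) :=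
      ((hp.coprime_iff_not_dvd.mpr P.not_dvd_index).symm).pow_right k
    have hmul := Subgroup.relIndex_mul_index (inf_le_right : S ⊓ P ≤ P)
    rw [Subgroup.inf_relIndex_right] at hmul
    have hdvd : p ^ k ∣ S.relIndex P := by
      refine h1.symm.dvd_of_dvd_mul_right ?_
      rw [hmul, ← horb]
      exact Subgroup.index_dvd_of_le inf_le_left
    have hs : MulAction.stabilizer (P : Subgroup G) ω₀ = S.subgroupOf P := by
      ext x; simp [S, Subgroup.mem_subgroupOf, Subgroup.smul_def]
    have hcard : Nat.card (MulAction.orbit (P : Subgroup G) ω₀) = S.relIndex P := by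
      rw [Nat.card_congr (MulAction.orbitEquivQuotientStabilizer (P : Subgroup G) ω₀), hs]
      rfl
    have hle : p ^ k ≤ Nat.card (MulAction.orbit (P : Subgroup G) ω₀) :=
      hcard ▸ Nat.le_of_dvd (Nat.pos_of_ne_zero Subgroup.index_ne_zero_of_finite) hdvd
    intro ω
    have : MulAction.orbit (P : Subgroup G) ω₀ = Set.univ := by
      apply Set.eq_of_subset_of_ncard_le (Set.subset_univ _)
      rwa [Set.ncard_univ, ← Nat.card_coe_set_eq, Nat.card_eq_fintype_card, hΩ]
    obtain ⟨x, hx⟩ := (Set.eq_univ_iff_forall.mp this) ω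
    exact ⟨x, x.2, hx⟩
  have : Nontrivial (P : Subgroup G) := by
    obtain ⟨ω, hω⟩ := Fintype.exists_ne_of_one_lt_card (by rw [hΩ]; exact Nat.one_lt_pow (by omega) hp.one_lt) ω₀
    obtain ⟨x, hx, hxω⟩ := hPtr ω
    refine ⟨⟨⟨x, hx⟩, 1, fun h => hω ?_⟩⟩
    have : x = 1 := congrArg Subtype.val h
    rw [← hxω, this, one_smul]
  haveI := P.isPGroup'.center_nontrivial
  have hdvd : p ∣ Nat.card (Subgroup.center (P : Subgroup G)) := by
    obtain ⟨m, hm⟩ := IsPGroup.iff_card.mp (P.isPGroup'.to_subgroup (Subgroup.center (P : Subgroup G)))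
    rw [hm]
    refine dvd_pow_self p ?_
    rintro rfl
    rw [pow_zero] at hm
    exact (not_subsingleton (Subgroup.center (P : Subgroup G))) (Nat.card_eq_one_iff_unique.mp hm).1
  obtain ⟨z, hz⟩ := exists_prime_orderOf_dvd_card' (G := Subgroup.center (P : Subgroup G)) p hdvd
  set w : G := ((z : (P : Subgroup G)) : G) with hw
  have h1 : orderOf w = p := by
    rw [hw, Subgroup.orderOf_coe, Subgroup.orderOf_coe, hz]
  refine ⟨w, h1, fun ω hω => ?_⟩
  have hc : ∀ u ∈ (P : Subgroup G), w * u = u * w := fun u hu =>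
    (congrArg Subtype.val (Subgroup.mem_center_iff.mp z.2 ⟨u, hu⟩)).symm
  have : w = 1 := by
    obtain ⟨x, hx, rfl⟩ := hPtr ω
    refine FaithfulSMul.eq_of_smul_eq_smul (α := Ω) fun ω' => ?_
    obtain ⟨y, hy, rfl⟩ := hPtr ω'
    have h0 : w • ω₀ = ω₀ := by
      rw [← mul_smul, hc x hx, mul_smul] at hω
      exact smul_left_cancel x hω
    rw [one_smul, ← mul_smul, hc y hy, mul_smul, h0]
  rw [this, orderOf_one] at h1
  exact hp.one_lt.ne h1

end Cfsg.Agent.S5726
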