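import Cfsg.Statements.S5727
import Cfsg.Agent.S5726

set_option autoImplicit false
open Cfsg

namespace Cfsg.Agent.S5727

/-- If a finite group acts faithfully and transitively on a set with m·p elements, where p is a prime and 1 ≤ m ≤ p, then some element of order p fixes no point. -/
theorem result {G Ω : Type*} [Group G] [Finite G] [MulAction G Ω] [FaithfulSMul G Ω] [Fintype Ω] (htr : MulAction.IsPretransitive G Ω)
    (p m : ℕ) (hp : p.Prime) (hm : 1 ≤ m) (hmp : m ≤ p) (hΩ : Fintype.card Ω = m * p) :
    ∃ g : G, orderOf g = p ∧ ∀ ω : Ω, g • ω ≠ ω := by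
  classical
  haveI := Fact.mk hp
  rcases hmp.eq_or_lt with rfl | hlt
  · exact Cfsg.Agent.S5726.result htr m 2 hp (by norm_num) (by rw [hΩ, pow_two])
  obtain ⟨P⟩ := (inferInstance : Nonempty (Sylow p G))
  haveI : Fintype (P : Subgroup G) := Fintype.ofFinite _
  -- every orbit of P has p points
  have horb : ∀ ω : Ω, (MulAction.stabilizer (P : Subgroup G) ω).index = p := by
    intro ω
    set S := MulAction.stabilizer G ω with hS
    have hS' : S.index = m * p := by
      rw [hS, MulAction.index_stabilizer_of_transitive, Nat.card_eq_fintype_card, hΩ]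
    have hmul := Subgroup.relIndex_mul_index (inf_le_right : S ⊓ P ≤ P)
    rw [Subgroup.inf_relIndex_right] at hmul
    have hdvd : p ∣ S.relIndex P := by
      refine (Nat.Coprime.dvd_of_dvd_mul_right (hp.coprime_iff_not_dvd.mpr P.not_dvd_index) ?_)
      rw [hmul]
      exact (Dvd.intro_left m hS'.symm).trans (Subgroup.index_dvd_of_le inf_le_left)
    have hs : MulAction.stabilizer (P : Subgroup G) ω = S.subgroupOf P := by
      ext x; simp [S, Subgroup.mem_subgroupOf, Subgroup.smul_def]
    have hle : (MulAction.stabilizer (P : Subgroup G) ω).index ≤ m * p := by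
      rw [MulAction.index_stabilizer, ← hΩ, ← Nat.card_eq_fintype_card]
      exact le_trans (Set.ncard_le_card _) le_rfl
    rw [hs] at hle ⊢
    obtain ⟨k, hk⟩ := P.isPGroup'.index (S.subgroupOf P)
    change (S.subgroupOf P).index = p
    rw [hk] at hle ⊢
    change p ∣ (S.subgroupOf P).index at hdvd
    rw [hk] at hdvd
    have hk2 : k < 2 := (Nat.pow_lt_pow_iff_right hp.one_lt).mp
      (lt_of_le_of_lt hle (by rw [pow_two]; exact Nat.mul_lt_mul_of_pos_right hlt hp.pos))
    interval_cases k
    · rw [pow_zero, Nat.dvd_one] at hdvd; exact absurd hdvd hp.ne_one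
    · rw [pow_one]
  have hnorm : ∀ ω : Ω, (MulAction.stabilizer (P : Subgroup G) ω).Normal := fun ω => by
    apply Subgroup.normal_of_index_eq_minFac_card
    rw [horb]
    obtain ⟨k, hk⟩ := IsPGroup.iff_card.mp P.isPGroup'
    rw [hk, Nat.pow_minFac, hp.minFac_eq]
    rintro rfl
    have := Subgroup.index_dvd_card (MulAction.stabilizer (P : Subgroup G) ω)
    rw [horb, hk, pow_zero, Nat.dvd_one] at this
    exact hp.ne_one this
  -- one representative in every orbit
  let R := MulAction.orbitRel.Quotient (P : Subgroup G) Ω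
  have hR : Fintype.card R < p := by
    have hb := Fintype.card_congr (MulAction.selfEquivSigmaOrbits (P : Subgroup G) Ω)
    rw [hΩ, Fintype.card_sigma, Finset.sum_congr rfl (fun q _ => (by
      rw [← Nat.card_eq_fintype_card, Nat.card_coe_set_eq, ← MulAction.index_stabilizer, horb]
      : Fintype.card (MulAction.orbit (P : Subgroup G) q.out) = p)), Finset.sum_const, smul_eq_mul,
      Finset.card_univ] at hb
    exact lt_of_le_of_lt (le_of_eq (Nat.eq_of_mul_eq_mul_right hp.pos hb).symm) hlt
  -- an element outside all the point stabilisers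
  obtain ⟨x, hx⟩ : ∃ x : (P : Subgroup G), ∀ q : R, x ∉ MulAction.stabilizer (P : Subgroup G) q.out := by
    by_contra hc
    push_neg at hc
    have hcov : (Finset.univ : Finset (P : Subgroup G)) ⊆
        Finset.univ.biUnion fun q : R => Finset.univ.filter (· ∈ MulAction.stabilizer (P : Subgroup G) q.out) := by
      intro x _
      obtain ⟨q, hq⟩ := hc x
      exact Finset.mem_biUnion.mpr ⟨q, Finset.mem_univ _, by simpa using hq⟩
    have hle := (Finset.card_le_card hcov).trans Finset.card_biUnion_le
    rw [Finset.card_univ] at hle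
    have hcard : ∀ q : R, (Finset.univ.filter (· ∈ MulAction.stabilizer (P : Subgroup G) q.out)).card =
        Fintype.card (P : Subgroup G) / p := by
      intro q
      rw [← Fintype.card_subtype, ← Nat.card_eq_fintype_card, ← Nat.card_eq_fintype_card,
        ← Subgroup.card_mul_index (MulAction.stabilizer (P : Subgroup G) q.out), horb,
        Nat.mul_div_cancel _ hp.pos]
    rw [Finset.sum_congr rfl (fun q _ => hcard q), Finset.sum_const, Finset.card_univ, smul_eq_mul] at hle
    have hdiv := Nat.div_mul_le_self (Fintype.card (P : Subgroup G)) p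
    have hpos : 0 < Fintype.card (P : Subgroup G) / p := by
      rcases Nat.eq_zero_or_pos (Fintype.card (P : Subgroup G) / p) with h | h
      · rw [h, mul_zero] at hle; exact absurd hle (not_le.mpr Fintype.card_pos)
      · exact h
    have := Nat.mul_lt_mul_of_pos_right hR hpos
    rw [mul_comm p] at this
    omega
  have hfix : ∀ ω : Ω, x • ω ≠ ω := by
    intro ω hω
    let q : R := Quotient.mk _ ω
    obtain ⟨g, hg⟩ : q.out ∈ MulAction.orbit (P : Subgroup G) ω :=
      MulAction.orbitRel_apply.mp (Quotient.mk_out (s := MulAction.orbitRel (P : Subgroup G) Ω) ω)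
    apply hx q
    have hg' : g • ω = q.out := hg
    rw [← hg', MulAction.stabilizer_smul_eq_stabilizer_map_conj]
    have := (hnorm ω).conj_mem x hω g⁻¹
    refine ⟨g⁻¹ * x * g⁻¹⁻¹, this, ?_⟩
    simp [mul_assoc]
  have hxp : x ^ p = 1 := by
    have hall : ∀ ω : Ω, (x ^ p) • ω = ω := fun ω => by
      have := Subgroup.pow_index_mem (MulAction.stabilizer (P : Subgroup G) ω) x
      rwa [horb, MulAction.mem_stabilizer_iff] at this
    apply Subtype.ext
    refine FaithfulSMul.eq_of_smul_eq_smul (α := Ω) fun ω => ?_
    simpa [Subgroup.smul_def] using hall ω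
  refine ⟨(x : G), ?_, fun ω => by simpa [Subgroup.smul_def] using hfix ω⟩
  rw [Subgroup.orderOf_coe]
  refine orderOf_eq_prime hxp ?_
  rintro rfl
  obtain ⟨ω⟩ : Nonempty Ω := Fintype.card_pos_iff.mp (by rw [hΩ]; exact Nat.mul_pos hm hp.pos)
  exact hfix ω (one_smul _ ω)

end Cfsg.Agent.S5727
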