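import Cfsg.Statements.S5728


set_option autoImplicit false
open Cfsg

namespace Cfsg.Agent.S5728

/-- An elusive transitive action. Let p = 2^s − 1 be a prime and let F be the field with p² elements. Inside the group of affine maps x ↦ a·x + b of F (a ≠ 0), consider the subgroup of maps with both coefficients in the prime field. Then every element of prime order of the affine group is conjugate, within the affine group, to an element of that subgroup; equivalently, in the transitive action of the affine group on the cosets of that subgroup (of degree p(p + 1)) every element of prime order fixes a point. -/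
theorem result (p s : ℕ) [Fact p.Prime] (hs : p = 2 ^ s - 1)
    (g : Equiv.Perm (GaloisField p 2)) (hg : g ∈ Cfsg.affineGroup (GaloisField p 2)) (hord : (orderOf g).Prime) :
    ∃ x ∈ Cfsg.affineGroup (GaloisField p 2), ∃ a b : ZMod p, a ≠ 0 ∧
      ∀ y : GaloisField p 2, (x * g * x⁻¹) y = algebraMap (ZMod p) (GaloisField p 2) a * y + algebraMap (ZMod p) (GaloisField p 2) b := by
  have hp : p.Prime := Fact.out
  obtain ⟨a, b, hab⟩ := id hg
  have hp2 : p ≠ 2 := by
    intro h; rw [h] at hs
    rcases s with _ | _ | s
    · simp at hs
    · simp at hs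
    · have : 4 ≤ 2 ^ (s + 2) := by
        calc 4 = 2 ^ 2 := rfl
          _ ≤ _ := Nat.pow_le_pow_right (by omega) (by omega)
      omega
  haveI : Fintype (GaloisField p 2) := Fintype.ofFinite (GaloisField p 2)
  -- the linear part has prime-field coefficient
  have hpow : ∀ (k : ℕ), ∃ d : (GaloisField p 2), ∀ y, (g ^ k) y = ((a : (GaloisField p 2))) ^ k * y + d := by
    intro k
    induction k with
    | zero => exact ⟨0, fun y => by simp⟩
    | succ k ih =>
      obtain ⟨d, hd⟩ := ih
      exact ⟨(a : (GaloisField p 2)) ^ k * b + d, fun y => by rw [pow_succ, Equiv.Perm.mul_apply, hd, hab]; ring⟩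
  obtain ⟨d, hd⟩ := hpow (orderOf g)
  rw [pow_orderOf_eq_one] at hd
  have har : (a : (GaloisField p 2)) ^ orderOf g = 1 := by
    have h1 := hd 0; have h2 := hd 1
    simp at h1 h2
    rw [← h1, add_zero] at h2
    exact h2.symm
  obtain ⟨a', ha'⟩ : ∃ a' : ZMod p, algebraMap (ZMod p) (GaloisField p 2) a' = (a : (GaloisField p 2)) := by
    by_cases h2 : orderOf g = 2
    · rw [h2] at har
      rcases sq_eq_one_iff.mp har with h | h
      · exact ⟨1, by rw [h, map_one]⟩
      · exact ⟨-1, by rw [h, map_neg, map_one]⟩
    · by_cases ha1 : (a : (GaloisField p 2)) = 1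
      · exact ⟨1, by rw [ha1, map_one]⟩
      have hord' : orderOf (a : (GaloisField p 2)) = orderOf g := by
        haveI := Fact.mk hord
        exact orderOf_eq_prime har ha1
      have hdvd : orderOf (a : (GaloisField p 2)) ∣ (p - 1) * 2 ^ s := by
        have hcard : Nat.card (GaloisField p 2) = p ^ 2 := GaloisField.card p 2 (by omega)
        have h1 : orderOf (a : (GaloisField p 2)) ∣ p ^ 2 - 1 := by
          rw [← hcard, orderOf_units, ← Nat.card_units]
          exact orderOf_dvd_natCard _
        have : p ^ 2 - 1 = (p - 1) * 2 ^ s := by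
          have h1 : 1 ≤ 2 ^ s := Nat.one_le_two_pow
          have h2 : 2 ^ s = p + 1 := by omega
          rw [h2]
          have := Nat.sq_sub_sq p 1
          rw [one_pow] at this
          rw [this]; ring
        rwa [this] at h1
      rw [hord'] at hdvd
      have hr : orderOf g ∣ p - 1 := by
        refine Nat.Coprime.dvd_of_dvd_mul_right ?_ hdvd
        exact ((Nat.coprime_primes hord Nat.prime_two).mpr h2).pow_right s
      have hap : (a : (GaloisField p 2)) ^ p = (a : (GaloisField p 2)) := by
        obtain ⟨m, hm⟩ := hr
        have hp1 : p = orderOf g * m + 1 := by have := hp.one_lt; omega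
        calc (a : (GaloisField p 2)) ^ p = (a : (GaloisField p 2)) ^ (orderOf g * m + 1) := congrArg _ hp1
          _ = (a : (GaloisField p 2)) := by rw [pow_succ, pow_mul, har, one_pow, one_mul]
      have hset := FiniteField.roots_X_pow_card_sub_X (ZMod p)
      by_contra hc
      push_neg at hc
      classical
      let S : Finset (GaloisField p 2) := insert (a : (GaloisField p 2)) (Finset.univ.image (algebraMap (ZMod p) (GaloisField p 2)))
      have hS : S.card = p + 1 := by
        rw [Finset.card_insert_of_notMem (by simp; exact hc), Finset.card_image_of_injective _ (algebraMap (ZMod p) (GaloisField p 2)).injective]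
        simp
      have hroots : S ⊆ (Polynomial.X ^ p - Polynomial.X : Polynomial (GaloisField p 2)).roots.toFinset := by
        intro x hx
        rw [Multiset.mem_toFinset, Polynomial.mem_roots (FiniteField.X_pow_card_sub_X_ne_zero (GaloisField p 2) hp.one_lt)]
        simp only [Polynomial.IsRoot, Polynomial.eval_sub, Polynomial.eval_pow, Polynomial.eval_X, sub_eq_zero]
        simp only [S, Finset.mem_insert, Finset.mem_image, Finset.mem_univ, true_and] at hx
        rcases hx with rfl | ⟨z, rfl⟩
        · exact hap
        · rw [← map_pow, ZMod.pow_card]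
      have := (Finset.card_le_card hroots).trans ((Multiset.toFinset_card_le _).trans (Polynomial.card_roots' _))
      rw [hS, FiniteField.X_pow_card_sub_X_natDegree_eq (GaloisField p 2) hp.one_lt] at this
      omega
  have ha'0 : a' ≠ 0 := fun h => a.ne_zero (by rw [← ha', h, map_zero])
  by_cases ha1 : (a : (GaloisField p 2)) = 1
  · have hb : b ≠ 0 := by
      intro hb
      have : g = 1 := Equiv.ext fun y => by rw [hab, ha1, hb]; simp
      rw [this, orderOf_one] at hord
      exact Nat.not_prime_one hord
    refine ⟨Equiv.mulLeft₀ b⁻¹ (inv_ne_zero hb), ⟨Units.mk0 _ (inv_ne_zero hb), 0, fun y => by simp⟩, 1, 1, one_ne_zero, fun y => ?_⟩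
    simp only [Equiv.Perm.mul_apply, Equiv.Perm.inv_def, map_one, one_mul]
    rw [hab, ha1]
    simp [Equiv.mulLeft₀, Units.mulLeft]
    field_simp
  · have h0 : (1 : (GaloisField p 2)) - (a : (GaloisField p 2)) ≠ 0 := sub_ne_zero.mpr (Ne.symm ha1)
    refine ⟨Equiv.addRight (-(b / (1 - (a : (GaloisField p 2))))), ⟨1, -(b / (1 - (a : (GaloisField p 2)))), fun y => by simp⟩, a', 0, ha'0, fun y => ?_⟩
    simp only [Equiv.Perm.mul_apply, Equiv.Perm.inv_def, map_zero, add_zero, ha', Equiv.addRight_symm, Equiv.coe_addRight, neg_neg]
    rw [hab]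
    field_simp
    ring

end Cfsg.Agent.S5728
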