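import Cfsg.Statements.S5748
import Cfsg.Agent.GeomClasses.CTGroups
import Cfsg.Agent.S4065

set_option autoImplicit false
open Cfsg

namespace Cfsg.Agent.S5748

/-- A finite non-abelian simple group in which commuting is a transitive relation on the non-identity elements (equivalently, every non-identity element has abelian centraliser) is isomorphic to PSL₂ over a field with 2^f elements for some f ≥ 2; conversely these groups have that property. -/
theorem result {G : Type*} [Group G] [Finite G] [IsSimpleGroup G] (hG : ¬ IsMulCommutative G) :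
    (∀ a b c : G, a ≠ 1 → b ≠ 1 → c ≠ 1 → Commute a b → Commute b c → Commute a c) ↔
    ∃ (F : Type) (_ : Field F) (_ : Fintype F) (f : ℕ), 2 ≤ f ∧ Fintype.card F = 2 ^ f ∧ Nonempty (G ≃* Matrix.ProjectiveSpecialLinearGroup (Fin 2) F) := by
  classical
  haveI := Fintype.ofFinite G
  constructor
  · intro hct
    refine GeomClasses.CT.classify (fun x a b hx ha hb => ?_) hG
    rcases eq_or_ne a 1 with rfl | ha1
    · simp
    rcases eq_or_ne b 1 with rfl | hb1
    · simp
    exact hct a x b ha1 hx hb1 ha hb.symm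
  · rintro ⟨F, fF, fintF, f, hf, hF, ⟨e⟩⟩ a b c _ hb _ hab hbc
    haveI : Fact (Nat.Prime 2) := ⟨Nat.prime_two⟩
    haveI : CharP F 2 := charP_of_card_eq_prime_pow (f := f) hF
    have hb' : e b ≠ 1 := fun h => hb (e.injective (h.trans e.map_one.symm))
    have hcen : ∀ A : Matrix.SpecialLinearGroup (Fin 2) F,
        A ∈ Subgroup.center (Matrix.SpecialLinearGroup (Fin 2) F) → A = 1 := by
      intro A hA
      obtain ⟨r, hr, hrA⟩ := Matrix.SpecialLinearGroup.mem_center_iff.mp hA
      have hr1 : r = 1 := by
        rw [Fintype.card_fin] at hr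
        have h0 : (r + 1) ^ 2 = 0 := by
          rw [add_pow_char, hr, one_pow]
          exact CharTwo.add_self_eq_zero 1
        exact CharTwo.add_eq_zero.mp (eq_zero_of_pow_eq_zero h0)
      ext i j
      rw [← hrA, hr1]
      simp
    obtain ⟨A, hA⟩ := QuotientGroup.mk'_surjective _ (e a)
    obtain ⟨B, hB⟩ := QuotientGroup.mk'_surjective _ (e b)
    obtain ⟨C, hC⟩ := QuotientGroup.mk'_surjective _ (e c)
    have lift : ∀ U V : Matrix.SpecialLinearGroup (Fin 2) F,
        QuotientGroup.mk' (Subgroup.center (Matrix.SpecialLinearGroup (Fin 2) F)) U * QuotientGroup.mk' _ V =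
          QuotientGroup.mk' _ V * QuotientGroup.mk' _ U → U.1 * V.1 = V.1 * U.1 := by
      intro U V h
      rw [← map_mul, ← map_mul] at h
      have h1 := hcen _ (QuotientGroup.eq.mp h)
      rw [inv_mul_eq_one] at h1
      exact congrArg Subtype.val h1
    have hBc : B ∉ Subgroup.center (Matrix.SpecialLinearGroup (Fin 2) F) :=
      fun h => hb' (by rw [← hB]; exact (QuotientGroup.eq_one_iff B).mpr h)
    have hM : B.1 0 1 ≠ 0 ∨ B.1 1 0 ≠ 0 ∨ B.1 1 1 - B.1 0 0 ≠ 0 := by
      by_contra hc
      push Not at hc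
      obtain ⟨h1, h2, h3⟩ := hc
      refine hBc (Subgroup.mem_center_iff.mpr fun Y => Subtype.ext ?_)
      show Y.1 * B.1 = B.1 * Y.1
      ext i j
      fin_cases i <;> fin_cases j <;> simp only [Matrix.mul_apply, Fin.sum_univ_two] <;> dsimp <;>
        simp only [h1, h2, sub_eq_zero.mp h3] <;> ring
    have k1 := lift B A (by rw [hA, hB]; exact ((hab.map e).symm).eq)
    have k2 := lift B C (by rw [hB, hC]; exact (hbc.map e).eq)
    have h := S4065.commute_of_commute_nonscalar B.1 A.1 C.1 hM k1 k2
    refine e.injective ?_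
    rw [map_mul, map_mul, ← hA, ← hC, ← map_mul, ← map_mul]
    exact congrArg _ (Subtype.ext h : A * C = C * A)

end Cfsg.Agent.S5748
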