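import Cfsg.Statements.S5752
import Cfsg.Agent.GeomClasses.ThompsonWielandt

set_option autoImplicit false
open Cfsg

namespace Cfsg.Agent.S5752

/-- A form of the Thompson–Wielandt Theorem on primitive permutation groups. Let G be a finite group and M₁, M₂ two distinct conjugate maximal subgroups of G with trivial core in G; define two descending sequences of subgroups by A₀ = M₁, B₀ = M₂ and, for every i, A_{i+1} = the core in M₁ of A_i ∩ B_i and B_{i+1} = the core in M₂ of A_i ∩ B_i (the core in M of a subgroup Y ≤ M is the largest normal subgroup of M contained in Y). If A₂ and B₂ are both non-trivial, then for some prime p the subgroup generated by A₂ and B₂ is a p-group, and for each j the generalized Fitting subgroups of M_j and of its first core (A₁, resp. B₁) are their largest normal p-subgroups. -/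
theorem result {G : Type*} [Group G] [Finite G] (M₁ M₂ : Subgroup G) (hmax : IsCoatom M₁) (g : G)
    (hconj : M₂ = M₁.map (MulAut.conj g).toMonoidHom) (hne : M₁ ≠ M₂) (hcore : M₁.normalCore = ⊥)
    (A B : ℕ → Subgroup G) (hA0 : A 0 = M₁) (hB0 : B 0 = M₂)
    (hA : ∀ i, A (i + 1) = ((A i ⊓ B i).subgroupOf M₁).normalCore.map M₁.subtype)
    (hB : ∀ i, B (i + 1) = ((A i ⊓ B i).subgroupOf M₂).normalCore.map M₂.subtype) (hA2 : A 2 ≠ ⊥) (hB2 : B 2 ≠ ⊥) :
    ∃ p : ℕ, p.Prime ∧ IsPGroup p ↥(A 2 ⊔ B 2) ∧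
      Cfsg.generalizedFittingSubgroup ↥M₁ = Cfsg.pCore p ↥M₁ ∧ Cfsg.generalizedFittingSubgroup ↥(A 1) = Cfsg.pCore p ↥(A 1) ∧
      Cfsg.generalizedFittingSubgroup ↥M₂ = Cfsg.pCore p ↥M₂ ∧ Cfsg.generalizedFittingSubgroup ↥(B 1) = Cfsg.pCore p ↥(B 1) := by
  have memcore : ∀ (M Y : Subgroup G) (z : G), z ∈ (Y.subgroupOf M).normalCore.map M.subtype ↔
      z ∈ M ∧ ∀ m ∈ M, m * z * m⁻¹ ∈ Y := by
    intro M Y z
    constructor
    · rintro ⟨x, hx, rfl⟩
      exact ⟨x.2, fun m hm => Subgroup.mem_subgroupOf.mp (hx ⟨m, hm⟩)⟩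
    · rintro ⟨hz, h⟩
      exact ⟨⟨z, hz⟩, fun m => Subgroup.mem_subgroupOf.mpr (h m m.2), rfl⟩
  have normcore : ∀ (M Y : Subgroup G), M ≤ Subgroup.normalizer (((Y.subgroupOf M).normalCore.map M.subtype : Subgroup G) : Set G) := by
    intro M Y
    refine GeomClasses.TW.le_normalizer_of_forall fun m hm a ha => ?_
    obtain ⟨x, hx, rfl⟩ := ha
    exact ⟨⟨m, hm⟩ * x * ⟨m, hm⟩⁻¹, (inferInstance : (Y.subgroupOf M).normalCore.Normal).conj_mem x hx _, rfl⟩
  have hmaxgen : ∀ M : Subgroup G, IsCoatom M → M.normalCore = ⊥ → ∀ X : Subgroup G, X ≠ ⊥ → X ≤ M →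
      M ≤ Subgroup.normalizer (X : Set G) → Subgroup.normalizer (X : Set G) = M := by
    intro M hM hc X hX hXM hle
    rcases eq_or_lt_of_le hle with h | h
    · exact h.symm
    exfalso
    haveI : X.Normal := Subgroup.normalizer_eq_top_iff.mp (hM.2 _ h)
    exact hX (eq_bot_iff.mpr (hc ▸ Subgroup.normal_le_normalCore.mpr hXM))
  have hmax2 : IsCoatom M₂ := by
    rw [hconj]
    exact (OrderIso.isCoatom_iff (MulEquiv.mapSubgroup (MulAut.conj g)) M₁).mpr hmax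
  have hcore2 : M₂.normalCore = ⊥ := by
    refine eq_bot_iff.mpr fun z hz => ?_
    refine hcore ▸ (show z ∈ M₁.normalCore from fun h => ?_)
    have := hz (g * h)
    rw [hconj] at this
    obtain ⟨w, hw, hw'⟩ := this
    have e : h * z * h⁻¹ = w := by
      have hw'' : g * w * g⁻¹ = g * h * z * (g * h)⁻¹ := hw'
      have : g * w * g⁻¹ = g * (h * z * h⁻¹) * g⁻¹ := by rw [hw'']; group
      exact (mul_left_cancel (mul_right_cancel this)).symm
    rw [e]; exact hw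
  have h1 := hmaxgen M₁ hmax hcore
  have h2 := hmaxgen M₂ hmax2 hcore2
  have a1 : ∀ z, z ∈ A 1 ↔ z ∈ M₁ ∧ ∀ m ∈ M₁, m * z * m⁻¹ ∈ M₁ ⊓ M₂ := fun z => by
    rw [hA 0, memcore, hA0, hB0]
  have b1 : ∀ z, z ∈ B 1 ↔ z ∈ M₂ ∧ ∀ m ∈ M₂, m * z * m⁻¹ ∈ M₁ ⊓ M₂ := fun z => by
    rw [hB 0, memcore, hA0, hB0]
  have a2 : ∀ z, z ∈ A 2 → z ∈ A 1 ⊓ B 1 := fun z hz => by
    rw [hA 1, memcore] at hz
    simpa using hz.2 1 M₁.one_mem
  have b2 : ∀ z, z ∈ B 2 → z ∈ A 1 ⊓ B 1 := fun z hz => by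
    rw [hB 1, memcore] at hz
    simpa using hz.2 1 M₂.one_mem
  have hA1le : A 1 ≤ M₁ ⊓ M₂ := fun z hz => by simpa using ((a1 z).mp hz).2 1 M₁.one_mem
  have hB1le : B 1 ≤ M₁ ⊓ M₂ := fun z hz => by simpa using ((b1 z).mp hz).2 1 M₂.one_mem
  have hnA1 : M₁ ≤ Subgroup.normalizer (A 1 : Set G) := by rw [hA 0]; exact normcore _ _
  have hnB1 : M₂ ≤ Subgroup.normalizer (B 1 : Set G) := by rw [hB 0]; exact normcore _ _
  have hnA2 : M₁ ≤ Subgroup.normalizer (A 2 : Set G) := by rw [hA 1]; exact normcore _ _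
  have hnB2 : M₂ ≤ Subgroup.normalizer (B 2 : Set G) := by rw [hB 1]; exact normcore _ _
  have S12 : GeomClasses.TW.Side M₁ M₂ (A 2) (B 1) := ⟨h1, hB1le, hnB1, fun z hz => (b1 z).mpr
    ⟨by simpa using (hz 1 M₂.one_mem).2, hz⟩, fun z hz => (a2 z hz).2, hA2, hnA2⟩
  have S21 : GeomClasses.TW.Side M₂ M₁ (B 2) (A 1) := ⟨h2, inf_comm M₁ M₂ ▸ hA1le, hnA1, fun z hz => (a1 z).mpr
    ⟨by simpa using (hz 1 M₁.one_mem).2, fun m hm => (inf_comm M₁ M₂).symm ▸ hz m hm⟩, fun z hz => (b2 z hz).1, hB2, hnB2⟩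
  let ψ : ↥M₁ ≃* ↥M₂ := (M₁.equivMapOfInjective _ (MulAut.conj g).injective).trans (MulEquiv.subgroupCongr hconj.symm)
  -- the layers vanish
  have hly : GeomClasses.TW.ly M₁ = GeomClasses.TW.ly M₂ := by
    have hl1 : GeomClasses.TW.ly M₁ ≤ M₂ := ((GeomClasses.TW.ly_le_core S21).trans hA1le).trans inf_le_right
    refine Subgroup.eq_of_le_of_card_ge (GeomClasses.TW.ly_le_ly S12 hl1) (le_of_eq ?_)
    rw [GeomClasses.TW.ly, GeomClasses.TW.ly, Subgroup.card_map_of_injective M₂.subtype_injective,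
      Subgroup.card_map_of_injective M₁.subtype_injective, ← Agent.Components.layer_map ψ,
      Subgroup.card_map_of_injective ψ.injective]
  have hl : Cfsg.layer ↥M₁ = ⊥ := by
    by_contra hl
    have hne' : GeomClasses.TW.ly M₁ ≠ ⊥ := fun e => hl ((Agent.Components.map_inj_eq_bot_iff M₁.subtype_injective).mp e)
    refine hne ?_
    rw [← h1 _ hne' (GeomClasses.TW.ly_le M₁) (GeomClasses.TW.le_normalizer_char M₁ _), hly,
      h2 _ (hly ▸ hne') (GeomClasses.TW.ly_le M₂) (GeomClasses.TW.le_normalizer_char M₂ _)]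
  have hlM2 : Cfsg.layer ↥M₂ = ⊥ := by rw [← Agent.Components.layer_map ψ, hl, Subgroup.map_bot]
  have hcardp : ∀ q : ℕ, Nat.card ↥(GeomClasses.TW.pc q M₁) = Nat.card ↥(GeomClasses.TW.pc q M₂) := fun q => by
    rw [GeomClasses.TW.pc, GeomClasses.TW.pc, Subgroup.card_map_of_injective M₁.subtype_injective,
      Subgroup.card_map_of_injective M₂.subtype_injective]
    exact Agent.Core.card_pCore_congr ψ
  have key : ∀ q : ℕ, q.Prime → Cfsg.pCore q ↥M₁ ≠ ⊥ → IsPGroup q ↥(A 2) ∧ IsPGroup q ↥(B 2) := by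
    intro q hq hne0
    haveI := Fact.mk hq
    have hn1 : GeomClasses.TW.pc q M₁ ≠ ⊥ := fun e => hne0 ((Agent.Components.map_inj_eq_bot_iff M₁.subtype_injective).mp e)
    have hn2 : GeomClasses.TW.pc q M₂ ≠ ⊥ := fun e => hn1 (Subgroup.eq_bot_of_card_eq _ (by rw [hcardp q, e, Subgroup.card_bot]))
    have hcon : GeomClasses.TW.pc q M₁ ≠ GeomClasses.TW.pc q M₂ := fun e => hne (by
      rw [← h1 _ hn1 (GeomClasses.TW.pc_le q M₁) (GeomClasses.TW.le_normalizer_char M₁ _), e,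
        h2 _ hn2 (GeomClasses.TW.pc_le q M₂) (GeomClasses.TW.le_normalizer_char M₂ _)])
    exact ⟨by_contra fun h => hcon (GeomClasses.TW.pc_eq S12 h (hcardp q) h2 hn2),
      by_contra fun h => hcon (GeomClasses.TW.pc_eq S21 h (hcardp q).symm h1 hn1).symm⟩
  obtain ⟨p, hp, hpne⟩ : ∃ p : ℕ, p.Prime ∧ Cfsg.pCore p ↥M₁ ≠ ⊥ := by
    by_contra hcon
    push Not at hcon
    have hf : Cfsg.fittingSubgroup ↥M₁ = ⊥ := by
      rw [Agent.Core.fittingSubgroup_eq_iSup, iSup_eq_bot]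
      exact fun q => hcon q q.2
    have h0 := Agent.Components.centralizer_generalizedFitting_le (G := ↥M₁)
    rw [Cfsg.generalizedFittingSubgroup, hl, hf, bot_sup_eq] at h0
    refine hA2 (eq_bot_iff.mpr fun a ha => ?_)
    have haM : a ∈ M₁ := (hA1le (a2 a ha).1).1
    have := h0 (show (⟨a, haM⟩ : ↥M₁) ∈ Subgroup.centralizer ((⊥ : Subgroup ↥M₁) : Set ↥M₁) from
      Subgroup.mem_centralizer_iff.mpr fun f hf => by
        rw [SetLike.mem_coe, Subgroup.mem_bot] at hf; rw [hf, one_mul, mul_one])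
    rw [Subgroup.mem_bot] at this ⊢
    exact congrArg Subtype.val this
  haveI := Fact.mk hp
  obtain ⟨hpA, hpB⟩ := key p hp hpne
  have honly : ∀ q, q.Prime → q ≠ p → Cfsg.pCore q ↥M₁ = ⊥ := by
    intro q hq hqp
    by_contra h
    haveI := Fact.mk hq
    have hc := IsPGroup.coprime_card_of_ne q p hqp (A 2) (A 2) (key q hq h).1 hpA
    exact hA2 (Subgroup.eq_bot_of_card_eq _ ((Nat.coprime_self _).mp hc))
  have honly2 : ∀ q, q.Prime → q ≠ p → Cfsg.pCore q ↥M₂ = ⊥ := fun q hq hqp =>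
    (Agent.Core.pCore_eq_bot_congr ψ).mp (honly q hq hqp)
  have sub1 : ∀ (M N : Subgroup G), N ≤ M → M ≤ Subgroup.normalizer (N : Set G) → Cfsg.layer ↥M = ⊥ →
      (∀ q, q.Prime → q ≠ p → Cfsg.pCore q ↥M = ⊥) → Cfsg.generalizedFittingSubgroup ↥N = Cfsg.pCore p ↥N := by
    intro M N hNM hn hlM hqM
    haveI : (N.subgroupOf M).Normal := (Subgroup.normal_subgroupOf_iff_le_normalizer hNM).mpr hn
    let χ : ↥(N.subgroupOf M) ≃* ↥N := Subgroup.subgroupOfEquivOfLe hNM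
    refine GeomClasses.TW.gFit_eq_pCore p ?_ fun q hq hqp => ?_
    · rw [← Agent.Components.layer_map χ]
      have := Agent.Components.layer_map_subtype_le (this.isSubnormal)
      rw [hlM, le_bot_iff, Agent.Components.map_inj_eq_bot_iff (N.subgroupOf M).subtype_injective] at this
      rw [this, Subgroup.map_bot]
    · exact (Agent.Core.pCore_eq_bot_congr χ).mp (Agent.Core.pCore_eq_bot_of_normal _ (hqM q hq hqp))
  refine ⟨p, hp, hpA.to_sup_of_normal_left' hpB ?_, GeomClasses.TW.gFit_eq_pCore p hl honly,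
    sub1 M₁ (A 1) (fun z hz => (hA1le hz).1) hnA1 hl honly, GeomClasses.TW.gFit_eq_pCore p hlM2 honly2,
    sub1 M₂ (B 1) (fun z hz => (hB1le hz).2) hnB1 hlM2 honly2⟩
  exact fun z hz => hnA2 (hA1le (b2 z hz).1).1

end Cfsg.Agent.S5752
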