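import Cfsg.Statements.S5823
import Cfsg.Agent.GeomClasses.SpCases.SympType
import Cfsg.Agent.GeomClasses.SpCases.Planes
import Cfsg.Agent.GeomClasses.SpCases.Eight

set_option autoImplicit false
open Cfsg

namespace Cfsg.Agent.S5823

/-- Every maximal subgroup of Sp_8(q) is of one of the listed geometric types or lies in the residual class. Let F be a finite field with q elements, f the standard alternating form on F^8 (coordinates Fin 4 ⊕ Fin 4), and H a maximal subgroup of Sp_8(F) (inside GL_8(F)). Then H is the intersection with Sp_8(F) of one of: the stabiliser of a non-zero totally isotropic subspace; the stabiliser of a non-degenerate 2-space; for q ≥ 3, the stabiliser of a decomposition into four mutually orthogonal non-degenerate 2-spaces; of a decomposition into two orthogonal non-degenerate 4-spaces; for q odd, of a decomposition into two totally isotropic 4-spaces; the normaliser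 of a degree-2 subfield K, self-adjoint with f(k v, v) = 0; for q odd, the normaliser of a degree-2 subfield closed under adjoints but not self-adjoint; for q odd, the stabiliser of a tensor decomposition of f into an alternating form on F^2 and a minus-type symmetric form on F^4; a subfield group (|F| = |F₀|^r, r prime) whose F₀-structure carries a non-zero multiple of f; for q = p an odd prime, the normaliser of an absolutely irreducible extraspecial group 2_-^(1+6) of exponent 4 inside the similarity group of f; for q odd, q ≥ 5, the stabiliser of a tensor decomposition of f as a third tensor power of an alternating form on F^2; for q even, the similarity group of a non-degenerate quadratic form polarising to f — or else H lies in the residual class of the symplectic case. -/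
theorem result {F : Type*} [Field F] [Fintype F] (H : Subgroup (Matrix.GeneralLinearGroup (Fin 4 ⊕ Fin 4) F)) (hH : Cfsg.Geo.IsMaximalIn (Cfsg.spGL 4 F) H) :
    (∃ W : Submodule F (Fin 4 ⊕ Fin 4 → F), W ≠ ⊥ ∧ Cfsg.Geo.IsTotallySingularFor (Cfsg.sympForm 4 F) W ∧ H = Cfsg.Geo.subspaceStabilizer W ⊓ Cfsg.spGL 4 F) ∨
    (∃ W : Submodule F (Fin 4 ⊕ Fin 4 → F), W ≠ ⊥ ∧ Cfsg.Geo.IsNondegenerateOn (Cfsg.sympForm 4 F) W ∧ Module.finrank F W < 4 ∧ H = Cfsg.Geo.subspaceStabilizer W ⊓ Cfsg.spGL 4 F) ∨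
    (3 ≤ Fintype.card F ∧ ∃ D : Fin 4 → Submodule F (Fin 4 ⊕ Fin 4 → F), Cfsg.Geo.IsNondegenerateMDecomposition (Cfsg.sympForm 4 F) 2 D ∧ H = Cfsg.Geo.decompositionStabilizer D ⊓ Cfsg.spGL 4 F) ∨
    (∃ D : Fin 2 → Submodule F (Fin 4 ⊕ Fin 4 → F), Cfsg.Geo.IsNondegenerateMDecomposition (Cfsg.sympForm 4 F) 4 D ∧ H = Cfsg.Geo.decompositionStabilizer D ⊓ Cfsg.spGL 4 F) ∨
    (Odd (Fintype.card F) ∧ ∃ D : Fin 2 → Submodule F (Fin 4 ⊕ Fin 4 → F), Cfsg.Geo.IsMDecomposition 4 D ∧ (∀ i, Cfsg.Geo.IsTotallySingularFor (Cfsg.sympForm 4 F) (D i)) ∧ H = Cfsg.Geo.decompositionStabilizer D ⊓ Cfsg.spGL 4 F) ∨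
    (∃ K : Subalgebra F (Matrix (Fin 4 ⊕ Fin 4) (Fin 4 ⊕ Fin 4) F), Cfsg.Geo.IsFieldSubalgebra 2 K ∧ Cfsg.Geo.IsSelfAdjointFor (Cfsg.sympForm 4 F) K ∧ (∀ k ∈ K, ∀ v : (Fin 4 ⊕ Fin 4 → F), (Cfsg.sympForm 4 F) (Matrix.mulVec k v) v = 0) ∧ H = Cfsg.Geo.subalgebraNormalizer K ⊓ Cfsg.spGL 4 F) ∨
    (Odd (Fintype.card F) ∧ ∃ K : Subalgebra F (Matrix (Fin 4 ⊕ Fin 4) (Fin 4 ⊕ Fin 4) F), Cfsg.Geo.IsFieldSubalgebra 2 K ∧ Cfsg.Geo.IsAdjointClosedFor (Cfsg.sympForm 4 F) K ∧ ¬ Cfsg.Geo.IsSelfAdjointFor (Cfsg.sympForm 4 F) K ∧ H = Cfsg.Geo.subalgebraNormalizer K ⊓ Cfsg.spGL 4 F) ∨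
    (Odd (Fintype.card F) ∧ ∃ (e : (Fin 4 ⊕ Fin 4) ≃ Fin 2 × Fin 4) (P : Matrix.GeneralLinearGroup (Fin 4 ⊕ Fin 4) F) (f₁ : (Fin 2 → F) → (Fin 2 → F) → F) (f₂ : (Fin 4 → F) → (Fin 4 → F) → F), Cfsg.Geo.IsSymplecticForm f₁ ∧ Cfsg.Geo.IsSymmetricForm f₂ ∧ ¬ Cfsg.Geo.IsPlusTypeOn (fun v : Fin 4 → F => f₂ v v) ⊤ ∧ Cfsg.Geo.IsTensorFormStructure id (Cfsg.sympForm 4 F) f₁ f₂ e P ∧ H = Cfsg.Geo.tensorProductSubgroup 2 4 e P ⊓ Cfsg.spGL 4 F) ∨
    (∃ (F₀ : Subfield F) (r : ℕ) (P : Matrix.GeneralLinearGroup (Fin 4 ⊕ Fin 4) F) (ζ : F), r.Prime ∧ Fintype.card F = Nat.card F₀ ^ r ∧ ζ ≠ 0 ∧ Cfsg.Geo.IsFormRationalStructure (Cfsg.sympForm 4 F) F₀ ζ P ∧ H = Cfsg.Geo.subfieldSubgroup F₀ P ⊓ Cfsg.spGL 4 F) ∨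
    (∃ (p : ℕ) (R : Subgroup (Matrix.GeneralLinearGroup (Fin 4 ⊕ Fin 4) F)), p.Prime ∧ Odd p ∧ Fintype.card F = p ∧ Cfsg.Geo.IsSymplecticTypeGroup 2 R ∧ Cfsg.Geo.ActsAbsolutelyIrreducibly (Cfsg.Geo.matrixSet R) ∧ R ≤ Cfsg.Geo.similarityGroup (Cfsg.sympForm 4 F) ∧ Nat.card R = 128 ∧ Nat.card (Subgroup.center R) = 2 ∧ Cfsg.Geo.IsOfMinusType 3 R ∧ H = Cfsg.Geo.subgroupNormalizer R ⊓ Cfsg.spGL 4 F) ∨
    (Odd (Fintype.card F) ∧ 5 ≤ Fintype.card F ∧ ∃ (e : (Fin 4 ⊕ Fin 4) ≃ (Fin 3 → Fin 2)) (P : Matrix.GeneralLinearGroup (Fin 4 ⊕ Fin 4) F) (f₁ : (Fin 2 → F) → (Fin 2 → F) → F), Cfsg.Geo.IsSymplecticForm f₁ ∧ Cfsg.Geo.IsTensorPowerFormStructure id (Cfsg.sympForm 4 F) f₁ e P ∧ H = Cfsg.Geo.tensorWreathSubgroup 2 3 e P ⊓ Cfsg.spGL 4 F) ∨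
    (¬ Odd (Fintype.card F) ∧ ∃ Q : (Fin 4 ⊕ Fin 4 → F) → F, Cfsg.Geo.IsNondegenerateQuadraticForm Q ∧ (∀ u v : (Fin 4 ⊕ Fin 4 → F), QuadraticMap.polar Q u v = (Cfsg.sympForm 4 F) u v) ∧ H = Cfsg.Geo.quadSimilarityGroup Q ⊓ Cfsg.spGL 4 F) ∨
    Cfsg.Geo.InSymplecticResidualClass H := by
  rcases GeomClasses.SpCases.sp_cases (by norm_num : 2 ≤ 4) hH with ⟨W, h0, hW, e⟩ | ⟨W, h0, hW, hd, hd2, e⟩ |
    ⟨t, k, D, hD, ht, hk, hev, htk, e⟩ | ⟨hq, D, hD, hts, e⟩ | ⟨r, K, hr, hrm, hK, hsa, halt, e⟩ | ⟨hq, K, hK, hcl, hnsa, e⟩ |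
    ⟨hq, n₁, n₂, eq, P, f₁, f₂, h1, h3, hev, h12, hf₁, hf₂, hT, e⟩ |
    ⟨F₀, r, P, ζ, hr, hc, hζ, hR, e⟩ | ⟨hq, Q, hQ, hpol, e⟩ |
    ⟨R, p, k, hst, habs, hsim, hp, hpo, hpc, hcard, hz, hminus, hle⟩ |
    ⟨k, t, eq, P, f₁, hq, -, ht, hk, -, hkt, hex, hf₁, hT, hle⟩ | hres
  · exact Or.inl ⟨W, h0, hW, e⟩
  · exact Or.inr (Or.inl ⟨W, h0, hW, hd, e⟩)
  · obtain ⟨s, rfl⟩ := hev
    have hs : s ≤ 2 := by
      have := Nat.mul_le_mul_right (s + s) ht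
      omega
    obtain ⟨rfl, rfl⟩ | ⟨rfl, rfl⟩ : (s = 2 ∧ t = 2) ∨ (s = 1 ∧ t = 4) := by
      interval_cases s <;> omega
    · iterate 3 right
      exact Or.inl ⟨D, hD, e⟩
    by_cases h2 : Fintype.card F = 2
    · exact (GeomClasses.SpCases.planes_two_false h2 hH le_rfl hD (e.le.trans inf_le_left)).elim
    · iterate 2 right
      exact Or.inl ⟨GeomClasses.SpCases.three_le_of_ne_two h2, D, hD, e⟩
  · iterate 4 right
    exact Or.inl ⟨hq, D, hD, hts, e⟩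
  · obtain rfl : r = 2 := (Nat.prime_dvd_prime_iff_eq hr Nat.prime_two).mp (hr.dvd_of_dvd_pow (n := 2) (by simpa using hrm))
    iterate 5 right
    exact Or.inl ⟨K, hK, hsa, halt, e⟩
  · iterate 6 right
    exact Or.inl ⟨hq, K, hK, hcl, hnsa, e⟩
  · obtain ⟨s, rfl⟩ := hev
    have hb : (s + s) * 3 ≤ 8 := by
      have := Nat.mul_le_mul_left (s + s) h3
      omega
    obtain rfl : s = 1 := by omega
    obtain rfl : n₂ = 4 := by omega
    by_cases hplus : Cfsg.Geo.IsPlusTypeOn (fun v : Fin 4 → F => f₂ v v) ⊤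
    · exact (GeomClasses.SpCases.tensor_plus_false hq hH hf₁ hf₂ hplus hT (e.le.trans inf_le_left)).elim
    · iterate 7 right
      exact Or.inl ⟨hq, eq, P, f₁, f₂, hf₁, hf₂, hplus, hT, e⟩
  · iterate 8 right
    exact Or.inl ⟨F₀, r, P, ζ, hr, hc, hζ, hR, e⟩
  · iterate 11 right
    exact Or.inl ⟨hq, Q, hQ, hpol, e⟩
  · have h := GeomClasses.SpCases.symp_degree (by norm_num) hst habs hcard hz
    obtain rfl : k = 3 := Nat.pow_right_injective le_rfl (show 2 ^ k = 2 ^ 3 by omega)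
    iterate 9 right
    exact Or.inl ⟨p, R, hp, hpo, hpc, hst, habs, hsim, by rw [hcard]; norm_num, hz, hminus,
      GeomClasses.MaxList.eq_of_le hH hle (GeomClasses.SpCases.symp_type_not_full (Or.inl (by norm_num)) hst hsim
        (by rw [hcard]; norm_num) hz)⟩
  · have h1 := Nat.pow_le_pow_left hk t
    have ht4 : t ≤ 3 := by
      by_contra h4
      have := Nat.pow_le_pow_right (show 0 < 2 by norm_num) (show 4 ≤ t by omega)
      omega
    obtain rfl : t = 3 := by omega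
    have h27 : k ≤ 2 := by
      by_contra h4
      have := Nat.pow_le_pow_left (show 3 ≤ k by omega) 3
      omega
    obtain rfl : k = 2 := by omega
    iterate 10 right
    exact Or.inl ⟨hq, GeomClasses.SpCases.five_le_of_odd hq (fun h => hex ⟨h, rfl⟩), eq, P, f₁, hf₁, hT,
      GeomClasses.MaxList.eq_of_le hH hle (GeomClasses.SpCases.wreath_not_full hf₁ hT)⟩
  · iterate 12 right
    exact hres

end Cfsg.Agent.S5823
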