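import Cfsg.Statements.S5905
import Cfsg.Agent.GeomClasses.PartitionStabilizer
open Cfsg.Agent.GeomClasses Equiv

set_option autoImplicit false
open Cfsg

namespace Cfsg.Agent.S5905

/-- Let Ω be a finite set and f : Ω → Fin b a map onto b ≥ 2 labels whose fibres all have the same size a ≥ 2 (a partition of Ω into b blocks of size a, so |Ω| = ab). Then the stabilizer of this partition in the symmetric group on Ω — the permutations g such that x and y lie in the same block exactly when g x and g y do, a group isomorphic to the imprimitive wreath product S_a ≀ S_b — is a maximal subgroup of the symmetric group. -/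
theorem result {Ω : Type*} [Fintype Ω] [DecidableEq Ω] (a b : ℕ) (ha : 2 ≤ a) (hb : 2 ≤ b)
    (f : Ω → Fin b) (hf : ∀ i : Fin b, Nat.card {x : Ω // f x = i} = a) :
    IsCoatom (Subgroup.closure {g : Equiv.Perm Ω | ∀ x y : Ω, f x = f y ↔ f (g x) = f (g y)}) := by
  classical
  rw [closure_eq_fibrePreserving]
  haveI : Nontrivial (Fin b) := Fin.nontrivial_iff_two_le.mpr hb
  obtain ⟨u, v, huv, hu, hv⟩ := exists_pair_avoiding f hf ha (⟨0, by omega⟩ : Fin b)
  refine ⟨?_, fun K hK => ?_⟩
  · intro h
    obtain ⟨w, -, -, hw, -⟩ := exists_pair_avoiding f hf ha (⟨1, by omega⟩ : Fin b)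
    have hwv : f w ≠ f v := by rw [hw, hv]; simp
    have hwu : f w ≠ f u := by rw [hw, hu]; simp
    have hmem : swap v w ∈ fibrePreserving f := h ▸ Subgroup.mem_top _
    have := (hmem u v).mp (hu.trans hv.symm)
    rw [swap_apply_left, swap_apply_of_ne_of_ne huv (fun e => hwu (by rw [e]))] at this
    exact hwu this.symm
  · obtain ⟨g, hg, hg'⟩ := SetLike.exists_of_lt hK
    have hprim := isPreprimitive_of_movers f hf ha inferInstance (movers_of_full f hf hK.le) (fun h => hg' (h hg))
    exact Equiv.Perm.subgroup_eq_top_of_isPreprimitive_of_isSwap_mem hprim (swap u v) ⟨u, v, huv, rfl⟩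
      (hK.le (swap_mem_fibrePreserving f (hu.trans hv.symm)))

end Cfsg.Agent.S5905
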