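import Cfsg.Statements.S5894
import Cfsg.Agent.GeomClasses.PartitionStabilizer
import Cfsg.Agent.S5905
open Cfsg.Agent.GeomClasses Equiv MulAction
open scoped Pointwise

set_option autoImplicit false
open Cfsg

namespace Cfsg.Agent.S5894

/-- For every m ≥ 2 the symmetric group on 2m letters has a maximal subgroup M of index 2m together with a maximal subgroup H of M that is not second maximal: some maximal subgroup K of the symmetric group contains H without H being maximal in K. (One may take M the stabiliser of a letter, H ≅ S_m × S_{m−1} inside it, and K ≅ S_m ≀ S₂ the stabiliser of a partition into two m-sets, with H < S_m × S_m < K.) So the prime-index hypothesis in the second-maximality criterion cannot be relaxed to any even index ≥ 4. -/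
theorem result (m : ℕ) (hm : 2 ≤ m) :
    ∃ M H K : Subgroup (Equiv.Perm (Fin (2 * m))), IsCoatom M ∧ M.index = 2 * m ∧ H ≤ M ∧ IsCoatom (H.subgroupOf M) ∧
      IsCoatom K ∧ H ≤ K ∧ ¬ IsCoatom (H.subgroupOf K) := by
  classical
  set Ω := Fin (2 * m)
  let a : Ω := ⟨0, by omega⟩
  let B : Set Ω := {x | m ≤ x.val}
  let f : Ω → Fin 2 := fun x => if x ∈ B then 0 else 1
  have hB : B.ncard = m := by
    have hB' : B = Set.range (fun i : Fin m => (⟨m + i.val, by omega⟩ : Ω)) := by
      ext x
      constructor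
      · intro hx
        have : m ≤ x.val := hx
        exact ⟨⟨x.val - m, by have := x.isLt; omega⟩, Fin.ext (by show m + (x.val - m) = x.val; omega)⟩
      · rintro ⟨i, rfl⟩; show m ≤ m + i.val; omega
    rw [hB', Set.ncard_range_of_injective (fun i j h => Fin.ext (by have := congrArg Fin.val h; simp at this; omega)), Nat.card_fin]
  have hcard : Nat.card Ω = 2 * m := Nat.card_fin _
  have hBc : Bᶜ.ncard = m := by rw [Set.ncard_compl, hB, hcard]; omega
  have hf : ∀ i : Fin 2, Nat.card {x : Ω // f x = i} = m := by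
    intro i
    have h0 : {x : Ω | f x = 0} = B := by ext x; by_cases h : x ∈ B <;> simp [f, h]
    have h1 : {x : Ω | f x = 1} = Bᶜ := by ext x; by_cases h : x ∈ B <;> simp [f, h]
    fin_cases i
    · show Nat.card {x : Ω | f x = 0} = m
      rw [h0, Nat.card_coe_set_eq, hB]
    · show Nat.card {x : Ω | f x = 1} = m
      rw [h1, Nat.card_coe_set_eq, hBc]
  have hmemS : ∀ g : Perm Ω, g ∈ stabilizer (Perm Ω) B ↔ ∀ x, x ∈ B → g x ∈ B := by
    intro g
    rw [mem_stabilizer_set_iff_smul_set_subset B.toFinite]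
    constructor
    · intro h x hx; exact h ⟨x, hx, rfl⟩
    · rintro h _ ⟨x, hx, rfl⟩; exact h x hx
  set M := stabilizer (Perm Ω) a
  set H := M ⊓ stabilizer (Perm Ω) B
  set K := fibrePreserving f
  have haB : a ∉ B := by show ¬ m ≤ 0; omega
  have hSK : stabilizer (Perm Ω) B ≤ K := by
    intro g hg x y
    have key : ∀ x, f (g x) = f x := by
      intro x
      have h2 : g x ∈ B ↔ x ∈ B := by
        refine ⟨fun h => ?_, fun h => (hmemS g).mp hg x h⟩
        have := (hmemS g⁻¹).mp (inv_mem hg) _ h
        simpa using this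
      by_cases h : x ∈ B <;> simp [f, h, h2]
    rw [key, key]
  have hK : IsCoatom K := by
    have := Cfsg.Agent.S5905.result m 2 hm le_rfl f hf
    rwa [closure_eq_fibrePreserving] at this
  have hMc : IsCoatom M := by
    have := Perm.isCoatom_stabilizer (s := ({a} : Set Ω)) (Set.singleton_nonempty a)
      ⟨⟨m, by omega⟩, fun h => by have := congrArg Fin.val (Set.mem_singleton_iff.mp h); simp [a] at this; omega⟩ (by rw [Set.ncard_singleton, hcard]; omega)
    rwa [stabilizer_singleton] at this
  have hMi : M.index = 2 * m := by rw [index_stabilizer_of_transitive, hcard]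
  refine ⟨M, H, K, hMc, hMi, inf_le_left, ?_, hK, inf_le_right.trans hSK, ?_⟩
  · -- maximal inside the point stabiliser
    let B' : Set {x : Ω // x ≠ a} := {x | x.1 ∈ B}
    have hB'card : B'.ncard = m := by
      rw [← hB, ← Set.ncard_image_of_injective B' Subtype.val_injective]
      congr 1
      ext x
      exact ⟨fun ⟨y, hy, he⟩ => he ▸ hy, fun hx => ⟨⟨x, fun h => haB (h ▸ hx)⟩, hx, rfl⟩⟩
    have hsub : Nat.card {x : Ω // x ≠ a} = 2 * m - 1 := by
      simp [Fintype.card_subtype_compl, Ω]
    have hS' : IsCoatom (stabilizer (Perm {x : Ω // x ≠ a}) B') := by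
      refine Perm.isCoatom_stabilizer ?_ ?_ (by rw [hsub, hB'card]; omega)
      · refine ⟨⟨⟨m, by omega⟩, ?_⟩, le_refl m⟩
        exact fun h => by have := congrArg Fin.val h; simp [a] at this; omega
      · refine ⟨⟨⟨1, by omega⟩, ?_⟩, ?_⟩
        · exact fun h => by have := congrArg Fin.val h; simp [a] at this
        · show ¬ m ≤ 1; omega
    have hmemS' : ∀ g : Perm {x : Ω // x ≠ a}, g ∈ stabilizer (Perm _) B' ↔
        Perm.ofSubtype g ∈ stabilizer (Perm Ω) B := by
      intro g
      rw [hmemS, mem_stabilizer_set_iff_smul_set_subset B'.toFinite]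
      constructor
      · intro h x hx
        have hxa : x ≠ a := fun e => haB (e ▸ hx)
        rw [Perm.ofSubtype_apply_of_mem g hxa]
        exact h ⟨⟨x, hxa⟩, hx, rfl⟩
      · rintro h _ ⟨x, hx, rfl⟩
        have := h x.1 hx
        rwa [Perm.ofSubtype_apply_coe] at this
    have hlift : ∀ g ∈ M, ∃ g' : Perm {x : Ω // x ≠ a}, Perm.ofSubtype g' = g := by
      intro g hg
      have hga : g a = a := hg
      refine ⟨g.subtypePerm (p := fun x => x ≠ a) (fun x => ⟨fun h e => h (by rw [e, hga]),
        fun h e => h (g.injective (e.trans hga.symm))⟩), ?_⟩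
      exact Perm.ofSubtype_subtypePerm _ (fun x hx e => hx (by rw [e, hga]))
    have hofM : ∀ g' : Perm {x : Ω // x ≠ a}, Perm.ofSubtype g' ∈ M := fun g' =>
      Perm.ofSubtype_apply_of_not_mem g' (fun h => h rfl)
    refine ⟨fun h => ?_, fun L hL => ?_⟩
    · apply hS'.1
      rw [eq_top_iff]
      intro g' _
      rw [hmemS']
      exact (h ▸ Subgroup.mem_top (⟨_, hofM g'⟩ : M) : (⟨_, hofM g'⟩ : M) ∈ H.subgroupOf M).2
    · obtain ⟨⟨g, hg⟩, hgL, hgH⟩ := SetLike.exists_of_lt hL
      let L' : Subgroup (Perm {x : Ω // x ≠ a}) := (L.map M.subtype).comap Perm.ofSubtype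
      have hle : stabilizer (Perm _) B' < L' := by
        refine SetLike.lt_iff_le_and_exists.mpr ⟨fun g' hg' => ?_, ?_⟩
        · exact ⟨⟨_, hofM g'⟩, hL.le ⟨hofM g', (hmemS' g').mp hg'⟩, rfl⟩
        · obtain ⟨g', hg'⟩ := hlift g hg
          refine ⟨g', ⟨⟨g, hg⟩, hgL, hg'.symm⟩, fun h => hgH ⟨hg, ?_⟩⟩
          have := (hmemS' g').mp h
          rwa [hg'] at this
      have htop := hS'.2 L' hle
      rw [eq_top_iff]
      rintro ⟨x, hx⟩ -
      obtain ⟨x', hx'⟩ := hlift x hx
      obtain ⟨y, hy, hyx⟩ := (htop ▸ Subgroup.mem_top x' : x' ∈ L')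
      have : y = ⟨x, hx⟩ := Subtype.ext (hyx.trans hx')
      exact this ▸ hy
  · -- the two-part stabiliser lies strictly between
    intro hc
    let S := stabilizer (Perm Ω) B
    have h1 : H.subgroupOf K < S.subgroupOf K := by
      refine SetLike.lt_iff_le_and_exists.mpr ⟨fun g hg => hg.2, ?_⟩
      let c : Ω := ⟨1, by omega⟩
      have hcB : c ∉ B := by show ¬ m ≤ 1; omega
      have hac : a ≠ c := fun h => by have := congrArg Fin.val h; simp [a, c] at this
      have hsw : swap a c ∈ S := (hmemS _).mpr fun x hx => by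
        rwa [swap_apply_of_ne_of_ne (fun (e : x = a) => haB (e ▸ hx)) (fun (e : x = c) => hcB (e ▸ hx))]
      refine ⟨⟨swap a c, hSK hsw⟩, hsw, fun h => ?_⟩
      have : swap a c a = a := h.1
      rw [swap_apply_left] at this
      exact hac this.symm
    have h2 : S.subgroupOf K ≠ ⊤ := by
      intro h
      obtain ⟨g, hg, hgf, -⟩ := exists_perm_blocks f hf (swap 0 1)
      have hgS : g ∈ S := (h ▸ Subgroup.mem_top (⟨g, hg⟩ : K) : (⟨g, hg⟩ : K) ∈ S.subgroupOf K)
      let d : Ω := ⟨m, by omega⟩
      have hd : d ∈ B := le_refl m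
      have h3 := hgf d
      have h4 := (hmemS g).mp hgS d hd
      simp [f, hd, h4] at h3
    exact h2 (hc.2 _ h1)

end Cfsg.Agent.S5894
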